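import Mathlib
import Cfsg.Prelude.Def_GeometricClasses
import Cfsg.Agent.Lib.Helper99.AschDefs

/-!
# ASCH-[C2] (helper1): a transitively permuted decomposition puts `H` in class 2
-/

set_option autoImplicit false

namespace Cfsg.Agent.Lib.Helper1.AschC2

open Cfsg Cfsg.Geo
open scoped MatrixGroups Matrix

variable {n : ℕ} {F : Type*} [Field F]

/-- An invertible matrix preserves the dimension of a subspace. -/
theorem finrank_map_gl (h : GL (Fin n) F) (W : Submodule F (Fin n → F)) :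
    Module.finrank F (W.map (Matrix.toLin' (h : Matrix (Fin n) (Fin n) F))) = Module.finrank F W := by
  have h1 : (h : Matrix (Fin n) (Fin n) F) * ((h⁻¹ : GL (Fin n) F) : Matrix (Fin n) (Fin n) F) = 1 := by
    rw [← Units.val_mul, mul_inv_cancel, Units.val_one]
  have h2 : ((h⁻¹ : GL (Fin n) F) : Matrix (Fin n) (Fin n) F) * (h : Matrix (Fin n) (Fin n) F) = 1 := by
    rw [← Units.val_mul, inv_mul_cancel, Units.val_one]
  have := LinearEquiv.finrank_map_eq (Matrix.toLin'OfInv h2 h1) W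
  rw [← this]
  rfl

end Cfsg.Agent.Lib.Helper1.AschC2

namespace Cfsg.Agent.Lib.Helper99.Asch

open Cfsg Cfsg.Geo
open scoped MatrixGroups Matrix Kronecker

variable {n : ℕ} {F : Type*} [Field F] [Fintype F]

/-- ASCH-[C2]. -/
theorem geo_of_permuted_decomposition (H : Subgroup (GL (Fin n) F)) (t : ℕ) (ht : 2 ≤ t)
    (D : Fin t → Submodule F (Fin n → F)) (hne : ∀ i, D i ≠ ⊥) (hind : iSupIndep D)
    (htop : iSup D = ⊤)
    (hperm : ∀ h ∈ H, ∃ σ : Equiv.Perm (Fin t), ∀ i,
      (D i).map (Matrix.toLin' (h : Matrix (Fin n) (Fin n) F)) = D (σ i))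
    (htrans : ∀ i j, ∃ h ∈ H, (D i).map (Matrix.toLin' (h : Matrix (Fin n) (Fin n) F)) = D j) :
    Geo H := by
  set i0 : Fin t := ⟨0, by omega⟩ with hi0
  refine ⟨decompositionStabilizer D, ?_, fun h hh => hperm h hh⟩
  refine Or.inr (Or.inr (Or.inr (Or.inl
    ⟨t, Module.finrank F (D i0), D, ⟨ht, ?_, ?_, hind, htop⟩, rfl⟩)))
  · exact Nat.lt_of_lt_of_le Nat.zero_lt_one (Submodule.one_le_finrank_iff.mpr (hne i0))
  · intro i
    obtain ⟨h, -, hh⟩ := htrans i0 i
    rw [← hh]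
    exact Cfsg.Agent.Lib.Helper1.AschC2.finrank_map_gl h (D i0)

end Cfsg.Agent.Lib.Helper99.Asch
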