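import Mathlib
import Cfsg.Prelude.Def_GeometricClasses
import Cfsg.Agent.Lib.Helper99.AschDefs

/-!
# ASCH-[C6] (helper1): the output of the symplectic-type analysis lands in class 6
-/

set_option autoImplicit false

namespace Cfsg.Agent.Lib.Helper1.AschC6

open Cfsg Cfsg.Geo
open scoped MatrixGroups Matrix

variable {n : ℕ} {F : Type*} [Field F]

/-- `Nrm H R` puts `H` inside the normaliser of `R`. -/
theorem le_subgroupNormalizer_of_nrm (H R : Subgroup (GL (Fin n) F))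
    (h : Cfsg.Agent.Lib.Helper99.Asch.Nrm H R) : H ≤ subgroupNormalizer R := by
  intro g hg
  unfold subgroupNormalizer
  rw [Subgroup.mem_normalizer_iff]
  intro x
  constructor
  · intro hx
    exact h g hg x hx
  · intro hx
    have := h g⁻¹ (H.inv_mem hg) _ hx
    simpa [mul_assoc] using this

/-- If `z * n ^ 2 = r ^ j` with `r` prime and `z = r ^ a`, then `n = r ^ m` and `z * n^2 = r^(a + 2m)`. -/
theorem pow_decomp {r n j a : ℕ} (hr : r.Prime) (h : r ^ a * n ^ 2 = r ^ j) :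
    ∃ m : ℕ, n = r ^ m ∧ r ^ a * n ^ 2 = r ^ (a + 2 * m) := by
  have hdvd : n ∣ r ^ j := by
    rw [← h]
    exact Dvd.dvd.mul_left (Dvd.intro_left (n ^ 1) (by ring)) _
  obtain ⟨m, -, hm⟩ := (Nat.dvd_prime_pow hr).1 hdvd
  refine ⟨m, hm, ?_⟩
  rw [hm]
  ring

end Cfsg.Agent.Lib.Helper1.AschC6

namespace Cfsg.Agent.Lib.Helper99.Asch

open Cfsg Cfsg.Geo
open scoped MatrixGroups Matrix Kronecker

variable {n : ℕ} {F : Type*} [Field F] [Fintype F]

/-- ASCH-[C6], odd case. -/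
theorem geo_of_sympOut_odd (hn : 3 ≤ n) (H R : Subgroup (GL (Fin n) F)) (r : ℕ)
    (hR : SympOut H R r r) (hodd : Odd r) (p e : ℕ) (hrp : r ≠ p)
    (hmin : IsMinimalFieldFor r p e F) (he : Odd e) : Geo H := by
  have hr : r.Prime := hR.prime
  have : Fact r.Prime := ⟨hr⟩
  obtain ⟨j, hj⟩ := (IsPGroup.iff_card).1 hR.symplecticType.pGroup
  have hcard : Nat.card R = r ^ 1 * n ^ 2 := by
    rw [hR.card_eq, Fintype.card_fin, pow_one]
  obtain ⟨m, hnm, hm⟩ := Cfsg.Agent.Lib.Helper1.AschC6.pow_decomp (a := 1) (j := j) hr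
    (by rw [← hcard, hj])
  have hm1 : 1 ≤ m := by
    rcases Nat.eq_zero_or_pos m with h0 | h0
    · rw [h0, pow_zero] at hnm
      omega
    · exact h0
  refine ⟨subgroupNormalizer R, ?_,
    Cfsg.Agent.Lib.Helper1.AschC6.le_subgroupNormalizer_of_nrm H R hR.nrm⟩
  refine Or.inr (Or.inr (Or.inr (Or.inr (Or.inr (Or.inr (Or.inr (Or.inl ⟨r, R, ?_, rfl⟩)))))))
  refine ⟨hR.symplecticType, hR.absIrred, p, e, hrp, ?_, Or.inl ⟨hodd, he, hR.card_center, m, hm1, ?_⟩⟩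
  · rw [hR.card_center]
    exact hmin
  · rw [hcard, hm]

/-- ASCH-[C6], case `r = 2`, centre of order 4. -/
theorem geo_of_sympOut_four (hn : 3 ≤ n) (H R : Subgroup (GL (Fin n) F))
    (hR : SympOut H R 2 4) (p : ℕ) (h2p : 2 ≠ p) (hmin : IsMinimalFieldFor 4 p 1 F) :
    Geo H := by
  have hr : (2 : ℕ).Prime := Nat.prime_two
  have : Fact (2 : ℕ).Prime := ⟨hr⟩
  obtain ⟨j, hj⟩ := (IsPGroup.iff_card).1 hR.symplecticType.pGroup
  have hcard : Nat.card R = 2 ^ 2 * n ^ 2 := by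
    rw [hR.card_eq, Fintype.card_fin]
    norm_num
  obtain ⟨m, hnm, hm⟩ := Cfsg.Agent.Lib.Helper1.AschC6.pow_decomp (a := 2) (j := j) hr
    (by rw [← hcard, hj])
  have hn4 : 4 ≤ n := by
    rcases Nat.lt_or_ge m 2 with h0 | h0
    · interval_cases m
      · rw [pow_zero] at hnm; omega
      · rw [pow_one] at hnm; omega
    · calc 4 = 2 ^ 2 := by norm_num
        _ ≤ 2 ^ m := Nat.pow_le_pow_right (by norm_num) h0
        _ = n := hnm.symm
  refine ⟨subgroupNormalizer R, ?_,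
    Cfsg.Agent.Lib.Helper1.AschC6.le_subgroupNormalizer_of_nrm H R hR.nrm⟩
  refine Or.inr (Or.inr (Or.inr (Or.inr (Or.inr (Or.inr (Or.inr (Or.inl ⟨2, R, ?_, rfl⟩)))))))
  refine ⟨hR.symplecticType, hR.absIrred, p, 1, h2p, ?_,
    Or.inr (Or.inl ⟨rfl, rfl, hR.card_center, ?_, m, ?_⟩)⟩
  · rw [hR.card_center]
    exact hmin
  · rw [Fintype.card_fin]
    exact hn4
  · rw [hcard, hm]

end Cfsg.Agent.Lib.Helper99.Asch
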