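import Mathlib
import Cfsg.Prelude.Def_GeometricClasses
import Cfsg.Agent.Lib.Helper99.AschDefs
import Cfsg.Agent.Lib.Helper23.AschSpDefs

/-!
# ASCHSP-[KQUAD] (helper1, hedge): in characteristic two, slot form data with symmetric `G i` gives a non-degenerate
quadratic form fixed by `⨆ Q i`.

Proof: each `G i` has zero diagonal (else `s ᵥ* a = s` for the square-root vector `s` of the diagonal and all `a` in a
spanning set, impossible for `d ≥ 2`).  `Γ = ⊗ G i` is symmetric with zero diagonal; `U` = its upper triangular half for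
the order of `Fin n` transported along `idx`, `Q' v = cᵀ U c`, `c` = coordinates of `v`.  Polar of `Q'` is `f`.  For a slot
matrix `S` with entry preserving `G i`: `M = Sᵀ U S − U` satisfies `M + Mᵀ = Sᵀ Γ S − Γ = 0` and has zero diagonal
(the `i`-line through `j` is totally isotropic for `Γ` as `k ≥ 2`), hence `xᵀ M x = 0`.
-/

set_option autoImplicit false

namespace Cfsg.Agent.Lib.Helper1.AschSpKQuad

open Cfsg Cfsg.Geo Cfsg.Agent.Lib.Helper99.Asch Cfsg.Agent.Lib.Helper23.AschSp
open scoped MatrixGroups Matrix Kronecker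

variable {F : Type*} [Field F]

section abstract
variable {T : Type*} [Fintype T] [DecidableEq T]

/-- a matrix `M` with `M + Mᵀ = 0` and zero diagonal has `xᵀ M x = 0` (any characteristic) -/
theorem dot_mulVec_self_eq_zero (M : Matrix T T F) (hskew : M + Mᵀ = 0) (hdiag : ∀ j, M j j = 0)
    (x : T → F) : x ⬝ᵥ (M *ᵥ x) = 0 := by
  have hadd : ∀ u v : T → F, (u + v) ⬝ᵥ (M *ᵥ (u + v)) = u ⬝ᵥ (M *ᵥ u) + v ⬝ᵥ (M *ᵥ v) := by
    intro u v
    have h1 : v ⬝ᵥ (M *ᵥ u) = u ⬝ᵥ (Mᵀ *ᵥ v) := by
      rw [Matrix.mulVec_transpose, dotProduct_comm u, Matrix.dotProduct_mulVec]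
    have h2 : u ⬝ᵥ (M *ᵥ v) + u ⬝ᵥ (Mᵀ *ᵥ v) = 0 := by
      rw [← dotProduct_add, ← Matrix.add_mulVec, hskew, Matrix.zero_mulVec, dotProduct_zero]
    rw [Matrix.mulVec_add, add_dotProduct, dotProduct_add, dotProduct_add, h1]
    linear_combination h2
  let D : (T → F) →+ F := AddMonoidHom.mk' (fun u => u ⬝ᵥ (M *ᵥ u)) hadd
  have hD : ∀ u, D u = u ⬝ᵥ (M *ᵥ u) := fun u => rfl
  have hsingle : ∀ (j : T) (c : F), D (Pi.single j c) = 0 := by
    intro j c
    rw [hD, single_dotProduct, Matrix.mulVec_single]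
    simp [hdiag]
  rw [← hD, ← Finset.univ_sum_single x, map_sum]
  exact Finset.sum_eq_zero fun j _ => hsingle j (x j)

/-- in characteristic two, `xᵀ G x = ∑ G c c x c ^ 2` for symmetric `G` -/
theorem dot_mulVec_self_of_symm [CharP F 2] (G : Matrix T T F) (hG : Gᵀ = G) (x : T → F) :
    x ⬝ᵥ (G *ᵥ x) = ∑ c, G c c * x c ^ 2 := by
  have h0 := dot_mulVec_self_eq_zero (G - Matrix.diagonal fun c => G c c) (by
      rw [Matrix.transpose_sub, hG, Matrix.diagonal_transpose]
      ext a b
      simp only [Matrix.add_apply, Matrix.sub_apply, Matrix.zero_apply]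
      exact CharTwo.add_self_eq_zero _) (by
      intro j
      rw [Matrix.sub_apply, Matrix.diagonal_apply_eq, sub_self]) x
  rw [Matrix.sub_mulVec, dotProduct_sub, sub_eq_zero] at h0
  rw [h0, dotProduct]
  refine Finset.sum_congr rfl fun c _ => ?_
  rw [Matrix.mulVec_diagonal]
  ring

/-- squaring is injective in characteristic two -/
theorem sq_injective_of_char_two [CharP F 2] : Function.Injective (fun x : F => x ^ 2) := by
  intro x y h
  have h1 : (x + y) ^ 2 = 0 := by
    rw [CharTwo.add_sq, show x ^ 2 = y ^ 2 from h]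
    exact CharTwo.add_self_eq_zero _
  have h2 := pow_eq_zero_iff (two_ne_zero) |>.mp h1
  exact (CharTwo.add_eq_zero.mp h2)

theorem exists_sq_eq [Finite F] [CharP F 2] (a : F) : ∃ s : F, s ^ 2 = a :=
  (Finite.injective_iff_surjective.mp sq_injective_of_char_two) a

theorem dot_mulVec_conj (S U : Matrix T T F) (y : T → F) :
    (S *ᵥ y) ⬝ᵥ (U *ᵥ (S *ᵥ y)) = y ⬝ᵥ ((Sᵀ * U * S) *ᵥ y) := by
  rw [← Matrix.mulVec_mulVec, ← Matrix.mulVec_mulVec, Matrix.dotProduct_mulVec y,
    Matrix.vecMul_transpose]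

theorem single_dot_mulVec_single (M : Matrix T T F) (b : T) :
    (Pi.single b (1 : F)) ⬝ᵥ (M *ᵥ Pi.single b 1) = M b b := by
  rw [single_dotProduct, one_mul, Matrix.mulVec_single_one]
  rfl

/-- a symmetric matrix in characteristic two, invariant under a spanning set of matrices, has zero diagonal -/
theorem diag_eq_zero_of_invariant [Finite F] [CharP F 2] {d : ℕ} (hd : 2 ≤ d)
    (G : Matrix (Fin d) (Fin d) F) (hG : Gᵀ = G) (A : Set (Matrix (Fin d) (Fin d) F))
    (hA : ∀ a ∈ A, aᵀ * G * a = G)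
    (hspan : ∀ P : Submodule F (Matrix (Fin d) (Fin d) F), (∀ a ∈ A, a ∈ P) → ∀ a, a ∈ P) :
    ∀ c, G c c = 0 := by
  choose s hs using fun c => exists_sq_eq (G c c)
  have hq : ∀ x : Fin d → F, x ⬝ᵥ (G *ᵥ x) = (s ⬝ᵥ x) ^ 2 := by
    intro x
    rw [dot_mulVec_self_of_symm G hG, dotProduct, CharTwo.sum_sq]
    exact Finset.sum_congr rfl fun c _ => by rw [← hs c]; ring
  have hfix : ∀ a ∈ A, s ᵥ* a = s := by
    intro a ha
    funext b
    have h1 := hq (a *ᵥ Pi.single b 1)
    rw [dot_mulVec_conj, hA a ha, single_dot_mulVec_single, ← hs b, Matrix.dotProduct_mulVec,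
      dotProduct_single_one] at h1
    exact (sq_injective_of_char_two h1).symm
  let L : Submodule F (Matrix (Fin d) (Fin d) F) :=
    { carrier := {a | ∃ l : F, s ᵥ* a = l • s}
      add_mem' := by
        rintro a b ⟨l, hl⟩ ⟨l', hl'⟩
        exact ⟨l + l', by rw [Matrix.vecMul_add, hl, hl', add_smul]⟩
      zero_mem' := ⟨0, by rw [Matrix.vecMul_zero, zero_smul]⟩
      smul_mem' := by
        rintro t a ⟨l, hl⟩
        exact ⟨t * l, by rw [Matrix.vecMul_smul, hl, smul_smul]⟩ }
  have hall : ∀ a, a ∈ L := hspan L fun a ha => ⟨1, by rw [hfix a ha, one_smul]⟩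
  by_contra hne
  push Not at hne
  obtain ⟨c, hc⟩ := hne
  have hsc : s c ≠ 0 := by
    intro h0
    apply hc
    rw [← hs c, h0]
    ring
  obtain ⟨c', hc'⟩ : ∃ c' : Fin d, c' ≠ c := by
    by_cases h0 : c = ⟨0, by omega⟩
    · exact ⟨⟨1, by omega⟩, by rw [h0]; intro h; simpa using congrArg Fin.val h⟩
    · exact ⟨⟨0, by omega⟩, fun h => h0 h.symm⟩
  obtain ⟨l, hl⟩ := hall (Matrix.of fun i j => if i = c ∧ j = c' then (1 : F) else 0)
  have e1 := congrFun hl c
  have e2 := congrFun hl c'
  simp only [Matrix.vecMul, dotProduct, Matrix.of_apply, Pi.smul_apply, smul_eq_mul] at e1 e2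
  have hcc' : c ≠ c' := fun h => hc' h.symm
  simp only [hcc', and_false, if_false, mul_zero, Finset.sum_const_zero] at e1
  have hl0 : l = 0 := by
    rcases mul_eq_zero.mp e1.symm with h | h
    · exact h
    · exact absurd h hsc
  rw [hl0, zero_mul] at e2
  simp only [and_true, mul_ite, mul_one, mul_zero, Finset.sum_ite_eq', Finset.mem_univ, if_true] at e2
  exact hsc e2

end abstract

section slots
variable {k d : ℕ}

theorem sum_slotMatrix_col (i : Fin k) (a : Matrix (Fin d) (Fin d) F) (p : Fin k → Fin d)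
    (h : (Fin k → Fin d) → F) :
    ∑ r, slotMatrix i a r p * h r = ∑ α, a α (p i) * h (Function.update p i α) := by
  classical
  have hinj : Function.Injective (fun α : Fin d => Function.update p i α) := fun α β hαβ => by
    have := congrFun hαβ i
    simpa using this
  rw [← Finset.sum_subset (Finset.subset_univ (Finset.univ.image fun α => Function.update p i α))]
  · rw [Finset.sum_image (fun α _ β _ h => hinj h)]
    refine Finset.sum_congr rfl fun α _ => ?_
    have hc : ∀ j, j ≠ i → Function.update p i α j = p j := fun j hj => Function.update_of_ne hj _ _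
    rw [slotMatrix, if_pos hc, Function.update_self]
  · intro r _ hr
    have hc : ¬ ∀ j, j ≠ i → r j = p j := by
      intro hc
      apply hr
      rw [Finset.mem_image]
      refine ⟨r i, Finset.mem_univ _, ?_⟩
      funext j
      by_cases hj : j = i
      · subst hj; rw [Function.update_self]
      · rw [Function.update_of_ne hj, hc j hj]
    rw [slotMatrix, if_neg hc, zero_mul]

/-- the Gram matrix of the product form -/
def Gam (G : Fin k → Matrix (Fin d) (Fin d) F) : Matrix (Fin k → Fin d) (Fin k → Fin d) F :=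
  fun a b => ∏ l, G l (a l) (b l)

/-- the product over the other slots -/
def rest (i : Fin k) (G : Fin k → Matrix (Fin d) (Fin d) F) (p p' : Fin k → Fin d) : F :=
  ∏ l ∈ ({i}ᶜ : Finset (Fin k)), G l (p l) (p' l)

theorem Gam_eq (i : Fin k) (G : Fin k → Matrix (Fin d) (Fin d) F) (p p' : Fin k → Fin d) :
    Gam G p p' = G i (p i) (p' i) * rest i G p p' := by
  rw [Gam, rest, Fintype.prod_eq_mul_prod_compl i]

theorem Gam_update (i : Fin k) (G : Fin k → Matrix (Fin d) (Fin d) F) (p p' : Fin k → Fin d)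
    (α β : Fin d) :
    Gam G (Function.update p i α) (Function.update p' i β) = G i α β * rest i G p p' := by
  rw [Gam_eq i, Function.update_self, Function.update_self, rest, rest]
  congr 1
  refine Finset.prod_congr rfl fun l hl => ?_
  have hl' : l ≠ i := by
    rw [Finset.mem_compl, Finset.mem_singleton] at hl
    exact hl
  rw [Function.update_of_ne hl', Function.update_of_ne hl']

theorem Gam_symm (G : Fin k → Matrix (Fin d) (Fin d) F) (hsym : ∀ l, (G l)ᵀ = G l)
    (p p' : Fin k → Fin d) : Gam G p' p = Gam G p p' := by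
  rw [Gam, Gam]
  refine Finset.prod_congr rfl fun l _ => ?_
  exact congrFun (congrFun (hsym l) (p l)) (p' l)

theorem Gam_diag (hk : 0 < k) (G : Fin k → Matrix (Fin d) (Fin d) F) (hdiag : ∀ l c, G l c c = 0)
    (p : Fin k → Fin d) : Gam G p p = 0 :=
  Finset.prod_eq_zero (Finset.mem_univ (⟨0, hk⟩ : Fin k)) (hdiag _ _)

theorem rest_diag (hk : 2 ≤ k) (i : Fin k) (G : Fin k → Matrix (Fin d) (Fin d) F)
    (hdiag : ∀ l c, G l c c = 0) (p : Fin k → Fin d) : rest i G p p = 0 := by
  obtain ⟨l, hl⟩ : ∃ l : Fin k, l ≠ i := by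
    by_cases h0 : i = ⟨0, by omega⟩
    · exact ⟨⟨1, by omega⟩, by rw [h0]; intro h; simpa using congrArg Fin.val h⟩
    · exact ⟨⟨0, by omega⟩, fun h => h0 h.symm⟩
  exact Finset.prod_eq_zero (Finset.mem_compl.mpr (by simpa using hl)) (hdiag _ _)

/-- a slot matrix whose entry preserves `G i` preserves the product form -/
theorem slot_conj_Gam (i : Fin k) (G : Fin k → Matrix (Fin d) (Fin d) F)
    (a : Matrix (Fin d) (Fin d) F) (ha : aᵀ * G i * a = G i) :
    (slotMatrix i a)ᵀ * Gam G * slotMatrix i a = Gam G := by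
  ext p p'
  rw [Matrix.mul_apply]
  have h1 : ∀ r', ((slotMatrix i a)ᵀ * Gam G) p r' =
      ∑ α, a α (p i) * Gam G (Function.update p i α) r' := by
    intro r'
    rw [Matrix.mul_apply]
    simp only [Matrix.transpose_apply]
    exact sum_slotMatrix_col i a p fun r => Gam G r r'
  simp only [h1]
  have h2 : ∑ r', (∑ α, a α (p i) * Gam G (Function.update p i α) r') * slotMatrix i a r' p' =
      ∑ r', slotMatrix i a r' p' * (∑ α, a α (p i) * Gam G (Function.update p i α) r') :=
    Finset.sum_congr rfl fun r' _ => mul_comm _ _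
  rw [h2, sum_slotMatrix_col i a p' fun r' => ∑ α, a α (p i) * Gam G (Function.update p i α) r']
  simp only [Gam_update]
  conv_rhs => rw [Gam_eq i, ← ha]
  simp only [Matrix.mul_apply, Matrix.transpose_apply, Finset.mul_sum, Finset.sum_mul]
  refine Finset.sum_congr rfl fun β _ => Finset.sum_congr rfl fun α _ => ?_
  ring

variable {n : ℕ}

/-- the "upper triangular half" of `Gam G`, for the linear order of `Fin n` transported along `idx` -/
def Uq (idx : Fin n ≃ (Fin k → Fin d)) (G : Fin k → Matrix (Fin d) (Fin d) F) :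
    Matrix (Fin k → Fin d) (Fin k → Fin d) F :=
  fun r r' => if idx.symm r < idx.symm r' then Gam G r r' else 0

theorem Uq_add_transpose (hk : 0 < k) (idx : Fin n ≃ (Fin k → Fin d))
    (G : Fin k → Matrix (Fin d) (Fin d) F) (hsym : ∀ l, (G l)ᵀ = G l) (hdiag : ∀ l c, G l c c = 0) :
    Uq idx G + (Uq idx G)ᵀ = Gam G := by
  ext r r'
  rw [Matrix.add_apply, Matrix.transpose_apply, Uq, Uq]
  rcases lt_trichotomy (idx.symm r) (idx.symm r') with h | h | h
  · rw [if_pos h, if_neg (not_lt_of_gt h), add_zero]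
  · have hr : r = r' := idx.symm.injective h
    subst hr
    rw [if_neg (lt_irrefl _), add_zero, Gam_diag hk G hdiag]
  · rw [if_neg (not_lt_of_gt h), if_pos h, zero_add, Gam_symm G hsym]

theorem Uq_diag (idx : Fin n ≃ (Fin k → Fin d)) (G : Fin k → Matrix (Fin d) (Fin d) F)
    (r : Fin k → Fin d) : Uq idx G r r = 0 := by
  rw [Uq, if_neg (lt_irrefl _)]

/-- the diagonal of `Sᵀ U S` vanishes -/
theorem slot_conj_Uq_diag (hk : 2 ≤ k) (idx : Fin n ≃ (Fin k → Fin d))
    (G : Fin k → Matrix (Fin d) (Fin d) F) (hdiag : ∀ l c, G l c c = 0) (i : Fin k)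
    (a : Matrix (Fin d) (Fin d) F) (j : Fin k → Fin d) :
    ((slotMatrix i a)ᵀ * Uq idx G * slotMatrix i a) j j = 0 := by
  rw [Matrix.mul_apply]
  have h1 : ∀ r', ((slotMatrix i a)ᵀ * Uq idx G) j r' =
      ∑ α, a α (j i) * Uq idx G (Function.update j i α) r' := by
    intro r'
    rw [Matrix.mul_apply]
    simp only [Matrix.transpose_apply]
    exact sum_slotMatrix_col i a j fun r => Uq idx G r r'
  simp only [h1]
  have h2 : ∑ r', (∑ α, a α (j i) * Uq idx G (Function.update j i α) r') * slotMatrix i a r' j =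
      ∑ r', slotMatrix i a r' j * (∑ α, a α (j i) * Uq idx G (Function.update j i α) r') :=
    Finset.sum_congr rfl fun r' _ => mul_comm _ _
  rw [h2, sum_slotMatrix_col i a j fun r' => ∑ α, a α (j i) * Uq idx G (Function.update j i α) r']
  refine Finset.sum_eq_zero fun β _ => ?_
  rw [Finset.sum_eq_zero, mul_zero]
  intro α _
  have : Uq idx G (Function.update j i α) (Function.update j i β) = 0 := by
    rw [Uq, Gam_update, rest_diag hk i G hdiag, mul_zero, ite_self]
  rw [this, mul_zero]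

/-- the quadratic form `y ↦ yᵀ U y` is invariant under the slot matrices preserving `G i` -/
theorem slot_invariant (hk : 2 ≤ k) (idx : Fin n ≃ (Fin k → Fin d))
    (G : Fin k → Matrix (Fin d) (Fin d) F) (hsym : ∀ l, (G l)ᵀ = G l) (hdiag : ∀ l c, G l c c = 0)
    (i : Fin k) (a : Matrix (Fin d) (Fin d) F) (ha : aᵀ * G i * a = G i) (y : (Fin k → Fin d) → F) :
    (slotMatrix i a *ᵥ y) ⬝ᵥ (Uq idx G *ᵥ (slotMatrix i a *ᵥ y)) = y ⬝ᵥ (Uq idx G *ᵥ y) := by
  rw [dot_mulVec_conj, ← sub_eq_zero, ← dotProduct_sub, ← Matrix.sub_mulVec]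
  apply dot_mulVec_self_eq_zero
  · have hU := Uq_add_transpose (by omega) idx G hsym hdiag
    have h3 : ((slotMatrix i a)ᵀ * Uq idx G * slotMatrix i a - Uq idx G) +
        ((slotMatrix i a)ᵀ * Uq idx G * slotMatrix i a - Uq idx G)ᵀ =
        (slotMatrix i a)ᵀ * (Uq idx G + (Uq idx G)ᵀ) * slotMatrix i a - (Uq idx G + (Uq idx G)ᵀ) := by
      rw [Matrix.transpose_sub, Matrix.transpose_mul, Matrix.transpose_mul, Matrix.transpose_transpose,
        Matrix.mul_add, Matrix.add_mul]
      simp only [Matrix.mul_assoc]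
      abel
    rw [h3, hU, slot_conj_Gam i G a ha, sub_self]
  · intro j
    rw [Matrix.sub_apply, slot_conj_Uq_diag hk idx G hdiag, Uq_diag, sub_zero]

theorem slotMatrix_add' (i : Fin k) (a b : Matrix (Fin d) (Fin d) F) :
    slotMatrix i (a + b) = slotMatrix i a + slotMatrix i b := by
  ext x y
  rw [Matrix.add_apply]
  unfold slotMatrix
  split_ifs
  · rfl
  · rw [add_zero]

theorem slotMatrix_smul' (i : Fin k) (c : F) (a : Matrix (Fin d) (Fin d) F) :
    slotMatrix i (c • a) = c • slotMatrix i a := by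
  ext x y
  rw [Matrix.smul_apply]
  unfold slotMatrix
  split_ifs
  · rfl
  · rw [smul_zero]

theorem slotMatrix_injective' (i : Fin k) :
    Function.Injective (slotMatrix i : Matrix (Fin d) (Fin d) F → _) := by
  intro a a' h
  ext α β
  have := congrFun (congrFun h (Function.update (fun _ => β) i α)) (fun _ => β)
  unfold slotMatrix at this
  have hc : ∀ j, j ≠ i → Function.update (fun _ : Fin k => β) i α j = (fun _ => β) j :=
    fun j hj => Function.update_of_ne hj _ _
  rw [if_pos hc, if_pos hc, Function.update_self] at this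
  exact this

/-- the linear map `a ↦ B⁻¹ · reindex (slotMatrix i a) · B` -/
def Psi (idx : Fin n ≃ (Fin k → Fin d)) (B : GL (Fin n) F) (i : Fin k) :
    Matrix (Fin d) (Fin d) F →ₗ[F] Matrix (Fin n) (Fin n) F where
  toFun a := ((B⁻¹ : GL (Fin n) F) : Matrix (Fin n) (Fin n) F) *
      Matrix.reindex idx.symm idx.symm (slotMatrix i a) * (B : Matrix (Fin n) (Fin n) F)
  map_add' a b := by
    have h : Matrix.reindex idx.symm idx.symm (slotMatrix i a + slotMatrix i b) =
        Matrix.reindex idx.symm idx.symm (slotMatrix i a) +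
          Matrix.reindex idx.symm idx.symm (slotMatrix i b) := by
      ext x y
      rfl
    rw [slotMatrix_add', h, Matrix.mul_add, Matrix.add_mul]
  map_smul' c a := by
    have h : Matrix.reindex idx.symm idx.symm (c • slotMatrix i a) =
        c • Matrix.reindex idx.symm idx.symm (slotMatrix i a) := by
      ext x y
      rfl
    rw [slotMatrix_smul', h, Matrix.mul_smul, Matrix.smul_mul]
    rfl

theorem Psi_apply (idx : Fin n ≃ (Fin k → Fin d)) (B : GL (Fin n) F) (i : Fin k)
    (a : Matrix (Fin d) (Fin d) F) : Psi idx B i a = ((B⁻¹ : GL (Fin n) F) : Matrix (Fin n) (Fin n) F) *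
      Matrix.reindex idx.symm idx.symm (slotMatrix i a) * (B : Matrix (Fin n) (Fin n) F) := rfl

theorem Psi_injective (idx : Fin n ≃ (Fin k → Fin d)) (B : GL (Fin n) F) (i : Fin k) :
    Function.Injective (Psi idx B i) := by
  intro a a' h
  rw [Psi_apply, Psi_apply] at h
  have h1 := congrArg (fun M => (B : Matrix (Fin n) (Fin n) F) * M *
    ((B⁻¹ : GL (Fin n) F) : Matrix (Fin n) (Fin n) F)) h
  simp only [Matrix.mul_assoc] at h1
  simp only [← Units.val_mul, mul_inv_cancel, Units.val_one, Matrix.mul_one] at h1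
  simp only [← Matrix.mul_assoc, ← Units.val_mul, mul_inv_cancel, Units.val_one, Matrix.one_mul] at h1
  exact slotMatrix_injective' i ((Matrix.reindex idx.symm idx.symm).injective h1)

theorem mem_of_span_image {V W : Type*} [AddCommGroup V] [Module F V] [AddCommGroup W] [Module F W]
    (Ψ : V →ₗ[F] W) (hΨ : Function.Injective Ψ) (P : Submodule F V) (S : Set W)
    (hS : ∀ w ∈ S, ∃ a ∈ P, Ψ a = w) (a : V) (ha : Ψ a ∈ Submodule.span F S) : a ∈ P := by
  have hle : Submodule.span F S ≤ P.map Ψ := Submodule.span_le.mpr fun w hw => by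
    obtain ⟨a', ha', rfl⟩ := hS w hw
    exact Submodule.mem_map_of_mem ha'
  obtain ⟨a', ha', h⟩ := hle ha
  rwa [← hΨ h]

theorem charP_two_of_not_odd [Fintype F] (heven : ¬ Odd (Fintype.card F)) : CharP F 2 := by
  have h2 : Fintype.card F % 2 = 0 := by
    rcases Nat.even_or_odd (Fintype.card F) with h | h
    · exact Nat.even_iff.mp h
    · exact absurd h heven
  have : ringChar F = 2 := FiniteField.even_card_iff_char_two.mpr h2
  exact ringChar.of_eq this

/-- the coordinates of `v` in the tensor basis -/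
def coord (idx : Fin n ≃ (Fin k → Fin d)) (B : GL (Fin n) F) (v : Fin n → F) : (Fin k → Fin d) → F :=
  ((B : Matrix (Fin n) (Fin n) F) *ᵥ v) ∘ idx.symm

theorem coord_add (idx : Fin n ≃ (Fin k → Fin d)) (B : GL (Fin n) F) (u v : Fin n → F) :
    coord idx B (u + v) = coord idx B u + coord idx B v := by
  unfold coord
  rw [Matrix.mulVec_add]
  rfl

theorem coord_smul (idx : Fin n ≃ (Fin k → Fin d)) (B : GL (Fin n) F) (c : F) (v : Fin n → F) :
    coord idx B (c • v) = c • coord idx B v := by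
  unfold coord
  rw [Matrix.mulVec_smul]
  rfl

theorem coord_comp_idx (idx : Fin n ≃ (Fin k → Fin d)) (B : GL (Fin n) F) (v : Fin n → F) :
    ((B⁻¹ : GL (Fin n) F) : Matrix (Fin n) (Fin n) F) *ᵥ (coord idx B v ∘ idx) = v := by
  have h1 : coord idx B v ∘ idx = (B : Matrix (Fin n) (Fin n) F) *ᵥ v := by
    funext j
    simp [coord]
  rw [h1, Matrix.mulVec_mulVec, ← Units.val_mul, inv_mul_cancel, Units.val_one, Matrix.one_mulVec]

/-- the coordinates of `x v` for `x` a slot element -/
theorem coord_slot (idx : Fin n ≃ (Fin k → Fin d)) (B : GL (Fin n) F) (x : GL (Fin n) F) (i : Fin k)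
    (a : Matrix (Fin d) (Fin d) F)
    (hx : ((B * x * B⁻¹ : GL (Fin n) F) : Matrix (Fin n) (Fin n) F) =
      Matrix.reindex idx.symm idx.symm (slotMatrix i a)) (v : Fin n → F) :
    coord idx B ((x : Matrix (Fin n) (Fin n) F) *ᵥ v) = slotMatrix i a *ᵥ coord idx B v := by
  have h1 : (B : Matrix (Fin n) (Fin n) F) *ᵥ ((x : Matrix (Fin n) (Fin n) F) *ᵥ v) =
      ((B * x * B⁻¹ : GL (Fin n) F) : Matrix (Fin n) (Fin n) F) *ᵥ
        ((B : Matrix (Fin n) (Fin n) F) *ᵥ v) := by
    rw [Matrix.mulVec_mulVec, Matrix.mulVec_mulVec, ← Units.val_mul, ← Units.val_mul]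
    congr 2
    group
  unfold coord
  rw [h1, hx, Matrix.reindex_apply, Matrix.submatrix_mulVec_equiv]
  funext r
  simp

end slots

end Cfsg.Agent.Lib.Helper1.AschSpKQuad

namespace Cfsg.Agent.Lib.Helper23.AschSp

open Cfsg Cfsg.Geo Cfsg.Agent.Lib.Helper99.Asch Cfsg.Agent.Lib.Helper1.AschSpKQuad
open scoped MatrixGroups Matrix Kronecker

variable {n m : ℕ} {F : Type*} [Field F] [Fintype F] {f : (Fin n → F) → (Fin n → F) → F}

/-- ASCHSP-[KQUAD] -/
theorem fixesQuad_of_slotFormData_even (hf : IsSymplecticForm f) (heven : ¬ Odd (Fintype.card F)) {k : ℕ} (hk : 2 ≤ k)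
    (Q : Fin k → Subgroup (GL (Fin n) F)) (d : ℕ) (hd : 2 ≤ d) (idx : Fin n ≃ (Fin k → Fin d)) (B : GL (Fin n) F)
    (G : Fin k → Matrix (Fin d) (Fin d) F) (hD : SlotFormData f Q d idx B G) (hsym : ∀ i, (G i)ᵀ = G i)
    (hinv : ∀ i, ∀ x ∈ Q i, ∀ a : GL (Fin d) F, ((B * x * B⁻¹ : GL (Fin n) F) : Matrix (Fin n) (Fin n) F) =
          Matrix.reindex idx.symm idx.symm (slotMatrix i (a : Matrix (Fin d) (Fin d) F)) →
          (a : Matrix (Fin d) (Fin d) F)ᵀ * G i * (a : Matrix (Fin d) (Fin d) F) = G i) :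
    ∃ Q' : (Fin n → F) → F, IsNondegenerateQuadraticForm Q' ∧ FixesQuadForm (matrixSet (iSup Q)) Q' := by
  have : CharP F 2 := charP_two_of_not_odd heven
  -- every `G l` has zero diagonal
  have hdiag : ∀ l c, G l c c = 0 := by
    intro l
    apply diag_eq_zero_of_invariant hd (G l) (hsym l)
      {a | ∃ x ∈ Q l, ∃ a' : GL (Fin d) F, (a' : Matrix (Fin d) (Fin d) F) = a ∧
        ((B * x * B⁻¹ : GL (Fin n) F) : Matrix (Fin n) (Fin n) F) =
          Matrix.reindex idx.symm idx.symm (slotMatrix l (a' : Matrix (Fin d) (Fin d) F))}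
    · rintro a ⟨x, hx, a', rfl, hxa⟩
      exact hinv l x hx a' hxa
    · intro P hP a
      apply mem_of_span_image (Psi idx B l) (Psi_injective idx B l) P (matrixSet (Q l)) ?_ a
        (hD.span l a)
      rintro w ⟨x, hx, rfl⟩
      obtain ⟨a', ha'⟩ := hD.slot l x hx
      refine ⟨(a' : Matrix (Fin d) (Fin d) F), hP _ ⟨x, hx, a', rfl, ha'⟩, ?_⟩
      rw [Psi_apply, ← ha', ← Units.val_mul, ← Units.val_mul]
      congr 1
      group
  -- the quadratic form
  have hU := Uq_add_transpose (n := n) (by omega) idx G hsym hdiag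
  let Q' : (Fin n → F) → F := fun v => coord idx B v ⬝ᵥ (Uq idx G *ᵥ coord idx B v)
  have hQ' : ∀ v, Q' v = coord idx B v ⬝ᵥ (Uq idx G *ᵥ coord idx B v) := fun v => rfl
  have hf_eq : ∀ u v, f u v = coord idx B u ⬝ᵥ (Gam G *ᵥ coord idx B v) := by
    intro u v
    have h1 := hD.gram (coord idx B u) (coord idx B v)
    rw [coord_comp_idx, coord_comp_idx] at h1
    rw [h1, dotProduct]
    refine Finset.sum_congr rfl fun a _ => ?_
    rw [Matrix.mulVec, dotProduct, Finset.mul_sum]
    refine Finset.sum_congr rfl fun b _ => ?_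
    rw [Gam, mul_assoc]
  have hpolar : QuadraticMap.polar Q' = f := by
    funext u v
    rw [QuadraticMap.polar, hQ', hQ', hQ', coord_add, hf_eq, ← hU, Matrix.add_mulVec, dotProduct_add,
      Matrix.mulVec_add, add_dotProduct, dotProduct_add, dotProduct_add,
      Matrix.mulVec_transpose, dotProduct_comm (coord idx B u) (coord idx B v ᵥ* Uq idx G),
      ← Matrix.dotProduct_mulVec]
    ring
  refine ⟨Q', ⟨?_, ?_, ?_⟩, ?_⟩
  · intro c v
    rw [hQ', hQ', coord_smul, Matrix.mulVec_smul, dotProduct_smul, smul_dotProduct, smul_eq_mul,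
      smul_eq_mul]
    ring
  · rw [hpolar]; exact hf.bilinear
  · rw [hpolar]; exact hf.nondegenerate
  · -- invariance
    let Stab : Subgroup (GL (Fin n) F) :=
      { carrier := {x | ∀ v, Q' ((x : Matrix (Fin n) (Fin n) F) *ᵥ v) = Q' v}
        one_mem' := by
          intro v
          rw [Units.val_one, Matrix.one_mulVec]
        mul_mem' := by
          intro x y hx hy v
          rw [Units.val_mul, ← Matrix.mulVec_mulVec, hx, hy]
        inv_mem' := by
          intro x hx v
          have := hx (((x⁻¹ : GL (Fin n) F) : Matrix (Fin n) (Fin n) F) *ᵥ v)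
          rw [Matrix.mulVec_mulVec, ← Units.val_mul, mul_inv_cancel, Units.val_one,
            Matrix.one_mulVec] at this
          exact this.symm }
    have hle : iSup Q ≤ Stab := by
      apply iSup_le
      intro i x hx v
      obtain ⟨a, ha⟩ := hD.slot i x hx
      show Q' ((x : Matrix (Fin n) (Fin n) F) *ᵥ v) = Q' v
      rw [hQ', hQ', coord_slot idx B x i a ha v]
      exact slot_invariant hk idx G hsym hdiag i a (hinv i x hx a ha) _
    rintro s ⟨x, hx, rfl⟩ v
    exact hle hx v

end Cfsg.Agent.Lib.Helper23.AschSp
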