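import Mathlib
import Cfsg.Prelude.Def_GeometricClasses
import Cfsg.Agent.Lib.Helper99.AschDefs
import Cfsg.Agent.Lib.Helper23.AschSpDefs
import Cfsg.Agent.Lib.Helper11.AschResid
import Cfsg.Agent.Lib.Helper13.FormKitBilUni

/-!
# ASCHSP-[RESID-Z] (helper1): a perfect minimal `P`, simple modulo scalars, gives `SGeo H` (subfield / quadratic form /
unitary form ⇒ subfield) or the symplectic residual class.  `_of` form: the statements of ASCHSP-[C5]
(`sgeo_of_realisable`) and ASCHSP-[C8Q] (`sgeo_of_fixes_quadratic`) are hypotheses; [UNI] is helper13's FORMKIT-[BILUNI].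
-/

set_option autoImplicit false

namespace Cfsg.Agent.Lib.Helper23.AschSp

open Cfsg Cfsg.Geo Cfsg.Agent.Lib.Helper99.Asch Cfsg.Agent.Lib.Helper11.AschResid
open scoped MatrixGroups Matrix Kronecker

variable {n m : ℕ} {F : Type*} [Field F] [Fintype F] {f : (Fin n → F) → (Fin n → F) → F}

/-- ASCHSP-[RESID-Z] in `_of` form -/
theorem residual_or_sgeo_of
    (hC5 : ∀ (H S : Subgroup (GL (Fin n) F)), H ≤ isoGL f → ActsAbsolutelyIrreducibly (matrixSet S) →
      S ≤ isoGL f → Nrm H S → ∀ F₀ : Subfield F, F₀ ≠ ⊤ → RealisableOver F₀ (matrixSet S) → SGeo m f H)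
    (hC8Q : ∀ (H P : Subgroup (GL (Fin n) F)), H ≤ isoGL f → ActsAbsolutelyIrreducibly (matrixSet P) →
      P ≤ H → Nrm H P → ∀ Q : (Fin n → F) → F, IsNondegenerateQuadraticForm Q →
      FixesQuadForm (matrixSet P) Q → SGeo m f H)
    (hf : IsSymplecticForm f) (hn : 3 ≤ n) (H P : Subgroup (GL (Fin n) F)) (hH : H ≤ isoGL f)
    (hNAI : NAIz H) (hP : PerfMin H P)
    (hsimple : ∀ M : Subgroup (GL (Fin n) F), M ≤ P → Nrm P M → M ≤ scalars (Fin n) F ∨ M = P) :
    SGeo m f H ∨ InSymplecticResidualClass H := by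
  have hne : Nonempty (Fin n) := ⟨⟨0, by omega⟩⟩
  have habs : ActsAbsolutelyIrreducibly (matrixSet P) :=
    (hNAI P (hP.le.trans le_sup_left) hP.nrm).resolve_left hP.not_le
  have hPf : P ≤ isoGL f := hP.le.trans hH
  have hfix : FixesForm (matrixSet P) f := by
    rintro s ⟨x, hx, rfl⟩ u v
    exact mem_isoGL.mp (hPf hx) u v
  by_cases h1 : ∃ F₀ : Subfield F, F₀ ≠ ⊤ ∧ RealisableOver F₀ (matrixSet P)
  · obtain ⟨F₀, hF₀, hreal⟩ := h1
    exact Or.inl (hC5 H P hH habs hPf hP.nrm F₀ hF₀ hreal)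
  by_cases h2 : ∃ Q : (Fin n → F) → F, IsNondegenerateQuadraticForm Q ∧ FixesQuadForm (matrixSet P) Q
  · obtain ⟨Q, hQ, hQfix⟩ := h2
    exact Or.inl (hC8Q H P hH habs hP.le hP.nrm Q hQ hQfix)
  by_cases h4 : ∃ (σ : F ≃+* F) (g : (Fin n → F) → (Fin n → F) → F), IsUnitaryForm σ g ∧ FixesForm (matrixSet P) g
  · obtain ⟨σ, g, hg, hgfix⟩ := h4
    exact absurd (Cfsg.Agent.Lib.Helper13.FormKit.realisable_of_fixes_symplectic_unitary P habs hf hfix hg hgfix) h1
  right
  refine ⟨P, ?_, h2, h4⟩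
  exact
    { le := hP.le
      normal := hP.nrm
      perfect := hP.perfect
      simple := isSimpleGroup_quotient hP.not_le hsimple
      nonabelian := not_isMulCommutative_quotient hP.not_le hP.perfect
      centralizer_scalar := fun h _ hh =>
        mem_scalars_of_commute habs h (commute_of_perfect hP.perfect h hh)
      absIrred := habs
      no_subfield := fun F₀ hF₀ hreal => h1 ⟨F₀, hF₀, hreal⟩ }

end Cfsg.Agent.Lib.Helper23.AschSp
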