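import Mathlib
import Cfsg.Agent.Lib.Helper92.BPDefs

/-!
# BP-[L1-EQV] (helper1): idempotents congruent modulo a two-sided ideal `J` are Murray–von Neumann
equivalent up to idempotents lying in `J`.

`exists_mvn_decomp_of` is the statement with the conclusion of BP-[L1-RAD]
(`cornerUnit_sub_of_no_idem`) for the ideal `J` as a hypothesis; it is pure ring theory.
-/

set_option autoImplicit false

namespace Cfsg.Agent.Lib.Helper1.BP

open Cfsg.Agent.Lib.Helper92.BP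

section
variable {Λ : Type*} [Ring Λ]

/-- an idempotent below `e` has rank at most that of `e` -/
theorem rk_le_of_idemLE (rk : Λ → ℕ)
    (hadd : ∀ e f : Λ, IsIdempotentElem e → IsIdempotentElem f → Orth e f →
      rk (e + f) = rk e + rk f)
    {e f : Λ} (he : IsIdempotentElem e) (hf : IdemLE f e) : rk f ≤ rk e := by
  obtain ⟨hf1, hf2, hf3⟩ := hf
  have hd : IsIdempotentElem (e - f) := by
    unfold IsIdempotentElem at *
    rw [sub_mul, mul_sub, mul_sub, he, hf2, hf3, hf1]; abel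
  have ho : Orth f (e - f) := by
    unfold IsIdempotentElem at *
    constructor
    · rw [mul_sub, hf3, hf1, sub_self]
    · rw [sub_mul, hf2, hf1, sub_self]
  have := hadd f (e - f) hf1 hd ho
  rw [add_sub_cancel] at this
  omega

/-- splitting off a maximal idempotent in `J` -/
theorem exists_max_idem_in (rk : Λ → ℕ)
    (hpos : ∀ e : Λ, IsIdempotentElem e → e ≠ 0 → 0 < rk e)
    (hadd : ∀ e f : Λ, IsIdempotentElem e → IsIdempotentElem f → Orth e f →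
      rk (e + f) = rk e + rk f)
    (J : Ideal Λ) (c : Λ) (hc : IsIdempotentElem c) :
    ∃ c₁ c₀ : Λ, IdemLE c₁ c ∧ IdemLE c₀ c ∧ Orth c₁ c₀ ∧ c₁ + c₀ = c ∧ c₀ ∈ J ∧
      ∀ f : Λ, IdemLE f c₁ → f ∈ J → f = 0 := by
  classical
  -- the ranks of idempotents below `c` lying in `J`
  have hex : ∃ n : ℕ, ∃ f : Λ, IdemLE f c ∧ f ∈ J ∧ rk f = n :=
    ⟨rk 0, 0, ⟨by unfold IsIdempotentElem; simp, by simp, by simp⟩, J.zero_mem, rfl⟩
  have hbd : ∀ n : ℕ, (∃ f : Λ, IdemLE f c ∧ f ∈ J ∧ rk f = n) → n ≤ rk c := by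
    rintro n ⟨f, hf, -, rfl⟩
    exact rk_le_of_idemLE rk hadd hc hf
  obtain ⟨c₀, hc₀, hc₀J, hmax⟩ : ∃ c₀ : Λ, IdemLE c₀ c ∧ c₀ ∈ J ∧
      ∀ f : Λ, IdemLE f c → f ∈ J → rk f ≤ rk c₀ := by
    obtain ⟨f, hf, hfJ, hfn⟩ := Nat.findGreatest_spec (P := fun n => ∃ f : Λ, IdemLE f c ∧ f ∈ J ∧ rk f = n)
      (hbd _ hex.choose_spec) hex.choose_spec
    refine ⟨f, hf, hfJ, ?_⟩
    intro f' hf' hf'J
    rw [hfn]
    exact Nat.le_findGreatest (hbd _ ⟨f', hf', hf'J, rfl⟩) ⟨f', hf', hf'J, rfl⟩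
  obtain ⟨h01, h02, h03⟩ := hc₀
  have hc1 : IsIdempotentElem (c - c₀) := by
    unfold IsIdempotentElem at *
    rw [sub_mul, mul_sub, mul_sub, hc, h02, h03, h01]; abel
  refine ⟨c - c₀, c₀, ⟨hc1, ?_, ?_⟩, ⟨h01, h02, h03⟩, ⟨?_, ?_⟩, by abel, hc₀J, ?_⟩
  · unfold IsIdempotentElem at hc; rw [mul_sub, hc, h02]
  · unfold IsIdempotentElem at hc; rw [sub_mul, hc, h03]
  · unfold IsIdempotentElem at h01; rw [sub_mul, h02, h01, sub_self]
  · unfold IsIdempotentElem at h01; rw [mul_sub, h03, h01, sub_self]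
  · intro f ⟨hf1, hf2, hf3⟩ hfJ
    by_contra hne
    -- `c₀ + f` is a bigger idempotent in `J`
    have hc₀f : c₀ * f = 0 := by
      have : c₀ * (c - c₀) = 0 := by
        unfold IsIdempotentElem at h01; rw [mul_sub, h03, h01, sub_self]
      rw [← hf2, ← mul_assoc, this, zero_mul]
    have hfc₀ : f * c₀ = 0 := by
      have : (c - c₀) * c₀ = 0 := by
        unfold IsIdempotentElem at h01; rw [sub_mul, h02, h01, sub_self]
      rw [← hf3, mul_assoc, this, mul_zero]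
    have hcf : c * f = f := by
      have : c * (c - c₀) = c - c₀ := by
        unfold IsIdempotentElem at hc; rw [mul_sub, hc, h02]
      rw [← hf2, ← mul_assoc, this]
    have hfc : f * c = f := by
      have : (c - c₀) * c = c - c₀ := by
        unfold IsIdempotentElem at hc; rw [sub_mul, hc, h03]
      rw [← hf3, mul_assoc, this]
    have hsum : IdemLE (c₀ + f) c := by
      refine ⟨?_, ?_, ?_⟩
      · unfold IsIdempotentElem at *
        rw [add_mul, mul_add, mul_add, h01, hf1, hc₀f, hfc₀]; abel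
      · rw [mul_add, h02, hcf]
      · rw [add_mul, h03, hfc]
    have h1 := hmax (c₀ + f) hsum (J.add_mem hc₀J hfJ)
    have h2 := hadd c₀ f h01 hf1 ⟨hc₀f, hfc₀⟩
    have h3 := hpos f hf1 hne
    omega

/-- BP-[L1-EQV] with the conclusion of BP-[L1-RAD] for `J` as a hypothesis -/
theorem exists_mvn_decomp_of (rk : Λ → ℕ)
    (hpos : ∀ e : Λ, IsIdempotentElem e → e ≠ 0 → 0 < rk e)
    (hadd : ∀ e f : Λ, IsIdempotentElem e → IsIdempotentElem f → Orth e f →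
      rk (e + f) = rk e + rk f)
    (J : Ideal Λ) [J.IsTwoSided]
    (hRAD : ∀ e : Λ, IsIdempotentElem e → (∀ f : Λ, IdemLE f e → f ∈ J → f = 0) →
      ∀ x : Λ, InCorner e x → x ∈ J → CornerUnit e (e - x))
    (c c' : Λ) (hc : IsIdempotentElem c)
    (hc' : IsIdempotentElem c') (h : c - c' ∈ J) :
    ∃ c₁ c₀ c₁' c₀' : Λ, IdemLE c₁ c ∧ IdemLE c₀ c ∧ Orth c₁ c₀ ∧ c₁ + c₀ = c ∧
      IdemLE c₁' c' ∧ IdemLE c₀' c' ∧ Orth c₁' c₀' ∧ c₁' + c₀' = c' ∧
      c₀ ∈ J ∧ c₀' ∈ J ∧ MvN c₁ c₁' := by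
  obtain ⟨c₁, c₀, h1, h0, ho, hs, h0J, hno⟩ := exists_max_idem_in rk hpos hadd J c hc
  obtain ⟨c₁', c₀', h1', h0', ho', hs', h0J', hno'⟩ := exists_max_idem_in rk hpos hadd J c' hc'
  refine ⟨c₁, c₀, c₁', c₀', h1, h0, ho, hs, h1', h0', ho', hs', h0J, h0J', ?_⟩
  have hi1 : c₁ * c₁ = c₁ := h1.1
  have hi1' : c₁' * c₁' = c₁' := h1'.1
  -- `c₁ ≡ c₁'` modulo `J`
  have hd : c₁ - c₁' ∈ J := by
    have : c₁ - c₁' = (c - c') - c₀ + c₀' := by rw [← hs, ← hs']; abel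
    rw [this]
    exact J.add_mem (J.sub_mem h h0J) h0J'
  -- `g = c₁ c₁' c₁` is a corner unit
  have hx : c₁ - c₁ * c₁' * c₁ = c₁ * (c₁ - c₁') * c₁ := by
    rw [mul_sub, sub_mul, hi1, hi1]
  have hxJ : c₁ - c₁ * c₁' * c₁ ∈ J := by
    rw [hx]
    exact Ideal.mul_mem_right _ _ (J.mul_mem_left _ hd)
  have hxc : InCorner c₁ (c₁ - c₁ * c₁' * c₁) := by
    constructor
    · rw [mul_sub, hi1, ← mul_assoc, ← mul_assoc, hi1]
    · rw [sub_mul, hi1, mul_assoc, hi1]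
  have hu := hRAD c₁ h1.1 hno _ hxc hxJ
  rw [sub_sub_cancel] at hu
  obtain ⟨-, w, ⟨hw1, hw2⟩, hgw, hwg⟩ := hu
  -- `w ≡ c₁` modulo `J`
  have hwJ : w - c₁ ∈ J := by
    have : w - c₁ = (c₁ - c₁ * c₁' * c₁) * w := by
      rw [sub_mul, hw1, hgw]
    rw [this]
    exact Ideal.mul_mem_right _ _ hxJ
  -- the equivalence
  have hab : w * c₁' * (c₁' * c₁) = c₁ := by
    calc w * c₁' * (c₁' * c₁) = w * (c₁' * c₁') * c₁ := by noncomm_ring
      _ = w * c₁' * c₁ := by rw [hi1']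
      _ = (w * c₁) * c₁' * c₁ := by rw [hw2]
      _ = w * (c₁ * c₁' * c₁) := by noncomm_ring
      _ = c₁ := hwg
  -- `h = c₁' w c₁'`
  have hh : c₁' * c₁ * (w * c₁') = c₁' * w * c₁' := by
    calc c₁' * c₁ * (w * c₁') = c₁' * (c₁ * w) * c₁' := by noncomm_ring
      _ = c₁' * w * c₁' := by rw [hw1]
  have hhidem : IsIdempotentElem (c₁' * w * c₁') := by
    unfold IsIdempotentElem
    calc c₁' * w * c₁' * (c₁' * w * c₁') = c₁' * w * (c₁' * c₁') * w * c₁' := by noncomm_ring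
      _ = c₁' * w * c₁' * w * c₁' := by rw [hi1']
      _ = c₁' * (w * c₁) * c₁' * (c₁ * w) * c₁' := by rw [hw1, hw2]
      _ = c₁' * (w * (c₁ * c₁' * c₁)) * w * c₁' := by noncomm_ring
      _ = c₁' * c₁ * w * c₁' := by rw [hwg]
      _ = c₁' * (c₁ * w) * c₁' := by noncomm_ring
      _ = c₁' * w * c₁' := by rw [hw1]
  -- `c₁' - h` is an idempotent below `c₁'` in `J`, hence zero
  have hle : IdemLE (c₁' - c₁' * w * c₁') c₁' := by
    have e1 : c₁' * (c₁' * w * c₁') = c₁' * w * c₁' := by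
      calc c₁' * (c₁' * w * c₁') = (c₁' * c₁') * w * c₁' := by noncomm_ring
        _ = c₁' * w * c₁' := by rw [hi1']
    have e2 : c₁' * w * c₁' * c₁' = c₁' * w * c₁' := by
      calc c₁' * w * c₁' * c₁' = c₁' * w * (c₁' * c₁') := by noncomm_ring
        _ = c₁' * w * c₁' := by rw [hi1']
    have e3 : c₁' * w * c₁' * (c₁' * w * c₁') = c₁' * w * c₁' := hhidem
    refine ⟨?_, ?_, ?_⟩
    · unfold IsIdempotentElem
      rw [sub_mul, mul_sub, mul_sub, hi1', e1, e2, e3]; abel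
    · rw [mul_sub, hi1', e1]
    · rw [sub_mul, hi1', e2]
  have hmemJ : c₁' - c₁' * w * c₁' ∈ J := by
    have : c₁' - c₁' * w * c₁' = c₁' * (c₁' - c₁) * c₁' - c₁' * (w - c₁) * c₁' := by
      have : c₁' * (c₁' - c₁) * c₁' - c₁' * (w - c₁) * c₁' = c₁' * c₁' * c₁' - c₁' * w * c₁' := by
        noncomm_ring
      rw [this, hi1', hi1']
    rw [this]
    apply J.sub_mem
    · apply Ideal.mul_mem_right _ _ (J.mul_mem_left _ _)
      have : c₁' - c₁ = -(c₁ - c₁') := by abel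
      rw [this]; exact J.neg_mem hd
    · exact Ideal.mul_mem_right _ _ (J.mul_mem_left _ hwJ)
  have hz := hno' _ hle hmemJ
  refine ⟨w * c₁', c₁' * c₁, hab, ?_⟩
  rw [hh]
  exact (sub_eq_zero.mp hz).symm

end

end Cfsg.Agent.Lib.Helper1.BP
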