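import Mathlib
import Cfsg.Agent.Lib.Helper48.Bau.Defs

set_option autoImplicit false

/-!
# S2768-[BAU-J]: Thompson-subgroup bookkeeping (abelian version) (helper1, for helper48)
-/

namespace Cfsg.Agent.Lib.Helper1.Bau

open scoped Pointwise
open Cfsg.Agent.Lib.Helper48.Bau

variable {G : Type*} [Group G]

theorem abel_iff (A : Subgroup G) :
    IsMulCommutative A ↔ ∀ a ∈ A, ∀ b ∈ A, a * b = b * a := by
  constructor
  · intro h a ha b hb
    have := (isMulCommutative_iff.mp h) ⟨a, ha⟩ ⟨b, hb⟩
    exact congrArg Subtype.val this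
  · intro h
    exact isMulCommutative_iff.mpr fun a b => Subtype.ext (h a.1 a.2 b.1 b.2)

theorem abel_map_subtype (P : Subgroup G) (A : Subgroup P) :
    IsMulCommutative (A.map P.subtype) ↔ IsMulCommutative A := by
  rw [abel_iff, abel_iff]
  constructor
  · intro h a ha b hb
    have := h a.1 (Subgroup.mem_map_of_mem _ ha) b.1 (Subgroup.mem_map_of_mem _ hb)
    exact Subtype.ext this
  · intro h a ha b hb
    obtain ⟨a', ha', rfl⟩ := ha
    obtain ⟨b', hb', rfl⟩ := hb
    have := h a' ha' b' hb'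
    exact congrArg Subtype.val this

theorem card_map_subtype (P : Subgroup G) (A : Subgroup P) :
    Nat.card (A.map P.subtype) = Nat.card A :=
  Nat.card_congr (A.equivMapOfInjective P.subtype P.subtype_injective).symm.toEquiv

theorem absMax_eq_image (P : Subgroup G) :
    absMax P = (fun A : Subgroup P => A.map P.subtype) '' Cfsg.maxAbelianSubgroups P := by
  ext A
  constructor
  · rintro ⟨hAP, hAab, hAmax⟩
    refine ⟨A.subgroupOf P, ⟨?_, ?_⟩, ?_⟩
    · rw [← abel_map_subtype, Subgroup.map_subgroupOf_eq_of_le hAP]; exact hAab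
    · intro B hB
      have h1 := hAmax (B.map P.subtype) (Subgroup.map_subtype_le B)
        ((abel_map_subtype P B).mpr hB)
      rw [card_map_subtype] at h1
      have h2 : Nat.card (A.subgroupOf P) = Nat.card A := by
        rw [← card_map_subtype P (A.subgroupOf P), Subgroup.map_subgroupOf_eq_of_le hAP]
      rw [h2]; exact h1
    · exact Subgroup.map_subgroupOf_eq_of_le hAP
  · rintro ⟨A', ⟨hA'ab, hA'max⟩, rfl⟩
    refine ⟨Subgroup.map_subtype_le A', (abel_map_subtype P A').mpr hA'ab, ?_⟩
    intro B hBP hBab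
    have h1 := hA'max (B.subgroupOf P) (by
      rw [← abel_map_subtype, Subgroup.map_subgroupOf_eq_of_le hBP]; exact hBab)
    have h2 : Nat.card (B.subgroupOf P) = Nat.card B := by
      rw [← card_map_subtype P (B.subgroupOf P), Subgroup.map_subgroupOf_eq_of_le hBP]
    rw [card_map_subtype, ← h2]; exact h1

theorem thompsonSubgroupAOf_eq_sSup (P : Subgroup G) :
    Cfsg.thompsonSubgroupAOf P = sSup (absMax P) := by
  unfold Cfsg.thompsonSubgroupAOf Cfsg.thompsonSubgroupA
  rw [absMax_eq_image, sSup_image, sSup_eq_iSup, Subgroup.map_iSup]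
  congr 1
  funext A
  rw [Subgroup.map_iSup]

theorem bot_mem_abelian (P : Subgroup G) : (⊥ : Subgroup G) ≤ P ∧ IsMulCommutative (⊥ : Subgroup G) := by
  refine ⟨bot_le, ?_⟩
  rw [abel_iff]
  intro a ha b hb
  rw [Subgroup.mem_bot] at ha hb
  rw [ha, hb]

theorem absMax_nonempty [Finite G] (P : Subgroup G) : (absMax P).Nonempty := by
  classical
  let T : Set (Subgroup G) := {A | A ≤ P ∧ IsMulCommutative A}
  have hTfin : T.Finite := Set.toFinite T
  have hTne : T.Nonempty := ⟨⊥, bot_mem_abelian P⟩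
  obtain ⟨A, hAT, hAmax⟩ := Set.exists_max_image T (fun A : Subgroup G => Nat.card A) hTfin hTne
  exact ⟨A, hAT.1, hAT.2, fun B hBP hBab => hAmax B ⟨hBP, hBab⟩⟩

theorem mem_of_mem_absMax_of_commute [Finite G] {P A : Subgroup G} (hA : A ∈ absMax P) {x : G}
    (hx : x ∈ P) (hc : ∀ a ∈ A, x * a = a * x) : x ∈ A := by
  obtain ⟨hAP, hAab, hAmax⟩ := hA
  rw [abel_iff] at hAab
  set B : Subgroup G := Subgroup.closure (insert x (A : Set G)) with hB
  have hBab : IsMulCommutative B := by
    apply Subgroup.isMulCommutative_closure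
    intro y hy z hz
    rcases hy with rfl | hy <;> rcases hz with rfl | hz
    · rfl
    · exact hc z hz
    · exact (hc y hy).symm
    · exact hAab y hy z hz
  have hBP : B ≤ P := by
    rw [hB, Subgroup.closure_le]
    intro y hy
    rcases hy with rfl | hy
    · exact hx
    · exact hAP hy
  have hAB : A ≤ B := fun a ha => Subgroup.subset_closure (Set.mem_insert_of_mem _ ha)
  have hcard := hAmax B hBP hBab
  have hEq : A = B := Subgroup.eq_of_le_of_card_ge hAB hcard
  rw [hEq]
  exact Subgroup.subset_closure (Set.mem_insert _ _)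

theorem thompsonSubgroupAOf_le (P : Subgroup G) : Cfsg.thompsonSubgroupAOf P ≤ P :=
  Subgroup.map_subtype_le _

theorem le_thompsonSubgroupAOf {P A : Subgroup G} (hA : A ∈ absMax P) :
    A ≤ Cfsg.thompsonSubgroupAOf P := by
  rw [thompsonSubgroupAOf_eq_sSup]
  exact le_sSup hA

theorem centerThompsonAOf_le_of_mem_absMax [Finite G] {P A : Subgroup G} (hA : A ∈ absMax P) :
    Cfsg.centerThompsonAOf P ≤ A := by
  intro x hx
  unfold Cfsg.centerThompsonAOf at hx
  obtain ⟨hxJ, hxC⟩ := Subgroup.mem_inf.mp hx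
  refine mem_of_mem_absMax_of_commute hA (thompsonSubgroupAOf_le P hxJ) ?_
  intro a ha
  rw [Subgroup.mem_centralizer_iff] at hxC
  exact (hxC a (le_thompsonSubgroupAOf hA ha)).symm

theorem center_le_centerThompsonAOf [Finite G] (P : Subgroup G) :
    P ⊓ Subgroup.centralizer (P : Set G) ≤ Cfsg.centerThompsonAOf P := by
  intro x hx
  obtain ⟨hxP, hxC⟩ := Subgroup.mem_inf.mp hx
  rw [Subgroup.mem_centralizer_iff] at hxC
  obtain ⟨A, hA⟩ := absMax_nonempty P
  have hxA : x ∈ A := mem_of_mem_absMax_of_commute hA hxP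
    (fun a ha => (hxC a (hA.1 ha)).symm)
  unfold Cfsg.centerThompsonAOf
  refine Subgroup.mem_inf.mpr ⟨le_thompsonSubgroupAOf hA hxA, ?_⟩
  rw [Subgroup.mem_centralizer_iff]
  intro y hy
  exact hxC y (thompsonSubgroupAOf_le P hy)

theorem abel_conj_smul (g : G) (A : Subgroup G) :
    IsMulCommutative (MulAut.conj g • A : Subgroup G) ↔ IsMulCommutative A := by
  rw [abel_iff, abel_iff]
  constructor
  · intro h a ha b hb
    have := h (MulAut.conj g • a) (Subgroup.smul_mem_pointwise_smul a _ A ha)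
      (MulAut.conj g • b) (Subgroup.smul_mem_pointwise_smul b _ A hb)
    rw [← smul_mul', ← smul_mul'] at this
    exact (MulAction.injective (MulAut.conj g)) this
  · intro h a ha b hb
    rw [Subgroup.mem_smul_pointwise_iff_exists] at ha hb
    obtain ⟨a', ha', rfl⟩ := ha
    obtain ⟨b', hb', rfl⟩ := hb
    rw [← smul_mul', ← smul_mul', h a' ha' b' hb']

theorem card_conj_smul (g : G) (A : Subgroup G) :
    Nat.card (MulAut.conj g • A : Subgroup G) = Nat.card A := by
  exact Nat.card_congr (Subgroup.equivSMul (MulAut.conj g) A).symm.toEquiv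

theorem conj_smul_absMax_mp (g : G) (P A : Subgroup G) (hA : A ∈ absMax P) :
    MulAut.conj g • A ∈ absMax (MulAut.conj g • P) := by
  obtain ⟨hAP, hAab, hAmax⟩ := hA
  refine ⟨Subgroup.pointwise_smul_le_pointwise_smul_iff.mpr hAP, (abel_conj_smul g A).mpr hAab, ?_⟩
  intro B hBP hBab
  have hB' : (MulAut.conj g)⁻¹ • B ≤ P := by
    rw [← Subgroup.pointwise_smul_le_pointwise_smul_iff (a := MulAut.conj g), smul_inv_smul]
    exact hBP
  have hBab' : IsMulCommutative ((MulAut.conj g)⁻¹ • B : Subgroup G) := by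
    rw [← map_inv]; exact (abel_conj_smul g⁻¹ B).mpr hBab
  have h1 := hAmax _ hB' hBab'
  rw [← map_inv, card_conj_smul] at h1
  rw [card_conj_smul]; exact h1

theorem conj_smul_absMax (g : G) (P A : Subgroup G) :
    MulAut.conj g • A ∈ absMax (MulAut.conj g • P) ↔ A ∈ absMax P := by
  constructor
  · intro h
    have := conj_smul_absMax_mp g⁻¹ _ _ h
    rw [map_inv, inv_smul_smul, inv_smul_smul] at this
    exact this
  · exact conj_smul_absMax_mp g P A

theorem conj_smul_thompsonSubgroupAOf (g : G) (P : Subgroup G) :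
    MulAut.conj g • Cfsg.thompsonSubgroupAOf P = Cfsg.thompsonSubgroupAOf (MulAut.conj g • P) := by
  rw [thompsonSubgroupAOf_eq_sSup, thompsonSubgroupAOf_eq_sSup]
  apply le_antisymm
  · -- g • sSup ≤ sSup'
    rw [← Subgroup.pointwise_smul_le_pointwise_smul_iff (a := (MulAut.conj g)⁻¹), inv_smul_smul]
    apply sSup_le
    intro A hA
    rw [← Subgroup.pointwise_smul_le_pointwise_smul_iff (a := MulAut.conj g), smul_inv_smul]
    exact le_sSup ((conj_smul_absMax g P A).mpr hA)
  · apply sSup_le
    intro B hB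
    have hB' : (MulAut.conj g)⁻¹ • B ∈ absMax P := by
      rw [← conj_smul_absMax g, smul_inv_smul]; exact hB
    have := le_sSup hB'
    rw [← Subgroup.pointwise_smul_le_pointwise_smul_iff (a := MulAut.conj g), smul_inv_smul] at this
    exact this

theorem conj_smul_centralizer (g : G) (H : Subgroup G) :
    MulAut.conj g • Subgroup.centralizer (H : Set G) =
      Subgroup.centralizer ((MulAut.conj g • H : Subgroup G) : Set G) := by
  ext x
  rw [Subgroup.mem_pointwise_smul_iff_inv_smul_mem, Subgroup.mem_centralizer_iff,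
    Subgroup.mem_centralizer_iff]
  constructor
  · intro h y hy
    have hy' : (MulAut.conj g)⁻¹ • y ∈ H := by
      rwa [← Subgroup.mem_pointwise_smul_iff_inv_smul_mem]
    have := h _ hy'
    rw [← smul_mul', ← smul_mul'] at this
    exact (MulAction.injective _) this
  · intro h y hy
    have hy' : MulAut.conj g • y ∈ (MulAut.conj g • H : Subgroup G) :=
      Subgroup.smul_mem_pointwise_smul y _ H hy
    have := h _ hy'
    apply (MulAction.injective (MulAut.conj g))
    show MulAut.conj g • (y * (MulAut.conj g)⁻¹ • x) = MulAut.conj g • ((MulAut.conj g)⁻¹ • x * y)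
    rw [smul_mul', smul_mul', smul_inv_smul]
    exact this

theorem conj_smul_centerThompsonAOf (g : G) (P : Subgroup G) :
    MulAut.conj g • Cfsg.centerThompsonAOf P = Cfsg.centerThompsonAOf (MulAut.conj g • P) := by
  unfold Cfsg.centerThompsonAOf
  rw [Subgroup.smul_inf, conj_smul_centralizer, conj_smul_thompsonSubgroupAOf]

theorem absMax_subset_of_mem [Finite G] {P Q A : Subgroup G} (hQP : Q ≤ P) (hA : A ∈ absMax P)
    (hAQ : A ≤ Q) : absMax Q ⊆ absMax P := by
  intro B hB
  obtain ⟨hBQ, hBab, hBmax⟩ := hB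
  refine ⟨hBQ.trans hQP, hBab, ?_⟩
  intro C hCP hCab
  exact (hA.2.2 C hCP hCab).trans (hBmax A hAQ hA.2.1)

theorem absMax_eq_of_forall_le [Finite G] {P Q : Subgroup G} (hQP : Q ≤ P)
    (h : ∀ A ∈ absMax P, A ≤ Q) : absMax Q = absMax P := by
  obtain ⟨A0, hA0⟩ := absMax_nonempty P
  apply Set.Subset.antisymm
  · exact absMax_subset_of_mem hQP hA0 (h A0 hA0)
  · intro A hA
    exact ⟨h A hA, hA.2.1, fun C hCQ hCab => hA.2.2 C (hCQ.trans hQP) hCab⟩

end Cfsg.Agent.Lib.Helper1.Bau
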