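import Mathlib
import Cfsg.Agent.Lib.Helper79.BrauerN.Defs
import Cfsg.Agent.Lib.Helper79.BrauerN.Partition
import Cfsg.Agent.Lib.Helper79.BrauerN.Arith3
import Cfsg.Agent.Lib.Helper78.CharMore
import Cfsg.Agent.Lib.Helper64.BrauerNNV

/-!
S0999 / S4701 module [E1-DECOMP] (helper79 #3615): decomposition of a character of degree
`D = 1 + (t-1) p` that is `1` on `P ∖ 1` in the rigid configuration with `ε = -1`.
-/

set_option autoImplicit false

namespace Cfsg.Agent.Lib.Helper1.BrauerN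

open Cfsg Cfsg.Agent.Lib.Helper79.BrauerN Cfsg.Agent.Lib.Helper78

/-- Sum over a subgroup of order `p` of a function constant on the non-identity elements. -/
theorem sum_subgroup_of_const {G : Type*} [Group G] (H : Subgroup G) [Fintype H] {p : ℕ}
    (hH : Nat.card H = p) (f : G → ℂ) (c : ℂ) (hc : ∀ x : G, x ∈ H → x ≠ 1 → f x = c) :
    ∑ x : H, f x = f 1 + ((p - 1 : ℕ) : ℂ) * c := by
  classical
  rw [← Finset.add_sum_erase Finset.univ (fun x : H => f x) (Finset.mem_univ (1 : H))]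
  congr 1
  rw [Finset.sum_congr rfl (g := fun _ => c)]
  · rw [Finset.sum_const, Finset.card_erase_of_mem (Finset.mem_univ _), Finset.card_univ,
      ← Nat.card_eq_fintype_card, hH, nsmul_eq_mul]
  · intro x hx
    have hx1 : x ≠ 1 := Finset.ne_of_mem_erase hx
    exact hc x x.2 (fun h => hx1 (Subtype.ext h))

/-- Weighted sums with a constant weight. -/
theorem sum_mul_const_nat {ι : Type*} (s : Finset ι) (m : ι → ℕ) (w : ι → ℂ) (c : ℂ)
    (hw : ∀ i ∈ s, w i = c) :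
    ∑ i ∈ s, (m i : ℂ) * w i = ((∑ i ∈ s, m i : ℕ) : ℂ) * c := by
  rw [Nat.cast_sum, Finset.sum_mul]
  apply Finset.sum_congr rfl
  intro i hi
  rw [hw i hi]

theorem rigid_decomp {G : Type*} [Group G] [Fintype G] {p : ℕ} [Fact p.Prime] {P : Sylow p G}
    {q t : ℕ} {ε : ℤ} {a : IrrCharacter G → ℤ} {X Y : Finset (IrrCharacter G)}
    (D : RigidData p P q t ε a X Y) (hε : ε = -1)
    (hvan : ∀ ζ : IrrCharacter G, ζ ∉ X → ζ ∉ Y → ∀ x : G, x ∈ (P : Subgroup G) → x ≠ 1 →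
      (ζ : G → ℂ) x = 0)
    (hsumP : ∀ θ ∈ Y, ∑ᶠ x ∈ ((P : Subgroup G) : Set G), (θ : G → ℂ) x = (p : ℂ))
    {Φ : G → ℂ} (hΦ : IsCharacter G Φ) (hΦ1 : Φ 1 = ((1 + (t - 1) * p : ℕ) : ℂ))
    (hΦP : ∀ x : G, x ∈ (P : Subgroup G) → x ≠ 1 → Φ x = 1)
    (triv : IrrCharacter G) (htriv : (triv : G → ℂ) = fun _ => 1) :
    (classInner Φ (triv : G → ℂ) = 1 →
      ∀ ζ : IrrCharacter G, ζ ∈ X ∨ ζ ∈ Y → ζ ≠ triv → classInner Φ (ζ : G → ℂ) = 0) ∧
    (classInner Φ (triv : G → ℂ) = 0 →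
      (∃ χ ∈ X, a χ = 1 ∧ χ ≠ triv ∧ Φ = (χ : G → ℂ)) ∨
      ((∀ χ ∈ X, classInner Φ (χ : G → ℂ) = 0) ∧
        ∑ θ ∈ Y, classInner Φ (θ : G → ℂ) = (t : ℂ) ∧
        ∀ ζ : IrrCharacter G, ζ ∉ X → ζ ∉ Y → classInner Φ (ζ : G → ℂ) = 0)) := by
  classical
  have : Fintype (P : Subgroup G) := Fintype.ofFinite _
  -- the trivial character is in `X` with sign `+`
  obtain ⟨triv', htriv', hX', ha', hY'⟩ := D.exists_triv
  have htt : triv' = triv := Subtype.ext (by rw [htriv', htriv])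
  subst htt
  have hXt := hX'
  have hat := ha'
  -- multiplicities
  choose m hm using fun ζ : IrrCharacter G => IsCharacter.exists_nat_classInner hΦ ζ
  have hexp : Φ = ∑ ζ : IrrCharacter G, (m ζ : ℂ) • (ζ : G → ℂ) := by
    conv_lhs => rw [IsCharacter.eq_sum_irr hΦ]
    apply Finset.sum_congr rfl
    intro ζ _
    rw [hm ζ]
  have hpqt := D.hpqt
  have hq := D.hq
  have ht := D.ht
  have h7 := D.p_ge_seven
  have hqp : q ≤ p := by nlinarith
  set Dd : ℕ := 1 + (t - 1) * p with hDd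
  -- classes
  set A := setA a X triv' with hA
  set B := setB a X with hB
  set R := setR X Y with hR
  set mA : ℕ := ∑ χ ∈ A, m χ with hmA
  set mB : ℕ := ∑ χ ∈ B, m χ with hmB
  set mY : ℕ := ∑ θ ∈ Y, m θ with hmY
  set r : ℕ := ∑ ζ ∈ R, m ζ * charDegree (ζ : G → ℂ) with hr
  -- degrees
  have hdegA : ∀ χ ∈ A, (χ : G → ℂ) 1 = (Dd : ℂ) := by
    intro χ hχ
    obtain ⟨h1, h2, h3⟩ := mem_setA.mp hχ
    exact D.hdegXp χ h1 h2 (fun h => h3 (Subtype.ext (by rw [h, htriv])))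
  have hdegB : ∀ χ ∈ B, (χ : G → ℂ) 1 = ((p - 1 : ℕ) : ℂ) := by
    intro χ hχ
    obtain ⟨h1, h2⟩ := mem_setB.mp hχ
    exact D.hdegXm χ h1 h2
  have hne : ε ≠ 1 := by rw [hε]; norm_num
  have hdegY : ∀ θ ∈ Y, (θ : G → ℂ) 1 = ((p - q : ℕ) : ℂ) := by
    intro θ hθ
    rw [D.hdegY θ hθ, if_neg hne]
  have hdegR : ∀ ζ ∈ R, (ζ : G → ℂ) 1 = (charDegree (ζ : G → ℂ) : ℂ) := fun ζ _ => irr_apply_one ζ
  -- sums over `P`
  let T : (G → ℂ) → ℂ := fun f => ∑ x : (P : Subgroup G), f x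
  have hTtriv : T (triv' : G → ℂ) = (p : ℂ) := by
    show ∑ x : (P : Subgroup G), (triv' : G → ℂ) x = (p : ℂ)
    rw [htriv]
    simp only [Finset.sum_const, Finset.card_univ, nsmul_eq_mul, mul_one]
    rw [← Nat.card_eq_fintype_card, D.hPcard]
  have hTA : ∀ χ ∈ A, T (χ : G → ℂ) = ((Dd + (p - 1) : ℕ) : ℂ) := by
    intro χ hχ
    obtain ⟨h1, h2, h3⟩ := mem_setA.mp hχ
    show ∑ x : (P : Subgroup G), (χ : G → ℂ) x = _
    rw [sum_subgroup_of_const (P : Subgroup G) D.hPcard (χ : G → ℂ) ((a χ : ℤ) : ℂ)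
      (fun x hx hx1 => D.hXval χ h1 x hx hx1), hdegA χ hχ, h2]
    push_cast
    ring
  have hTB : ∀ χ ∈ B, T (χ : G → ℂ) = 0 := by
    intro χ hχ
    obtain ⟨h1, h2⟩ := mem_setB.mp hχ
    show ∑ x : (P : Subgroup G), (χ : G → ℂ) x = _
    rw [sum_subgroup_of_const (P : Subgroup G) D.hPcard (χ : G → ℂ) ((a χ : ℤ) : ℂ)
      (fun x hx hx1 => D.hXval χ h1 x hx hx1), hdegB χ hχ, h2]
    push_cast
    ring
  have hTY : ∀ θ ∈ Y, T (θ : G → ℂ) = (p : ℂ) := by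
    intro θ hθ
    have := hsumP θ hθ
    rw [Cfsg.Agent.Lib.Helper64.BrauerN.finsum_mem_subgroup] at this
    exact this
  have hTR : ∀ ζ ∈ R, T (ζ : G → ℂ) = (charDegree (ζ : G → ℂ) : ℂ) := by
    intro ζ hζ
    obtain ⟨h1, h2⟩ := mem_setR.mp hζ
    show ∑ x : (P : Subgroup G), (ζ : G → ℂ) x = _
    rw [sum_subgroup_of_const (P : Subgroup G) D.hPcard (ζ : G → ℂ) 0
      (fun x hx hx1 => hvan ζ h1 h2 x hx hx1), hdegR ζ hζ, mul_zero, add_zero]
  have hTΦ : T Φ = ((Dd + (p - 1) : ℕ) : ℂ) := by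
    show ∑ x : (P : Subgroup G), Φ x = _
    rw [sum_subgroup_of_const (P : Subgroup G) D.hPcard Φ 1 hΦP, hΦ1]
    push_cast
    ring
  -- the two equations
  have hm₀ : (triv' : G → ℂ) 1 = 1 := by rw [htriv]
  have hE1 : (Dd : ℂ) = ((m triv' + Dd * mA + (p - 1) * mB + (p - q) * mY + r : ℕ) : ℂ) := by
    have h1 := congrFun hexp 1
    rw [Finset.sum_apply, hΦ1] at h1
    simp only [Pi.smul_apply, smul_eq_mul] at h1
    rw [D.sum_split hXt hat (fun ζ => (m ζ : ℂ) * (ζ : G → ℂ) 1)] at h1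
    rw [sum_mul_const_nat A m _ _ hdegA, sum_mul_const_nat B m _ _ hdegB,
      sum_mul_const_nat Y m _ _ hdegY, hm₀] at h1
    have hRsum : ∑ ζ ∈ R, (m ζ : ℂ) * (ζ : G → ℂ) 1 = (r : ℂ) := by
      rw [hr, Nat.cast_sum]
      apply Finset.sum_congr rfl
      intro ζ hζ
      rw [hdegR ζ hζ]
      push_cast
      ring
    rw [hRsum] at h1
    rw [← hmA, ← hmB, ← hmY] at h1
    rw [h1]
    push_cast
    ring
  have hE2 : ((Dd + (p - 1) : ℕ) : ℂ) =
      ((p * m triv' + (Dd + (p - 1)) * mA + p * mY + r : ℕ) : ℂ) := by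
    have h1 : T Φ = ∑ ζ : IrrCharacter G, (m ζ : ℂ) * T (ζ : G → ℂ) := by
      show ∑ x : (P : Subgroup G), Φ x = _
      conv_lhs => rw [hexp]
      simp only [Finset.sum_apply, Pi.smul_apply, smul_eq_mul]
      rw [Finset.sum_comm]
      apply Finset.sum_congr rfl
      intro ζ _
      rw [Finset.mul_sum]
    rw [hTΦ, D.sum_split hXt hat (fun ζ => (m ζ : ℂ) * T (ζ : G → ℂ))] at h1
    rw [sum_mul_const_nat A m _ _ hTA, sum_mul_const_nat B m _ _ hTB,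
      sum_mul_const_nat Y m _ _ hTY, hTtriv] at h1
    have hRsum : ∑ ζ ∈ R, (m ζ : ℂ) * T (ζ : G → ℂ) = (r : ℂ) := by
      rw [hr, Nat.cast_sum]
      apply Finset.sum_congr rfl
      intro ζ hζ
      rw [hTR ζ hζ]
      push_cast
      ring
    rw [hRsum] at h1
    rw [← hmA, ← hmB, ← hmY] at h1
    rw [h1]
    push_cast
    ring
  have hE1' : Dd = m triv' + Dd * mA + (p - 1) * mB + (p - q) * mY + r := by exact_mod_cast hE1
  have hE2' : Dd + (p - 1) = p * m triv' + (Dd + (p - 1)) * mA + p * mY + r := by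
    exact_mod_cast hE2
  -- vanishing of sums of naturals
  have hzero : ∀ (s : Finset (IrrCharacter G)), ∑ χ ∈ s, m χ = 0 → ∀ χ ∈ s, m χ = 0 :=
    fun s hs χ hχ => (Finset.sum_eq_zero_iff.mp hs) χ hχ
  have hXcases : ∀ ζ ∈ X, ζ ≠ triv' → ζ ∈ A ∨ ζ ∈ B := by
    intro ζ hζ hne'
    rcases D.haX ζ hζ with h | h
    · exact Or.inl (mem_setA.mpr ⟨hζ, h, hne'⟩)
    · exact Or.inr (mem_setB.mpr ⟨hζ, h⟩)
  have hRzero : r = 0 → ∀ ζ : IrrCharacter G, ζ ∉ X → ζ ∉ Y → m ζ = 0 := by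
    intro hr0 ζ h1 h2
    have hζR : ζ ∈ R := mem_setR.mpr ⟨h1, h2⟩
    have := (Finset.sum_eq_zero_iff.mp hr0) ζ hζR
    rcases Nat.mul_eq_zero.mp this with h | h
    · exact h
    · exact absurd h (IsIrrCharacter.charDegree_pos ζ.2).ne'
  constructor
  · intro h0
    have hm1 : m triv' = 1 := by
      have : ((m triv' : ℕ) : ℂ) = ((1 : ℕ) : ℂ) := by rw [← hm, h0]; simp
      exact_mod_cast this
    obtain ⟨hA0, hB0, hY0⟩ :=
      (decomp_arith hpqt hq ht hDd hE1' hE2' (by omega)).1 hm1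
    intro ζ hζ hne'
    rw [hm ζ]
    rcases hζ with hζX | hζY
    · rcases hXcases ζ hζX hne' with h | h
      · rw [hzero A hA0 ζ h]; simp
      · rw [hzero B hB0 ζ h]; simp
    · rw [hzero Y hY0 ζ hζY]; simp
  · intro h0
    have hm0 : m triv' = 0 := by
      have : ((m triv' : ℕ) : ℂ) = ((0 : ℕ) : ℂ) := by rw [← hm, h0]; simp
      exact_mod_cast this
    rcases (decomp_arith hpqt hq ht hDd hE1' hE2' (by omega)).2 hm0 with
      ⟨hA1, hB0, hY0, hr0⟩ | ⟨hA0, hB0, hYt, hr0⟩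
    · left
      -- a unique member of `A` with multiplicity one
      have hex : ∃ χ₀ ∈ A, m χ₀ = 1 ∧ ∀ χ ∈ A, χ ≠ χ₀ → m χ = 0 := by
        have hpos : ∃ χ₀ ∈ A, m χ₀ ≠ 0 := by
          by_contra hcon
          push Not at hcon
          have : ∑ χ ∈ A, m χ = 0 := Finset.sum_eq_zero hcon
          omega
        obtain ⟨χ₀, hχ₀, hne0⟩ := hpos
        have hsplit : ∑ χ ∈ A, m χ = m χ₀ + ∑ χ ∈ A.erase χ₀, m χ :=
          (Finset.add_sum_erase A m hχ₀).symm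
        have h1 : m χ₀ = 1 ∧ ∑ χ ∈ A.erase χ₀, m χ = 0 := by omega
        refine ⟨χ₀, hχ₀, h1.1, ?_⟩
        intro χ hχ hne'
        exact (Finset.sum_eq_zero_iff.mp h1.2) χ (Finset.mem_erase.mpr ⟨hne', hχ⟩)
      obtain ⟨χ₀, hχ₀, hm1, hrest⟩ := hex
      obtain ⟨h1, h2, h3⟩ := mem_setA.mp hχ₀
      refine ⟨χ₀, h1, h2, h3, ?_⟩
      rw [hexp, Finset.sum_eq_single χ₀]
      · rw [hm1]; simp
      · intro ζ _ hne'
        have : m ζ = 0 := by
          by_cases hζX : ζ ∈ X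
          · by_cases hζt : ζ = triv'
            · rw [hζt]; exact hm0
            · rcases hXcases ζ hζX hζt with h | h
              · exact hrest ζ h hne'
              · exact hzero B hB0 ζ h
          · by_cases hζY : ζ ∈ Y
            · exact hzero Y hY0 ζ hζY
            · exact hRzero hr0 ζ hζX hζY
        rw [this]; simp
      · intro h; exact absurd (Finset.mem_univ χ₀) h
    · right
      refine ⟨?_, ?_, ?_⟩
      · intro χ hχ
        rw [hm χ]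
        by_cases hχt : χ = triv'
        · rw [hχt, hm0]; simp
        · rcases hXcases χ hχ hχt with h | h
          · rw [hzero A hA0 χ h]; simp
          · rw [hzero B hB0 χ h]; simp
      · rw [Finset.sum_congr rfl (fun θ _ => hm θ), ← Nat.cast_sum]
        exact_mod_cast hYt
      · intro ζ h1 h2
        rw [hm ζ, hRzero hr0 ζ h1 h2]; simp

end Cfsg.Agent.Lib.Helper1.BrauerN
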