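import Mathlib
import Cfsg.Agent.Lib.Helper33.SylIn
import Cfsg.Agent.Lib.Helper20.QuatProd

/-!
# Camina–Herzog: all 2-elements 2-central implies abelian Sylow 2-subgroups (helper1)

Elementary proof.  Hypothesis `TwoCentral G`: the centralizer of every 2-element contains a Sylow
2-subgroup.
* `sq_eq_one_of_conj_eq_inv`: a 2-element conjugate-inverted by some `g` has `v * v = 1`.
* `comm_of_invol`: two involutions whose product is a 2-element commute.
* `exists_central_sqrt`: `u ∈ R` (Sylow) with `u * u` central in `R` is a central element times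
  an involution.
* `invol_central`: involutions of a Sylow 2-subgroup are central in it.
* `sylow_comm`: Sylow 2-subgroups are abelian.
-/

set_option autoImplicit false

namespace Cfsg.Agent.Lib.Helper1.CaminaHerzog

open Cfsg.Agent.Lib.Helper33

variable {G : Type*} [Group G]

/-- `x` has order a power of two. -/
def IsTwoElt (x : G) : Prop := ∃ k : ℕ, orderOf x = 2 ^ k

/-- Every 2-element is centralized by a Sylow 2-subgroup. -/
def TwoCentral (G : Type*) [Group G] : Prop :=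
  ∀ x : G, (∃ k : ℕ, orderOf x = 2 ^ k) →
    ∃ Q : Sylow 2 G, (Q : Subgroup G) ≤ Subgroup.centralizer ({x} : Set G)

theorem isTwoElt_of_pow {x : G} {k : ℕ} (h : x ^ (2 ^ k) = 1) : IsTwoElt x := by
  have hd : orderOf x ∣ 2 ^ k := orderOf_dvd_of_pow_eq_one h
  obtain ⟨j, _, hj⟩ := (Nat.dvd_prime_pow Nat.prime_two).mp hd
  exact ⟨j, hj⟩

theorem isTwoElt_of_mem {R : Subgroup G} (hR : IsPGroup 2 R) {x : G} (hx : x ∈ R) : IsTwoElt x := by
  obtain ⟨k, hk⟩ := hR ⟨x, hx⟩
  have hk' : x ^ (2 ^ k) = 1 := by simpa using congrArg Subtype.val hk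
  exact isTwoElt_of_pow hk'

theorem isTwoElt_of_mem_sylow (R : Sylow 2 G) {x : G} (hx : x ∈ R) : IsTwoElt x :=
  isTwoElt_of_mem R.isPGroup' hx

theorem isPGroup_zpowers {x : G} (hx : IsTwoElt x) : IsPGroup 2 (Subgroup.zpowers x) := by
  obtain ⟨k, hk⟩ := hx
  rw [IsPGroup.iff_orderOf]
  rintro ⟨y, hy⟩
  obtain ⟨n, rfl⟩ := Subgroup.mem_zpowers_iff.mp hy
  have h1 : (x ^ n) ^ (2 ^ k) = 1 := by
    rw [← zpow_natCast, ← zpow_mul, mul_comm, zpow_mul, zpow_natCast, ← hk, pow_orderOf_eq_one,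
      one_zpow]
  have h2 : (⟨x ^ n, hy⟩ : Subgroup.zpowers x) ^ (2 ^ k) = 1 := by
    apply Subtype.ext
    simpa using h1
  have hd : orderOf (⟨x ^ n, hy⟩ : Subgroup.zpowers x) ∣ 2 ^ k := orderOf_dvd_of_pow_eq_one h2
  obtain ⟨j, _, hj⟩ := (Nat.dvd_prime_pow Nat.prime_two).mp hd
  exact ⟨j, hj⟩

/-- A 2-element normalizing a Sylow 2-subgroup lies in it. -/
theorem mem_sylow_of_mem_normalizer [Finite G] (Q : Sylow 2 G) {x : G} (hx : IsTwoElt x)
    (hn : x ∈ Subgroup.normalizer ((Q : Subgroup G) : Set G)) : x ∈ Q := by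
  have h := (isPGroup_zpowers hx).inf_normalizer_sylow Q
  have h1 : x ∈ Subgroup.zpowers x ⊓ (Q : Subgroup G) := by
    rw [← h]
    exact ⟨Subgroup.mem_zpowers x, hn⟩
  exact h1.2

/-- A 2-element centralized by a Sylow 2-subgroup lies in it. -/
theorem mem_sylow_of_le_centralizer [Finite G] (Q : Sylow 2 G) {x : G} (hx : IsTwoElt x)
    (hQ : (Q : Subgroup G) ≤ Subgroup.centralizer ({x} : Set G)) : x ∈ Q := by
  apply mem_sylow_of_mem_normalizer Q hx
  rw [Subgroup.mem_normalizer_iff]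
  intro q
  have key : ∀ q ∈ (Q : Subgroup G), x * q * x⁻¹ = q := by
    intro q hq
    have := Subgroup.mem_centralizer_iff.mp (hQ hq) x rfl
    rw [this]
    group
  constructor
  · intro hq
    rw [key q hq]
    exact hq
  · intro hq
    have h2 := key _ hq
    have h3 : x * q * x⁻¹ = q := by
      have : x * (x * q * x⁻¹) * x⁻¹ = x * q * x⁻¹ := h2
      have h4 : x⁻¹ * (x * (x * q * x⁻¹) * x⁻¹) * x = x⁻¹ * (x * q * x⁻¹) * x := by rw [this]
      have e1 : x⁻¹ * (x * (x * q * x⁻¹) * x⁻¹) * x = x * q * x⁻¹ := by group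
      have e2 : x⁻¹ * (x * q * x⁻¹) * x = q := by group
      rw [e1, e2] at h4
      exact h4
    rw [← h3]
    exact hq

theorem comm_of_le_centralizer {Q : Subgroup G} {x : G}
    (hQ : Q ≤ Subgroup.centralizer ({x} : Set G)) : ∀ s ∈ Q, x * s = s * x := by
  intro s hs
  exact Subgroup.mem_centralizer_iff.mp (hQ hs) x rfl

theorem conj_pow_odd {k v : G} (h : k * v * k⁻¹ = v⁻¹) (j : ℕ) :
    k ^ (2 * j + 1) * v * (k ^ (2 * j + 1))⁻¹ = v⁻¹ := by
  have h2 : k * v⁻¹ * k⁻¹ = v := by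
    calc k * v⁻¹ * k⁻¹ = (k * v * k⁻¹)⁻¹ := by group
      _ = v := by rw [h, inv_inv]
  have hev : ∀ j : ℕ, k ^ (2 * j) * v * (k ^ (2 * j))⁻¹ = v := by
    intro j
    induction j with
    | zero => simp
    | succ n ih =>
      have e : k ^ (2 * (n + 1)) = k * k * k ^ (2 * n) := by
        rw [show 2 * (n + 1) = 2 + 2 * n by ring, pow_add, pow_two]
      rw [e]
      calc k * k * k ^ (2 * n) * v * (k * k * k ^ (2 * n))⁻¹
          = k * (k * (k ^ (2 * n) * v * (k ^ (2 * n))⁻¹) * k⁻¹) * k⁻¹ := by group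
        _ = k * (k * v * k⁻¹) * k⁻¹ := by rw [ih]
        _ = k * v⁻¹ * k⁻¹ := by rw [h]
        _ = v := h2
  have e : k ^ (2 * j + 1) = k * k ^ (2 * j) := by rw [pow_succ']
  rw [e]
  calc k * k ^ (2 * j) * v * (k * k ^ (2 * j))⁻¹
      = k * (k ^ (2 * j) * v * (k ^ (2 * j))⁻¹) * k⁻¹ := by group
    _ = k * v * k⁻¹ := by rw [hev j]
    _ = v⁻¹ := h

/-- Claim 1: a 2-element inverted by conjugation is an involution (or trivial). -/
theorem sq_eq_one_of_conj_eq_inv [Finite G] (hH : TwoCentral G) {v g : G} (hv : IsTwoElt v)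
    (hg : g * v * g⁻¹ = v⁻¹) : v * v = 1 := by
  obtain ⟨Q, hQ⟩ := hH v hv
  have hx : ∀ s ∈ Q, v * s = s * v := comm_of_le_centralizer hQ
  have hy : ∀ s ∈ Q, (g * v * g⁻¹) * s = s * (g * v * g⁻¹) := by
    intro s hs
    rw [hg]
    have := hx s hs
    calc v⁻¹ * s = v⁻¹ * (s * v) * v⁻¹ := by group
      _ = v⁻¹ * (v * s) * v⁻¹ := by rw [this]
      _ = s * v⁻¹ := by group
  obtain ⟨k, hk, hkv⟩ := Cfsg.Agent.Lib.Helper20.QuatProd.burnside_center Q hx g hy
  rw [hg] at hkv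
  -- odd part of the order of k
  have hk0 : orderOf k ≠ 0 := (orderOf_pos k).ne'
  obtain ⟨a, m, hm, ham⟩ := Nat.exists_eq_two_pow_mul_odd hk0
  obtain ⟨j, rfl⟩ := hm
  have hkm2 : IsTwoElt (k ^ (2 * j + 1)) := by
    apply isTwoElt_of_pow (k := a)
    rw [← pow_mul, mul_comm, ← ham, pow_orderOf_eq_one]
  have hkmN : k ^ (2 * j + 1) ∈ Subgroup.normalizer ((Q : Subgroup G) : Set G) :=
    Subgroup.pow_mem _ hk _
  have hkmQ : k ^ (2 * j + 1) ∈ Q := mem_sylow_of_mem_normalizer Q hkm2 hkmN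
  have h1 := conj_pow_odd hkv j
  have h2 := hx _ hkmQ
  have h3 : k ^ (2 * j + 1) * v * (k ^ (2 * j + 1))⁻¹ = v := by
    rw [← h2]
    group
  rw [h3] at h1
  calc v * v = v * v⁻¹ := by rw [← h1]
    _ = 1 := mul_inv_cancel v

/-- Claim 2: two involutions whose product is a 2-element commute. -/
theorem comm_of_invol [Finite G] (hH : TwoCentral G) {x y : G} (hx : x * x = 1) (hy : y * y = 1)
    (hxy : IsTwoElt (x * y)) : x * y = y * x := by
  have hxi : x⁻¹ = x := inv_eq_of_mul_eq_one_left hx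
  have hyi : y⁻¹ = y := inv_eq_of_mul_eq_one_left hy
  have hg : x * (x * y) * x⁻¹ = (x * y)⁻¹ := by
    rw [mul_inv_rev, hxi, hyi, ← mul_assoc, hx, one_mul]
  have h := sq_eq_one_of_conj_eq_inv hH hxy hg
  calc x * y = x * y * (x * y * (x * y))⁻¹ := by rw [h]; group
    _ = (x * y)⁻¹ := by group
    _ = y * x := by rw [mul_inv_rev, hxi, hyi]

/-- Claims 3 and 4: an element of a Sylow 2-subgroup with central square is a central element
times an involution. -/
theorem exists_central_sqrt [Finite G] (hH : TwoCentral G) (R : Sylow 2 G) {u : G} (hu : u ∈ R)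
    (hc : ∀ r ∈ R, (u * u) * r = r * (u * u)) :
    ∃ w ∈ R, (∀ r ∈ R, w * r = r * w) ∧ (u * w⁻¹) * (u * w⁻¹) = 1 := by
  have hu2 : IsTwoElt u := isTwoElt_of_mem_sylow R hu
  obtain ⟨Q, hQ⟩ := hH u hu2
  have huQ : u ∈ Q := mem_sylow_of_le_centralizer Q hu2 hQ
  have hQc : ∀ s ∈ Q, u * s = s * u := comm_of_le_centralizer hQ
  obtain ⟨g, -, hgQ⟩ := (sylIn_top R).exists_cj_eq (sylIn_top Q)
  -- z = g u g⁻¹ is central in R
  set z := g * u * g⁻¹ with hz
  have hzR : z ∈ (R : Subgroup G) := by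
    rw [← hgQ]
    exact conj_mem_cj huQ
  have hzc : ∀ r ∈ R, z * r = r * z := by
    intro r hr
    have hr' : g⁻¹ * r * g ∈ (Q : Subgroup G) := by
      have : r ∈ cj g (Q : Subgroup G) := by rw [hgQ]; exact hr
      exact mem_cj.mp this
    have := hQc _ hr'
    calc z * r = g * (u * (g⁻¹ * r * g)) * g⁻¹ := by rw [hz]; group
      _ = g * ((g⁻¹ * r * g) * u) * g⁻¹ := by rw [this]
      _ = r * z := by rw [hz]; group
  have hzz : g * (u * u) * g⁻¹ = z * z := by rw [hz]; group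
  have hy : ∀ s ∈ R, (g * (u * u) * g⁻¹) * s = s * (g * (u * u) * g⁻¹) := by
    intro s hs
    rw [hzz, mul_assoc, hzc s hs, ← mul_assoc, hzc s hs, mul_assoc]
  obtain ⟨k, hk, hkv⟩ := Cfsg.Agent.Lib.Helper20.QuatProd.burnside_center R hc g hy
  rw [hzz] at hkv
  have hkinv : k⁻¹ ∈ Subgroup.normalizer ((R : Subgroup G) : Set G) := Subgroup.inv_mem _ hk
  set w := k⁻¹ * z * k with hw
  have hwR : w ∈ (R : Subgroup G) := by
    have := (Subgroup.mem_normalizer_iff.mp hkinv z).mp hzR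
    rw [inv_inv] at this
    exact this
  have hwc : ∀ r ∈ R, w * r = r * w := by
    intro r hr
    have hr' : k * r * k⁻¹ ∈ (R : Subgroup G) := (Subgroup.mem_normalizer_iff.mp hk r).mp hr
    have := hzc _ hr'
    calc w * r = k⁻¹ * (z * (k * r * k⁻¹)) * k := by rw [hw]; group
      _ = k⁻¹ * ((k * r * k⁻¹) * z) * k := by rw [this]
      _ = r * w := by rw [hw]; group
  have hww : w * w = u * u := by
    calc w * w = k⁻¹ * (z * z) * k := by rw [hw]; group
      _ = k⁻¹ * (k * (u * u) * k⁻¹) * k := by rw [hkv]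
      _ = u * u := by group
  refine ⟨w, hwR, hwc, ?_⟩
  have hwu : w * u = u * w := hwc u hu
  have hwiu : w⁻¹ * u = u * w⁻¹ := by
    calc w⁻¹ * u = w⁻¹ * (u * w) * w⁻¹ := by group
      _ = w⁻¹ * (w * u) * w⁻¹ := by rw [hwu]
      _ = u * w⁻¹ := by group
  calc u * w⁻¹ * (u * w⁻¹) = u * (w⁻¹ * u) * w⁻¹ := by group
    _ = u * (u * w⁻¹) * w⁻¹ := by rw [hwiu]
    _ = (u * u) * (w * w)⁻¹ := by group
    _ = 1 := by rw [hww, mul_inv_cancel]

/-- Key step: if `x ∈ Q` (Sylow) has `x * x` central in `Q`, then `x` commutes with every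
involution of `Q`. -/
theorem comm_invol_of_sq_central [Finite G] (hH : TwoCentral G) (Q : Sylow 2 G) {x e : G}
    (hx : x ∈ Q) (hc : ∀ r ∈ Q, (x * x) * r = r * (x * x)) (he : e ∈ Q) (hee : e * e = 1) :
    x * e = e * x := by
  obtain ⟨w, hwQ, hwc, ht⟩ := exists_central_sqrt hH Q hx hc
  set t := x * w⁻¹ with htdef
  have htQ : t ∈ (Q : Subgroup G) := Subgroup.mul_mem _ hx (Subgroup.inv_mem _ hwQ)
  have hte : t * e = e * t :=
    comm_of_invol hH ht hee (isTwoElt_of_mem_sylow Q (Subgroup.mul_mem _ htQ he))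
  have hxt : x = t * w := by rw [htdef]; group
  have hwe : w * e = e * w := hwc e he
  calc x * e = t * (w * e) := by rw [hxt]; group
    _ = t * (e * w) := by rw [hwe]
    _ = (t * e) * w := by group
    _ = (e * t) * w := by rw [hte]
    _ = e * x := by rw [hxt]; group

/-- Claims 5 and 6: involutions of a Sylow 2-subgroup are central in it. -/
theorem invol_central [Finite G] (hH : TwoCentral G) (P : Sylow 2 G) :
    ∀ k : ℕ, ∀ x ∈ P, x ^ (2 ^ k) = 1 → ∀ e ∈ P, e * e = 1 → x * e = e * x := by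
  intro k
  induction k with
  | zero =>
    intro x _ hx1 e _ _
    rw [pow_zero, pow_one] at hx1
    rw [hx1, one_mul, mul_one]
  | succ n ih =>
    intro x hxP hx1 e heP hee
    have hxxP : x * x ∈ (P : Subgroup G) := Subgroup.mul_mem _ hxP hxP
    have hxx1 : (x * x) ^ (2 ^ n) = 1 := by
      rw [← pow_two, ← pow_mul, ← pow_succ']
      exact hx1
    have hIH := ih (x * x) hxxP hxx1
    have hxx2 : IsTwoElt (x * x) := isTwoElt_of_mem_sylow P hxxP
    obtain ⟨Q, hQ⟩ := hH (x * x) hxx2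
    set H := Subgroup.centralizer ({x * x} : Set G) with hHdef
    have hQH : SylIn 2 (Q : Subgroup G) H := sylIn_of_sylow_le Q hQ
    have hD : (P : Subgroup G) ⊓ H ≤ H := inf_le_right
    have hDp : IsPGroup 2 ((P : Subgroup G) ⊓ H : Subgroup G) := P.isPGroup'.to_le inf_le_left
    obtain ⟨h, hhH, hle⟩ := hQH.exists_cj_le hD hDp
    have hxD : x ∈ (P : Subgroup G) ⊓ H := by
      refine Subgroup.mem_inf.mpr ⟨hxP, ?_⟩
      rw [hHdef, Subgroup.mem_centralizer_iff]
      rintro _ rfl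
      group
    have heD : e ∈ (P : Subgroup G) ⊓ H := by
      refine Subgroup.mem_inf.mpr ⟨heP, ?_⟩
      rw [hHdef, Subgroup.mem_centralizer_iff]
      rintro _ rfl
      exact hIH e heP hee
    have hx' : h * x * h⁻¹ ∈ (Q : Subgroup G) := hle (conj_mem_cj hxD)
    have he' : h * e * h⁻¹ ∈ (Q : Subgroup G) := hle (conj_mem_cj heD)
    have hhc : (x * x) * h = h * (x * x) := by
      rw [hHdef, Subgroup.mem_centralizer_iff] at hhH
      exact hhH _ rfl
    have hsq : (h * x * h⁻¹) * (h * x * h⁻¹) = x * x := by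
      calc (h * x * h⁻¹) * (h * x * h⁻¹) = h * (x * x) * h⁻¹ := by group
        _ = (x * x) * h * h⁻¹ := by rw [hhc]
        _ = x * x := by group
    have hc : ∀ r ∈ Q, ((h * x * h⁻¹) * (h * x * h⁻¹)) * r = r * ((h * x * h⁻¹) * (h * x * h⁻¹)) := by
      intro r hr
      rw [hsq]
      exact comm_of_le_centralizer hQ r hr
    have hee' : (h * e * h⁻¹) * (h * e * h⁻¹) = 1 := by
      calc (h * e * h⁻¹) * (h * e * h⁻¹) = h * (e * e) * h⁻¹ := by group
        _ = 1 := by rw [hee]; group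
    have key := comm_invol_of_sq_central hH Q hx' hc he' hee'
    calc x * e = h⁻¹ * ((h * x * h⁻¹) * (h * e * h⁻¹)) * h := by group
      _ = h⁻¹ * ((h * e * h⁻¹) * (h * x * h⁻¹)) * h := by rw [key]
      _ = e * x := by group

theorem invol_central' [Finite G] (hH : TwoCentral G) (P : Sylow 2 G) {x e : G} (hx : x ∈ P)
    (he : e ∈ P) (hee : e * e = 1) : x * e = e * x := by
  obtain ⟨k, hk⟩ := P.isPGroup' ⟨x, hx⟩
  have hk' : x ^ (2 ^ k) = 1 := by simpa using congrArg Subtype.val hk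
  exact invol_central hH P k x hx hk' e he hee

/-- Claim 7: Sylow 2-subgroups are abelian. -/
theorem sylow_central [Finite G] (hH : TwoCentral G) (P : Sylow 2 G) :
    ∀ k : ℕ, ∀ x ∈ P, x ^ (2 ^ k) = 1 → ∀ y ∈ P, x * y = y * x := by
  intro k
  induction k with
  | zero =>
    intro x _ hx1 y _
    rw [pow_zero, pow_one] at hx1
    rw [hx1, one_mul, mul_one]
  | succ n ih =>
    intro x hxP hx1 y hyP
    have hxxP : x * x ∈ (P : Subgroup G) := Subgroup.mul_mem _ hxP hxP
    have hxx1 : (x * x) ^ (2 ^ n) = 1 := by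
      rw [← pow_two, ← pow_mul, ← pow_succ']
      exact hx1
    have hc : ∀ r ∈ P, (x * x) * r = r * (x * x) := ih (x * x) hxxP hxx1
    obtain ⟨w, hwP, hwc, ht⟩ := exists_central_sqrt hH P hxP hc
    set t := x * w⁻¹ with htdef
    have htP : t ∈ (P : Subgroup G) := Subgroup.mul_mem _ hxP (Subgroup.inv_mem _ hwP)
    have hty : y * t = t * y := invol_central' hH P hyP htP ht
    have hxt : x = t * w := by rw [htdef]; group
    have hwy : w * y = y * w := hwc y hyP
    calc x * y = t * (w * y) := by rw [hxt]; group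
      _ = t * (y * w) := by rw [hwy]
      _ = (t * y) * w := by group
      _ = (y * t) * w := by rw [hty]
      _ = y * x := by rw [hxt]; group

/-- **Camina–Herzog**: if every 2-element is centralized by a Sylow 2-subgroup, then the Sylow
2-subgroups are abelian. -/
theorem sylow_comm [Finite G] (hH : TwoCentral G) (P : Sylow 2 G) :
    ∀ x ∈ P, ∀ y ∈ P, x * y = y * x := by
  intro x hx y hy
  obtain ⟨k, hk⟩ := P.isPGroup' ⟨x, hx⟩
  have hk' : x ^ (2 ^ k) = 1 := by simpa using congrArg Subtype.val hk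
  exact sylow_central hH P k x hx hk' y hy

/-- A subgroup of odd index contains a Sylow 2-subgroup. -/
theorem exists_sylow_le_of_not_dvd_index [Finite G] (H : Subgroup G) (h : ¬ 2 ∣ H.index) :
    ∃ Q : Sylow 2 G, (Q : Subgroup G) ≤ H := by
  obtain S : Sylow 2 H := Classical.arbitrary _
  have h1 : SylIn 2 ((S : Subgroup H).map H.subtype) H := sylIn_of_sylow S
  have h2 : SylIn 2 ((S : Subgroup H).map H.subtype) ⊤ := by
    refine ⟨le_top, h1.isPGroup, ?_⟩
    rw [Subgroup.relIndex_top_right, ← Subgroup.relIndex_mul_index h1.le]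
    intro hd
    rcases (Nat.Prime.dvd_mul Nat.prime_two).mp hd with hd | hd
    · exact h1.not_dvd hd
    · exact h hd
  refine ⟨h2.toSylowTop, ?_⟩
  rw [h2.coe_toSylowTop]
  exact h1.le

theorem twoCentral_of_odd_index [Finite G]
    (h : ∀ x : G, (∃ k : ℕ, orderOf x = 2 ^ k) →
      ¬ 2 ∣ (Subgroup.centralizer ({x} : Set G)).index) : TwoCentral G := by
  intro x hx
  exact exists_sylow_le_of_not_dvd_index _ (h x hx)

/-- Converse direction: abelian Sylow 2-subgroups make every 2-element 2-central. -/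
theorem twoCentral_of_comm [Finite G] (P : Sylow 2 G)
    (hP : ∀ x ∈ P, ∀ y ∈ P, x * y = y * x) : TwoCentral G := by
  intro x hx
  obtain ⟨Q, hQ⟩ := (isPGroup_zpowers hx).exists_le_sylow
  have hxQ : x ∈ Q := hQ (Subgroup.mem_zpowers x)
  obtain ⟨g, -, hgQ⟩ := (sylIn_top P).exists_cj_eq (sylIn_top Q)
  refine ⟨Q, ?_⟩
  intro q hq
  rw [Subgroup.mem_centralizer_iff]
  intro y hy
  rw [Set.mem_singleton_iff.mp hy]
  have hx' : g * x * g⁻¹ ∈ (P : Subgroup G) := by rw [← hgQ]; exact conj_mem_cj hxQ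
  have hq' : g * q * g⁻¹ ∈ (P : Subgroup G) := by rw [← hgQ]; exact conj_mem_cj hq
  have := hP _ hx' _ hq'
  calc x * q = g⁻¹ * ((g * x * g⁻¹) * (g * q * g⁻¹)) * g := by group
    _ = g⁻¹ * ((g * q * g⁻¹) * (g * x * g⁻¹)) * g := by rw [this]
    _ = q * x := by group

end Cfsg.Agent.Lib.Helper1.CaminaHerzog
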