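import Mathlib

/-!
General lemmas on complements, conjugation and passage to quotients / subgroups.
-/

set_option autoImplicit false

namespace Cfsg.Agent.Lib.Helper1

open Pointwise

variable {G : Type*} [Group G]

theorem card_conj_smul (g : G) (H : Subgroup G) :
    Nat.card (MulAut.conj g • H : Subgroup G) = Nat.card H :=
  (Nat.card_congr (Subgroup.equivSMul (MulAut.conj g) H).toEquiv).symm

theorem map_conj_smul {G' : Type*} [Group G'] (f : G →* G') (g : G) (H : Subgroup G) :
    (MulAut.conj g • H).map f = MulAut.conj (f g) • H.map f := by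
  ext y
  constructor
  · rintro ⟨x, hx, rfl⟩
    obtain ⟨h, hh, rfl⟩ := (Subgroup.mem_smul_pointwise_iff_exists _ _ _).mp hx
    exact (Subgroup.mem_smul_pointwise_iff_exists _ _ _).mpr
      ⟨f h, Subgroup.mem_map_of_mem f hh, by simp [MulAut.smul_def]⟩
  · intro hy
    obtain ⟨z, ⟨h, hh, rfl⟩, rfl⟩ := (Subgroup.mem_smul_pointwise_iff_exists _ _ _).mp hy
    exact ⟨MulAut.conj g • h, Subgroup.smul_mem_pointwise_smul _ _ _ hh, by simp [MulAut.smul_def]⟩

theorem conj_smul_conj_smul (g h : G) (H : Subgroup G) :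
    MulAut.conj g • MulAut.conj h • H = MulAut.conj (g * h) • H := by
  rw [← mul_smul, ← map_mul]

/-- The image of a complement of a normal subgroup under a surjection, coprime case. -/
theorem isComplement'_map_of_coprime {G' : Type*} [Group G'] (f : G →* G')
    (hf : Function.Surjective f) {N H : Subgroup G}
    (h : Subgroup.IsComplement' N H) (hcop : (Nat.card N).Coprime (Nat.card H)) :
    Subgroup.IsComplement' (N.map f) (H.map f) := by
  apply Subgroup.isComplement'_of_disjoint_and_mul_eq_univ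
  · apply Subgroup.disjoint_of_coprime_natCard
    exact Nat.Coprime.coprime_dvd_left (Subgroup.card_map_dvd N f)
      (Nat.Coprime.coprime_dvd_right (Subgroup.card_map_dvd H f) hcop)
  · rw [Set.eq_univ_iff_forall]
    intro y
    obtain ⟨x, rfl⟩ := hf y
    obtain ⟨⟨n, k⟩, rfl⟩ := h.2 x
    refine Set.mem_mul.mpr ⟨f n, Subgroup.mem_map_of_mem f n.2, f k, Subgroup.mem_map_of_mem f k.2, ?_⟩
    simp

theorem coprime_card_map {G' : Type*} [Group G'] (f : G →* G') {N H : Subgroup G}
    (hcop : (Nat.card N).Coprime (Nat.card H)) :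
    (Nat.card (N.map f)).Coprime (Nat.card (H.map f)) :=
  Nat.Coprime.coprime_dvd_left (Subgroup.card_map_dvd N f)
    (Nat.Coprime.coprime_dvd_right (Subgroup.card_map_dvd H f) hcop)

/-- Restricting a complement pair to an intermediate subgroup containing the left factor. -/
theorem isComplement'_subgroupOf_of_le_left {A B L : Subgroup G}
    (h : Subgroup.IsComplement' A B) (hA : A ≤ L) :
    Subgroup.IsComplement' (A.subgroupOf L) (B.subgroupOf L) := by
  apply Subgroup.isComplement'_of_disjoint_and_mul_eq_univ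
  · rw [disjoint_iff, eq_bot_iff]
    rintro ⟨x, hxL⟩ hx
    rw [Subgroup.mem_inf] at hx
    obtain ⟨hxA, hxB⟩ := hx
    rw [Subgroup.mem_subgroupOf] at hxA hxB
    have : x ∈ A ⊓ B := ⟨hxA, hxB⟩
    rw [h.disjoint.eq_bot, Subgroup.mem_bot] at this
    rw [Subgroup.mem_bot]
    exact Subtype.ext this
  · rw [Set.eq_univ_iff_forall]
    rintro ⟨l, hl⟩
    obtain ⟨⟨a, b⟩, hab⟩ := h.2 l
    have hab' : (a : G) * (b : G) = l := hab
    have hbL : (b : G) ∈ L := by
      have : (b : G) = (a : G)⁻¹ * l := by rw [← hab', inv_mul_cancel_left]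
      rw [this]
      exact L.mul_mem (L.inv_mem (hA a.2)) hl
    refine Set.mem_mul.mpr ⟨⟨a, hA a.2⟩, ?_, ⟨b, hbL⟩, ?_, ?_⟩
    · exact Subgroup.mem_subgroupOf.mpr a.2
    · exact Subgroup.mem_subgroupOf.mpr b.2
    · exact Subtype.ext hab'

theorem isComplement'_subgroupOf_of_le_right {A B L : Subgroup G}
    (h : Subgroup.IsComplement' A B) (hB : B ≤ L) :
    Subgroup.IsComplement' (A.subgroupOf L) (B.subgroupOf L) :=
  (isComplement'_subgroupOf_of_le_left h.symm hB).symm

/-- Conjugating a complement of a normal subgroup gives a complement. -/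
theorem isComplement'_conj_smul {N H : Subgroup G} [hN : N.Normal]
    (h : Subgroup.IsComplement' N H) (g : G) : Subgroup.IsComplement' N (MulAut.conj g • H) := by
  apply Subgroup.isComplement'_of_disjoint_and_mul_eq_univ
  · rw [disjoint_iff, eq_bot_iff]
    intro x hx
    rw [Subgroup.mem_inf] at hx
    obtain ⟨hxN, hxH⟩ := hx
    rw [Subgroup.mem_pointwise_smul_iff_inv_smul_mem] at hxH
    have hxN' : (MulAut.conj g)⁻¹ • x ∈ N := by
      rw [← map_inv, MulAut.smul_def, MulAut.conj_apply]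
      exact hN.conj_mem x hxN g⁻¹
    have : (MulAut.conj g)⁻¹ • x ∈ N ⊓ H := ⟨hxN', hxH⟩
    rw [h.disjoint.eq_bot, Subgroup.mem_bot] at this
    rw [Subgroup.mem_bot]
    exact (smul_eq_iff_eq_inv_smul _).mp this |>.trans (by simp)
  · rw [Set.eq_univ_iff_forall]
    intro y
    obtain ⟨⟨n, k⟩, hnk⟩ := h.2 (g⁻¹ * y * g)
    have hnk' : (n : G) * (k : G) = g⁻¹ * y * g := hnk
    refine Set.mem_mul.mpr ⟨g * n * g⁻¹, hN.conj_mem n n.2 g, g * k * g⁻¹, ?_, ?_⟩
    · rw [SetLike.mem_coe, Subgroup.mem_pointwise_smul_iff_inv_smul_mem, ← map_inv,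
        MulAut.smul_def, MulAut.conj_apply]
      simp [mul_assoc]
    · calc g * n * g⁻¹ * (g * k * g⁻¹) = g * ((n : G) * (k : G)) * g⁻¹ := by group
        _ = y := by rw [hnk']; group

/-- Lifting a conjugacy from a quotient. -/
theorem sup_eq_sup_of_map_conj_eq {M : Subgroup G} [M.Normal] (H K : Subgroup G) (g : G)
    (h : MulAut.conj (QuotientGroup.mk' M g) • H.map (QuotientGroup.mk' M) =
      K.map (QuotientGroup.mk' M)) : (MulAut.conj g • H) ⊔ M = K ⊔ M := by
  rw [← map_conj_smul] at h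
  have := congrArg (Subgroup.comap (QuotientGroup.mk' M)) h
  rwa [Subgroup.comap_map_eq, Subgroup.comap_map_eq, QuotientGroup.ker_mk'] at this

/-- Conjugacy inside a subgroup gives conjugacy in the group. -/
theorem conj_smul_eq_of_subgroupOf {L H K : Subgroup G} (hH : H ≤ L) (hK : K ≤ L) (l : L)
    (h : MulAut.conj l • H.subgroupOf L = K.subgroupOf L) : MulAut.conj (l : G) • H = K := by
  rw [Subgroup.conj_smul_subgroupOf hH] at h
  have h2 := congrArg (Subgroup.map L.subtype) h
  rw [Subgroup.subgroupOf_map_subtype, Subgroup.subgroupOf_map_subtype, inf_of_le_left hK,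
    inf_of_le_left] at h2
  · exact h2
  · exact Subgroup.conj_smul_le_of_le hH l

/-- `K` and normal `M` of coprime orders are complements in `K ⊔ M`. -/
theorem isComplement'_subgroupOf_sup {M K L : Subgroup G} [M.Normal]
    (hcop : (Nat.card M).Coprime (Nat.card K)) (hL : L = K ⊔ M) :
    Subgroup.IsComplement' (M.subgroupOf L) (K.subgroupOf L) := by
  subst hL
  apply Subgroup.isComplement'_of_disjoint_and_mul_eq_univ
  · rw [disjoint_iff, eq_bot_iff]
    rintro ⟨x, hxL⟩ hx
    rw [Subgroup.mem_inf] at hx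
    obtain ⟨hxA, hxB⟩ := hx
    rw [Subgroup.mem_subgroupOf] at hxA hxB
    have : x ∈ M ⊓ K := ⟨hxA, hxB⟩
    rw [(Subgroup.disjoint_of_coprime_natCard hcop).eq_bot, Subgroup.mem_bot] at this
    rw [Subgroup.mem_bot]
    exact Subtype.ext this
  · rw [Set.eq_univ_iff_forall]
    rintro ⟨l, hl⟩
    have hl' : l ∈ ((M ⊔ K : Subgroup G) : Set G) := by rw [sup_comm]; exact hl
    rw [Subgroup.normal_mul] at hl'
    obtain ⟨m, hm, k, hk, hmk⟩ := Set.mem_mul.mp hl'
    refine Set.mem_mul.mpr ⟨⟨m, ?_⟩, ?_, ⟨k, ?_⟩, ?_, ?_⟩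
    · exact (le_sup_right : M ≤ K ⊔ M) hm
    · exact Subgroup.mem_subgroupOf.mpr hm
    · exact (le_sup_left : K ≤ K ⊔ M) hk
    · exact Subgroup.mem_subgroupOf.mpr hk
    · exact Subtype.ext hmk

theorem card_subgroupOf_of_le {H L : Subgroup G} (h : H ≤ L) :
    Nat.card (H.subgroupOf L) = Nat.card H :=
  Nat.card_congr (Subgroup.subgroupOfEquivOfLe h).toEquiv

theorem card_subgroupOf_dvd (H L : Subgroup G) :
    Nat.card (H.subgroupOf L) ∣ Nat.card H := by
  have : Nat.card (H.subgroupOf L) = Nat.card (H ⊓ L : Subgroup G) := by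
    rw [← Subgroup.subgroupOf_map_subtype H L]
    exact (Subgroup.card_map_of_injective L.subtype_injective).symm
  rw [this]
  exact Subgroup.card_dvd_of_le inf_le_left

end Cfsg.Agent.Lib.Helper1
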