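import Mathlib
import Cfsg.Prelude.Def_Solvable

/-!
Basic facts about the `p`-core, `p'`-core and Fitting subgroup of `Cfsg.Prelude.Def_Solvable`.
-/

set_option autoImplicit false

namespace Cfsg.Agent.Lib.Helper1

open Cfsg

variable {G : Type*} [Group G]

/-- A general principle: the join of an automorphism-invariant family of subgroups is
characteristic. -/
theorem characteristic_sSup_of_forall_map_mem (S : Set (Subgroup G))
    (h : ∀ (φ : G ≃* G) (N : Subgroup G), N ∈ S → N.map φ.toMonoidHom ∈ S) :
    (sSup S).Characteristic := by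
  rw [Subgroup.characteristic_iff_map_le]
  intro φ
  rw [Subgroup.map_le_iff_le_comap]
  refine sSup_le fun N hN => ?_
  rw [← Subgroup.map_le_iff_le_comap]
  exact le_sSup (h φ N hN)

instance pCore_characteristic (p : ℕ) : (pCore p G).Characteristic := by
  apply characteristic_sSup_of_forall_map_mem
  rintro φ N ⟨hN, hp⟩
  refine ⟨?_, ?_⟩
  · exact hN.map _ φ.surjective
  · exact hp.map _

instance pPrimeCore_characteristic (p : ℕ) : (pPrimeCore p G).Characteristic := by
  apply characteristic_sSup_of_forall_map_mem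
  rintro φ N ⟨hN, hp⟩
  refine ⟨hN.map _ φ.surjective, ?_⟩
  have : Nat.card (N.map φ.toMonoidHom) = Nat.card N :=
    Subgroup.card_map_of_injective (f := φ.toMonoidHom) φ.injective
  rwa [this]

instance fittingSubgroup_characteristic : (fittingSubgroup G).Characteristic := by
  apply characteristic_sSup_of_forall_map_mem
  rintro φ N ⟨hN, hp⟩
  refine ⟨hN.map _ φ.surjective, ?_⟩
  have e : N ≃* N.map φ.toMonoidHom := N.equivMapOfInjective _ φ.injective
  exact (Group.isNilpotent_congr e).mp hp

theorem pCore_normal (p : ℕ) : (pCore p G).Normal := inferInstance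
theorem pPrimeCore_normal (p : ℕ) : (pPrimeCore p G).Normal := inferInstance
theorem fittingSubgroup_normal : (fittingSubgroup G).Normal := inferInstance

theorem pCore_isPGroup (p : ℕ) : IsPGroup p (pCore p G) :=
  Sylow.sSup_of_normal _ (fun _ h => h.2) (fun _ h => h.1)

theorem le_pCore {p : ℕ} {N : Subgroup G} (hN : N.Normal) (hp : IsPGroup p N) : N ≤ pCore p G :=
  le_sSup ⟨hN, hp⟩

theorem le_pPrimeCore {p : ℕ} {N : Subgroup G} (hN : N.Normal) (hp : (Nat.card N).Coprime p) :
    N ≤ pPrimeCore p G :=
  le_sSup ⟨hN, hp⟩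

theorem le_fittingSubgroup {N : Subgroup G} (hN : N.Normal) (hp : Group.IsNilpotent N) :
    N ≤ fittingSubgroup G :=
  le_sSup ⟨hN, hp⟩

theorem pCore_le_sylow (p : ℕ) (P : Sylow p G) : pCore p G ≤ P :=
  (pCore_isPGroup p).le_sylow_of_normal P

end Cfsg.Agent.Lib.Helper1
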