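import Mathlib
import Cfsg.Prelude.Def_Solvable
import Cfsg.Agent.Lib.Helper1.PCore

/-!
The Fitting subgroup of a finite group: it is the join of the `p`-cores and it is nilpotent.
Also: orders of joins of normal subgroups.
-/

set_option autoImplicit false

namespace Cfsg.Agent.Lib.Helper1

open Cfsg

variable {G : Type*} [Group G]

/-- `|H ⊔ K|` divides `|H| * |K|` when `H` is normal. -/
theorem card_sup_dvd_mul_of_normal_left [Finite G] (H K : Subgroup G) [H.Normal] :
    Nat.card (H ⊔ K : Subgroup G) ∣ Nat.card H * Nat.card K := by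
  have h1 : H.relIndex (H ⊔ K) = H.relIndex K := Subgroup.relIndex_sup_left K H
  have h2 : H.relIndex (H ⊔ K) * Nat.card H = Nat.card (H ⊔ K : Subgroup G) := by
    have := Subgroup.relIndex_mul_relIndex ⊥ H (H ⊔ K) bot_le le_sup_left
    rw [Subgroup.relIndex_bot_left, Subgroup.relIndex_bot_left] at this
    rw [mul_comm]; exact this
  rw [← h2, h1, mul_comm]
  exact Nat.mul_dvd_mul_left _ (Subgroup.relIndex_dvd_card H K)

/-- In a finite complete lattice, a predicate that holds for `⊥` and is closed under binary joins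
passes to arbitrary joins. -/
theorem sSup_induction_of_finite {α : Type*} [CompleteLattice α] [Finite α] (P : α → Prop)
    (hbot : P ⊥) (hsup : ∀ a b, P a → P b → P (a ⊔ b)) (S : Set α) (hS : ∀ a ∈ S, P a) :
    P (sSup S) := by
  classical
  have hfin : S.Finite := Set.toFinite S
  have : sSup S = hfin.toFinset.sup id := by
    rw [Finset.sup_id_eq_sSup]; simp
  rw [this]
  apply Finset.sup_induction hbot (fun a ha b hb => hsup a b ha hb)
  intro b hb
  exact hS b (by simpa using hb)

/-- The join of normal subgroups of order coprime to `n` is normal of order coprime to `n`. -/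
theorem normal_and_coprime_card_sSup [Finite G] (n : ℕ) (S : Set (Subgroup G))
    (hS : ∀ N ∈ S, N.Normal ∧ (Nat.card N).Coprime n) :
    (sSup S).Normal ∧ (Nat.card (sSup S : Subgroup G)).Coprime n := by
  apply sSup_induction_of_finite (fun N : Subgroup G => N.Normal ∧ (Nat.card N).Coprime n)
  · refine ⟨inferInstance, ?_⟩
    simp
  · rintro a b ⟨ha, ha'⟩ ⟨hb, hb'⟩
    refine ⟨inferInstance, ?_⟩
    exact Nat.Coprime.coprime_dvd_left (card_sup_dvd_mul_of_normal_left a b)
      (Nat.Coprime.mul_left ha' hb')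
  · exact hS

theorem pPrimeCore_card_coprime [Finite G] (p : ℕ) : (Nat.card (pPrimeCore p G)).Coprime p :=
  (normal_and_coprime_card_sSup p _ (fun _ h => h)).2

/-- In a finite group, a family of Sylow subgroups, one for each prime, generates the group. -/
theorem iSup_sylow_eq_top [Finite G] (P : ∀ p : Nat.Primes, Sylow (p : ℕ) G) :
    (⨆ p : Nat.Primes, (P p : Subgroup G)) = ⊤ := by
  rw [← Subgroup.index_eq_one]
  by_contra hne
  obtain ⟨q, hq, hdvd⟩ := Nat.exists_prime_and_dvd hne
  have : Fact q.Prime := ⟨hq⟩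
  have hle : (P ⟨q, hq⟩ : Subgroup G) ≤ ⨆ p : Nat.Primes, (P p : Subgroup G) :=
    le_iSup (fun p : Nat.Primes => (P p : Subgroup G)) ⟨q, hq⟩
  exact (P ⟨q, hq⟩).not_dvd_index (hdvd.trans (Subgroup.index_dvd_of_le hle))

/-- A normal nilpotent subgroup of a finite group lies in the join of the `p`-cores. -/
theorem le_iSup_pCore_of_normal_of_isNilpotent [Finite G] (N : Subgroup G) (hN : N.Normal)
    (hnil : Group.IsNilpotent N) : N ≤ ⨆ p : Nat.Primes, pCore (p : ℕ) G := by
  let P : ∀ p : Nat.Primes, Sylow (p : ℕ) N := fun p => Classical.arbitrary _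
  have htop := iSup_sylow_eq_top P
  have : N = (⨆ p : Nat.Primes, (P p : Subgroup N)).map N.subtype := by
    rw [htop, ← MonoidHom.range_eq_map, Subgroup.range_subtype]
  rw [this, Subgroup.map_iSup]
  refine iSup_mono fun p => ?_
  have : Fact (p : ℕ).Prime := ⟨p.2⟩
  have hnorm : (P p : Subgroup N).Normal := inferInstance
  have hchar : (P p : Subgroup N).Characteristic := (P p).characteristic_of_normal hnorm
  have hnormG : ((P p : Subgroup N).map N.subtype).Normal :=
    ConjAct.normal_of_characteristic_of_normal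
  apply le_pCore hnormG
  exact (P p).isPGroup'.map _

/-- The Fitting subgroup of a finite group is the join of its `p`-cores. -/
theorem fittingSubgroup_eq_iSup_pCore [Finite G] :
    fittingSubgroup G = ⨆ p : Nat.Primes, pCore (p : ℕ) G := by
  apply le_antisymm
  · apply sSup_le
    rintro N ⟨hN, hnil⟩
    exact le_iSup_pCore_of_normal_of_isNilpotent N hN hnil
  · refine iSup_le fun p => ?_
    have : Fact (p : ℕ).Prime := ⟨p.2⟩
    exact le_fittingSubgroup (pCore_normal _) (pCore_isPGroup (p : ℕ)).isNilpotent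

end Cfsg.Agent.Lib.Helper1

namespace Cfsg.Agent.Lib.Helper1

open Cfsg

variable {G : Type*} [Group G]

/-- A normal `p`-subgroup whose index is prime to `p` is the unique Sylow `p`-subgroup. -/
theorem sylow_eq_of_normal_of_not_dvd_index {p : ℕ} [Fact p.Prime] (Q : Subgroup G) [Q.Normal]
    (hQ : IsPGroup p Q) (hidx : ¬ p ∣ Q.index) (P : Sylow p G) : (P : Subgroup G) = Q := by
  have h1 : Q ≤ P := hQ.le_sylow_of_normal P
  have := (hQ.toSylow hidx).is_maximal' P.isPGroup' h1
  exact this

/-- Every Sylow subgroup of the join of the `p`-cores is normal in it. -/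
theorem fittingSubgroup_isNilpotent [Finite G] : Group.IsNilpotent (fittingSubgroup G) := by
  have q := (Group.isNilpotent_of_finite_tfae (G := fittingSubgroup G)).out 0 3
  rw [q]; clear q
  intro p hp P
  -- the complement of primes
  let S : Set (Subgroup G) := {N | ∃ q : Nat.Primes, (q : ℕ) ≠ p ∧ N = pCore (q : ℕ) G}
  have hS : ∀ N ∈ S, N.Normal ∧ (Nat.card N).Coprime p := by
    rintro N ⟨q, hq, rfl⟩
    refine ⟨pCore_normal _, ?_⟩
    have : Fact (q : ℕ).Prime := ⟨q.2⟩
    obtain ⟨n, hn⟩ := IsPGroup.iff_card.mp (pCore_isPGroup (q : ℕ) (G := G))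
    rw [hn]
    apply Nat.Coprime.pow_left
    exact (Nat.coprime_primes q.2 hp.out).mpr hq
  obtain ⟨hKn, hKc⟩ := normal_and_coprime_card_sSup p S hS
  have hF : fittingSubgroup G = pCore p G ⊔ sSup S := by
    rw [fittingSubgroup_eq_iSup_pCore]
    apply le_antisymm
    · refine iSup_le fun q => ?_
      by_cases hq : (q : ℕ) = p
      · rw [hq]; exact le_sup_left
      · exact le_sup_of_le_right (le_sSup ⟨q, hq, rfl⟩)
    · apply sup_le
      · exact le_iSup (fun q : Nat.Primes => pCore (q : ℕ) G) ⟨p, hp.out⟩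
      · apply sSup_le
        rintro N ⟨q, _, rfl⟩
        exact le_iSup (fun q : Nat.Primes => pCore (q : ℕ) G) q
  have hrel : (pCore p G).relIndex (fittingSubgroup G) ∣ Nat.card (sSup S : Subgroup G) := by
    rw [hF, Subgroup.relIndex_sup_left]
    exact Subgroup.relIndex_dvd_card _ _
  have hQn : ((pCore p G).subgroupOf (fittingSubgroup G)).Normal := inferInstance
  have hQp : IsPGroup p ((pCore p G).subgroupOf (fittingSubgroup G)) :=
    (pCore_isPGroup p).comap_subtype
  have hidx : ¬ p ∣ ((pCore p G).subgroupOf (fittingSubgroup G)).index := by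
    intro hdvd
    have : p ∣ Nat.card (sSup S : Subgroup G) := hdvd.trans hrel
    have h1 : p ∣ 1 := by
      have := Nat.dvd_gcd this (dvd_refl p)
      rwa [hKc] at this
    exact hp.out.one_lt.ne' (Nat.dvd_one.mp h1)
  rw [sylow_eq_of_normal_of_not_dvd_index _ hQp hidx P]
  exact hQn

end Cfsg.Agent.Lib.Helper1
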