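import Mathlib
import Cfsg.Agent.S0043

/-!
Existence of minimal normal subgroups and their structure in solvable groups.
-/

set_option autoImplicit false

namespace Cfsg.Agent.Lib.Helper1

variable {G : Type*} [Group G]

/-- In a finite group, every nontrivial normal subgroup contains a minimal normal subgroup. -/
theorem exists_minimal_normal_le [Finite G] (N : Subgroup G) (hN : N.Normal) (hN1 : N ≠ ⊥) :
    ∃ R : Subgroup G, R.Normal ∧ R ≠ ⊥ ∧ R ≤ N ∧
      ∀ M : Subgroup G, M.Normal → M ≤ R → M = ⊥ ∨ M = R := by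
  let S : Set (Subgroup G) := {R | R.Normal ∧ R ≠ ⊥ ∧ R ≤ N}
  have hS : S.Nonempty := ⟨N, hN, hN1, le_refl N⟩
  obtain ⟨R, hR, hmin⟩ := (wellFounded_lt (α := Subgroup G)).has_min S hS
  refine ⟨R, hR.1, hR.2.1, hR.2.2, ?_⟩
  intro M hM hMR
  by_cases hM1 : M = ⊥
  · exact Or.inl hM1
  · right
    have hMS : M ∈ S := ⟨hM, hM1, hMR.trans hR.2.2⟩
    have := hmin M hMS
    exact (eq_or_lt_of_le hMR).resolve_right this

/-- A nontrivial finite solvable group has a nontrivial abelian normal `p`-subgroup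
(which is moreover minimal normal, and killed by `p`). -/
theorem exists_normal_pSubgroup_le_of_isSolvable [Finite G] [Group.IsSolvable G]
    (N : Subgroup G) (hN : N.Normal) (hN1 : N ≠ ⊥) :
    ∃ (p : ℕ) (R : Subgroup G), p.Prime ∧ R.Normal ∧ R ≠ ⊥ ∧ R ≤ N ∧ IsPGroup p R ∧
      IsMulCommutative R ∧ (∀ x ∈ R, x ^ p = 1) ∧
      ∀ M : Subgroup G, M.Normal → M ≤ R → M = ⊥ ∨ M = R := by
  obtain ⟨R, hRn, hR1, hRN, hmin⟩ := exists_minimal_normal_le N hN hN1
  obtain ⟨hc, p, hp, hpow⟩ := Cfsg.Agent.S0043.result R hR1 hmin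
  refine ⟨p, R, hp, hRn, hR1, hRN, ?_, hc, hpow, hmin⟩
  intro x
  refine ⟨1, ?_⟩
  rw [pow_one]
  exact Subtype.ext (by simpa using hpow x x.2)

theorem exists_normal_pSubgroup_of_isSolvable [Finite G] [Group.IsSolvable G] [Nontrivial G] :
    ∃ (p : ℕ) (R : Subgroup G), p.Prime ∧ R.Normal ∧ R ≠ ⊥ ∧ IsPGroup p R ∧
      IsMulCommutative R ∧ (∀ x ∈ R, x ^ p = 1) ∧
      ∀ M : Subgroup G, M.Normal → M ≤ R → M = ⊥ ∨ M = R := by
  obtain ⟨p, R, hp, h1, h2, _, h4, h5, h6, h7⟩ :=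
    exists_normal_pSubgroup_le_of_isSolvable (⊤ : Subgroup G) inferInstance top_ne_bot
  exact ⟨p, R, hp, h1, h2, h4, h5, h6, h7⟩

end Cfsg.Agent.Lib.Helper1
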