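import Mathlib

/-!
Conjugacy part of the Schur–Zassenhaus theorem.
-/

set_option autoImplicit false

namespace Cfsg.Agent.Lib.Helper1

open Pointwise MulOpposite MulAction

variable {G : Type*} [Group G]

/-- two complements of the same subgroup have the same order. -/
theorem IsComplement'.card_eq_of_left {A H K : Subgroup G} (hH : Subgroup.IsComplement' A H)
    (hK : Subgroup.IsComplement' A K) : Nat.card H = Nat.card K := by
  rw [← hH.symm.index_eq_card, ← hK.symm.index_eq_card]

/-- The class of a complement `H` of `A` among the transversals of `A`. -/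
noncomputable def complQD (A : Subgroup G) [IsMulCommutative A] [A.FiniteIndex] (H : Subgroup G)
    (hH : Subgroup.IsComplement' A H) : A.QuotientDiff :=
  Quotient.mk'' (⟨(H : Set G), hH.symm⟩ : A.LeftTransversal)

theorem stabilizer_complQD_eq [Finite G] (A : Subgroup G) [A.Normal] [IsMulCommutative A]
    (hA : (Nat.card A).Coprime A.index) (H : Subgroup G) (hH : Subgroup.IsComplement' A H) :
    stabilizer G (complQD A H hH) = H := by
  symm
  have hstab := Subgroup.isComplement'_stabilizer_of_coprime (α := complQD A H hH) hA
  apply Subgroup.eq_of_le_of_card_ge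
  · intro h hh
    rw [mem_stabilizer_iff]
    change Quotient.mk'' (op h⁻¹ • (⟨(H : Set G), hH.symm⟩ : A.LeftTransversal)) = _
    unfold complQD
    congr 1
    apply Subtype.ext
    change op h⁻¹ • (H : Set G) = (H : Set G)
    ext x
    constructor
    · rintro ⟨s, hs, rfl⟩
      exact H.mul_mem hs (H.inv_mem hh)
    · intro hx
      refine ⟨x * h, H.mul_mem hx hh, ?_⟩
      simp
  · exact (IsComplement'.card_eq_of_left hstab hH).le

/-- **Schur–Zassenhaus, conjugacy, abelian case**: complements of an abelian normal Hall subgroup
are conjugate under that subgroup. -/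
theorem exists_conj_eq_of_abelian [Finite G] (A : Subgroup G) [A.Normal] [IsMulCommutative A]
    (hA : (Nat.card A).Coprime A.index) (H K : Subgroup G) (hH : Subgroup.IsComplement' A H)
    (hK : Subgroup.IsComplement' A K) : ∃ a ∈ A, MulAut.conj a • H = K := by
  obtain ⟨a, ha⟩ := Subgroup.exists_smul_eq hA (complQD A H hH) (complQD A K hK)
  refine ⟨a, a.2, ?_⟩
  rw [← stabilizer_complQD_eq A hA K hK, ← ha, Subgroup.smul_def,
    MulAction.stabilizer_smul_eq_stabilizer_map_conj, stabilizer_complQD_eq A hA H hH]
  rfl

end Cfsg.Agent.Lib.Helper1
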