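import Mathlib
import Cfsg.Agent.Lib.Helper1.Complements
import Cfsg.Agent.Lib.Helper1.SchurZassenhaus
import Cfsg.Agent.Lib.Helper1.MinimalNormal
import Cfsg.Agent.Lib.Helper1.Fitting

/-!
Conjugacy part of the Schur–Zassenhaus theorem, general (solvable) case.
-/

set_option autoImplicit false

namespace Cfsg.Agent.Lib.Helper1

open Pointwise

universe u

/-- The conjugacy statement for a fixed group. -/
def SZConj (G : Type u) [Group G] : Prop :=
  ∀ (N H K : Subgroup G), N.Normal → Subgroup.IsComplement' N H → Subgroup.IsComplement' N K →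
    (Nat.card N).Coprime (Nat.card H) → (Group.IsSolvable N ∨ Group.IsSolvable H) →
    ∃ g : G, MulAut.conj g • H = K

theorem conj_one_smul {G : Type*} [Group G] (H : Subgroup G) : MulAut.conj (1 : G) • H = H := by
  rw [map_one, one_smul]

theorem commutator_lt_of_isSolvable {G : Type*} [Group G] {N : Subgroup G} [Group.IsSolvable N]
    (hN : N ≠ ⊥) : ⁅N, N⁆ < N := by
  rw [← Subgroup.nontrivial_iff_ne_bot] at hN
  have h := Group.IsSolvable.commutator_lt_top_of_nontrivial N
  rw [← Subgroup.map_subtype_lt_map_subtype, ← MonoidHom.range_eq_map, Subgroup.range_subtype] at h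
  convert h using 1
  rw [commutator_def, Subgroup.map_commutator, ← MonoidHom.range_eq_map, Subgroup.range_subtype]

theorem card_quotient_lt {G : Type*} [Group G] [Finite G] (M : Subgroup G) [M.Normal]
    (hM : M ≠ ⊥) : Nat.card (G ⧸ M) < Nat.card G := by
  rw [← Subgroup.index_eq_card, ← M.index_mul_card]
  exact lt_mul_of_one_lt_right (Nat.pos_of_ne_zero Subgroup.index_ne_zero_of_finite)
    (M.one_lt_card_iff_ne_bot.mpr hM)

theorem card_subgroup_lt {G : Type*} [Group G] [Finite G] (L : Subgroup G)
    (hL : L ≠ ⊤) : Nat.card L < Nat.card G := by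
  rw [← L.index_mul_card]
  exact lt_mul_of_one_lt_left Nat.card_pos (Subgroup.one_lt_index_of_ne_top hL)

theorem card_lt_card_of_lt {G : Type*} [Group G] [Finite G] {M N : Subgroup G} (h : M < N) :
    Nat.card M < Nat.card N := by
  rcases Nat.lt_or_ge (Nat.card M) (Nat.card N) with h1 | h1
  · exact h1
  · exact absurd (Subgroup.eq_of_le_of_card_ge h.le h1) h.ne

theorem isSolvable_subgroup_of_le {G : Type*} [Group G] {M N : Subgroup G} (h : M ≤ N)
    [Group.IsSolvable N] : Group.IsSolvable M :=
  Group.isSolvable_of_isSolvable_injective (f := Subgroup.inclusion h) (Subgroup.inclusion_injective h)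

theorem isSolvable_of_mulEquiv {A B : Type*} [Group A] [Group B] (e : A ≃* B) [Group.IsSolvable B] :
    Group.IsSolvable A :=
  Group.isSolvable_of_isSolvable_injective (f := e.toMonoidHom) e.injective

theorem isSolvable_map {G G' : Type*} [Group G] [Group G'] (f : G →* G') (N : Subgroup G)
    [Group.IsSolvable N] : Group.IsSolvable (N.map f) :=
  Group.isSolvable_of_surjective (f := f.subgroupMap N) (f.subgroupMap_surjective N)

section

variable {G : Type u} [Group G] [Finite G]

theorem szConj_case1
    (IH : ∀ (G' : Type u) [Group G'] [Finite G'], Nat.card G' < Nat.card G → SZConj G')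
    (N H K : Subgroup G) [hNn : N.Normal] (hH : Subgroup.IsComplement' N H)
    (hK : Subgroup.IsComplement' N K) (hcop : (Nat.card N).Coprime (Nat.card H))
    [hsol : Group.IsSolvable N] : ∃ g : G, MulAut.conj g • H = K := by
  have hHK : Nat.card H = Nat.card K := IsComplement'.card_eq_of_left hH hK
  by_cases hN1 : N = ⊥
  · subst hN1
    rw [Subgroup.isComplement'_bot_left] at hH hK
    exact ⟨1, by rw [conj_one_smul, hH, hK]⟩
  set M : Subgroup G := ⁅N, N⁆ with hMdef
  have hlt : M < N := commutator_lt_of_isSolvable hN1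
  have hMn : M.Normal := by rw [hMdef]; infer_instance
  by_cases hM1 : M = ⊥
  · -- abelian case
    have hab : ∀ a ∈ N, ∀ b ∈ N, a * b = b * a := by
      intro a ha b hb
      have := Subgroup.commutator_mem_commutator ha hb
      rw [← hMdef, hM1, Subgroup.mem_bot, commutatorElement_eq_one_iff_mul_comm] at this
      exact this
    have hNc : IsMulCommutative N := ⟨⟨fun a b => Subtype.ext (hab a a.2 b b.2)⟩⟩
    have hidx : N.index = Nat.card H := hH.symm.index_eq_card
    obtain ⟨a, _, ha⟩ := exists_conj_eq_of_abelian N (by rw [hidx]; exact hcop) H K hH hK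
    exact ⟨a, ha⟩
  · -- pass to the quotient by `M`
    let π := QuotientGroup.mk' M
    have hπ : Function.Surjective π := QuotientGroup.mk'_surjective M
    have hNπ : (N.map π).Normal := hNn.map π hπ
    have hsolπ : Group.IsSolvable (N.map π) := isSolvable_map π N
    obtain ⟨gbar, hgbar⟩ := IH (G ⧸ M) (card_quotient_lt M hM1) (N.map π) (H.map π) (K.map π) hNπ
      (isComplement'_map_of_coprime π hπ hH hcop)
      (isComplement'_map_of_coprime π hπ hK (hHK ▸ hcop))
      (coprime_card_map π hcop) (Or.inl hsolπ)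
    obtain ⟨g, rfl⟩ := hπ gbar
    have hsup := sup_eq_sup_of_map_conj_eq H K g hgbar
    set H₁ : Subgroup G := MulAut.conj g • H with hH₁def
    set L : Subgroup G := K ⊔ M with hLdef
    have hH₁L : H₁ ≤ L := by rw [← hsup]; exact le_sup_left
    have hKL : K ≤ L := le_sup_left
    have hML : M ≤ L := le_sup_right
    have hcardH₁ : Nat.card H₁ = Nat.card H := card_conj_smul g H
    have hcopM : (Nat.card M).Coprime (Nat.card H) :=
      Nat.Coprime.coprime_dvd_left (Subgroup.card_dvd_of_le hlt.le) hcop
    -- `L` is a proper subgroup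
    have hcardL : Nat.card L < Nat.card G := by
      have h1 : Nat.card L ∣ Nat.card M * Nat.card K := by
        rw [hLdef, sup_comm]; exact card_sup_dvd_mul_of_normal_left M K
      have h2 : Nat.card L ≤ Nat.card M * Nat.card K :=
        Nat.le_of_dvd (Nat.mul_pos Nat.card_pos Nat.card_pos) h1
      have h3 : Nat.card M * Nat.card K < Nat.card N * Nat.card K :=
        Nat.mul_lt_mul_of_pos_right (card_lt_card_of_lt hlt) Nat.card_pos
      rw [hK.card_mul_card] at h3
      exact lt_of_le_of_lt h2 h3
    have hMLn : (M.subgroupOf L).Normal := Subgroup.normal_subgroupOf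
    have hc1 : Subgroup.IsComplement' (M.subgroupOf L) (H₁.subgroupOf L) :=
      isComplement'_subgroupOf_sup (by rw [hcardH₁]; exact hcopM) hsup.symm
    have hc2 : Subgroup.IsComplement' (M.subgroupOf L) (K.subgroupOf L) :=
      isComplement'_subgroupOf_sup (by rw [← hHK]; exact hcopM) rfl
    have hsolM : Group.IsSolvable M := isSolvable_subgroup_of_le hlt.le
    have hsolML : Group.IsSolvable (M.subgroupOf L) :=
      isSolvable_of_mulEquiv (Subgroup.subgroupOfEquivOfLe hML)
    obtain ⟨l, hl⟩ := IH L hcardL (M.subgroupOf L) (H₁.subgroupOf L) (K.subgroupOf L) hMLn hc1 hc2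
      (by rw [card_subgroupOf_of_le hML, card_subgroupOf_of_le hH₁L, hcardH₁]; exact hcopM)
      (Or.inl hsolML)
    have := conj_smul_eq_of_subgroupOf hH₁L hKL l hl
    refine ⟨(l : G) * g, ?_⟩
    rw [← conj_smul_conj_smul]
    exact this


theorem szConj_case2
    (IH : ∀ (G' : Type u) [Group G'] [Finite G'], Nat.card G' < Nat.card G → SZConj G')
    (N H K : Subgroup G) [hNn : N.Normal] (hH : Subgroup.IsComplement' N H)
    (hK : Subgroup.IsComplement' N K) (hcop : (Nat.card N).Coprime (Nat.card H))
    [hsol : Group.IsSolvable H] : ∃ g : G, MulAut.conj g • H = K := by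
  have hHK : Nat.card H = Nat.card K := IsComplement'.card_eq_of_left hH hK
  by_cases hH1 : H = ⊥
  · subst hH1
    rw [Subgroup.isComplement'_bot_right] at hH
    subst hH
    rw [Subgroup.isComplement'_top_left] at hK
    exact ⟨1, by rw [conj_one_smul, hK]⟩
  have hHnt : Nontrivial H := (Subgroup.nontrivial_iff_ne_bot H).mpr hH1
  obtain ⟨p, R', hp, hR'n, hR'1, hR'p, -⟩ := exists_normal_pSubgroup_of_isSolvable (G := H)
  have : Fact p.Prime := ⟨hp⟩
  set R : Subgroup G := R'.map H.subtype with hRdef
  have hRH : R ≤ H := Subgroup.map_subtype_le R'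
  have hR1 : R ≠ ⊥ := by
    rw [hRdef, Ne, Subgroup.map_eq_bot_iff_of_injective _ H.subtype_injective]
    exact hR'1
  have hRp : IsPGroup p R := hR'p.map _
  have hRsub : R.subgroupOf H = R' := by
    rw [hRdef, Subgroup.subgroupOf, Subgroup.comap_map_eq_self_of_injective H.subtype_injective]
  have hHnorm : H ≤ Subgroup.normalizer (R : Set G) := by
    rw [← Subgroup.normal_subgroupOf_iff_le_normalizer hRH, hRsub]
    exact hR'n
  -- `p` does not divide `|N|`
  obtain ⟨k, hk⟩ := IsPGroup.iff_card.mp hRp
  have hk0 : k ≠ 0 := by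
    rintro rfl
    rw [pow_zero, Subgroup.card_eq_one] at hk
    exact hR1 hk
  have hpR : p ∣ Nat.card R := by rw [hk]; exact dvd_pow_self p hk0
  have hcopNR : (Nat.card N).Coprime (Nat.card R) :=
    Nat.Coprime.coprime_dvd_right (Subgroup.card_dvd_of_le hRH) hcop
  have hpN : ¬ p ∣ Nat.card N := by
    intro h
    have := Nat.dvd_gcd h hpR
    rw [hcopNR] at this
    exact hp.one_lt.ne' (Nat.dvd_one.mp this)
  -- the normal subgroup `M = N R`
  set M : Subgroup G := N ⊔ R with hMdef
  have hNM : N ≤ M := le_sup_left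
  have hRM : R ≤ M := le_sup_right
  have hMn : M.Normal := by
    rw [← Subgroup.normalizer_eq_top_iff, eq_top_iff, ← hH.sup_eq_top]
    apply sup_le
    · exact hNM.trans Subgroup.le_normalizer
    · refine le_trans ?_ (Subgroup.normalizer_inf_normalizer_le_normalizer_sup N R)
      exact le_inf Subgroup.le_normalizer_of_normal hHnorm
  -- Sylow subgroups of `M`
  have hcNK : Subgroup.IsComplement' (N.subgroupOf M) (K.subgroupOf M) :=
    isComplement'_subgroupOf_of_le_left hK hNM
  have hcNR : Subgroup.IsComplement' (N.subgroupOf M) (R.subgroupOf M) :=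
    isComplement'_subgroupOf_sup hcopNR (by rw [hMdef, sup_comm])
  have hcardKM : Nat.card (K.subgroupOf M) = Nat.card R := by
    rw [← IsComplement'.card_eq_of_left hcNR hcNK, card_subgroupOf_of_le hRM]
  have hP1 : IsPGroup p (R.subgroupOf M) := hRp.comap_subtype
  have hP2 : IsPGroup p (K.subgroupOf M) := IsPGroup.of_card (hcardKM.trans hk)
  have hidx1 : ¬ p ∣ (R.subgroupOf M).index := by
    rw [hcNR.index_eq_card, card_subgroupOf_of_le hNM]; exact hpN
  have hidx2 : ¬ p ∣ (K.subgroupOf M).index := by
    rw [hcNK.index_eq_card, card_subgroupOf_of_le hNM]; exact hpN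
  obtain ⟨m, hm⟩ := MulAction.exists_smul_eq M (hP1.toSylow hidx1) (hP2.toSylow hidx2)
  have hm' : MulAut.conj m • R.subgroupOf M = (K ⊓ M).subgroupOf M := by
    rw [Subgroup.inf_subgroupOf_right]
    have := congrArg (fun P : Sylow p M => (P : Subgroup M)) hm
    simpa [Sylow.smul_def, Sylow.pointwise_smul_def] using this
  have hconjR : MulAut.conj (m : G) • R = K ⊓ M :=
    conj_smul_eq_of_subgroupOf hRM inf_le_right m hm'
  set R₁ : Subgroup G := K ⊓ M with hR₁def
  set H₁ : Subgroup G := MulAut.conj (m : G) • H with hH₁def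
  have hc1 : Subgroup.IsComplement' N H₁ := isComplement'_conj_smul hH m
  have hcardH₁ : Nat.card H₁ = Nat.card H := card_conj_smul (m : G) H
  have hR₁H₁ : R₁ ≤ H₁ := by
    rw [← hconjR, hH₁def]
    exact Subgroup.pointwise_smul_le_pointwise_smul_iff.mpr hRH
  have hR₁K : R₁ ≤ K := inf_le_left
  have hR₁1 : R₁ ≠ ⊥ := by
    rw [← hconjR]
    intro h
    have h2 : Nat.card (MulAut.conj (m : G) • R : Subgroup G) = 1 := by rw [h]; exact Subgroup.card_bot
    rw [card_conj_smul, Subgroup.card_eq_one] at h2
    exact hR1 h2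
  have hH₁norm : H₁ ≤ Subgroup.normalizer (R₁ : Set G) := by
    have h1 : (Subgroup.normalizer (R : Set G)).map (MulAut.conj (m : G)).toMonoidHom =
        Subgroup.normalizer ((R.map (MulAut.conj (m : G)).toMonoidHom : Subgroup G) : Set G) :=
      Subgroup.map_equiv_normalizer_eq R (MulAut.conj (m : G))
    have h2 : H.map (MulAut.conj (m : G)).toMonoidHom ≤
        (Subgroup.normalizer (R : Set G)).map (MulAut.conj (m : G)).toMonoidHom :=
      Subgroup.map_mono hHnorm
    rw [h1] at h2
    have h3 : (R.map (MulAut.conj (m : G)).toMonoidHom : Subgroup G) = R₁ := hconjR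
    rw [h3] at h2
    exact h2
  have hKnorm : K ≤ Subgroup.normalizer (R₁ : Set G) := by
    refine le_trans ?_ Subgroup.inf_normalizer_le_normalizer_inf
    exact le_inf Subgroup.le_normalizer Subgroup.le_normalizer_of_normal
  set L : Subgroup G := Subgroup.normalizer (R₁ : Set G) with hLdef
  have hsolH₁ : Group.IsSolvable H₁ :=
    isSolvable_of_mulEquiv (Subgroup.equivSMul (MulAut.conj (m : G)) H).symm
  by_cases hLtop : L = ⊤
  · -- `R₁` is normal: pass to the quotient
    have hR₁n : R₁.Normal := Subgroup.normalizer_eq_top_iff.mp hLtop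
    let π := QuotientGroup.mk' R₁
    have hπ : Function.Surjective π := QuotientGroup.mk'_surjective R₁
    have hNπ : (N.map π).Normal := hNn.map π hπ
    have hsolπ : Group.IsSolvable (H₁.map π) := isSolvable_map π H₁
    obtain ⟨gbar, hgbar⟩ := IH (G ⧸ R₁) (card_quotient_lt R₁ hR₁1) (N.map π) (H₁.map π) (K.map π)
      hNπ (isComplement'_map_of_coprime π hπ hc1 (by rw [hcardH₁]; exact hcop))
      (isComplement'_map_of_coprime π hπ hK (hHK ▸ hcop))
      (coprime_card_map π (by rw [hcardH₁]; exact hcop)) (Or.inr hsolπ)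
    obtain ⟨g, rfl⟩ := hπ gbar
    have hsup := sup_eq_sup_of_map_conj_eq H₁ K g hgbar
    rw [sup_of_le_left hR₁K] at hsup
    have hle : R₁ ≤ MulAut.conj g • H₁ := by
      rw [← Subgroup.Normal.conj_smul_eq_self g R₁]
      exact Subgroup.pointwise_smul_le_pointwise_smul_iff.mpr hR₁H₁
    rw [sup_of_le_left hle] at hsup
    refine ⟨g * (m : G), ?_⟩
    rw [← conj_smul_conj_smul]
    exact hsup
  · -- `L` is proper: induction inside `L`
    have hcardL : Nat.card L < Nat.card G := card_subgroup_lt L hLtop
    have hNLn : (N.subgroupOf L).Normal := Subgroup.normal_subgroupOf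
    have hcL1 : Subgroup.IsComplement' (N.subgroupOf L) (H₁.subgroupOf L) :=
      isComplement'_subgroupOf_of_le_right hc1 hH₁norm
    have hcL2 : Subgroup.IsComplement' (N.subgroupOf L) (K.subgroupOf L) :=
      isComplement'_subgroupOf_of_le_right hK hKnorm
    have hsolL : Group.IsSolvable (H₁.subgroupOf L) :=
      isSolvable_of_mulEquiv (Subgroup.subgroupOfEquivOfLe hH₁norm)
    obtain ⟨l, hl⟩ := IH L hcardL (N.subgroupOf L) (H₁.subgroupOf L) (K.subgroupOf L) hNLn hcL1 hcL2
      (by
        rw [card_subgroupOf_of_le hH₁norm, hcardH₁]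
        exact Nat.Coprime.coprime_dvd_left (card_subgroupOf_dvd N L) hcop)
      (Or.inr hsolL)
    have := conj_smul_eq_of_subgroupOf hH₁norm hKnorm l hl
    refine ⟨(l : G) * (m : G), ?_⟩
    rw [← conj_smul_conj_smul]
    exact this

end

/-- **Schur–Zassenhaus, conjugacy**: if `N` is a normal Hall subgroup, and `N` or a complement
is solvable, then all complements of `N` are conjugate. -/
theorem szConj_all : ∀ (n : ℕ) (G : Type u) [Group G] [Finite G], Nat.card G = n → SZConj G := by
  intro n
  induction n using Nat.strong_induction_on with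
  | _ n ih =>
    intro G _ _ hn N H K hNn hH hK hcop hsol
    subst hn
    have IH : ∀ (G' : Type u) [Group G'] [Finite G'], Nat.card G' < Nat.card G → SZConj G' :=
      fun G' _ _ h => ih (Nat.card G') h G' rfl
    rcases hsol with hsol | hsol
    · exact szConj_case1 IH N H K hH hK hcop
    · exact szConj_case2 IH N H K hH hK hcop

theorem exists_conj_eq_of_isComplement' {G : Type u} [Group G] [Finite G] (N H K : Subgroup G)
    [N.Normal] (hH : Subgroup.IsComplement' N H) (hK : Subgroup.IsComplement' N K)
    (hcop : (Nat.card N).Coprime (Nat.card H)) (hsol : Group.IsSolvable N ∨ Group.IsSolvable H) :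
    ∃ g : G, MulAut.conj g • H = K :=
  szConj_all (Nat.card G) G rfl N H K inferInstance hH hK hcop hsol

end Cfsg.Agent.Lib.Helper1
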