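import Mathlib
import Cfsg.Agent.Lib.Helper1.SZConj

/-!
Hall's theorems for finite solvable groups: existence, conjugacy, dominance.
-/

set_option autoImplicit false

namespace Cfsg.Agent.Lib.Helper1

open Pointwise

universe u

theorem card_comap_mk' {G : Type*} [Group G] (M : Subgroup G) [M.Normal] (Hbar : Subgroup (G ⧸ M)) :
    Nat.card (Hbar.comap (QuotientGroup.mk' M)) = Nat.card M * Nat.card Hbar :=
  QuotientGroup.card_preimage_mk M (Hbar : Set (G ⧸ M))

theorem card_quotient_mul_card {G : Type*} [Group G] (M : Subgroup G) [M.Normal] :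
    Nat.card M * Nat.card (G ⧸ M) = Nat.card G := by
  rw [← Subgroup.index_eq_card, mul_comm]; exact M.index_mul_card

theorem le_comap_mk'_of_le {G : Type*} [Group G] (M : Subgroup G) [M.Normal]
    (Hbar : Subgroup (G ⧸ M)) : M ≤ Hbar.comap (QuotientGroup.mk' M) := by
  intro x hx
  rw [Subgroup.mem_comap]
  have : QuotientGroup.mk' M x = 1 := by
    rw [← MonoidHom.mem_ker, QuotientGroup.ker_mk']; exact hx
  rw [this]; exact Hbar.one_mem

/-- number-theoretic helper: if `p^j ∣ m * n`, `m, n` coprime, `p ∣ m` then `p^j ∣ m` and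
`p ∤ n`. -/
theorem pow_dvd_left_of_coprime {p j m n : ℕ} (hp : p.Prime) (h : p ^ j ∣ m * n)
    (hmn : m.Coprime n) (hpm : p ∣ m) : p ^ j ∣ m ∧ ¬ p ∣ n := by
  have hpn : ¬ p ∣ n := by
    intro hpn
    have := Nat.dvd_gcd hpm hpn
    rw [hmn] at this
    exact hp.one_lt.ne' (Nat.dvd_one.mp this)
  refine ⟨?_, hpn⟩
  have hc : (p ^ j).Coprime n := Nat.Coprime.pow_left j ((Nat.Prime.coprime_iff_not_dvd hp).mpr hpn)
  exact hc.dvd_of_dvd_mul_right h

section Exists

/-- **Hall's theorem, existence.** -/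
theorem hall_exists_aux : ∀ (k : ℕ) (G : Type u) [Group G] [Finite G] [Group.IsSolvable G]
    (m n : ℕ), Nat.card G = k → k = m * n → m.Coprime n → ∃ H : Subgroup G, Nat.card H = m := by
  intro k
  induction k using Nat.strong_induction_on with
  | _ k ih =>
    intro G _ _ _ m n hk hmn hcop
    subst hk
    rcases subsingleton_or_nontrivial G with hG | hG
    · refine ⟨⊥, ?_⟩
      have h1 : Nat.card G = 1 := Nat.card_eq_one_iff_unique.mpr ⟨hG, ⟨1⟩⟩
      rw [h1] at hmn
      rw [Subgroup.card_bot]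
      exact (Nat.eq_one_of_mul_eq_one_right hmn.symm).symm
    obtain ⟨p, M, hp, hMn, hM1, hMp, -⟩ := exists_normal_pSubgroup_of_isSolvable (G := G)
    have : Fact p.Prime := ⟨hp⟩
    obtain ⟨j, hj⟩ := IsPGroup.iff_card.mp hMp
    have hj0 : j ≠ 0 := by
      rintro rfl
      rw [pow_zero, Subgroup.card_eq_one] at hj
      exact hM1 hj
    have hMG : Nat.card M * Nat.card (G ⧸ M) = Nat.card G := card_quotient_mul_card M
    have hdvd : p ^ j ∣ m * n := by rw [← hmn, ← hMG, hj]; exact dvd_mul_right _ _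
    have hlt : Nat.card (G ⧸ M) < Nat.card G := card_quotient_lt M hM1
    have hpmn : p ∣ m * n := (dvd_pow_self p hj0).trans hdvd
    rcases (Nat.Prime.dvd_mul hp).mp hpmn with hpm | hpn
    · -- `p ∣ m`
      obtain ⟨⟨m', hm'⟩, -⟩ := pow_dvd_left_of_coprime hp hdvd hcop hpm
      have hQ : Nat.card (G ⧸ M) = m' * n := by
        have h1 : p ^ j * Nat.card (G ⧸ M) = m * n := by rw [← hj, hMG, hmn]
        have : p ^ j * Nat.card (G ⧸ M) = p ^ j * (m' * n) := by
          rw [h1, hm', mul_assoc]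
        exact Nat.eq_of_mul_eq_mul_left (pow_pos hp.pos j) this
      have hcop' : m'.Coprime n := Nat.Coprime.coprime_dvd_left ⟨p ^ j, by rw [hm', mul_comm]⟩ hcop
      obtain ⟨Hbar, hHbar⟩ := ih _ hlt (G ⧸ M) m' n rfl hQ hcop'
      refine ⟨Hbar.comap (QuotientGroup.mk' M), ?_⟩
      rw [card_comap_mk', hHbar, hj, hm']
    · -- `p ∣ n`
      have hdvd' : p ^ j ∣ n * m := by rw [mul_comm]; exact hdvd
      obtain ⟨⟨n', hn'⟩, hpm⟩ := pow_dvd_left_of_coprime hp hdvd' hcop.symm hpn
      have hQ : Nat.card (G ⧸ M) = m * n' := by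
        have h1 : p ^ j * Nat.card (G ⧸ M) = m * n := by rw [← hj, hMG, hmn]
        have : p ^ j * Nat.card (G ⧸ M) = p ^ j * (m * n') := by
          rw [h1, hn']; ring
        exact Nat.eq_of_mul_eq_mul_left (pow_pos hp.pos j) this
      have hcop' : m.Coprime n' := Nat.Coprime.coprime_dvd_right ⟨p ^ j, by rw [hn', mul_comm]⟩ hcop
      obtain ⟨Hbar, hHbar⟩ := ih _ hlt (G ⧸ M) m n' rfl hQ hcop'
      set L : Subgroup G := Hbar.comap (QuotientGroup.mk' M) with hL
      have hML : M ≤ L := le_comap_mk'_of_le M Hbar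
      have hcardL : Nat.card L = p ^ j * m := by rw [hL, card_comap_mk', hHbar, hj]
      have hMLn : (M.subgroupOf L).Normal := Subgroup.normal_subgroupOf
      have hcardML : Nat.card (M.subgroupOf L) = p ^ j := by rw [card_subgroupOf_of_le hML, hj]
      have hidx : (M.subgroupOf L).index = m := by
        have := (M.subgroupOf L).card_mul_index
        rw [hcardML, hcardL] at this
        exact Nat.eq_of_mul_eq_mul_left (pow_pos hp.pos j) this
      have hcopL : (Nat.card (M.subgroupOf L)).Coprime (M.subgroupOf L).index := by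
        rw [hcardML, hidx]
        exact Nat.Coprime.pow_left j ((Nat.Prime.coprime_iff_not_dvd hp).mpr hpm)
      obtain ⟨C, hC⟩ := Subgroup.exists_right_complement'_of_coprime hcopL
      refine ⟨C.map L.subtype, ?_⟩
      rw [Subgroup.card_map_of_injective L.subtype_injective, ← hC.symm.index_eq_card, hidx]

theorem hall_exists {G : Type u} [Group G] [Finite G] [Group.IsSolvable G] (m n : ℕ)
    (hG : Nat.card G = m * n) (hmn : m.Coprime n) : ∃ H : Subgroup G, Nat.card H = m :=
  hall_exists_aux (Nat.card G) G m n rfl hG hmn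

end Exists

end Cfsg.Agent.Lib.Helper1
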