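import Mathlib
import Cfsg.Agent.Lib.Helper1.Hall

/-!
Hall's theorems for finite solvable groups: conjugacy.
-/

set_option autoImplicit false

namespace Cfsg.Agent.Lib.Helper1

open Pointwise

universe u

/-- A normal `p`-subgroup lies in every subgroup whose index is prime to `p`. -/
theorem normal_pSubgroup_le_of_not_dvd_index {G : Type*} [Group G] [Finite G] {p : ℕ}
    [Fact p.Prime] {M H : Subgroup G} [M.Normal] (hM : IsPGroup p M) (hH : ¬ p ∣ H.index) :
    M ≤ H := by
  let P : Sylow p H := Classical.arbitrary _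
  have hQp : IsPGroup p ((P : Subgroup H).map H.subtype) := P.isPGroup'.map _
  have hQi : ¬ p ∣ ((P : Subgroup H).map H.subtype).index := by
    rw [Subgroup.index_map_subtype]
    exact Nat.Prime.not_dvd_mul Fact.out P.not_dvd_index hH
  have h1 : M ≤ (hQp.toSylow hQi : Sylow p G) := hM.le_sylow_of_normal _
  exact h1.trans (Subgroup.map_subtype_le _)

theorem index_eq_of_card_mul {G : Type*} [Group G] [Finite G] {H : Subgroup G} {m n : ℕ}
    (hG : Nat.card G = m * n) (hH : Nat.card H = m) : H.index = n := by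
  have h := H.card_mul_index
  rw [hH, hG] at h
  have hm : 0 < m := by rw [← hH]; exact Nat.card_pos
  exact Nat.eq_of_mul_eq_mul_left hm h

/-- order of the image of `H` in `G ⧸ M` when `M ≤ H`. -/
theorem card_eq_card_mul_card_map_of_le {G : Type*} [Group G] {M H : Subgroup G} [M.Normal]
    (h : M ≤ H) : Nat.card H = Nat.card M * Nat.card (H.map (QuotientGroup.mk' M)) := by
  rw [← card_comap_mk', Subgroup.comap_map_eq, QuotientGroup.ker_mk', sup_of_le_left h]

/-- order of the image of `H` in `G ⧸ M` when `M` and `H` have coprime orders. -/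
theorem card_map_mk'_of_coprime {G : Type*} [Group G] {M H : Subgroup G} [M.Normal]
    (h : (Nat.card M).Coprime (Nat.card H)) :
    Nat.card (H.map (QuotientGroup.mk' M)) = Nat.card H := by
  have h1 : (QuotientGroup.mk' M).ker.relIndex H = Nat.card (H.map (QuotientGroup.mk' M)) :=
    Subgroup.relIndex_ker H (QuotientGroup.mk' M)
  rw [QuotientGroup.ker_mk', ← Subgroup.inf_relIndex_right,
    (Subgroup.disjoint_of_coprime_natCard h).eq_bot, Subgroup.relIndex_bot_left] at h1
  exact h1.symm

theorem le_conj_smul_of_normal {G : Type*} [Group G] {M H : Subgroup G} [M.Normal] (h : M ≤ H)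
    (g : G) : M ≤ MulAut.conj g • H := by
  rw [← Subgroup.Normal.conj_smul_eq_self g M]
  exact Subgroup.pointwise_smul_le_pointwise_smul_iff.mpr h

/-- **Hall's theorem, conjugacy.** -/
theorem hall_conj_aux : ∀ (k : ℕ) (G : Type u) [Group G] [Finite G] [Group.IsSolvable G]
    (m n : ℕ), Nat.card G = k → k = m * n → m.Coprime n → ∀ H K : Subgroup G,
    Nat.card H = m → Nat.card K = m → ∃ g : G, MulAut.conj g • H = K := by
  intro k
  induction k using Nat.strong_induction_on with
  | _ k ih =>
    intro G _ _ _ m n hk hmn hcop H K hH hK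
    subst hk
    rcases subsingleton_or_nontrivial G with hG | hG
    · refine ⟨1, ?_⟩
      rw [conj_one_smul]
      exact Subsingleton.elim _ _
    obtain ⟨p, M, hp, hMn, hM1, hMp, -⟩ := exists_normal_pSubgroup_of_isSolvable (G := G)
    have : Fact p.Prime := ⟨hp⟩
    obtain ⟨j, hj⟩ := IsPGroup.iff_card.mp hMp
    have hj0 : j ≠ 0 := by
      rintro rfl
      rw [pow_zero, Subgroup.card_eq_one] at hj
      exact hM1 hj
    have hMG : Nat.card M * Nat.card (G ⧸ M) = Nat.card G := card_quotient_mul_card M
    have hdvd : p ^ j ∣ m * n := by rw [← hmn, ← hMG, hj]; exact dvd_mul_right _ _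
    have hlt : Nat.card (G ⧸ M) < Nat.card G := card_quotient_lt M hM1
    have hpmn : p ∣ m * n := (dvd_pow_self p hj0).trans hdvd
    have h1 : p ^ j * Nat.card (G ⧸ M) = m * n := by rw [← hj, hMG, hmn]
    let π := QuotientGroup.mk' M
    rcases (Nat.Prime.dvd_mul hp).mp hpmn with hpm | hpn
    · -- `p ∣ m`
      obtain ⟨⟨m', hm'⟩, hpn⟩ := pow_dvd_left_of_coprime hp hdvd hcop hpm
      have hQ : Nat.card (G ⧸ M) = m' * n := by
        have : p ^ j * Nat.card (G ⧸ M) = p ^ j * (m' * n) := by
          rw [h1, hm', mul_assoc]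
        exact Nat.eq_of_mul_eq_mul_left (pow_pos hp.pos j) this
      have hcop' : m'.Coprime n := Nat.Coprime.coprime_dvd_left ⟨p ^ j, by rw [hm', mul_comm]⟩ hcop
      have hMH : M ≤ H := normal_pSubgroup_le_of_not_dvd_index hMp
        (by rw [index_eq_of_card_mul hmn hH]; exact hpn)
      have hMK : M ≤ K := normal_pSubgroup_le_of_not_dvd_index hMp
        (by rw [index_eq_of_card_mul hmn hK]; exact hpn)
      have hcard : ∀ X : Subgroup G, M ≤ X → Nat.card X = m → Nat.card (X.map π) = m' := by
        intro X hMX hX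
        have := card_eq_card_mul_card_map_of_le hMX
        rw [hX, hj, hm'] at this
        exact (Nat.eq_of_mul_eq_mul_left (pow_pos hp.pos j) this).symm
      obtain ⟨gbar, hgbar⟩ := ih _ hlt (G ⧸ M) m' n rfl hQ hcop' (H.map π) (K.map π)
        (hcard H hMH hH) (hcard K hMK hK)
      obtain ⟨g, rfl⟩ := QuotientGroup.mk'_surjective M gbar
      have hsup := sup_eq_sup_of_map_conj_eq H K g hgbar
      rw [sup_of_le_left hMK, sup_of_le_left (le_conj_smul_of_normal hMH g)] at hsup
      exact ⟨g, hsup⟩
    · -- `p ∣ n`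
      have hdvd' : p ^ j ∣ n * m := by rw [mul_comm]; exact hdvd
      obtain ⟨⟨n', hn'⟩, hpm⟩ := pow_dvd_left_of_coprime hp hdvd' hcop.symm hpn
      have hQ : Nat.card (G ⧸ M) = m * n' := by
        have : p ^ j * Nat.card (G ⧸ M) = p ^ j * (m * n') := by
          rw [h1, hn']; ring
        exact Nat.eq_of_mul_eq_mul_left (pow_pos hp.pos j) this
      have hcop' : m.Coprime n' := Nat.Coprime.coprime_dvd_right ⟨p ^ j, by rw [hn', mul_comm]⟩ hcop
      have hcopM : (Nat.card M).Coprime m := by
        rw [hj]; exact Nat.Coprime.pow_left j ((Nat.Prime.coprime_iff_not_dvd hp).mpr hpm)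
      obtain ⟨gbar, hgbar⟩ := ih _ hlt (G ⧸ M) m n' rfl hQ hcop' (H.map π) (K.map π)
        (by rw [card_map_mk'_of_coprime (by rw [hH]; exact hcopM), hH])
        (by rw [card_map_mk'_of_coprime (by rw [hK]; exact hcopM), hK])
      obtain ⟨g, rfl⟩ := QuotientGroup.mk'_surjective M gbar
      have hsup := sup_eq_sup_of_map_conj_eq H K g hgbar
      set H₁ : Subgroup G := MulAut.conj g • H with hH₁def
      set L : Subgroup G := K ⊔ M with hLdef
      have hH₁L : H₁ ≤ L := by rw [← hsup]; exact le_sup_left
      have hKL : K ≤ L := le_sup_left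
      have hML : M ≤ L := le_sup_right
      have hcardH₁ : Nat.card H₁ = m := by rw [hH₁def, card_conj_smul, hH]
      have hMLn : (M.subgroupOf L).Normal := Subgroup.normal_subgroupOf
      have hc1 : Subgroup.IsComplement' (M.subgroupOf L) (H₁.subgroupOf L) :=
        isComplement'_subgroupOf_sup (by rw [hcardH₁]; exact hcopM) hsup.symm
      have hc2 : Subgroup.IsComplement' (M.subgroupOf L) (K.subgroupOf L) :=
        isComplement'_subgroupOf_sup (by rw [hK]; exact hcopM) rfl
      obtain ⟨l, hl⟩ := exists_conj_eq_of_isComplement' (M.subgroupOf L) (H₁.subgroupOf L)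
        (K.subgroupOf L) hc1 hc2
        (by rw [card_subgroupOf_of_le hML, card_subgroupOf_of_le hH₁L, hcardH₁]; exact hcopM)
        (Or.inl inferInstance)
      have := conj_smul_eq_of_subgroupOf hH₁L hKL l hl
      refine ⟨(l : G) * g, ?_⟩
      rw [← conj_smul_conj_smul]
      exact this

theorem hall_conj {G : Type u} [Group G] [Finite G] [Group.IsSolvable G] (m n : ℕ)
    (hG : Nat.card G = m * n) (hmn : m.Coprime n) (H K : Subgroup G)
    (hH : Nat.card H = m) (hK : Nat.card K = m) : ∃ g : G, MulAut.conj g • H = K :=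
  hall_conj_aux (Nat.card G) G m n rfl hG hmn H K hH hK

end Cfsg.Agent.Lib.Helper1
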