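import Mathlib
import Cfsg.Agent.Lib.Helper1.HallConj

/-!
Hall's theorems for finite solvable groups: dominance.
-/

set_option autoImplicit false

namespace Cfsg.Agent.Lib.Helper1

open Pointwise

universe u

/-- If `N` is a solvable normal Hall subgroup with complement `H₀`, every subgroup of order prime
to `|N|` is contained in a conjugate of `H₀`. -/
theorem exists_le_conj_of_coprime {G : Type u} [Group G] [Finite G] (N H₀ K : Subgroup G)
    [N.Normal] (hH₀ : Subgroup.IsComplement' N H₀)
    (hK : (Nat.card N).Coprime (Nat.card K)) (hsol : Group.IsSolvable N) :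
    ∃ g : G, K ≤ MulAut.conj g • H₀ := by
  set L : Subgroup G := K ⊔ N with hLdef
  have hNL : N ≤ L := le_sup_right
  have hKL : K ≤ L := le_sup_left
  have hNLn : (N.subgroupOf L).Normal := Subgroup.normal_subgroupOf
  have hc1 : Subgroup.IsComplement' (N.subgroupOf L) (K.subgroupOf L) :=
    isComplement'_subgroupOf_sup hK rfl
  have hc2 : Subgroup.IsComplement' (N.subgroupOf L) (H₀.subgroupOf L) :=
    isComplement'_subgroupOf_of_le_left hH₀ hNL
  have hsolL : Group.IsSolvable (N.subgroupOf L) :=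
    isSolvable_of_mulEquiv (Subgroup.subgroupOfEquivOfLe hNL)
  obtain ⟨l, hl⟩ := exists_conj_eq_of_isComplement' (N.subgroupOf L) (K.subgroupOf L)
    (H₀.subgroupOf L) hc1 hc2
    (by rw [card_subgroupOf_of_le hNL, card_subgroupOf_of_le hKL]; exact hK) (Or.inl hsolL)
  rw [← Subgroup.inf_subgroupOf_right H₀ L] at hl
  have h2 := conj_smul_eq_of_subgroupOf hKL inf_le_right l hl
  refine ⟨(l : G)⁻¹, ?_⟩
  rw [map_inv, ← Subgroup.pointwise_smul_subset_iff, h2]
  exact inf_le_left

/-- **Hall's theorem, dominance.** -/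
theorem hall_dom_aux : ∀ (k : ℕ) (G : Type u) [Group G] [Finite G] [Group.IsSolvable G]
    (m n : ℕ), Nat.card G = k → k = m * n → m.Coprime n → ∀ K : Subgroup G,
    (Nat.card K).Coprime n → ∃ H : Subgroup G, Nat.card H = m ∧ K ≤ H := by
  intro k
  induction k using Nat.strong_induction_on with
  | _ k ih =>
    intro G _ _ _ m n hk hmn hcop K hK
    subst hk
    rcases subsingleton_or_nontrivial G with hG | hG
    · refine ⟨⊥, ?_, ?_⟩
      · have h1 : Nat.card G = 1 := Nat.card_eq_one_iff_unique.mpr ⟨hG, ⟨1⟩⟩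
        rw [h1] at hmn
        rw [Subgroup.card_bot]
        exact (Nat.eq_one_of_mul_eq_one_right hmn.symm).symm
      · exact le_of_eq (Subsingleton.elim _ _)
    obtain ⟨p, M, hp, hMn, hM1, hMp, -⟩ := exists_normal_pSubgroup_of_isSolvable (G := G)
    have : Fact p.Prime := ⟨hp⟩
    obtain ⟨j, hj⟩ := IsPGroup.iff_card.mp hMp
    have hj0 : j ≠ 0 := by
      rintro rfl
      rw [pow_zero, Subgroup.card_eq_one] at hj
      exact hM1 hj
    have hMG : Nat.card M * Nat.card (G ⧸ M) = Nat.card G := card_quotient_mul_card M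
    have hdvd : p ^ j ∣ m * n := by rw [← hmn, ← hMG, hj]; exact dvd_mul_right _ _
    have hlt : Nat.card (G ⧸ M) < Nat.card G := card_quotient_lt M hM1
    have hpmn : p ∣ m * n := (dvd_pow_self p hj0).trans hdvd
    have h1 : p ^ j * Nat.card (G ⧸ M) = m * n := by rw [← hj, hMG, hmn]
    let π := QuotientGroup.mk' M
    have hKπ : K ≤ (K.map π).comap π := Subgroup.le_comap_map _ _
    rcases (Nat.Prime.dvd_mul hp).mp hpmn with hpm | hpn
    · -- `p ∣ m`
      obtain ⟨⟨m', hm'⟩, hpn⟩ := pow_dvd_left_of_coprime hp hdvd hcop hpm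
      have hQ : Nat.card (G ⧸ M) = m' * n := by
        have : p ^ j * Nat.card (G ⧸ M) = p ^ j * (m' * n) := by
          rw [h1, hm', mul_assoc]
        exact Nat.eq_of_mul_eq_mul_left (pow_pos hp.pos j) this
      have hcop' : m'.Coprime n := Nat.Coprime.coprime_dvd_left ⟨p ^ j, by rw [hm', mul_comm]⟩ hcop
      obtain ⟨Hbar, hHbar, hle⟩ := ih _ hlt (G ⧸ M) m' n rfl hQ hcop' (K.map π)
        (Nat.Coprime.coprime_dvd_left (Subgroup.card_map_dvd K π) hK)
      refine ⟨Hbar.comap π, ?_, hKπ.trans (Subgroup.comap_mono hle)⟩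
      rw [card_comap_mk', hHbar, hj, hm']
    · -- `p ∣ n`
      have hdvd' : p ^ j ∣ n * m := by rw [mul_comm]; exact hdvd
      obtain ⟨⟨n', hn'⟩, hpm⟩ := pow_dvd_left_of_coprime hp hdvd' hcop.symm hpn
      have hQ : Nat.card (G ⧸ M) = m * n' := by
        have : p ^ j * Nat.card (G ⧸ M) = p ^ j * (m * n') := by
          rw [h1, hn']; ring
        exact Nat.eq_of_mul_eq_mul_left (pow_pos hp.pos j) this
      have hn'n : n' ∣ n := ⟨p ^ j, by rw [hn', mul_comm]⟩
      have hcop' : m.Coprime n' := Nat.Coprime.coprime_dvd_right hn'n hcop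
      obtain ⟨Hbar, hHbar, hle⟩ := ih _ hlt (G ⧸ M) m n' rfl hQ hcop' (K.map π)
        (Nat.Coprime.coprime_dvd_left (Subgroup.card_map_dvd K π)
          (Nat.Coprime.coprime_dvd_right hn'n hK))
      set L : Subgroup G := Hbar.comap π with hL
      have hML : M ≤ L := le_comap_mk'_of_le M Hbar
      have hKL : K ≤ L := hKπ.trans (Subgroup.comap_mono hle)
      have hcardL : Nat.card L = p ^ j * m := by rw [hL, card_comap_mk', hHbar, hj]
      have hMLn : (M.subgroupOf L).Normal := Subgroup.normal_subgroupOf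
      have hcardML : Nat.card (M.subgroupOf L) = p ^ j := by rw [card_subgroupOf_of_le hML, hj]
      have hidx : (M.subgroupOf L).index = m := by
        have := (M.subgroupOf L).card_mul_index
        rw [hcardML, hcardL] at this
        exact Nat.eq_of_mul_eq_mul_left (pow_pos hp.pos j) this
      have hcopL : (Nat.card (M.subgroupOf L)).Coprime (M.subgroupOf L).index := by
        rw [hcardML, hidx]
        exact Nat.Coprime.pow_left j ((Nat.Prime.coprime_iff_not_dvd hp).mpr hpm)
      obtain ⟨C, hC⟩ := Subgroup.exists_right_complement'_of_coprime hcopL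
      have hcardC : Nat.card C = m := by rw [← hC.symm.index_eq_card, hidx]
      have hpK : ¬ p ∣ Nat.card K := by
        intro h
        have := Nat.dvd_gcd h hpn
        rw [hK] at this
        exact hp.one_lt.ne' (Nat.dvd_one.mp this)
      have hcopK : (Nat.card (M.subgroupOf L)).Coprime (Nat.card (K.subgroupOf L)) := by
        rw [hcardML, card_subgroupOf_of_le hKL]
        exact Nat.Coprime.pow_left j ((Nat.Prime.coprime_iff_not_dvd hp).mpr hpK)
      obtain ⟨l, hl⟩ := exists_le_conj_of_coprime (M.subgroupOf L) C (K.subgroupOf L) hC hcopK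
        inferInstance
      refine ⟨(MulAut.conj l • C).map L.subtype, ?_, ?_⟩
      · rw [Subgroup.card_map_of_injective L.subtype_injective, card_conj_smul, hcardC]
      · intro x hx
        exact ⟨⟨x, hKL hx⟩, hl (Subgroup.mem_subgroupOf.mpr hx), rfl⟩

theorem hall_dom {G : Type u} [Group G] [Finite G] [Group.IsSolvable G] (m n : ℕ)
    (hG : Nat.card G = m * n) (hmn : m.Coprime n) (K : Subgroup G)
    (hK : (Nat.card K).Coprime n) : ∃ H : Subgroup G, Nat.card H = m ∧ K ≤ H :=
  hall_dom_aux (Nat.card G) G m n rfl hG hmn K hK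

end Cfsg.Agent.Lib.Helper1
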