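import Mathlib
import Cfsg.Agent.Lib.Helper1.HallDom

/-!
Carter subgroups of finite solvable groups: existence and conjugacy.
-/

set_option autoImplicit false

namespace Cfsg.Agent.Lib.Helper1

open Pointwise

universe u

/-- A Carter subgroup: nilpotent and self-normalizing. -/
def IsCarter {G : Type*} [Group G] (C : Subgroup G) : Prop :=
  Group.IsNilpotent C ∧ Subgroup.normalizer (C : Set G) = C

theorem isNilpotent_of_injective {A B : Type*} [Group A] [Group B] (f : A →* B)
    (hf : Function.Injective f) [Group.IsNilpotent B] : Group.IsNilpotent A :=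
  (Group.isNilpotent_congr (MonoidHom.ofInjective hf)).mpr inferInstance

theorem isNilpotent_map {G G' : Type*} [Group G] [Group G'] (f : G →* G') (C : Subgroup G)
    (hC : Group.IsNilpotent C) : Group.IsNilpotent (C.map f) :=
  Group.nilpotent_of_surjective (f.subgroupMap C) (f.subgroupMap_surjective C)

theorem mem_normalizer_iff_conj_smul_eq {G : Type*} [Group G] {M : Subgroup G} {g : G} :
    g ∈ Subgroup.normalizer (M : Set G) ↔ MulAut.conj g • M = M :=
  Subgroup.mem_normalizer_iff_map_conj_eq

/-- F1: a Carter subgroup is Carter in every intermediate subgroup. -/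
theorem IsCarter.subgroupOf {G : Type*} [Group G] {C L : Subgroup G} (hC : IsCarter C)
    (hCL : C ≤ L) : IsCarter (C.subgroupOf L) := by
  refine ⟨?_, ?_⟩
  · have := hC.1
    exact (Group.isNilpotent_congr (Subgroup.subgroupOfEquivOfLe hCL)).mpr this
  · rw [← Subgroup.subgroupOf_normalizer_eq hCL, hC.2]

/-- F2: conjugates of Carter subgroups are Carter. -/
theorem IsCarter.conj_smul {G : Type*} [Group G] {C : Subgroup G} (hC : IsCarter C) (g : G) :
    IsCarter (MulAut.conj g • C) := by
  refine ⟨?_, ?_⟩
  · have := hC.1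
    exact (Group.isNilpotent_congr (Subgroup.equivSMul (MulAut.conj g) C)).mp this
  · have h := Subgroup.map_equiv_normalizer_eq C (MulAut.conj g)
    rw [hC.2] at h
    exact h.symm

/-- F3: in a nilpotent group the only Carter subgroup is the whole group. -/
theorem IsCarter.eq_top_of_isNilpotent {G : Type*} [Group G] [Group.IsNilpotent G]
    {C : Subgroup G} (hC : IsCarter C) : C = ⊤ := by
  by_contra h
  have := Group.normalizerCondition_of_isNilpotent (G := G) C (lt_top_iff_ne_top.mpr h)
  rw [hC.2] at this
  exact lt_irrefl _ this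

theorem isCarter_top_of_isNilpotent {G : Type*} [Group G] [Group.IsNilpotent G] :
    IsCarter (⊤ : Subgroup G) := by
  refine ⟨(Group.isNilpotent_congr Subgroup.topEquiv).mpr inferInstance, ?_⟩
  rw [Subgroup.normalizer_eq_top_iff.mpr inferInstance]

/-- Conjugacy of Carter subgroups in a given group. -/
def CarterConj (G : Type u) [Group G] : Prop :=
  ∀ C D : Subgroup G, IsCarter C → IsCarter D → ∃ g : G, MulAut.conj g • C = D

/-- Lemma 1: images of Carter subgroups are Carter subgroups, assuming conjugacy in smaller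
groups. -/
theorem IsCarter.map {G : Type u} [Group G] [Finite G]
    (IH : ∀ (G' : Type u) [Group G'] [Finite G'] [Group.IsSolvable G'],
      Nat.card G' < Nat.card G → CarterConj G')
    [Group.IsSolvable G] {G' : Type*} [Group G'] (f : G →* G') (hf : Function.Surjective f)
    {C : Subgroup G} (hC : IsCarter C) : IsCarter (C.map f) := by
  refine ⟨isNilpotent_map f C hC.1, le_antisymm ?_ Subgroup.le_normalizer⟩
  intro xbar hxbar
  obtain ⟨x, rfl⟩ := hf xbar
  set K : Subgroup G := C ⊔ f.ker with hK
  have hCK : C ≤ K := le_sup_left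
  have hxK : x ∈ Subgroup.normalizer (K : Set G) := by
    have h1 : x ∈ (Subgroup.normalizer ((C.map f : Subgroup G') : Set G')).comap f := hxbar
    rw [Subgroup.comap_normalizer_eq_of_surjective _ hf, Subgroup.comap_map_eq] at h1
    exact h1
  have hmapK : K.map f = C.map f := by
    rw [hK, Subgroup.map_sup, (Subgroup.map_eq_bot_iff _).mpr le_rfl, sup_bot_eq]
  suffices hx : x ∈ K by
    rw [← hmapK]; exact Subgroup.mem_map_of_mem f hx
  by_cases hKtop : K = ⊤
  · rw [hKtop]; trivial
  · have hxK' : MulAut.conj x • K = K := mem_normalizer_iff_conj_smul_eq.mp hxK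
    set C₂ : Subgroup G := MulAut.conj x • C with hC₂
    have hC₂K : C₂ ≤ K := by
      rw [← hxK']
      exact Subgroup.pointwise_smul_le_pointwise_smul_iff.mpr hCK
    have hcar1 : IsCarter (C.subgroupOf K) := hC.subgroupOf hCK
    have hcar2 : IsCarter (C₂.subgroupOf K) := (hC.conj_smul x).subgroupOf hC₂K
    obtain ⟨k, hk⟩ := IH K (card_subgroup_lt K hKtop) _ _ hcar2 hcar1
    have h3 := conj_smul_eq_of_subgroupOf hC₂K hCK k hk
    rw [hC₂, conj_smul_conj_smul] at h3
    have h4 : (k : G) * x ∈ C := by
      rw [← hC.2]; exact mem_normalizer_iff_conj_smul_eq.mpr h3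
    have : x = (k : G)⁻¹ * ((k : G) * x) := by group
    rw [this]
    exact K.mul_mem (K.inv_mem k.2) (hCK h4)

/-- If `G'` is nilpotent and `f : G → G'` is onto, a Carter subgroup of `G` covers `G'`. -/
theorem IsCarter.sup_ker_eq_top {G : Type u} [Group G] [Finite G]
    (IH : ∀ (G' : Type u) [Group G'] [Finite G'] [Group.IsSolvable G'],
      Nat.card G' < Nat.card G → CarterConj G')
    [Group.IsSolvable G] {G' : Type*} [Group G'] [Group.IsNilpotent G'] (f : G →* G')
    (hf : Function.Surjective f) {C : Subgroup G} (hC : IsCarter C) : C ⊔ f.ker = ⊤ := by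
  have h1 : C.map f = ⊤ := (hC.map IH f hf).eq_top_of_isNilpotent
  have h2 := congrArg (Subgroup.comap f) h1
  rwa [Subgroup.comap_map_eq, Subgroup.comap_top] at h2

end Cfsg.Agent.Lib.Helper1
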