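import Mathlib
import Cfsg.Agent.Lib.Helper1.Carter

/-!
Carter subgroups of finite solvable groups: existence step.
-/

set_option autoImplicit false

namespace Cfsg.Agent.Lib.Helper1

open Pointwise

universe u

/-- Key case of the existence proof: `G/N` nilpotent for an abelian minimal normal subgroup `N`. -/
theorem exists_isCarter_of_quotient_nilpotent {G : Type*} [Group G] [Finite G]
    (N : Subgroup G) [hNn : N.Normal] (hNc : IsMulCommutative N)
    (hNmin : ∀ M : Subgroup G, M.Normal → M ≤ N → M = ⊥ ∨ M = N)
    (hQ : Group.IsNilpotent (G ⧸ N)) : ∃ C : Subgroup G, IsCarter C := by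
  let π := QuotientGroup.mk' N
  have hπ : Function.Surjective π := QuotientGroup.mk'_surjective N
  by_cases hall : ∀ M : Subgroup G, IsCoatom M → M.Normal
  · have hnil : Group.IsNilpotent G :=
      ((Group.isNilpotent_of_finite_tfae (G := G)).out 0 2).mpr hall
    exact ⟨⊤, isCarter_top_of_isNilpotent⟩
  · push Not at hall
    obtain ⟨M, hM, hMnn⟩ := hall
    have hnormM : Subgroup.normalizer (M : Set G) = M := by
      rcases eq_or_lt_of_le (Subgroup.le_normalizer (H := M)) with h | h
      · exact h.symm
      · exact absurd (Subgroup.normalizer_eq_top_iff.mp (hM.2 _ h)) hMnn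
    -- `N` is not contained in `M`
    have hNM : ¬ N ≤ M := by
      intro hle
      have hcm : (M.map π).comap π = M := by
        rw [Subgroup.comap_map_eq, QuotientGroup.ker_mk', sup_of_le_left hle]
      have hne : M.map π ≠ ⊤ := by
        intro h
        rw [h, Subgroup.comap_top] at hcm
        exact hM.1 hcm.symm
      have hlt := Group.normalizerCondition_of_isNilpotent (G := G ⧸ N) (M.map π)
        (lt_top_iff_ne_top.mpr hne)
      obtain ⟨ybar, hy1, hy2⟩ := SetLike.exists_of_lt hlt
      obtain ⟨y, rfl⟩ := hπ ybar
      have h1 : y ∈ (Subgroup.normalizer ((M.map π : Subgroup (G ⧸ N)) : Set (G ⧸ N))).comap π := hy1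
      have h2 := Subgroup.le_normalizer_comap π h1
      rw [hcm, hnormM] at h2
      exact hy2 (Subgroup.mem_map_of_mem π h2)
    have hsup : M ⊔ N = ⊤ := by
      apply hM.2
      refine lt_of_le_of_ne le_sup_left ?_
      intro h
      exact hNM (h ▸ le_sup_right)
    have hinfn : (M ⊓ N).Normal := by
      rw [← Subgroup.normalizer_eq_top_iff, eq_top_iff, ← hsup]
      apply sup_le
      · refine le_trans ?_ Subgroup.inf_normalizer_le_normalizer_inf
        exact le_inf Subgroup.le_normalizer Subgroup.le_normalizer_of_normal
      · intro n hn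
        rw [Subgroup.mem_normalizer_iff]
        intro x
        have hcomm : ∀ y ∈ N, n * y * n⁻¹ = y := by
          intro y hy
          have : (⟨n, hn⟩ : N) * ⟨y, hy⟩ = ⟨y, hy⟩ * ⟨n, hn⟩ := mul_comm' _ _
          have h2 : n * y = y * n := congrArg Subtype.val this
          rw [h2, mul_inv_cancel_right]
        constructor
        · intro hx
          rw [hcomm x hx.2]; exact hx
        · intro hx
          have hxN : x ∈ N := by
            have := hNn.conj_mem _ hx.2 n⁻¹
            simpa [mul_assoc] using this
          rw [hcomm x hxN] at hx; exact hx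
    have hinf : M ⊓ N = ⊥ := by
      rcases hNmin (M ⊓ N) hinfn inf_le_right with h | h
      · exact h
      · exact absurd (h ▸ inf_le_left) hNM
    have hMnil : Group.IsNilpotent M := by
      apply isNilpotent_of_injective (π.comp M.subtype)
      rw [injective_iff_map_eq_one]
      intro x hx
      have hxN : (x : G) ∈ N := by
        rw [← QuotientGroup.ker_mk' N]; exact hx
      have : (x : G) ∈ M ⊓ N := ⟨x.2, hxN⟩
      rw [hinf, Subgroup.mem_bot] at this
      exact Subtype.ext this
    exact ⟨M, hMnil, hnormM⟩

theorem exists_isCarter_step {G : Type u} [Group G] [Finite G] [Group.IsSolvable G]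
    (IHE : ∀ (G' : Type u) [Group G'] [Finite G'] [Group.IsSolvable G'],
      Nat.card G' < Nat.card G → ∃ C : Subgroup G', IsCarter C)
    (IHC : ∀ (G' : Type u) [Group G'] [Finite G'] [Group.IsSolvable G'],
      Nat.card G' < Nat.card G → CarterConj G') : ∃ C : Subgroup G, IsCarter C := by
  rcases subsingleton_or_nontrivial G with hs | hnt
  · exact ⟨⊤, isCarter_top_of_isNilpotent⟩
  obtain ⟨p, N, hp, hNn, hN1, hNp, hNc, hNpow, hNmin⟩ :=
    exists_normal_pSubgroup_of_isSolvable (G := G)
  let π := QuotientGroup.mk' N
  have hπ : Function.Surjective π := QuotientGroup.mk'_surjective N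
  obtain ⟨Kbar, hKbar⟩ := IHE (G ⧸ N) (card_quotient_lt N hN1)
  set K : Subgroup G := Kbar.comap π with hKdef
  by_cases hKtop : K = ⊤
  · have hKbartop : Kbar = ⊤ := by
      apply Subgroup.comap_injective hπ
      rw [← hKdef, hKtop, Subgroup.comap_top]
    have hQnil : Group.IsNilpotent (G ⧸ N) := by
      have := hKbar.1
      rw [hKbartop] at this
      exact (Group.isNilpotent_congr Subgroup.topEquiv).mp this
    exact exists_isCarter_of_quotient_nilpotent N hNc hNmin hQnil
  · have hcardK : Nat.card K < Nat.card G := card_subgroup_lt K hKtop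
    obtain ⟨C', hC'⟩ := IHE K hcardK
    have hNK : N ≤ K := le_comap_mk'_of_le N Kbar
    let f : K →* Kbar := (π.comp K.subtype).codRestrict Kbar (fun x => x.2)
    have hf : Function.Surjective f := by
      rintro ⟨ybar, hy⟩
      obtain ⟨y, rfl⟩ := hπ ybar
      exact ⟨⟨y, hy⟩, rfl⟩
    have hKbarnil : Group.IsNilpotent Kbar := hKbar.1
    have hcover := hC'.sup_ker_eq_top
      (fun G' _ _ _ hlt => IHC G' (hlt.trans hcardK)) f hf
    have hker : f.ker = N.subgroupOf K := by
      ext x
      rw [MonoidHom.mem_ker, Subgroup.mem_subgroupOf]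
      have hiff : π (x : G) = 1 ↔ (x : G) ∈ N := by
        rw [← MonoidHom.mem_ker, QuotientGroup.ker_mk']
      rw [← hiff]
      constructor
      · intro h
        exact congrArg Subtype.val h
      · intro h
        exact Subtype.ext h
    set C : Subgroup G := C'.map K.subtype with hCdef
    have hCK : C ≤ K := Subgroup.map_subtype_le C'
    have hCN : C ⊔ N = K := by
      have h1 := congrArg (Subgroup.map K.subtype) hcover
      rw [Subgroup.map_sup, hker, Subgroup.subgroupOf_map_subtype, inf_of_le_left hNK,
        ← MonoidHom.range_eq_map, Subgroup.range_subtype] at h1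
      exact h1
    have hnormK : Subgroup.normalizer (K : Set G) = K := by
      rw [hKdef, ← Subgroup.comap_normalizer_eq_of_surjective _ hπ, hKbar.2]
    have hCsub : C.subgroupOf K = C' := by
      rw [hCdef, Subgroup.subgroupOf, Subgroup.comap_map_eq_self_of_injective K.subtype_injective]
    refine ⟨C, ?_, le_antisymm ?_ Subgroup.le_normalizer⟩
    · have := hC'.1
      exact (Group.isNilpotent_congr (C'.equivMapOfInjective K.subtype K.subtype_injective)).mp this
    · intro x hx
      have hxK : x ∈ K := by
        rw [← hnormK, ← hCN]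
        apply Subgroup.normalizer_inf_normalizer_le_normalizer_sup C N
        exact ⟨hx, Subgroup.le_normalizer_of_normal (Subgroup.mem_top x)⟩
      have h1 : (⟨x, hxK⟩ : K) ∈ (Subgroup.normalizer (C : Set G)).subgroupOf K :=
        Subgroup.mem_subgroupOf.mpr hx
      rw [Subgroup.subgroupOf_normalizer_eq hCK, hCsub, hC'.2] at h1
      exact ⟨⟨x, hxK⟩, h1, rfl⟩

end Cfsg.Agent.Lib.Helper1
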