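import Mathlib
import Cfsg.Agent.Lib.Helper1.CarterExists

/-!
Carter subgroups of finite solvable groups: conjugacy step and the main theorem.
-/

set_option autoImplicit false

namespace Cfsg.Agent.Lib.Helper1

open Pointwise Cfsg

universe u

/-- In a finite nilpotent group the `p'`-core has `p`-power index. -/
theorem index_pPrimeCore_of_isNilpotent {X : Type*} [Group X] [Finite X] [Group.IsNilpotent X]
    (p : ℕ) [hp : Fact p.Prime] : ∃ j : ℕ, (pPrimeCore p X).index = p ^ j := by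
  let S : ∀ q : Nat.Primes, Sylow (q : ℕ) X := fun q => Classical.arbitrary _
  let P : Sylow p X := S ⟨p, hp.out⟩
  have hHn : (pPrimeCore p X).Normal := pPrimeCore_normal p
  have htop : (pPrimeCore p X) ⊔ (P : Subgroup X) = ⊤ := by
    rw [eq_top_iff, ← iSup_sylow_eq_top S]
    refine iSup_le fun q => ?_
    by_cases hq : (q : ℕ) = p
    · have : q = ⟨p, hp.out⟩ := Subtype.ext hq
      rw [this]; exact le_sup_right
    · refine le_sup_of_le_left ?_
      have : Fact (q : ℕ).Prime := ⟨q.2⟩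
      have hn : ((S q : Sylow (q : ℕ) X) : Subgroup X).Normal := inferInstance
      apply le_pPrimeCore hn
      obtain ⟨k, hk⟩ := IsPGroup.iff_card.mp (S q).isPGroup'
      rw [hk]
      exact Nat.Coprime.pow_left k ((Nat.coprime_primes q.2 hp.out).mpr hq)
  have h1 : (pPrimeCore p X).relIndex ((pPrimeCore p X) ⊔ (P : Subgroup X)) =
      (pPrimeCore p X).relIndex (P : Subgroup X) := Subgroup.relIndex_sup_left _ _
  rw [htop, Subgroup.relIndex_top_right] at h1
  have h2 : (pPrimeCore p X).index ∣ Nat.card P := by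
    rw [h1]; exact Subgroup.relIndex_dvd_card _ _
  obtain ⟨k, hk⟩ := IsPGroup.iff_card.mp P.isPGroup'
  rw [hk] at h2
  obtain ⟨j, _, hj⟩ := (Nat.dvd_prime_pow hp.out).mp h2
  exact ⟨j, hj⟩

/-- The normal Hall `p'`-subgroup of a nilpotent subgroup `C`, as a subgroup of `G`. -/
noncomputable def pPrimePart {G : Type*} [Group G] (p : ℕ) (C : Subgroup G) : Subgroup G :=
  (pPrimeCore p C).map C.subtype

theorem pPrimePart_le {G : Type*} [Group G] (p : ℕ) (C : Subgroup G) : pPrimePart p C ≤ C :=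
  Subgroup.map_subtype_le _

theorem le_normalizer_pPrimePart {G : Type*} [Group G] (p : ℕ) (C : Subgroup G) :
    C ≤ Subgroup.normalizer (pPrimePart p C : Set G) := by
  rw [← Subgroup.normal_subgroupOf_iff_le_normalizer (pPrimePart_le p C)]
  have : (pPrimePart p C).subgroupOf C = pPrimeCore p C := by
    rw [pPrimePart, Subgroup.subgroupOf,
      Subgroup.comap_map_eq_self_of_injective C.subtype_injective]
  rw [this]
  exact pPrimeCore_normal p

theorem card_pPrimePart_coprime {G : Type*} [Group G] [Finite G] (p : ℕ) (C : Subgroup G) :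
    (Nat.card (pPrimePart p C)).Coprime p := by
  rw [pPrimePart, Subgroup.card_map_of_injective C.subtype_injective]
  exact pPrimeCore_card_coprime p

theorem card_eq_card_pPrimePart_mul {G : Type*} [Group G] [Finite G] (p : ℕ) [Fact p.Prime]
    (C : Subgroup G) (hC : Group.IsNilpotent C) :
    ∃ j : ℕ, Nat.card C = Nat.card (pPrimePart p C) * p ^ j := by
  obtain ⟨j, hj⟩ := index_pPrimeCore_of_isNilpotent (X := C) p
  refine ⟨j, ?_⟩
  rw [pPrimePart, Subgroup.card_map_of_injective C.subtype_injective, ← hj]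
  exact (Subgroup.card_mul_index _).symm

theorem eq_of_mul_pow_eq {p m₁ m₂ a₁ a₂ : ℕ} (h : m₁ * p ^ a₁ = m₂ * p ^ a₂)
    (h₁ : m₁.Coprime p) (h₂ : m₂.Coprime p) : m₁ = m₂ := by
  apply Nat.dvd_antisymm
  · have : m₁ ∣ m₂ * p ^ a₂ := ⟨p ^ a₁, h.symm⟩
    exact (Nat.Coprime.pow_right a₂ h₁).dvd_of_dvd_mul_right this
  · have : m₂ ∣ m₁ * p ^ a₁ := ⟨p ^ a₂, h⟩
    exact (Nat.Coprime.pow_right a₁ h₂).dvd_of_dvd_mul_right this

theorem inf_normal_of_sup_eq_top {G : Type*} [Group G] {M N : Subgroup G} [hNn : N.Normal]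
    [IsMulCommutative N] (hsup : M ⊔ N = ⊤) : (M ⊓ N).Normal := by
  rw [← Subgroup.normalizer_eq_top_iff, eq_top_iff, ← hsup]
  apply sup_le
  · refine le_trans ?_ Subgroup.inf_normalizer_le_normalizer_inf
    exact le_inf Subgroup.le_normalizer Subgroup.le_normalizer_of_normal
  · intro n hn
    rw [Subgroup.mem_normalizer_iff]
    intro x
    have hcomm : ∀ y ∈ N, n * y * n⁻¹ = y := by
      intro y hy
      have : (⟨n, hn⟩ : N) * ⟨y, hy⟩ = ⟨y, hy⟩ * ⟨n, hn⟩ := mul_comm' _ _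
      have h2 : n * y = y * n := congrArg Subtype.val this
      rw [h2, mul_inv_cancel_right]
    constructor
    · intro hx
      rw [hcomm x hx.2]; exact hx
    · intro hx
      have hxN : x ∈ N := by
        have := hNn.conj_mem _ hx.2 n⁻¹
        simpa [mul_assoc] using this
      rw [hcomm x hxN] at hx; exact hx

theorem isNilpotent_of_top_isNilpotent {G : Type*} [Group G]
    (h : Group.IsNilpotent (⊤ : Subgroup G)) : Group.IsNilpotent G :=
  (Group.isNilpotent_congr Subgroup.topEquiv).mp h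

/-- A Carter subgroup supplementing an abelian minimal normal subgroup of a non-nilpotent group
is a complement. -/
theorem IsCarter.inf_eq_bot_of_sup_eq_top {G : Type*} [Group G] {D N : Subgroup G} [N.Normal]
    [IsMulCommutative N] (hD : IsCarter D)
    (hNmin : ∀ M : Subgroup G, M.Normal → M ≤ N → M = ⊥ ∨ M = N)
    (hsup : D ⊔ N = ⊤) (hG : ¬ Group.IsNilpotent G) : D ⊓ N = ⊥ := by
  rcases hNmin (D ⊓ N) (inf_normal_of_sup_eq_top hsup) inf_le_right with h | h
  · exact h
  · exfalso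
    apply hG
    have hND : N ≤ D := h ▸ inf_le_left
    have : D = ⊤ := by rw [← hsup, sup_of_le_left hND]
    have hn := hD.1
    rw [this] at hn
    exact isNilpotent_of_top_isNilpotent hn


/-- The case where both Carter subgroups supplement `N`. -/
theorem carterConj_supplement_case {G : Type u} [Group G] [Finite G] [Group.IsSolvable G]
    (IHC : ∀ (G' : Type u) [Group G'] [Finite G'] [Group.IsSolvable G'],
      Nat.card G' < Nat.card G → CarterConj G')
    (hGnil : ¬ Group.IsNilpotent G)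
    (p : ℕ) [hp : Fact p.Prime] (N : Subgroup G) [hNn : N.Normal] [hNc : IsMulCommutative N]
    (hNp : IsPGroup p N)
    (hNmin : ∀ M : Subgroup G, M.Normal → M ≤ N → M = ⊥ ∨ M = N)
    (D₁ C₂ : Subgroup G) (h₁ : IsCarter D₁) (h₂ : IsCarter C₂)
    (hs₁ : D₁ ⊔ N = ⊤) (hs₂ : C₂ ⊔ N = ⊤) : ∃ g : G, MulAut.conj g • D₁ = C₂ := by
  have hi₁ : D₁ ⊓ N = ⊥ := h₁.inf_eq_bot_of_sup_eq_top hNmin hs₁ hGnil
  have hi₂ : C₂ ⊓ N = ⊥ := h₂.inf_eq_bot_of_sup_eq_top hNmin hs₂ hGnil
  -- orders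
  have hcard : ∀ D : Subgroup G, D ⊔ N = ⊤ → D ⊓ N = ⊥ → Nat.card D * Nat.card N = Nat.card G := by
    intro D hs hi
    have hc : Subgroup.IsComplement' D N := by
      apply Subgroup.isComplement'_of_disjoint_and_mul_eq_univ (disjoint_iff.mpr hi)
      rw [← Subgroup.mul_normal, hs, Subgroup.coe_top]
    exact hc.card_mul_card
  obtain ⟨k, hk⟩ := IsPGroup.iff_card.mp hNp
  obtain ⟨j₁, hj₁⟩ := card_eq_card_pPrimePart_mul p D₁ h₁.1
  obtain ⟨j₂, hj₂⟩ := card_eq_card_pPrimePart_mul p C₂ h₂.1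
  set Q₁ := pPrimePart p D₁ with hQ₁
  set Q₂ := pPrimePart p C₂ with hQ₂
  have hG₁ : Nat.card G = Nat.card Q₁ * p ^ (j₁ + k) := by
    rw [← hcard D₁ hs₁ hi₁, hj₁, hk, pow_add, mul_assoc]
  have hG₂ : Nat.card G = Nat.card Q₂ * p ^ (j₂ + k) := by
    rw [← hcard C₂ hs₂ hi₂, hj₂, hk, pow_add, mul_assoc]
  have hcop₁ : (Nat.card Q₁).Coprime p := card_pPrimePart_coprime p D₁
  have hcop₂ : (Nat.card Q₂).Coprime p := card_pPrimePart_coprime p C₂
  have hQQ : Nat.card Q₁ = Nat.card Q₂ := eq_of_mul_pow_eq (hG₁.symm.trans hG₂) hcop₁ hcop₂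
  obtain ⟨g₂, hg₂⟩ := hall_conj (Nat.card Q₁) (p ^ (j₁ + k)) hG₁
    (Nat.Coprime.pow_right _ hcop₁) Q₁ Q₂ rfl hQQ.symm
  set E₁ : Subgroup G := MulAut.conj g₂ • D₁ with hE₁
  have hE₁car : IsCarter E₁ := h₁.conj_smul g₂
  have hQ₂E₁ : Q₂ ≤ E₁ := by
    rw [← hg₂, hE₁]
    exact Subgroup.pointwise_smul_le_pointwise_smul_iff.mpr (pPrimePart_le p D₁)
  have hQ₂C₂ : Q₂ ≤ C₂ := pPrimePart_le p C₂
  have hE₁norm : E₁ ≤ Subgroup.normalizer (Q₂ : Set G) := by
    have h1 : (Subgroup.normalizer (Q₁ : Set G)).map (MulAut.conj g₂).toMonoidHom =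
        Subgroup.normalizer ((Q₁.map (MulAut.conj g₂).toMonoidHom : Subgroup G) : Set G) :=
      Subgroup.map_equiv_normalizer_eq Q₁ (MulAut.conj g₂)
    have h2 : D₁.map (MulAut.conj g₂).toMonoidHom ≤
        (Subgroup.normalizer (Q₁ : Set G)).map (MulAut.conj g₂).toMonoidHom :=
      Subgroup.map_mono (le_normalizer_pPrimePart p D₁)
    rw [h1] at h2
    have h3 : (Q₁.map (MulAut.conj g₂).toMonoidHom : Subgroup G) = Q₂ := hg₂
    rw [h3] at h2
    exact h2
  have hC₂norm : C₂ ≤ Subgroup.normalizer (Q₂ : Set G) := le_normalizer_pPrimePart p C₂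
  set L : Subgroup G := Subgroup.normalizer (Q₂ : Set G) with hL
  suffices hsuff : ∃ g : G, MulAut.conj g • E₁ = C₂ by
    obtain ⟨g, hg⟩ := hsuff
    refine ⟨g * g₂, ?_⟩
    rw [← conj_smul_conj_smul]; exact hg
  by_cases hLtop : L = ⊤
  · have hQ₂n : Q₂.Normal := Subgroup.normalizer_eq_top_iff.mp hLtop
    by_cases hQ₂1 : Q₂ = ⊥
    · exfalso
      apply hGnil
      have : Nat.card G = p ^ (j₂ + k) := by
        rw [hG₂, hQ₂1, Subgroup.card_bot, one_mul]
      exact (IsPGroup.of_card this).isNilpotent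
    · let π := QuotientGroup.mk' Q₂
      have hπ : Function.Surjective π := QuotientGroup.mk'_surjective Q₂
      obtain ⟨gbar, hgbar⟩ := IHC (G ⧸ Q₂) (card_quotient_lt Q₂ hQ₂1) _ _
        (hE₁car.map IHC π hπ) (h₂.map IHC π hπ)
      obtain ⟨g, rfl⟩ := hπ gbar
      have hsup := sup_eq_sup_of_map_conj_eq E₁ C₂ g hgbar
      rw [sup_of_le_left hQ₂C₂, sup_of_le_left (le_conj_smul_of_normal hQ₂E₁ g)] at hsup
      exact ⟨g, hsup⟩
  · obtain ⟨l, hl⟩ := IHC L (card_subgroup_lt L hLtop) _ _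
      (hE₁car.subgroupOf hE₁norm) (h₂.subgroupOf hC₂norm)
    exact ⟨l, conj_smul_eq_of_subgroupOf hE₁norm hC₂norm l hl⟩

theorem carterConj_step {G : Type u} [Group G] [Finite G] [Group.IsSolvable G]
    (IHC : ∀ (G' : Type u) [Group G'] [Finite G'] [Group.IsSolvable G'],
      Nat.card G' < Nat.card G → CarterConj G') : CarterConj G := by
  intro C₁ C₂ h₁ h₂
  by_cases hGnil : Group.IsNilpotent G
  · refine ⟨1, ?_⟩
    rw [conj_one_smul, h₁.eq_top_of_isNilpotent, h₂.eq_top_of_isNilpotent]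
  have hnt : Nontrivial G := by
    by_contra h
    rw [not_nontrivial_iff_subsingleton] at h
    exact hGnil inferInstance
  obtain ⟨p, N, hp, hNn, hN1, hNp, hNc, hNpow, hNmin⟩ :=
    exists_normal_pSubgroup_of_isSolvable (G := G)
  have : Fact p.Prime := ⟨hp⟩
  let π := QuotientGroup.mk' N
  have hπ : Function.Surjective π := QuotientGroup.mk'_surjective N
  obtain ⟨gbar, hgbar⟩ := IHC (G ⧸ N) (card_quotient_lt N hN1) _ _
    (h₁.map IHC π hπ) (h₂.map IHC π hπ)
  obtain ⟨g, rfl⟩ := hπ gbar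
  have hsup := sup_eq_sup_of_map_conj_eq C₁ C₂ g hgbar
  set D₁ : Subgroup G := MulAut.conj g • C₁ with hD₁
  have hD₁car : IsCarter D₁ := h₁.conj_smul g
  suffices hsuff : ∃ g' : G, MulAut.conj g' • D₁ = C₂ by
    obtain ⟨g', hg'⟩ := hsuff
    refine ⟨g' * g, ?_⟩
    rw [← conj_smul_conj_smul]; exact hg'
  set K : Subgroup G := C₂ ⊔ N with hK
  have hD₁K : D₁ ≤ K := by rw [← hsup]; exact le_sup_left
  have hC₂K : C₂ ≤ K := le_sup_left
  by_cases hKtop : K = ⊤
  · exact carterConj_supplement_case IHC hGnil p N hNp hNmin D₁ C₂ hD₁car h₂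
      (by rw [hsup]; exact hKtop) hKtop
  · obtain ⟨k, hk⟩ := IHC K (card_subgroup_lt K hKtop) _ _
      (hD₁car.subgroupOf hD₁K) (h₂.subgroupOf hC₂K)
    exact ⟨k, conj_smul_eq_of_subgroupOf hD₁K hC₂K k hk⟩

/-- **Carter subgroups**: existence and conjugacy in finite solvable groups. -/
theorem carter_aux : ∀ (n : ℕ) (G : Type u) [Group G] [Finite G] [Group.IsSolvable G],
    Nat.card G = n → (∃ C : Subgroup G, IsCarter C) ∧ CarterConj G := by
  intro n
  induction n using Nat.strong_induction_on with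
  | _ n ih =>
    intro G _ _ _ hn
    subst hn
    have IHE : ∀ (G' : Type u) [Group G'] [Finite G'] [Group.IsSolvable G'],
        Nat.card G' < Nat.card G → ∃ C : Subgroup G', IsCarter C :=
      fun G' _ _ _ h => (ih _ h G' rfl).1
    have IHC : ∀ (G' : Type u) [Group G'] [Finite G'] [Group.IsSolvable G'],
        Nat.card G' < Nat.card G → CarterConj G' :=
      fun G' _ _ _ h => (ih _ h G' rfl).2
    exact ⟨exists_isCarter_step IHE IHC, carterConj_step IHC⟩

theorem exists_isCarter {G : Type u} [Group G] [Finite G] [Group.IsSolvable G] :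
    ∃ C : Subgroup G, IsCarter C := (carter_aux _ G rfl).1

theorem carterConj {G : Type u} [Group G] [Finite G] [Group.IsSolvable G] : CarterConj G :=
  (carter_aux _ G rfl).2

end Cfsg.Agent.Lib.Helper1
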