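import Mathlib
import Cfsg.Prelude.Def_SolvableStructure
import Cfsg.Agent.Lib.Helper1.Carter
import Cfsg.Agent.S0007

/-!
Hall complement systems of finite solvable groups: conjugacy.
-/

set_option autoImplicit false

namespace Cfsg.Agent.Lib.Helper1

open Pointwise Cfsg

universe u

variable {G : Type u} [Group G]

/-- `H` is a `p`-complement: its index is the full power of `p` dividing `|G|`. -/
def IsPComplement (p : ℕ) (H : Subgroup G) : Prop :=
  H.index = p ^ (Nat.card G).factorization p

theorem IsPComplement.card_mul [Finite G] {p : ℕ} {H : Subgroup G} (h : IsPComplement p H) :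
    Nat.card G = Nat.card H * p ^ (Nat.card G).factorization p := by
  rw [← h, Subgroup.card_mul_index]

theorem IsPComplement.coprime [Finite G] {p : ℕ} (hp : p.Prime) {H : Subgroup G}
    (h : IsPComplement p H) : (Nat.card H).Coprime p := by
  rw [Nat.coprime_comm, Nat.Prime.coprime_iff_not_dvd hp]
  intro hdvd
  have h1 := h.card_mul
  have h2 : p ^ ((Nat.card G).factorization p + 1) ∣ Nat.card G := by
    obtain ⟨c, hc⟩ := hdvd
    obtain ⟨a, ha⟩ : ∃ a, a = (Nat.card G).factorization p := ⟨_, rfl⟩
    rw [← ha] at h1 ⊢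
    refine ⟨c, ?_⟩
    rw [h1, hc, pow_succ]
    ring
  exact Nat.pow_succ_factorization_not_dvd Nat.card_pos.ne' hp h2

theorem IsPComplement.conj_smul {p : ℕ} {H : Subgroup G} (h : IsPComplement p H) (g : G) :
    IsPComplement p (MulAut.conj g • H) := by
  unfold IsPComplement at *
  rw [← h]
  exact Subgroup.index_map_equiv H (MulAut.conj g)

/-- `p`-complements of a finite solvable group are conjugate. -/
theorem IsPComplement.exists_conj [Finite G] [Group.IsSolvable G] {p : ℕ} (hp : p.Prime)
    {H K : Subgroup G} (hH : IsPComplement p H) (hK : IsPComplement p K) :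
    ∃ g : G, MulAut.conj g • H = K := by
  have hcard : Nat.card H = Nat.card K := by
    have h1 := hH.card_mul
    have h2 := hK.card_mul
    exact Nat.eq_of_mul_eq_mul_right (pow_pos hp.pos _) (h1.symm.trans h2)
  exact hall_conj (Nat.card H) (p ^ (Nat.card G).factorization p) hH.card_mul
    (Nat.Coprime.pow_right _ (hH.coprime hp)) H K rfl hcard.symm

theorem IsPComplement.index_normalizer_dvd {p : ℕ} {H : Subgroup G} (h : IsPComplement p H) :
    (Subgroup.normalizer (H : Set G)).index ∣ p ^ (Nat.card G).factorization p := by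
  rw [← h]
  exact Subgroup.index_dvd_of_le Subgroup.le_normalizer

/-- Prime divisors of the index of a finite intersection of subgroups of prime-power indices. -/
theorem prime_dvd_index_finsetInf [Finite G] (A : Nat.Primes → Subgroup G)
    (hA : ∀ p : Nat.Primes, ∃ k : ℕ, (A p).index ∣ (p : ℕ) ^ k) (T : Finset Nat.Primes) :
    ∀ r : Nat.Primes, (r : ℕ) ∣ (T.inf A).index → r ∈ T := by
  classical
  induction T using Finset.induction_on with
  | empty =>
    intro r hr
    rw [Finset.inf_empty, Subgroup.index_top] at hr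
    exact absurd (Nat.dvd_one.mp hr) r.2.one_lt.ne'
  | insert q T hq ih =>
    intro r hr
    rw [Finset.inf_insert] at hr
    obtain ⟨k, hk⟩ := hA q
    have hcop : (A q).index.Coprime (T.inf A).index := by
      apply Nat.Coprime.coprime_dvd_left hk
      apply Nat.Coprime.pow_left
      rw [Nat.Prime.coprime_iff_not_dvd q.2]
      intro h
      exact hq (ih q h)
    rw [(Cfsg.Agent.S0007.result (A q) (T.inf A) hcop).1] at hr
    rcases (Nat.Prime.dvd_mul r.2).mp hr with h | h
    · have h2 : (r : ℕ) ∣ (q : ℕ) ^ k := h.trans hk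
      have h3 := (Nat.prime_dvd_prime_iff_eq r.2 q.2).mp (r.2.dvd_of_dvd_pow h2)
      rw [Finset.mem_insert]
      left
      exact Subtype.ext h3
    · exact Finset.mem_insert_of_mem (ih r h)

/-- Simultaneous conjugacy on a finite set of primes. -/
theorem exists_conj_on_finset [Finite G] [Group.IsSolvable G] (K L : Nat.Primes → Subgroup G)
    (hK : IsComplementSystem K) (hL : IsComplementSystem L) (T : Finset Nat.Primes) :
    ∃ g : G, ∀ p ∈ T, MulAut.conj g • K p = L p := by
  classical
  induction T using Finset.induction_on with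
  | empty => exact ⟨1, fun p hp => absurd hp (Finset.notMem_empty p)⟩
  | insert r T hr ih =>
    obtain ⟨g, hg⟩ := ih
    have hKr : IsPComplement (r : ℕ) (MulAut.conj g • K r) :=
      IsPComplement.conj_smul (hK r) g
    obtain ⟨x, hx⟩ := IsPComplement.exists_conj r.2 hKr (hL r)
    -- the normalizers of the `L p`, `p ∈ T`
    let A : Nat.Primes → Subgroup G := fun p => Subgroup.normalizer (L p : Set G)
    have hA : ∀ p : Nat.Primes, ∃ k : ℕ, (A p).index ∣ (p : ℕ) ^ k :=
      fun p => ⟨_, IsPComplement.index_normalizer_dvd (hL p)⟩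
    have hcop : (T.inf A).index.Coprime
        (Subgroup.normalizer ((MulAut.conj g • K r : Subgroup G) : Set G)).index := by
      apply Nat.Coprime.coprime_dvd_right (IsPComplement.index_normalizer_dvd hKr)
      apply Nat.Coprime.pow_right
      rw [Nat.coprime_comm, Nat.Prime.coprime_iff_not_dvd r.2]
      intro h
      exact hr (prime_dvd_index_finsetInf A hA T r h)
    obtain ⟨d, hd, n, hn, hxdn⟩ := (Cfsg.Agent.S0007.result _ _ hcop).2 x
    refine ⟨d * g, ?_⟩
    intro p hp
    rw [← conj_smul_conj_smul]
    rcases Finset.mem_insert.mp hp with rfl | hpT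
    · rw [← hx, hxdn, ← conj_smul_conj_smul (g := d) (h := n),
        mem_normalizer_iff_conj_smul_eq.mp hn]
    · rw [hg p hpT]
      have hdp : d ∈ A p := by
        have := Finset.inf_le (f := A) hpT
        exact this hd
      exact mem_normalizer_iff_conj_smul_eq.mp hdp

/-- **Conjugacy of Hall complement systems.** -/
theorem complementSystem_conj [Finite G] [Group.IsSolvable G] (K L : Nat.Primes → Subgroup G)
    (hK : IsComplementSystem K) (hL : IsComplementSystem L) :
    ∃ g : G, ∀ p : Nat.Primes, MulAut.conj g • K p = L p := by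
  obtain ⟨g, hg⟩ := exists_conj_on_finset K L hK hL
    ((Nat.card G).primeFactors.subtype Nat.Prime)
  refine ⟨g, fun p => ?_⟩
  by_cases hnd : (p : ℕ) ∣ Nat.card G
  · exact hg p (Finset.mem_subtype.mpr (Nat.mem_primeFactors.mpr ⟨p.2, hnd, Nat.card_pos.ne'⟩))
  · have hf : (Nat.card G).factorization p = 0 := Nat.factorization_eq_zero_of_not_dvd hnd
    have h1 : K p = ⊤ := by
      rw [← Subgroup.index_eq_one, hK p, hf, pow_zero]
    have h2 : L p = ⊤ := by
      rw [← Subgroup.index_eq_one, hL p, hf, pow_zero]
    rw [h1, h2]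
    exact Subgroup.Normal.conj_smul_eq_self g ⊤

end Cfsg.Agent.Lib.Helper1
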