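import Mathlib
import Cfsg.Prelude.Def_SolvableStructure
import Cfsg.Agent.Lib.Helper1.ComplementSystem
import Cfsg.Agent.Lib.Helper1.HallConj
import Cfsg.Agent.Lib.Helper1.Complements
import Cfsg.Agent.Lib.Helper1.SZConj
import Cfsg.Agent.Lib.Helper1.Carter
import Cfsg.Agent.S0007

/-!
# System normalizers and quotients

* `relIndex_sup_of_normal`: `[A ⊔ N : A] = [N : A ⊓ N]` for `N` normal (finite case).
* `inf_sup_normal_of_coprime_index`: `(A ⊓ B) ⊔ N = (A ⊔ N) ⊓ (B ⊔ N)` for coprime indices.
* `finsetInf_sup_normal`: the same for finitely many subgroups of prime power indices.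
* `normalizer_sup_normal_of_hall`: Frattini argument for Hall subgroups.
* `isComplementSystem_map`, `systemNormalizer_map`: S0545.
-/

set_option autoImplicit false

namespace Cfsg.Agent.Lib.Helper1

open Cfsg
open Pointwise

variable {G : Type*} [Group G]

theorem relIndex_sup_of_normal [Finite G] (A N : Subgroup G) [N.Normal] :
    A.relIndex (A ⊔ N) = A.relIndex N := by
  have c1 : Nat.card A * A.relIndex (A ⊔ N) = Nat.card (A ⊔ N : Subgroup G) := by
    have := Subgroup.relIndex_mul_relIndex ⊥ A (A ⊔ N) bot_le le_sup_left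
    rwa [Subgroup.relIndex_bot_left, Subgroup.relIndex_bot_left] at this
  have c2 : Nat.card N * N.relIndex A = Nat.card (A ⊔ N : Subgroup G) := by
    have := Subgroup.relIndex_mul_relIndex ⊥ N (A ⊔ N) bot_le le_sup_right
    rwa [Subgroup.relIndex_bot_left, Subgroup.relIndex_bot_left, Subgroup.relIndex_sup_right]
      at this
  have c3 : Nat.card (A ⊓ N : Subgroup G) * N.relIndex A = Nat.card A := by
    have := Subgroup.relIndex_mul_relIndex ⊥ (A ⊓ N) A bot_le inf_le_left
    rwa [Subgroup.relIndex_bot_left, Subgroup.relIndex_bot_left, Subgroup.inf_relIndex_left]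
      at this
  have c4 : Nat.card (A ⊓ N : Subgroup G) * A.relIndex N = Nat.card N := by
    have := Subgroup.relIndex_mul_relIndex ⊥ (A ⊓ N) N bot_le inf_le_right
    rwa [Subgroup.relIndex_bot_left, Subgroup.relIndex_bot_left, Subgroup.inf_relIndex_right]
      at this
  have hA : 0 < Nat.card A := Nat.card_pos
  apply Nat.eq_of_mul_eq_mul_left hA
  rw [c1, ← c2, ← c4, ← c3]
  ring

theorem relIndex_dvd_index_of_normal_right [Finite G] (A N : Subgroup G) [N.Normal] :
    A.relIndex N ∣ A.index := by
  rw [← relIndex_sup_of_normal]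
  exact Subgroup.relIndex_dvd_index_of_le le_sup_left

theorem inf_sup_normal_of_coprime_index [Finite G] (A B N : Subgroup G) [N.Normal]
    (h : A.index.Coprime B.index) : (A ⊓ B) ⊔ N = (A ⊔ N) ⊓ (B ⊔ N) := by
  apply le_antisymm
  · exact le_inf (sup_le_sup_right inf_le_left N) (sup_le_sup_right inf_le_right N)
  · intro g hg
    obtain ⟨hgA, hgB⟩ := Subgroup.mem_inf.mp hg
    have hgA' : g ∈ ((A ⊔ N : Subgroup G) : Set G) := hgA
    have hgB' : g ∈ ((B ⊔ N : Subgroup G) : Set G) := hgB
    rw [Subgroup.mul_normal] at hgA' hgB'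
    obtain ⟨a, ha, n₁, hn₁, rfl⟩ := Set.mem_mul.mp hgA'
    obtain ⟨b, hb, n₂, hn₂, hbn⟩ := Set.mem_mul.mp hgB'
    have hcop : (A.subgroupOf N).index.Coprime (B.subgroupOf N).index := by
      apply Nat.Coprime.coprime_dvd_left (relIndex_dvd_index_of_normal_right A N)
      exact Nat.Coprime.coprime_dvd_right (relIndex_dvd_index_of_normal_right B N) h
    have hmem : a⁻¹ * b ∈ N := by
      have : a⁻¹ * b = n₁ * n₂⁻¹ := by
        have hb' : b = a * n₁ * n₂⁻¹ := by rw [← hbn]; group
        rw [hb']; group
      rw [this]; exact N.mul_mem hn₁ (N.inv_mem hn₂)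
    obtain ⟨α, hα, β, hβ, hαβ⟩ :=
      (Cfsg.Agent.S0007.result (A.subgroupOf N) (B.subgroupOf N) hcop).2 ⟨a⁻¹ * b, hmem⟩
    rw [Subgroup.mem_subgroupOf] at hα hβ
    have hαβ' : a⁻¹ * b = (α : G) * (β : G) := congrArg Subtype.val hαβ
    have hc : a * (α : G) = b * (β : G)⁻¹ := by
      have : b = a * ((α : G) * (β : G)) := by rw [← hαβ']; group
      rw [this]; group
    have hcA : a * (α : G) ∈ A := A.mul_mem ha hα
    have hcB : a * (α : G) ∈ B := by rw [hc]; exact B.mul_mem hb (B.inv_mem hβ)
    have : a * n₁ = (a * (α : G)) * ((α : G)⁻¹ * n₁) := by group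
    rw [this]
    exact Subgroup.mul_mem _ (Subgroup.mem_sup_left (Subgroup.mem_inf.mpr ⟨hcA, hcB⟩))
      (Subgroup.mem_sup_right (N.mul_mem (N.inv_mem α.2) hn₁))

theorem finsetInf_sup_normal [Finite G] (A : Nat.Primes → Subgroup G)
    (hA : ∀ p : Nat.Primes, ∃ k : ℕ, (A p).index ∣ (p : ℕ) ^ k) (N : Subgroup G) [N.Normal]
    (T : Finset Nat.Primes) : (T.inf A) ⊔ N = T.inf (fun p => A p ⊔ N) := by
  classical
  induction T using Finset.induction_on with
  | empty => simp
  | insert r T hr ih =>
    rw [Finset.inf_insert, Finset.inf_insert, ← ih]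
    apply inf_sup_normal_of_coprime_index
    obtain ⟨k, hk⟩ := hA r
    apply Nat.Coprime.coprime_dvd_left hk
    apply Nat.Coprime.pow_left
    rw [Nat.Prime.coprime_iff_not_dvd r.2]
    intro hdvd
    exact hr (prime_dvd_index_finsetInf A hA T r hdvd)

theorem iInf_eq_finsetInf {α : Type*} [CompleteLattice α] (f : Nat.Primes → α)
    (T : Finset Nat.Primes) (h : ∀ p, p ∉ T → f p = ⊤) : ⨅ p, f p = T.inf f := by
  apply le_antisymm
  · exact Finset.le_inf fun p _ => iInf_le f p
  · refine le_iInf fun p => ?_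
    by_cases hp : p ∈ T
    · exact Finset.inf_le hp
    · rw [h p hp]; exact le_top

/-- Frattini argument for Hall subgroups. -/
theorem normalizer_sup_normal_of_hall [Finite G] [Group.IsSolvable G] (H N : Subgroup G)
    [N.Normal] (hcop : (Nat.card H).Coprime (H.relIndex (H ⊔ N))) :
    Subgroup.normalizer ((H ⊔ N : Subgroup G) : Set G)
      = Subgroup.normalizer (H : Set G) ⊔ N := by
  apply le_antisymm
  · intro y hy
    set M := H ⊔ N with hM
    have hHM : H ≤ M := le_sup_left
    have hyM : MulAut.conj y • M = M := mem_normalizer_iff_conj_smul_eq.mp hy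
    have hHyM : MulAut.conj y • H ≤ M := by
      rw [← hyM]; exact Subgroup.pointwise_smul_le_pointwise_smul_iff.mpr hHM
    have hcardM : Nat.card M = Nat.card H * H.relIndex M := by
      have := Subgroup.relIndex_mul_relIndex ⊥ H M bot_le hHM
      rw [Subgroup.relIndex_bot_left, Subgroup.relIndex_bot_left] at this
      exact this.symm
    obtain ⟨m, hm⟩ := hall_conj (G := M) (Nat.card H) (H.relIndex M) hcardM hcop
      (H.subgroupOf M) ((MulAut.conj y • H).subgroupOf M) (card_subgroupOf_of_le hHM)
      (by rw [card_subgroupOf_of_le hHyM, card_conj_smul])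
    have h1 : MulAut.conj (m : G) • H = MulAut.conj y • H :=
      conj_smul_eq_of_subgroupOf hHM hHyM m hm
    have hmM : (m : G) ∈ ((N ⊔ H : Subgroup G) : Set G) := by
      rw [sup_comm]; exact m.2
    rw [Subgroup.normal_mul] at hmM
    obtain ⟨n, hn, h, hh, hnh⟩ := Set.mem_mul.mp hmM
    have h2 : MulAut.conj (m : G) • H = MulAut.conj n • H := by
      rw [← hnh, ← conj_smul_conj_smul, Subgroup.conj_smul_eq_self_of_mem hh]
    have h3 : MulAut.conj (n⁻¹ * y) • H = H := by
      rw [← conj_smul_conj_smul, ← h1, h2, conj_smul_conj_smul, inv_mul_cancel, conj_one_smul]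
    have h4 : n⁻¹ * y ∈ Subgroup.normalizer (H : Set G) := mem_normalizer_iff_conj_smul_eq.mpr h3
    have : y = n * (n⁻¹ * y) := by group
    rw [this]
    exact Subgroup.mul_mem _ (Subgroup.mem_sup_right hn) (Subgroup.mem_sup_left h4)
  · apply sup_le
    · apply Subgroup.normalizer_le_normalizer_sup_of_normalizer_le_left
      rw [Subgroup.normalizer_eq_top N]; exact le_top
    · exact le_sup_right.trans Subgroup.le_normalizer

/-- S0545(a): the images of a Hall complement system in a quotient form a complement system. -/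
theorem isComplementSystem_map [Finite G] (K : Nat.Primes → Subgroup G)
    (hK : IsComplementSystem K) (N : Subgroup G) [N.Normal] :
    IsComplementSystem (fun p => (K p).map (QuotientGroup.mk' N)) := by
  intro p
  have hp := p.2
  have hsurj : Function.Surjective (QuotientGroup.mk' N) := QuotientGroup.mk'_surjective N
  have hH : IsPComplement (p : ℕ) (K p) := hK p
  have hdvd : ((K p).map (QuotientGroup.mk' N)).index ∣ (p : ℕ) ^ (Nat.card G).factorization p := by
    rw [← hK p]; exact Subgroup.index_map_dvd (K p) hsurj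
  obtain ⟨b, -, hb⟩ := (Nat.dvd_prime_pow hp).mp hdvd
  have hcop : (Nat.card ((K p).map (QuotientGroup.mk' N))).Coprime p :=
    Nat.Coprime.coprime_dvd_left (Subgroup.card_map_dvd (K p) _) (hH.coprime hp)
  have hcard : Nat.card ((K p).map (QuotientGroup.mk' N))
      * ((K p).map (QuotientGroup.mk' N)).index = Nat.card (G ⧸ N) := Subgroup.card_mul_index _
  show ((K p).map (QuotientGroup.mk' N)).index = (p : ℕ) ^ (Nat.card (G ⧸ N)).factorization p
  have hnd : ¬ (p : ℕ) ∣ Nat.card ((K p).map (QuotientGroup.mk' N)) :=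
    (Nat.Prime.coprime_iff_not_dvd hp).mp hcop.symm
  have h0 := Nat.factorization_eq_zero_of_not_dvd hnd
  rw [← hcard, hb, Nat.factorization_mul Nat.card_pos.ne' (pow_pos hp.pos b).ne',
    Nat.Prime.factorization_pow hp, Finsupp.add_apply, h0, Finsupp.single_eq_same, zero_add]

/-- S0545(b): system normalizers map onto system normalizers. -/
theorem systemNormalizer_map [Finite G] [Group.IsSolvable G] (K : Nat.Primes → Subgroup G)
    (hK : IsComplementSystem K) (N : Subgroup G) [N.Normal] :
    systemNormalizer (fun p => (K p).map (QuotientGroup.mk' N))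
      = (systemNormalizer K).map (QuotientGroup.mk' N) := by
  classical
  have hsurj : Function.Surjective (QuotientGroup.mk' N) := QuotientGroup.mk'_surjective N
  apply Subgroup.comap_injective hsurj
  rw [Subgroup.comap_map_eq, QuotientGroup.ker_mk']
  unfold systemNormalizer
  rw [Subgroup.comap_iInf]
  have h1 : ∀ p : Nat.Primes, Subgroup.comap (QuotientGroup.mk' N) (Subgroup.normalizer
      (((K p).map (QuotientGroup.mk' N) : Subgroup (G ⧸ N)) : Set (G ⧸ N)))
        = Subgroup.normalizer (K p : Set G) ⊔ N := by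
    intro p
    rw [Subgroup.comap_normalizer_eq_of_surjective _ hsurj, Subgroup.comap_map_eq,
      QuotientGroup.ker_mk']
    apply normalizer_sup_normal_of_hall
    have hH : IsPComplement (p : ℕ) (K p) := hK p
    have : (K p).relIndex (K p ⊔ N) ∣ (p : ℕ) ^ (Nat.card G).factorization p := by
      rw [← hK p]; exact Subgroup.relIndex_dvd_index_of_le le_sup_left
    exact Nat.Coprime.coprime_dvd_right this (Nat.Coprime.pow_right _ (hH.coprime p.2))
  simp_rw [h1]
  let T : Finset Nat.Primes := (Nat.card G).primeFactors.subtype Nat.Prime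
  have hT : ∀ p : Nat.Primes, p ∉ T → K p = ⊤ := by
    intro p hp
    rw [← Subgroup.index_eq_one, hK p]
    have : (p : ℕ) ∉ (Nat.card G).primeFactors := fun h => hp (Finset.mem_subtype.mpr h)
    have h0 : (Nat.card G).factorization p = 0 := by
      rw [← Finsupp.notMem_support_iff, Nat.support_factorization]; exact this
    rw [h0, pow_zero]
  have hT' : ∀ p : Nat.Primes, p ∉ T → Subgroup.normalizer (K p : Set G) = ⊤ := by
    intro p hp; rw [hT p hp]; exact Subgroup.normalizer_eq_top ⊤
  rw [iInf_eq_finsetInf (fun p => Subgroup.normalizer (K p : Set G) ⊔ N) T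
      (fun p hp => by rw [hT' p hp, top_sup_eq]),
    iInf_eq_finsetInf (fun p => Subgroup.normalizer (K p : Set G)) T hT']
  exact (finsetInf_sup_normal _
    (fun p => ⟨_, IsPComplement.index_normalizer_dvd (p := (p : ℕ)) (H := K p) (hK p)⟩) N T).symm

end Cfsg.Agent.Lib.Helper1
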