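import Mathlib
import Cfsg.Prelude.Def_SolvableStructure
import Cfsg.Agent.Lib.Helper1.SystemNormalizer
import Cfsg.Agent.Lib.Helper1.MinimalNormal
import Cfsg.Agent.S0043
import Cfsg.Agent.Lib.Helper1.Hall

/-!
# System normalizers cover central chief factors and avoid eccentric ones (S0568)
-/

set_option autoImplicit false

namespace Cfsg.Agent.Lib.Helper1

open Cfsg
open Pointwise
open scoped commutatorElement

variable {G : Type*} [Group G]

/-- The conjugation action of `G ⧸ C_G(H)` on a normal subgroup `H`. -/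
noncomputable def conjQuot (H : Subgroup G) [H.Normal] :
    G ⧸ Subgroup.centralizer (H : Set G) →* MulAut H :=
  QuotientGroup.lift (Subgroup.centralizer (H : Set G)) (MulAut.conjNormal (H := H)) (by
    intro c hc
    rw [MonoidHom.mem_ker]
    ext h
    rw [MulAut.conjNormal_apply, MulAut.one_apply]
    have := Subgroup.mem_centralizer_iff.mp hc (h : G) h.2
    rw [← this, mul_inv_cancel_right])

theorem conjQuot_mk (H : Subgroup G) [H.Normal] (g : G) (h : H) :
    ((conjQuot H (QuotientGroup.mk' _ g) h : H) : G) = g * h * g⁻¹ := by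
  unfold conjQuot
  rw [QuotientGroup.mk'_apply, QuotientGroup.lift_mk, MulAut.conjNormal_apply]

/-- A normal `p`-subgroup of `G ⧸ C_G(H)` is trivial when `H` is a minimal normal `p`-subgroup. -/
theorem pSubgroup_quot_centralizer_eq_bot [Finite G] {p : ℕ} [Fact p.Prime] (H : Subgroup G)
    [H.Normal] (hH1 : H ≠ ⊥) (hHp : IsPGroup p H)
    (hmin : ∀ M : Subgroup G, M.Normal → M ≤ H → M = ⊥ ∨ M = H)
    (Mbar : Subgroup (G ⧸ Subgroup.centralizer (H : Set G))) [Mbar.Normal]
    (hM : IsPGroup p Mbar) : Mbar = ⊥ := by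
  set C := Subgroup.centralizer (H : Set G) with hC
  let _ : MulAction Mbar H := MulAction.compHom H ((conjQuot H).comp Mbar.subtype)
  have hact : ∀ (m : Mbar) (h : H), m • h = conjQuot H (m : G ⧸ C) h := fun m h => rfl
  have hpH : p ∣ Nat.card H := by
    obtain ⟨k, hk⟩ := (IsPGroup.iff_card (p := p) (G := H)).mp hHp
    rw [hk]
    apply dvd_pow_self
    rintro rfl
    rw [pow_zero] at hk
    exact hH1 ((Subgroup.card_eq_one).mp hk)
  have h1fix : (1 : H) ∈ MulAction.fixedPoints Mbar H := by
    intro m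
    rw [hact, map_one]
  obtain ⟨b, hbfix, hb1⟩ := hM.exists_fixed_point_of_prime_dvd_card_of_fixed_point H hpH h1fix
  set M := Mbar.comap (QuotientGroup.mk' C) with hMdef
  have hbM : (b : G) ∈ Subgroup.centralizer (M : Set G) := by
    rw [Subgroup.mem_centralizer_iff]
    intro m hm
    have hm' : QuotientGroup.mk' C m ∈ Mbar := hm
    have := hbfix ⟨_, hm'⟩
    rw [hact] at this
    have h2 : m * (b : G) * m⁻¹ = b :=
      (conjQuot_mk H m b).symm.trans (congrArg Subtype.val this)
    calc m * (b : G) = m * (b : G) * m⁻¹ * m := by group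
      _ = (b : G) * m := by rw [h2]
  have hF : H ⊓ Subgroup.centralizer (M : Set G) = H := by
    rcases hmin (H ⊓ Subgroup.centralizer (M : Set G)) inferInstance inf_le_left with h | h
    · exfalso
      apply hb1
      have : (b : G) ∈ H ⊓ Subgroup.centralizer (M : Set G) := ⟨b.2, hbM⟩
      rw [h, Subgroup.mem_bot] at this
      exact Subtype.ext this.symm
    · exact h
  have hHM : H ≤ Subgroup.centralizer (M : Set G) := inf_eq_left.mp hF
  have hMC : M ≤ C := Subgroup.le_centralizer_iff.mp hHM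
  have hsurj : Function.Surjective (QuotientGroup.mk' C) := QuotientGroup.mk'_surjective C
  rw [← Subgroup.map_comap_eq_self_of_surjective hsurj Mbar, Subgroup.map_eq_bot_iff,
    QuotientGroup.ker_mk']
  exact hMC

theorem le_systemNormalizer_of_le_center (K : Nat.Primes → Subgroup G) (H : Subgroup G)
    (h : H ≤ Subgroup.center G) : H ≤ systemNormalizer K := by
  unfold systemNormalizer
  exact le_iInf fun p => h.trans (Subgroup.center_le_normalizer _)

/-- `H ⊓ centralizer R` is normalized by `N_G(R)` when `H` is normal. -/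
theorem normalizer_le_normalizer_inf_centralizer (H R : Subgroup G) [H.Normal] :
    Subgroup.normalizer (R : Set G)
      ≤ Subgroup.normalizer ((H ⊓ Subgroup.centralizer (R : Set G) : Subgroup G) : Set G) := by
  have key : ∀ g : G, g ∈ Subgroup.normalizer (R : Set G) →
      ∀ y, y ∈ H ⊓ Subgroup.centralizer (R : Set G) →
        g * y * g⁻¹ ∈ H ⊓ Subgroup.centralizer (R : Set G) := by
    intro g hg y hy
    refine Subgroup.mem_inf.mpr ⟨Subgroup.Normal.conj_mem inferInstance y hy.1 g,
      Subgroup.mem_centralizer_iff.mpr ?_⟩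
    intro r hr
    have hr' : g⁻¹ * r * g ∈ R := by
      have := (Subgroup.mem_normalizer_iff.mp (Subgroup.inv_mem _ hg) r).mp hr
      rwa [inv_inv] at this
    have hc := Subgroup.mem_centralizer_iff.mp hy.2 _ hr'
    calc r * (g * y * g⁻¹) = g * ((g⁻¹ * r * g) * y) * g⁻¹ := by group
      _ = g * (y * (g⁻¹ * r * g)) * g⁻¹ := by rw [hc]
      _ = g * y * g⁻¹ * r := by group
  intro g hg
  rw [Subgroup.mem_normalizer_iff]
  intro y
  constructor
  · exact key g hg y
  · intro hy
    have := key g⁻¹ (Subgroup.inv_mem _ hg) _ hy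
    have e : g⁻¹ * (g * y * g⁻¹) * g⁻¹⁻¹ = y := by group
    rwa [e] at this

/-- `H ⊓ X` is normalized by `C_G(H)` for any `X`. -/
theorem centralizer_le_normalizer_inf (H X : Subgroup G) [H.Normal] :
    Subgroup.centralizer (H : Set G) ≤ Subgroup.normalizer ((H ⊓ X : Subgroup G) : Set G) := by
  intro c hc
  rw [Subgroup.mem_normalizer_iff]
  intro y
  have hfix : ∀ z ∈ H, c * z * c⁻¹ = z := by
    intro z hz
    have := Subgroup.mem_centralizer_iff.mp hc z hz
    rw [← this, mul_inv_cancel_right]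
  constructor
  · intro hy
    rw [hfix y hy.1]; exact hy
  · intro hy
    have hyH : y ∈ H := by
      have := Subgroup.Normal.conj_mem (inferInstance : H.Normal) _ hy.1 c⁻¹
      have e : c⁻¹ * (c * y * c⁻¹) * c⁻¹⁻¹ = y := by group
      rwa [e] at this
    rw [hfix y hyH] at hy; exact hy

/-- An eccentric minimal normal subgroup is avoided by every system normalizer. -/
theorem inf_systemNormalizer_eq_bot_of_not_central [Finite G] [Group.IsSolvable G]
    (K : Nat.Primes → Subgroup G) (hK : IsComplementSystem K) (H : Subgroup G) [H.Normal]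
    (hH1 : H ≠ ⊥) (hmin : ∀ M : Subgroup G, M.Normal → M ≤ H → M = ⊥ ∨ M = H)
    (hnc : ¬ H ≤ Subgroup.center G) : H ⊓ systemNormalizer K = ⊥ := by
  obtain ⟨hcomm, p, hp, hpow⟩ := Cfsg.Agent.S0043.result H hH1 hmin
  have : Fact p.Prime := ⟨hp⟩
  have hHp : IsPGroup p H := fun x =>
    ⟨1, by rw [pow_one]; exact Subtype.ext (by simpa using hpow x x.2)⟩
  set C := Subgroup.centralizer (H : Set G) with hC
  have hCtop : C ≠ ⊤ := by
    intro h; apply hnc; exact Subgroup.centralizer_eq_top_iff_subset.mp h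
  have : Nontrivial (G ⧸ C) := QuotientGroup.nontrivial_iff.mpr hCtop
  obtain ⟨q, Mbar, hq, hMn, hM1, hMq, -, -, -⟩ :=
    exists_normal_pSubgroup_of_isSolvable (G := G ⧸ C)
  have hqp : q ≠ p := by
    rintro rfl
    have := hMn
    exact hM1 (pSubgroup_quot_centralizer_eq_bot H hH1 hHp hmin Mbar hMq)
  set M := Mbar.comap (QuotientGroup.mk' C) with hMdef
  have hMnorm : M.Normal := hMn.comap _
  have hCM : C ≤ M := le_comap_mk'_of_le C Mbar
  have hsurj : Function.Surjective (QuotientGroup.mk' C) := QuotientGroup.mk'_surjective C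
  let P : Nat.Primes := ⟨p, hp⟩
  have hKP : IsPComplement p (K P) := hK P
  set R := M ⊓ K P with hR
  have hRM : R ≤ M := inf_le_left
  have hRidx : R.relIndex M ∣ p ^ (Nat.card G).factorization p := by
    rw [hR, Subgroup.inf_relIndex_left, ← hKP]
    exact relIndex_dvd_index_of_normal_right (K P) M
  have hRcop : (Nat.card R).Coprime p :=
    Nat.Coprime.coprime_dvd_left (Subgroup.card_dvd_of_le inf_le_right) (hKP.coprime hp)
  -- `[M : C]` is a power of `q`
  have hCidx : ∃ k, C.relIndex M = q ^ k := by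
    have : Fact q.Prime := ⟨hq⟩
    obtain ⟨k, hk⟩ := (IsPGroup.iff_card (p := q) (G := Mbar)).mp hMq
    refine ⟨k, ?_⟩
    have h1 : Nat.card M = Nat.card C * Nat.card Mbar := card_comap_mk' C Mbar
    have h2 := Subgroup.relIndex_mul_relIndex ⊥ C M bot_le hCM
    rw [Subgroup.relIndex_bot_left, Subgroup.relIndex_bot_left, h1] at h2
    rw [← hk]
    exact Nat.eq_of_mul_eq_mul_left Nat.card_pos h2
  have hMCR : M ≤ C ⊔ R := by
    rw [← Subgroup.relIndex_eq_one]
    obtain ⟨k, hk⟩ := hCidx
    have d1 : (C ⊔ R).relIndex M ∣ q ^ k := hk ▸ Subgroup.relIndex_dvd_of_le_left M le_sup_left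
    have d2 : (C ⊔ R).relIndex M ∣ p ^ (Nat.card G).factorization p :=
      (Subgroup.relIndex_dvd_of_le_left M le_sup_right).trans hRidx
    exact Nat.eq_one_of_dvd_coprimes
      (Nat.Coprime.pow _ _ ((Nat.coprime_primes hq hp).2 hqp)) d1 d2
  -- Frattini
  have hfr : Subgroup.normalizer (R : Set G) ⊔ C = ⊤ := by
    have h1 := normalizer_sup_normal_of_hall R M (by
      rw [sup_of_le_right hRM]
      exact Nat.Coprime.coprime_dvd_right hRidx (Nat.Coprime.pow_right _ hRcop))
    rw [sup_of_le_right hRM, Subgroup.normalizer_eq_top M] at h1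
    rw [eq_top_iff, h1]
    apply sup_le le_sup_left
    exact hMCR.trans (sup_le le_sup_right (Subgroup.le_normalizer.trans le_sup_left))
  set X := H ⊓ Subgroup.centralizer (R : Set G) with hX
  have hXn : X.Normal := by
    rw [← Subgroup.normalizer_eq_top_iff, eq_top_iff, ← hfr]
    exact sup_le (normalizer_le_normalizer_inf_centralizer H R) (centralizer_le_normalizer_inf H _)
  have hXbot : X = ⊥ := by
    rcases hmin X hXn inf_le_left with h | h
    · exact h
    · exfalso
      have hHR : H ≤ Subgroup.centralizer (R : Set G) := inf_eq_left.mp h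
      have hRC : R ≤ C := Subgroup.le_centralizer_iff.mp hHR
      have hMC : M ≤ C := hMCR.trans (sup_le le_rfl hRC)
      apply hM1
      rw [← Subgroup.map_comap_eq_self_of_surjective hsurj Mbar, Subgroup.map_eq_bot_iff,
        QuotientGroup.ker_mk']
      exact hMC
  -- conclusion
  rw [eq_bot_iff, ← hXbot]
  intro x hx
  refine Subgroup.mem_inf.mpr ⟨hx.1, Subgroup.mem_centralizer_iff.mpr ?_⟩
  have hxN : x ∈ Subgroup.normalizer (K P : Set G) := by
    have : systemNormalizer K ≤ Subgroup.normalizer (K P : Set G) := iInf_le _ P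
    exact this hx.2
  have hdisj : Disjoint H (K P) := by
    apply Subgroup.disjoint_of_coprime_natCard
    obtain ⟨k, hk⟩ := (IsPGroup.iff_card (p := p) (G := H)).mp hHp
    rw [hk]
    exact Nat.Coprime.pow_left _ (hKP.coprime hp).symm
  intro r hr
  have hrK : r ∈ K P := hr.2
  have h1 : x * r * x⁻¹ * r⁻¹ ∈ K P :=
    (K P).mul_mem ((Subgroup.mem_normalizer_iff.mp hxN r).mp hrK) ((K P).inv_mem hrK)
  have h2 : x * r * x⁻¹ * r⁻¹ ∈ H := by
    have : r * x⁻¹ * r⁻¹ ∈ H := Subgroup.Normal.conj_mem inferInstance _ (H.inv_mem hx.1) r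
    have e : x * r * x⁻¹ * r⁻¹ = x * (r * x⁻¹ * r⁻¹) := by group
    rw [e]; exact H.mul_mem hx.1 this
  have h3 : x * r * x⁻¹ * r⁻¹ = 1 := (Subgroup.disjoint_def.mp hdisj) h2 h1
  calc r * x = (x * r * x⁻¹ * r⁻¹)⁻¹ * (x * r) := by group
    _ = x * r := by rw [h3, inv_one, one_mul]

/-- **Covering and avoidance** for system normalizers (S0568). -/
theorem cover_avoid [Finite G] [Group.IsSolvable G] (K : Nat.Primes → Subgroup G)
    (hK : IsComplementSystem K) (A B : Subgroup G) [A.Normal] [hBn : B.Normal] (hAB : A < B)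
    (hchief : ∀ N : Subgroup G, N.Normal → A ≤ N → N ≤ B → N = A ∨ N = B) :
    (⁅B, (⊤ : Subgroup G)⁆ ≤ A → B ≤ A ⊔ systemNormalizer K) ∧
      (¬ ⁅B, (⊤ : Subgroup G)⁆ ≤ A → B ⊓ systemNormalizer K ≤ A) := by
  have hsurj : Function.Surjective (QuotientGroup.mk' A) := QuotientGroup.mk'_surjective A
  have hKbar := isComplementSystem_map K hK A
  have hD := systemNormalizer_map K hK A
  set H := B.map (QuotientGroup.mk' A) with hH
  have hHn : H.Normal := Subgroup.Normal.map hBn _ hsurj
  have hH1 : H ≠ ⊥ := by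
    intro h
    rw [hH, Subgroup.map_eq_bot_iff, QuotientGroup.ker_mk'] at h
    exact (not_le_of_gt hAB) h
  have hcomapH : H.comap (QuotientGroup.mk' A) = B := by
    rw [hH, Subgroup.comap_map_eq, QuotientGroup.ker_mk', sup_of_le_left hAB.le]
  have hmin : ∀ M : Subgroup (G ⧸ A), M.Normal → M ≤ H → M = ⊥ ∨ M = H := by
    intro M hMn hMH
    have h1 : A ≤ M.comap (QuotientGroup.mk' A) := le_comap_mk'_of_le A M
    have h2 : M.comap (QuotientGroup.mk' A) ≤ B := by
      rw [← hcomapH]; exact Subgroup.comap_mono hMH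
    have hM : M = (M.comap (QuotientGroup.mk' A)).map (QuotientGroup.mk' A) :=
      (Subgroup.map_comap_eq_self_of_surjective hsurj M).symm
    rcases hchief _ (hMn.comap _) h1 h2 with h | h
    · left; rw [hM, h, QuotientGroup.map_mk'_self]
    · right; rw [hM, h]
  have hcentral : H ≤ Subgroup.center (G ⧸ A) ↔ ⁅B, (⊤ : Subgroup G)⁆ ≤ A := by
    constructor
    · intro h
      rw [Subgroup.commutator_le]
      intro b hb g _
      rw [← QuotientGroup.ker_mk' A, MonoidHom.mem_ker, map_commutatorElement,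
        commutatorElement_eq_one_iff_mul_comm]
      have hbc : QuotientGroup.mk' A b ∈ Subgroup.center (G ⧸ A) :=
        h (Subgroup.mem_map_of_mem _ hb)
      exact (Subgroup.mem_center_iff.mp hbc _).symm
    · intro h y hy
      obtain ⟨b, hb, rfl⟩ := Subgroup.mem_map.mp hy
      rw [Subgroup.mem_center_iff]
      intro z
      obtain ⟨g, rfl⟩ := hsurj z
      have hmem : ⁅b, g⁆ ∈ A :=
        h (Subgroup.commutator_mem_commutator hb (Subgroup.mem_top g))
      rw [← QuotientGroup.ker_mk' A, MonoidHom.mem_ker, map_commutatorElement,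
        commutatorElement_eq_one_iff_mul_comm] at hmem
      exact hmem.symm
  constructor
  · intro hc
    have h1 : H ≤ systemNormalizer (fun p => (K p).map (QuotientGroup.mk' A)) :=
      le_systemNormalizer_of_le_center _ H (hcentral.mpr hc)
    rw [hD] at h1
    have h2 := Subgroup.comap_mono (f := QuotientGroup.mk' A) h1
    rw [hcomapH, Subgroup.comap_map_eq, QuotientGroup.ker_mk', sup_comm] at h2
    exact h2
  · intro hc
    have h1 := inf_systemNormalizer_eq_bot_of_not_central _ hKbar H hH1 hmin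
      (fun h => hc (hcentral.mp h))
    rw [hD] at h1
    intro x hx
    have hx' : QuotientGroup.mk' A x ∈ H ⊓ (systemNormalizer K).map (QuotientGroup.mk' A) :=
      ⟨Subgroup.mem_map_of_mem _ hx.1, Subgroup.mem_map_of_mem _ hx.2⟩
    rw [h1, Subgroup.mem_bot] at hx'
    rw [← QuotientGroup.ker_mk' A, MonoidHom.mem_ker]
    exact hx'

end Cfsg.Agent.Lib.Helper1
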