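import Mathlib
import Cfsg.Prelude.Def_SolvableStructure
import Cfsg.Agent.Lib.Helper1.SystemNormalizer
import Cfsg.Agent.Lib.Helper1.CoverAvoid
import Cfsg.Agent.Lib.Helper1.CarterConj
import Cfsg.Agent.S0544

/-!
# Carter subgroups and system normalizers (S0569)

If a Hall complement system `K` reduces into a Carter subgroup `C` then the system normalizer of
`K` is contained in `C`.
-/

set_option autoImplicit false

namespace Cfsg.Agent.Lib.Helper1

open Cfsg
open Pointwise

universe u

/-- Lifting elements of order prime to `q` along a homomorphism. -/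
theorem exists_pow_coprime_orderOf {G G' : Type*} [Group G] [Group G'] [Finite G] (f : G →* G')
    (q : ℕ) (hq : q.Prime) (c : G) (hc : (orderOf (f c)).Coprime q) :
    ∃ k : ℕ, (orderOf (c ^ k)).Coprime q ∧ f (c ^ k) = f c := by
  have hn0 : orderOf c ≠ 0 := (orderOf_pos c).ne'
  obtain ⟨a, m, hm, hn⟩ := Nat.exists_eq_pow_mul_and_not_dvd hn0 q hq.ne_one
  have hmq : m.Coprime q := ((Nat.Prime.coprime_iff_not_dvd hq).mpr hm).symm
  have hdvd : orderOf (f c) ∣ m := by
    have h1 : orderOf (f c) ∣ q ^ a * m := hn ▸ orderOf_map_dvd f c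
    exact (Nat.Coprime.pow_right a hc).dvd_of_dvd_mul_left h1
  rcases Nat.lt_or_ge 1 m with hm1 | hm1
  · obtain ⟨s, -, hs⟩ := Nat.exists_mul_mod_eq_one_of_coprime
      (Nat.Coprime.pow_left a hmq.symm) hm1
    refine ⟨q ^ a * s, ?_, ?_⟩
    · have h1 : (c ^ (q ^ a * s)) ^ m = 1 := by
        rw [← pow_mul, mul_right_comm, ← hn, pow_mul, pow_orderOf_eq_one, one_pow]
      exact Nat.Coprime.coprime_dvd_left (orderOf_dvd_of_pow_eq_one h1) hmq
    · rw [map_pow]
      have h2 : q ^ a * s ≡ 1 [MOD m] := by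
        unfold Nat.ModEq
        rw [hs, Nat.mod_eq_of_lt hm1]
      have h3 : q ^ a * s ≡ 1 [MOD orderOf (f c)] := h2.of_dvd hdvd
      have := (pow_eq_pow_iff_modEq (x := f c)).mpr h3
      rw [this, pow_one]
  · have hm' : m = 1 := by
      have : m ≠ 0 := by
        rintro rfl
        rw [mul_zero] at hn
        exact hn0 hn
      omega
    refine ⟨0, ?_, ?_⟩
    · rw [pow_zero, orderOf_one]; exact Nat.coprime_one_left q
    · rw [pow_zero, map_one]
      rw [hm'] at hdvd
      exact (orderOf_eq_one_iff.mp (Nat.dvd_one.mp hdvd)).symm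

/-- A subgroup whose order is coprime to the index of a normal subgroup lies in it. -/
theorem le_of_normal_of_coprime_index {X : Type*} [Group X] [Finite X] (N Y : Subgroup X)
    [N.Normal] (h : (Nat.card Y).Coprime N.index) : Y ≤ N := by
  have h1 : Nat.card (Y.map (QuotientGroup.mk' N)) ∣ Nat.card Y := Subgroup.card_map_dvd Y _
  have h2 : Nat.card (Y.map (QuotientGroup.mk' N)) ∣ N.index := by
    rw [Subgroup.index_eq_card]; exact Subgroup.card_subgroup_dvd_card _
  have h3 : Nat.card (Y.map (QuotientGroup.mk' N)) = 1 := Nat.eq_one_of_dvd_coprimes h h1 h2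
  rw [Subgroup.card_eq_one, Subgroup.map_eq_bot_iff, QuotientGroup.ker_mk'] at h3
  exact h3

/-- In a nilpotent subgroup `C`, the elements of order prime to `q` lie in the `q'`-part. -/
theorem mem_pPrimePart_of_coprime_orderOf {G : Type*} [Group G] [Finite G] (q : ℕ)
    [Fact q.Prime] (C : Subgroup G) (hC : Group.IsNilpotent C) (x : G) (hx : x ∈ C)
    (ho : (orderOf x).Coprime q) : x ∈ pPrimePart q C := by
  have hn : (pPrimeCore q C).Normal := pPrimeCore_normal q
  obtain ⟨j, hj⟩ := index_pPrimeCore_of_isNilpotent (X := C) q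
  have hle : Subgroup.zpowers (⟨x, hx⟩ : C) ≤ pPrimeCore q C := by
    apply le_of_normal_of_coprime_index
    rw [hj, Nat.card_zpowers]
    apply Nat.Coprime.pow_right
    have : orderOf (⟨x, hx⟩ : C) = orderOf x := by
      rw [← Subgroup.orderOf_coe]
    rw [this]; exact ho
  exact ⟨⟨x, hx⟩, hle (Subgroup.mem_zpowers _), rfl⟩

theorem coprime_orderOf_of_mem_pPrimePart {G : Type*} [Group G] [Finite G] (q : ℕ)
    (C : Subgroup G) (x : G) (hx : x ∈ pPrimePart q C) : (orderOf x).Coprime q := by
  have h1 : orderOf x ∣ Nat.card (pPrimePart q C) := by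
    have := orderOf_dvd_natCard (⟨x, hx⟩ : pPrimePart q C)
    rwa [Subgroup.orderOf_mk] at this
  exact Nat.Coprime.coprime_dvd_left h1 (card_pPrimePart_coprime q C)

/-- `[A ⊔ N : B ⊔ N]` divides `[A : B]` for `B ≤ A` and `N` normal. -/
theorem relIndex_sup_normal_dvd {G : Type*} [Group G] [Finite G] (A B N : Subgroup G)
    [N.Normal] (hBA : B ≤ A) : (B ⊔ N).relIndex (A ⊔ N) ∣ B.relIndex A := by
  have cardrel : ∀ {X Y : Subgroup G}, X ≤ Y → Nat.card X * X.relIndex Y = Nat.card Y := by
    intro X Y hXY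
    have := Subgroup.relIndex_mul_relIndex ⊥ X Y bot_le hXY
    rwa [Subgroup.relIndex_bot_left, Subgroup.relIndex_bot_left] at this
  have sA : Nat.card (A ⊔ N : Subgroup G) * Nat.card (A ⊓ N : Subgroup G)
      = Nat.card A * Nat.card N := by
    have c2 := cardrel (le_sup_right : N ≤ A ⊔ N)
    rw [Subgroup.relIndex_sup_right] at c2
    have c3 := cardrel (inf_le_left : A ⊓ N ≤ A)
    rw [Subgroup.inf_relIndex_left] at c3
    rw [← c2, ← c3]; ring
  have sB : Nat.card (B ⊔ N : Subgroup G) * Nat.card (B ⊓ N : Subgroup G)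
      = Nat.card B * Nat.card N := by
    have c2 := cardrel (le_sup_right : N ≤ B ⊔ N)
    rw [Subgroup.relIndex_sup_right] at c2
    have c3 := cardrel (inf_le_left : B ⊓ N ≤ B)
    rw [Subgroup.inf_relIndex_left] at c3
    rw [← c2, ← c3]; ring
  have r := cardrel hBA
  have r' := cardrel (sup_le_sup_right hBA N : B ⊔ N ≤ A ⊔ N)
  have t := cardrel (inf_le_inf_right N hBA : B ⊓ N ≤ A ⊓ N)
  refine ⟨(B ⊓ N).relIndex (A ⊓ N), ?_⟩
  have hpos : 0 < Nat.card (B ⊔ N : Subgroup G) * Nat.card (B ⊓ N : Subgroup G) :=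
    Nat.mul_pos Nat.card_pos Nat.card_pos
  apply Nat.eq_of_mul_eq_mul_left hpos
  calc Nat.card (B ⊔ N : Subgroup G) * Nat.card (B ⊓ N : Subgroup G) * B.relIndex A
      = Nat.card B * Nat.card N * B.relIndex A := by rw [sB]
    _ = Nat.card A * Nat.card N := by rw [← r]; ring
    _ = Nat.card (A ⊔ N : Subgroup G) * Nat.card (A ⊓ N : Subgroup G) := sA.symm
    _ = Nat.card (B ⊔ N : Subgroup G) * Nat.card (B ⊓ N : Subgroup G) *
          ((B ⊔ N).relIndex (A ⊔ N) * (B ⊓ N).relIndex (A ⊓ N)) := by rw [← r', ← t]; ring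

/-- A subgroup of order prime to `q` and `q`-power index is a `q`-complement. -/
theorem index_eq_of_coprime_of_dvd_pow {X : Type*} [Group X] [Finite X] (q : ℕ) (hq : q.Prime)
    (Y : Subgroup X) (hY : (Nat.card Y).Coprime q) (j : ℕ) (hj : Y.index ∣ q ^ j) :
    Y.index = q ^ (Nat.card X).factorization q := by
  obtain ⟨b, -, hb⟩ := (Nat.dvd_prime_pow hq).mp hj
  have hcard : Nat.card Y * Y.index = Nat.card X := Subgroup.card_mul_index _
  have hnd : ¬ q ∣ Nat.card Y := (Nat.Prime.coprime_iff_not_dvd hq).mp hY.symm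
  have h0 := Nat.factorization_eq_zero_of_not_dvd hnd
  rw [← hcard, hb, Nat.factorization_mul Nat.card_pos.ne' (pow_pos hq.pos b).ne',
    Nat.Prime.factorization_pow hq, Finsupp.add_apply, h0, Finsupp.single_eq_same, zero_add]

/-- `K` reduces into `C`: the elements of `C` of order prime to `q` lie in `K q`. -/
def Reduces {G : Type*} [Group G] (K : Nat.Primes → Subgroup G) (C : Subgroup G) : Prop :=
  ∀ q : Nat.Primes, ∀ x ∈ C, (orderOf x).Coprime q → x ∈ K q

theorem Reduces.pPrimePart_le {G : Type*} [Group G] [Finite G] {K : Nat.Primes → Subgroup G}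
    {C : Subgroup G} (h : Reduces K C) (q : Nat.Primes) : pPrimePart q C ≤ K q :=
  fun x hx => h q x (Cfsg.Agent.Lib.Helper1.pPrimePart_le q C hx)
    (coprime_orderOf_of_mem_pPrimePart q C x hx)

theorem Reduces.subgroupOf {G : Type*} [Group G] {K : Nat.Primes → Subgroup G}
    {C : Subgroup G} (h : Reduces K C) (L : Subgroup G) :
    Reduces (fun q => (K q).subgroupOf L) (C.subgroupOf L) := by
  intro q x hx ho
  rw [Subgroup.mem_subgroupOf] at hx ⊢
  exact h q x hx (by rwa [Subgroup.orderOf_coe])

theorem Reduces.map {G G' : Type*} [Group G] [Group G'] [Finite G]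
    {K : Nat.Primes → Subgroup G} {C : Subgroup G} (h : Reduces K C) (f : G →* G') :
    Reduces (fun q => (K q).map f) (C.map f) := by
  intro q y hy ho
  obtain ⟨c, hc, rfl⟩ := hy
  obtain ⟨k, hk1, hk2⟩ := exists_pow_coprime_orderOf f q q.2 c ho
  rw [← hk2]
  exact Subgroup.mem_map_of_mem f (h q _ (C.pow_mem hc k) hk1)

/-- Every nilpotent subgroup of a finite solvable group has a complement system reducing into
it. -/
theorem exists_reduces {G : Type u} [Group G] [Finite G] [Group.IsSolvable G] (C : Subgroup G)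
    (hC : Group.IsNilpotent C) :
    ∃ K : Nat.Primes → Subgroup G, IsComplementSystem K ∧ Reduces K C := by
  have key : ∀ q : Nat.Primes, ∃ H : Subgroup G,
      H.index = (q : ℕ) ^ (Nat.card G).factorization q ∧ pPrimePart q C ≤ H := by
    intro q
    have hmn : Nat.card G
        = Nat.card G / (q : ℕ) ^ (Nat.card G).factorization q
          * (q : ℕ) ^ (Nat.card G).factorization q :=
      (Nat.div_mul_cancel (Nat.ordProj_dvd _ _)).symm
    have hcop : (Nat.card G / (q : ℕ) ^ (Nat.card G).factorization q).Coprime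
        ((q : ℕ) ^ (Nat.card G).factorization q) :=
      Nat.Coprime.pow_right _ (Nat.coprime_ordCompl q.2 Nat.card_pos.ne').symm
    obtain ⟨H, hH, hle⟩ := hall_dom _ _ hmn hcop (pPrimePart q C)
      (Nat.Coprime.pow_right _ (card_pPrimePart_coprime q C))
    refine ⟨H, ?_, hle⟩
    have h1 := H.card_mul_index
    rw [hH] at h1
    have hpos : 0 < Nat.card G / (q : ℕ) ^ (Nat.card G).factorization q := by
      rw [← hH]; exact Nat.card_pos
    exact Nat.eq_of_mul_eq_mul_left hpos (h1.trans hmn)
  choose K hK1 hK2 using key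
  refine ⟨K, hK1, ?_⟩
  intro q x hx ho
  have : Fact (q : ℕ).Prime := ⟨q.2⟩
  exact hK2 q (mem_pPrimePart_of_coprime_orderOf q C hC x hx ho)

theorem relIndex_pPrimePart {G : Type*} [Group G] [Finite G] (q : ℕ) [Fact q.Prime]
    (C : Subgroup G) (hC : Group.IsNilpotent C) : ∃ j : ℕ, (pPrimePart q C).relIndex C = q ^ j := by
  obtain ⟨j, hj⟩ := index_pPrimeCore_of_isNilpotent (X := C) q
  refine ⟨j, ?_⟩
  rw [← hj, Subgroup.relIndex]
  congr 1
  rw [pPrimePart, Subgroup.subgroupOf, Subgroup.comap_map_eq_self_of_injective C.subtype_injective]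

/-- The auxiliary `q`-complements of `C ⊔ N` built from the `q'`-part of `C`. -/
theorem exists_aux_complement {G : Type*} [Group G] [Finite G] (K : Nat.Primes → Subgroup G)
    (hK : IsComplementSystem K) (C : Subgroup G) (hC : Group.IsNilpotent C) (hred : Reduces K C)
    (p : ℕ) [Fact p.Prime] (N : Subgroup G) [N.Normal] (hNp : IsPGroup p N) (q : Nat.Primes) :
    ∃ Y : Subgroup G, Y ≤ K q ∧ Y ≤ C ⊔ N ∧ C ≤ Subgroup.normalizer (Y : Set G) ∧
      ∃ j : ℕ, Y.relIndex (C ⊔ N) ∣ (q : ℕ) ^ j := by
  have : Fact (q : ℕ).Prime := ⟨q.2⟩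
  obtain ⟨j, hj⟩ := relIndex_pPrimePart q C hC
  by_cases hqp : (q : ℕ) = p
  · refine ⟨pPrimePart q C, hred.pPrimePart_le q, (pPrimePart_le q C).trans le_sup_left,
      le_normalizer_pPrimePart q C, ?_⟩
    obtain ⟨k, hk⟩ := (IsPGroup.iff_card (p := p) (G := N)).mp hNp
    refine ⟨j + k, ?_⟩
    rw [← Subgroup.relIndex_mul_relIndex _ _ _ (pPrimePart_le q C) (le_sup_left : C ≤ C ⊔ N),
      hj, pow_add]
    apply Nat.mul_dvd_mul_left
    rw [relIndex_sup_of_normal, hqp, ← hk]
    exact Subgroup.relIndex_dvd_card C N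
  · have hNK : N ≤ K q := by
      apply normal_pSubgroup_le_of_not_dvd_index hNp
      rw [hK q]
      intro hdvd
      have h1 := (Fact.out : p.Prime).dvd_of_dvd_pow hdvd
      exact hqp ((Nat.prime_dvd_prime_iff_eq Fact.out q.2).mp h1).symm
    refine ⟨pPrimePart q C ⊔ N, sup_le (hred.pPrimePart_le q) hNK,
      sup_le_sup_right (pPrimePart_le q C) N, ?_, j, ?_⟩
    · refine le_trans ?_ (Subgroup.normalizer_inf_normalizer_le_normalizer_sup _ _)
      refine le_inf (le_normalizer_pPrimePart q C) ?_
      rw [Subgroup.normalizer_eq_top N]; exact le_top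
    · rw [← hj]
      exact relIndex_sup_normal_dvd C (pPrimePart q C) N (pPrimePart_le q C)

theorem systemNormalizer_le_of_reduces_aux : ∀ (n : ℕ) (G : Type u) [Group G] [Finite G]
    [Group.IsSolvable G], Nat.card G = n → ∀ (K : Nat.Primes → Subgroup G) (C : Subgroup G),
    IsComplementSystem K → IsCarter C → Reduces K C → systemNormalizer K ≤ C := by
  intro n
  induction n using Nat.strong_induction_on with
  | _ n ih =>
    intro G _ _ _ hn K C hK hC hred
    subst hn
    rcases subsingleton_or_nontrivial G with hs | hnt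
    · intro x _
      rw [Subsingleton.elim x 1]; exact C.one_mem
    obtain ⟨p, N, hp, hNn, hN1, hNp, hNc, -, hNmin⟩ :=
      exists_normal_pSubgroup_of_isSolvable (G := G)
    have := hNn
    have : Fact p.Prime := ⟨hp⟩
    -- Step 1: `D ≤ C ⊔ N`
    have hDL : systemNormalizer K ≤ C ⊔ N := by
      have hCbar : IsCarter (C.map (QuotientGroup.mk' N)) :=
        hC.map (fun G' _ _ _ _ => carterConj) _ (QuotientGroup.mk'_surjective N)
      have h1 := ih (Nat.card (G ⧸ N)) (card_quotient_lt N hN1) (G ⧸ N) rfl _ _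
        (isComplementSystem_map K hK N) hCbar (hred.map _)
      rw [systemNormalizer_map K hK N] at h1
      have h2 := Subgroup.comap_mono (f := QuotientGroup.mk' N) h1
      rw [Subgroup.comap_map_eq, Subgroup.comap_map_eq, QuotientGroup.ker_mk'] at h2
      exact le_sup_left.trans h2
    have hY := exists_aux_complement K hK C hC.1 hred p N hNp
    by_cases hL : C ⊔ N = ⊤
    · -- `G = C N`: then `C` normalizes every `K q`
      have hCD : C ≤ systemNormalizer K := by
        unfold systemNormalizer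
        refine le_iInf fun q => ?_
        obtain ⟨Y, hYK, -, hCY, j, hj⟩ := hY q
        rw [hL, Subgroup.relIndex_top_right] at hj
        have hcop : (Nat.card Y).Coprime q :=
          Nat.Coprime.coprime_dvd_left (Subgroup.card_dvd_of_le hYK)
            (IsPComplement.coprime (p := (q : ℕ)) q.2 (hK q))
        have hidx := index_eq_of_coprime_of_dvd_pow q q.2 Y hcop j hj
        have h1 := Subgroup.relIndex_mul_index hYK
        rw [hidx, hK q] at h1
        have h2 : Y.relIndex (K q) = 1 := by
          have hpos : 0 < (q : ℕ) ^ (Nat.card G).factorization q := pow_pos q.2.pos _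
          exact Nat.eq_of_mul_eq_mul_right hpos (by rw [h1, one_mul])
        have h3 : K q ≤ Y := Subgroup.relIndex_eq_one.mp h2
        rw [le_antisymm h3 hYK]
        exact hCY
      have hDnil : Group.IsNilpotent (systemNormalizer K) := Cfsg.Agent.S0544.result K hK
      by_contra hne
      have hne' : C.subgroupOf (systemNormalizer K) ≠ ⊤ := by
        intro h
        exact hne (Subgroup.subgroupOf_eq_top.mp h)
      have hnc := Group.normalizerCondition_of_isNilpotent (G := systemNormalizer K)
        (C.subgroupOf (systemNormalizer K)) (lt_top_iff_ne_top.mpr hne')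
      rw [← Subgroup.subgroupOf_normalizer_eq hCD, hC.2] at hnc
      exact lt_irrefl _ hnc
    · -- `C N < G`: induct inside `L = C N`
      have hlt : Nat.card (C ⊔ N : Subgroup G) < Nat.card G := card_subgroup_lt _ hL
      have hK' : IsComplementSystem (fun q => (K q).subgroupOf (C ⊔ N)) := by
        intro q
        obtain ⟨Y, hYK, -, -, j, hj⟩ := hY q
        have hcop : (Nat.card ((K q).subgroupOf (C ⊔ N))).Coprime q :=
          Nat.Coprime.coprime_dvd_left (card_subgroupOf_dvd _ _)
            (IsPComplement.coprime (p := (q : ℕ)) q.2 (hK q))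
        apply index_eq_of_coprime_of_dvd_pow q q.2 _ hcop j
        exact (Subgroup.relIndex_dvd_of_le_left (C ⊔ N) hYK).trans hj
      have hC' : IsCarter (C.subgroupOf (C ⊔ N)) := hC.subgroupOf le_sup_left
      have h1 := ih _ hlt (C ⊔ N : Subgroup G) rfl _ _ hK' hC' (hred.subgroupOf _)
      intro x hx
      have hxL : x ∈ C ⊔ N := hDL hx
      have hx' : (⟨x, hxL⟩ : (C ⊔ N : Subgroup G)) ∈
          systemNormalizer (fun q => (K q).subgroupOf (C ⊔ N)) := by
        unfold systemNormalizer
        rw [Subgroup.mem_iInf]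
        intro q
        rw [Subgroup.mem_normalizer_iff]
        intro y
        have hxq : x ∈ Subgroup.normalizer (K q : Set G) := by
          have : systemNormalizer K ≤ Subgroup.normalizer (K q : Set G) := iInf_le _ q
          exact this hx
        simp only [Subgroup.mem_subgroupOf]
        exact Subgroup.mem_normalizer_iff.mp hxq y
      exact Subgroup.mem_subgroupOf.mp (h1 hx')

/-- If a complement system reduces into a Carter subgroup `C`, its system normalizer lies in
`C`. -/
theorem systemNormalizer_le_of_reduces {G : Type u} [Group G] [Finite G] [Group.IsSolvable G]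
    (K : Nat.Primes → Subgroup G) (C : Subgroup G) (hK : IsComplementSystem K) (hC : IsCarter C)
    (hred : Reduces K C) : systemNormalizer K ≤ C :=
  systemNormalizer_le_of_reduces_aux _ G rfl K C hK hC hred

theorem isCarter_iff_isCarterSubgroup {G : Type*} [Group G] (C : Subgroup G) :
    IsCarter C ↔ IsCarterSubgroup C := Iff.rfl

/-- the system normalizer of a conjugated family -/
theorem conj_inv_mem_systemNormalizer {G : Type*} [Group G] (K₀ K : Nat.Primes → Subgroup G)
    (g : G) (hg : ∀ p : Nat.Primes, MulAut.conj g • K₀ p = K p) (x : G)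
    (hx : x ∈ systemNormalizer K) : g⁻¹ * x * g ∈ systemNormalizer K₀ := by
  unfold systemNormalizer at hx ⊢
  rw [Subgroup.mem_iInf] at hx ⊢
  intro p
  have h1 := mem_normalizer_iff_conj_smul_eq.mp (hx p)
  rw [mem_normalizer_iff_conj_smul_eq]
  rw [← hg p, conj_smul_conj_smul] at h1
  have h2 := congrArg (fun H : Subgroup G => MulAut.conj g⁻¹ • H) h1
  simp only [conj_smul_conj_smul] at h2
  rw [inv_mul_cancel, conj_one_smul, ← mul_assoc] at h2
  exact h2

/-- **Carter subgroups and system normalizers** (S0569). -/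
theorem carter_systemNormalizer {G : Type u} [Group G] [Finite G] [Group.IsSolvable G] :
    (∀ C : Subgroup G, IsCarterSubgroup C →
      ∃ K : Nat.Primes → Subgroup G, IsComplementSystem K ∧ systemNormalizer K ≤ C) ∧
    ∀ K : Nat.Primes → Subgroup G, IsComplementSystem K →
      ∃ C : Subgroup G, IsCarterSubgroup C ∧ systemNormalizer K ≤ C := by
  have part1 : ∀ C : Subgroup G, IsCarterSubgroup C →
      ∃ K : Nat.Primes → Subgroup G, IsComplementSystem K ∧ systemNormalizer K ≤ C := by
    intro C hC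
    obtain ⟨K, hK, hred⟩ := exists_reduces C hC.1
    exact ⟨K, hK, systemNormalizer_le_of_reduces K C hK hC hred⟩
  refine ⟨part1, ?_⟩
  intro K hK
  obtain ⟨C₀, hC₀⟩ := exists_isCarter (G := G)
  obtain ⟨K₀, hK₀, hD₀⟩ := part1 C₀ hC₀
  obtain ⟨g, hg⟩ := complementSystem_conj K₀ K hK₀ hK
  refine ⟨MulAut.conj g • C₀, hC₀.conj_smul g, ?_⟩
  intro x hx
  have h1 := hD₀ (conj_inv_mem_systemNormalizer K₀ K g hg x hx)
  rw [Subgroup.mem_pointwise_smul_iff_inv_smul_mem]
  have : (MulAut.conj g)⁻¹ • x = g⁻¹ * x * g := by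
    rw [MulAut.smul_def, MulAut.conj_inv_apply]
  rw [this]; exact h1

end Cfsg.Agent.Lib.Helper1
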