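import Mathlib
import Cfsg.Prelude.Def_SolvableStructure
import Cfsg.Agent.Lib.Helper1.CarterSysNorm
import Cfsg.Agent.S0015
import Cfsg.Agent.S0546

/-!
# Carter subgroups are the system normalizers in nilpotent-by-nilpotent groups (S0570)
-/

set_option autoImplicit false

namespace Cfsg.Agent.Lib.Helper1

open Cfsg
open Pointwise

universe u

/-- In a nilpotent group every system normalizer is the whole group. -/
theorem systemNormalizer_eq_top_of_isNilpotent {G : Type*} [Group G] [Finite G]
    [hnil : Group.IsNilpotent G] (K : Nat.Primes → Subgroup G) (hK : IsComplementSystem K) :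
    systemNormalizer K = ⊤ := by
  rcases eq_top_or_exists_le_coatom (systemNormalizer K) with h | ⟨M, hM, hle⟩
  · exact h
  · exfalso
    have hMn : M.Normal :=
      Subgroup.NormalizerCondition.normal_of_coatom M Group.normalizerCondition_of_isNilpotent hM
    have h1 : Subgroup.normalClosure ((systemNormalizer K : Subgroup G) : Set G) ≤ M :=
      Subgroup.normalClosure_le_normal hle
    rw [Cfsg.Agent.S0546.result K hK] at h1
    exact hM.1 (eq_top_iff.mpr h1)

/-- A minimal normal subgroup of `G` inside a nilpotent normal subgroup `F` is central in `F`. -/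
theorem le_centralizer_of_minimal_normal_le_nilpotent {G : Type*} [Group G] (F N : Subgroup G)
    [F.Normal] [N.Normal] (hF : Group.IsNilpotent F) (hNF : N ≤ F) (hN1 : N ≠ ⊥)
    (hNmin : ∀ M : Subgroup G, M.Normal → M ≤ N → M = ⊥ ∨ M = N) :
    N ≤ Subgroup.centralizer (F : Set G) := by
  have hn : (N.subgroupOf F).Normal := inferInstance
  have hne : N.subgroupOf F ≠ ⊥ := by
    intro h
    rw [Subgroup.subgroupOf_eq_bot, disjoint_iff, inf_of_le_left hNF] at h
    exact hN1 h
  obtain ⟨x, hxN, hxZ, hx1⟩ := Cfsg.Agent.S0015.exists_mem_center_of_normal (N.subgroupOf F) hne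
  have hX : N ⊓ Subgroup.centralizer (F : Set G) ≠ ⊥ := by
    intro h
    have hmem : (x : G) ∈ N ⊓ Subgroup.centralizer (F : Set G) := by
      refine Subgroup.mem_inf.mpr ⟨Subgroup.mem_subgroupOf.mp hxN, Subgroup.mem_centralizer_iff.mpr ?_⟩
      intro f hf
      have := Subgroup.mem_center_iff.mp hxZ ⟨f, hf⟩
      exact congrArg Subtype.val this
    rw [h, Subgroup.mem_bot] at hmem
    exact hx1 (Subtype.ext hmem)
  rcases hNmin (N ⊓ Subgroup.centralizer (F : Set G)) inferInstance inf_le_left with h | h
  · exact absurd h hX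
  · exact inf_eq_left.mp h

/-- A Carter subgroup meets an eccentric minimal normal subgroup inside the nilpotent normal
subgroup `F` trivially, when `G ⧸ F` is nilpotent. -/
theorem carter_inf_eq_bot_of_not_central {G : Type u} [Group G] [Finite G] [Group.IsSolvable G]
    (F N C : Subgroup G) [F.Normal] [N.Normal] (hF : Group.IsNilpotent F)
    (hGF : Group.IsNilpotent (G ⧸ F)) (hNF : N ≤ F) (hN1 : N ≠ ⊥)
    (hNmin : ∀ M : Subgroup G, M.Normal → M ≤ N → M = ⊥ ∨ M = N)
    (hnc : ¬ N ≤ Subgroup.center G) (hC : IsCarter C) : N ⊓ C = ⊥ := by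
  have hNZF : N ≤ Subgroup.centralizer (F : Set G) :=
    le_centralizer_of_minimal_normal_le_nilpotent F N hF hNF hN1 hNmin
  have hFZN : F ≤ Subgroup.centralizer (N : Set G) := Subgroup.le_centralizer_iff.mp hNZF
  have hCF : C ⊔ F = ⊤ := by
    have := hC.sup_ker_eq_top (fun G' _ _ _ _ => carterConj) (QuotientGroup.mk' F)
      (QuotientGroup.mk'_surjective F)
    rwa [QuotientGroup.ker_mk'] at this
  have hYn : (N ⊓ C).Normal := by
    rw [← Subgroup.normalizer_eq_top_iff, eq_top_iff, ← hCF]
    apply sup_le
    · refine le_trans ?_ Subgroup.inf_normalizer_le_normalizer_inf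
      refine le_inf ?_ Subgroup.le_normalizer
      rw [Subgroup.normalizer_eq_top N]; exact le_top
    · exact hFZN.trans (centralizer_le_normalizer_inf N C)
  rcases hNmin (N ⊓ C) hYn inf_le_left with h | h
  · exact h
  · exfalso
    have hNC : N ≤ C := inf_eq_left.mp h
    have hn : (N.subgroupOf C).Normal := inferInstance
    have hne : N.subgroupOf C ≠ ⊥ := by
      intro h'
      rw [Subgroup.subgroupOf_eq_bot, disjoint_iff, inf_of_le_left hNC] at h'
      exact hN1 h'
    have hCnil : Group.IsNilpotent C := hC.1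
    obtain ⟨x, hxN, hxZ, hx1⟩ :=
      Cfsg.Agent.S0015.exists_mem_center_of_normal (N.subgroupOf C) hne
    have hxN' : (x : G) ∈ N := Subgroup.mem_subgroupOf.mp hxN
    have hxcen : (x : G) ∈ Subgroup.center G := by
      have h1 : C ≤ Subgroup.centralizer ({(x : G)} : Set G) := by
        intro c hc
        rw [Subgroup.mem_centralizer_iff]
        intro y hy
        rw [Set.mem_singleton_iff] at hy
        subst hy
        have := Subgroup.mem_center_iff.mp hxZ ⟨c, hc⟩
        exact (congrArg Subtype.val this).symm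
      have h2 : F ≤ Subgroup.centralizer ({(x : G)} : Set G) := by
        intro f hf
        rw [Subgroup.mem_centralizer_iff]
        intro y hy
        rw [Set.mem_singleton_iff] at hy
        subst hy
        exact (Subgroup.mem_centralizer_iff.mp (hNZF hxN') f hf).symm
      have h3 : (⊤ : Subgroup G) ≤ Subgroup.centralizer ({(x : G)} : Set G) := by
        rw [← hCF]; exact sup_le h1 h2
      rw [Subgroup.mem_center_iff]
      intro g
      have := Subgroup.mem_centralizer_iff.mp (h3 (Subgroup.mem_top g)) (x : G) rfl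
      exact this.symm
    have hX : N ⊓ Subgroup.center G ≠ ⊥ := by
      intro h'
      have hmem : (x : G) ∈ N ⊓ Subgroup.center G := ⟨hxN', hxcen⟩
      rw [h', Subgroup.mem_bot] at hmem
      exact hx1 (Subtype.ext hmem)
    rcases hNmin (N ⊓ Subgroup.center G) inferInstance inf_le_left with h' | h'
    · exact hX h'
    · exact hnc (inf_eq_left.mp h')

theorem card_eq_of_sup_eq_of_inf_bot {G : Type*} [Group G] [Finite G] (A B N : Subgroup G)
    [N.Normal] (hsup : A ⊔ N = B ⊔ N) (hA : N ⊓ A = ⊥) (hB : N ⊓ B = ⊥) :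
    Nat.card A = Nat.card B := by
  have cardrel : ∀ {X Y : Subgroup G}, X ≤ Y → Nat.card X * X.relIndex Y = Nat.card Y := by
    intro X Y hXY
    have := Subgroup.relIndex_mul_relIndex ⊥ X Y bot_le hXY
    rwa [Subgroup.relIndex_bot_left, Subgroup.relIndex_bot_left] at this
  have key : ∀ X : Subgroup G, N ⊓ X = ⊥ →
      Nat.card (X ⊔ N : Subgroup G) = Nat.card X * Nat.card N := by
    intro X hX
    have c2 := cardrel (le_sup_right : N ≤ X ⊔ N)
    rw [Subgroup.relIndex_sup_right] at c2
    have c3 := cardrel (inf_le_right : N ⊓ X ≤ X)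
    rw [Subgroup.inf_relIndex_right, hX, Subgroup.card_bot, one_mul] at c3
    rw [← c2, c3, mul_comm]
  have h1 := key A hA
  have h2 := key B hB
  rw [hsup, h2] at h1
  exact (Nat.eq_of_mul_eq_mul_right Nat.card_pos h1).symm

theorem systemNormalizer_eq_carter_aux : ∀ (n : ℕ) (G : Type u) [Group G] [Finite G]
    [Group.IsSolvable G], Nat.card G = n → ∀ (F : Subgroup G) [F.Normal],
    Group.IsNilpotent F → Group.IsNilpotent (G ⧸ F) →
    ∀ (K : Nat.Primes → Subgroup G) (C : Subgroup G), IsComplementSystem K → IsCarter C →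
    systemNormalizer K ≤ C → systemNormalizer K = C := by
  intro n
  induction n using Nat.strong_induction_on with
  | _ n ih =>
    intro G _ _ _ hn F _ hF hGF K C hK hC hle
    subst hn
    by_cases hF1 : F = ⊥
    · subst hF1
      have hG : Group.IsNilpotent G :=
        (Group.isNilpotent_congr (QuotientGroup.quotientBot (G := G))).mp hGF
      rw [systemNormalizer_eq_top_of_isNilpotent K hK, hC.eq_top_of_isNilpotent]
    obtain ⟨p, N, hp, hNn, hN1, hNF, hNp, hNc, -, hNmin⟩ :=
      exists_normal_pSubgroup_le_of_isSolvable F inferInstance hF1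
    have := hNn
    -- the quotient by `N`
    have hsup : systemNormalizer K ⊔ N = C ⊔ N := by
      have hFbar : Group.IsNilpotent (F.map (QuotientGroup.mk' N)) := isNilpotent_map _ F hF
      have hFbarn : (F.map (QuotientGroup.mk' N)).Normal :=
        Subgroup.Normal.map inferInstance _ (QuotientGroup.mk'_surjective N)
      have hQ : Group.IsNilpotent ((G ⧸ N) ⧸ F.map (QuotientGroup.mk' N)) :=
        (Group.isNilpotent_congr (QuotientGroup.quotientQuotientEquivQuotient N F hNF)).mpr hGF
      have hCbar : IsCarter (C.map (QuotientGroup.mk' N)) :=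
        hC.map (fun G' _ _ _ _ => carterConj) _ (QuotientGroup.mk'_surjective N)
      have hle' : systemNormalizer (fun q => (K q).map (QuotientGroup.mk' N))
          ≤ C.map (QuotientGroup.mk' N) := by
        rw [systemNormalizer_map K hK N]; exact Subgroup.map_mono hle
      have h1 := ih (Nat.card (G ⧸ N)) (card_quotient_lt N hN1) (G ⧸ N) rfl
        (F.map (QuotientGroup.mk' N)) hFbar hQ _ _ (isComplementSystem_map K hK N) hCbar hle'
      rw [systemNormalizer_map K hK N] at h1
      have h2 := congrArg (Subgroup.comap (QuotientGroup.mk' N)) h1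
      rwa [Subgroup.comap_map_eq, Subgroup.comap_map_eq, QuotientGroup.ker_mk'] at h2
    by_cases hcen : N ≤ Subgroup.center G
    · have hND : N ≤ systemNormalizer K := le_systemNormalizer_of_le_center K N hcen
      apply le_antisymm hle
      calc C ≤ C ⊔ N := le_sup_left
        _ = systemNormalizer K ⊔ N := hsup.symm
        _ = systemNormalizer K := sup_of_le_left hND
    · have hD0 : N ⊓ systemNormalizer K = ⊥ :=
        inf_systemNormalizer_eq_bot_of_not_central K hK N hN1 hNmin hcen
      have hC0 : N ⊓ C = ⊥ :=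
        carter_inf_eq_bot_of_not_central F N C hF hGF hNF hN1 hNmin hcen hC
      have hcard := card_eq_of_sup_eq_of_inf_bot _ _ N hsup hD0 hC0
      exact Subgroup.eq_of_le_of_card_ge hle hcard.ge

/-- **Carter subgroups = system normalizers** for nilpotent-by-nilpotent groups (S0570). -/
theorem carter_iff_systemNormalizer {G : Type u} [Group G] [Finite G] (F : Subgroup G)
    [F.Normal] (hF : Group.IsNilpotent F) (hGF : Group.IsNilpotent (G ⧸ F)) (C : Subgroup G) :
    IsCarterSubgroup C ↔
      ∃ K : Nat.Primes → Subgroup G, IsComplementSystem K ∧ C = systemNormalizer K := by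
  have hsolv : Group.IsSolvable G :=
    Group.isSolvable_of_ker_le_range F.subtype (QuotientGroup.mk' F)
      (by rw [QuotientGroup.ker_mk', Subgroup.range_subtype])
  constructor
  · intro hC
    obtain ⟨K, hK, hle⟩ := carter_systemNormalizer.1 C hC
    exact ⟨K, hK, (systemNormalizer_eq_carter_aux _ G rfl F hF hGF K C hK hC hle).symm⟩
  · rintro ⟨K, hK, rfl⟩
    obtain ⟨C', hC', hle⟩ := carter_systemNormalizer.2 K hK
    rw [systemNormalizer_eq_carter_aux _ G rfl F hF hGF K C' hK hC' hle]
    exact hC'

end Cfsg.Agent.Lib.Helper1
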