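import Mathlib

/-!
# Permuting subgroups

For subgroups `A B` with `A * B = B * A` as sets, the product set is the join `A ⊔ B`;
if moreover the orders are coprime then `|A ⊔ B| = |A| * |B|`.
Also: joins of pairwise permuting Sylow subgroups (a Sylow system / Sylow basis).
-/

set_option autoImplicit false

namespace Cfsg.Agent.Lib.Helper1

open Pointwise

variable {G : Type*} [Group G]

/-- The product set of two permuting subgroups, as a subgroup. -/
def mulSubgroup (A B : Subgroup G) (h : (A : Set G) * B = (B : Set G) * A) : Subgroup G where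
  carrier := (A : Set G) * B
  mul_mem' := by
    intro x y hx hy
    have h1 : x * y ∈ ((A : Set G) * B) * ((A : Set G) * B) := Set.mul_mem_mul hx hy
    have h2 : ((A : Set G) * B) * ((A : Set G) * B) = (A : Set G) * B := by
      calc ((A : Set G) * B) * ((A : Set G) * B)
          = (A : Set G) * (((B : Set G) * A) * B) := by simp only [mul_assoc]
        _ = (A : Set G) * (((A : Set G) * B) * B) := by rw [h]
        _ = ((A : Set G) * A) * ((B : Set G) * B) := by simp only [mul_assoc]
        _ = (A : Set G) * B := by rw [coe_mul_coe, coe_mul_coe]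
    rw [h2] at h1
    exact h1
  one_mem' := ⟨1, A.one_mem, 1, B.one_mem, one_mul 1⟩
  inv_mem' := by
    rintro _ ⟨a, ha, b, hb, rfl⟩
    have : (a * b)⁻¹ ∈ (B : Set G) * A := ⟨b⁻¹, B.inv_mem hb, a⁻¹, A.inv_mem ha, (mul_inv_rev a b).symm⟩
    rw [← h] at this
    exact this

lemma coe_sup_of_permute (A B : Subgroup G) (h : (A : Set G) * B = (B : Set G) * A) :
    ((A ⊔ B : Subgroup G) : Set G) = (A : Set G) * B := by
  apply Set.Subset.antisymm
  · have hA : A ≤ mulSubgroup A B h := fun a ha => ⟨a, ha, 1, B.one_mem, mul_one a⟩
    have hB : B ≤ mulSubgroup A B h := fun b hb => ⟨1, A.one_mem, b, hb, one_mul b⟩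
    exact fun x hx => (sup_le hA hB) hx
  · rintro _ ⟨a, ha, b, hb, rfl⟩
    exact (A ⊔ B).mul_mem (Subgroup.mem_sup_left ha) (Subgroup.mem_sup_right hb)

lemma card_sup_of_permute_of_coprime [Finite G] (A B : Subgroup G)
    (h : (A : Set G) * B = (B : Set G) * A) (hc : (Nat.card A).Coprime (Nat.card B)) :
    Nat.card (A ⊔ B : Subgroup G) = Nat.card A * Nat.card B := by
  apply le_antisymm
  · have h1 : Nat.card (A ⊔ B : Subgroup G) = Nat.card ((A : Set G) * (B : Set G)) := by
      rw [← coe_sup_of_permute A B h]; rfl
    rw [h1]
    exact Set.natCard_mul_le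
  · apply Nat.le_of_dvd Nat.card_pos
    exact Nat.Coprime.mul_dvd_of_dvd_of_dvd hc (Subgroup.card_dvd_of_le le_sup_left)
      (Subgroup.card_dvd_of_le le_sup_right)

/-- Joins of members of a Sylow system: they permute with every member and their order is the
product of the orders. -/
lemma sylowSystem_sup [Finite G] (S : (p : Nat.Primes) → Sylow (p : ℕ) G)
    (hS : ∀ p q : Nat.Primes, (S p : Set G) * (S q : Set G) = (S q : Set G) * (S p : Set G))
    (T : Finset Nat.Primes) :
    (∀ r : Nat.Primes, ((T.sup fun q => (S q : Subgroup G) : Subgroup G) : Set G) * (S r : Set G)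
        = (S r : Set G) * ((T.sup fun q => (S q : Subgroup G) : Subgroup G) : Set G)) ∧
      Nat.card (T.sup fun q => (S q : Subgroup G) : Subgroup G)
        = ∏ q ∈ T, (q : ℕ) ^ (Nat.card G).factorization q := by
  classical
  induction T using Finset.induction_on with
  | empty =>
    refine ⟨fun r => ?_, ?_⟩
    · simp
    · simp
  | insert r T hr ih =>
    obtain ⟨ih1, ih2⟩ := ih
    rw [Finset.sup_insert, Finset.prod_insert hr]
    set K : Subgroup G := T.sup fun q => (S q : Subgroup G) with hK
    have hperm : ((S r : Subgroup G) : Set G) * (K : Set G) = (K : Set G) * (S r : Set G) :=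
      (ih1 r).symm
    have hcoe := coe_sup_of_permute (S r : Subgroup G) K hperm
    refine ⟨fun s => ?_, ?_⟩
    · rw [hcoe]
      have e : ∀ t : Nat.Primes, (((S t : Subgroup G) : Set G)) = (S t : Set G) := fun t => rfl
      rw [e r]
      calc (S r : Set G) * (K : Set G) * (S s : Set G)
          = (S r : Set G) * ((K : Set G) * (S s : Set G)) := by
            rw [mul_assoc]
        _ = (S r : Set G) * ((S s : Set G) * (K : Set G)) := by
            rw [ih1 s]
        _ = ((S r : Set G) * (S s : Set G)) * (K : Set G) := by
            rw [mul_assoc]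
        _ = ((S s : Set G) * (S r : Set G)) * (K : Set G) := by
            rw [hS r s]
        _ = (S s : Set G) * ((S r : Set G) * (K : Set G)) := by
            rw [mul_assoc]
    · have hcr : Nat.card (S r : Subgroup G) = (r : ℕ) ^ (Nat.card G).factorization r := by
        have : Fact (r : ℕ).Prime := ⟨r.2⟩
        exact (S r).card_eq_multiplicity
      have hcop : (Nat.card (S r : Subgroup G)).Coprime (Nat.card K) := by
        rw [hcr, ih2]
        apply Nat.Coprime.prod_right
        intro q hq
        apply Nat.Coprime.pow
        apply (Nat.coprime_primes r.2 q.2).2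
        intro hrq
        apply hr
        have : r = q := Subtype.ext hrq
        rw [this]; exact hq
      rw [card_sup_of_permute_of_coprime _ _ hperm hcop, hcr, ih2]

/-- A Sylow system yields a Hall `p`-complement for every prime `p`. -/
lemma sylowSystem_exists_complement [Finite G] (S : (p : Nat.Primes) → Sylow (p : ℕ) G)
    (hS : ∀ p q : Nat.Primes, (S p : Set G) * (S q : Set G) = (S q : Set G) * (S p : Set G))
    (p : ℕ) (hp : p.Prime) :
    ∃ H : Subgroup G, H.index = p ^ (Nat.card G).factorization p := by
  classical
  set n := Nat.card G with hn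
  have hn0 : n ≠ 0 := Nat.card_pos.ne'
  let P : Nat.Primes := ⟨p, hp⟩
  let T' : Finset Nat.Primes := Finset.subtype Nat.Prime n.primeFactors
  have hprod : ∏ q ∈ T', (q : ℕ) ^ n.factorization q = n := by
    have h1 : ∏ q ∈ T', (q : ℕ) ^ n.factorization q
        = ∏ q ∈ n.primeFactors.filter Nat.Prime, q ^ n.factorization q :=
      Finset.prod_subtype_eq_prod_filter (s := n.primeFactors) (p := Nat.Prime)
        (f := fun q => q ^ n.factorization q)
    rw [h1, Finset.filter_true_of_mem (fun q hq => Nat.prime_of_mem_primeFactors hq)]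
    conv_rhs => rw [← Nat.prod_factorization_pow_eq_self hn0]
    rw [Nat.prod_factorization_eq_prod_primeFactors]
  obtain ⟨-, hcard⟩ := sylowSystem_sup S hS (T'.erase P)
  refine ⟨(T'.erase P).sup fun q => (S q : Subgroup G), ?_⟩
  set H : Subgroup G := (T'.erase P).sup fun q => (S q : Subgroup G) with hH
  have hmul : Nat.card H * p ^ n.factorization p = n := by
    rw [hcard]
    by_cases hP : P ∈ T'
    · rw [mul_comm]
      exact (Finset.mul_prod_erase T' (fun q : Nat.Primes => (q : ℕ) ^ n.factorization q) hP).trans
        hprod
    · rw [Finset.erase_eq_of_notMem hP, hprod]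
      have : p ∉ n.primeFactors := by
        intro hmem
        apply hP
        exact Finset.mem_subtype.mpr hmem
      have h0 : n.factorization p = 0 := by
        rw [← Finsupp.notMem_support_iff, Nat.support_factorization]
        exact this
      rw [h0, pow_zero, mul_one]
  have hci : Nat.card H * H.index = n := H.card_mul_index
  have hpos : 0 < Nat.card H := Nat.card_pos
  exact Nat.eq_of_mul_eq_mul_left hpos (hci.trans hmul.symm)

end Cfsg.Agent.Lib.Helper1
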