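import Mathlib
import Cfsg.Agent.Lib.Helper1.PCore
import Cfsg.Agent.Lib.Helper1.Permuting
import Cfsg.Agent.Lib.Helper1.Carter
import Cfsg.Agent.Lib.Helper50.ChermakDelgado

/-!
# Permuting `p`-subgroups

Main result (`commutator_le_pCore_of_permute`): if `H`, `K` are `p`-subgroups of a finite group
such that every conjugate of `H` permutes with every conjugate of `K`, then `⁅H, K⁆ ≤ O_p(G)`.
This is the special case needed for the Kegel–Wielandt theorem of Wielandt's theorem that
`⁅H, K⁆` is subnormal when `H K^g = K^g H` for all `g`.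
-/

set_option autoImplicit false

namespace Cfsg.Agent.Lib.Helper1

open Pointwise Cfsg

variable {G : Type*} [Group G]

/-- The subgroups `A` and `B` permute: `AB = BA` as sets. -/
def Permute (A B : Subgroup G) : Prop := (A : Set G) * (B : Set G) = (B : Set G) * (A : Set G)

lemma Permute.symm {A B : Subgroup G} (h : Permute A B) : Permute B A := Eq.symm h

lemma permute_of_mul_subset {A B : Subgroup G}
    (h : (A : Set G) * (B : Set G) ⊆ (B : Set G) * (A : Set G)) : Permute A B := by
  apply Set.Subset.antisymm h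
  rintro _ ⟨b, hb, a, ha, rfl⟩
  have h1 : a⁻¹ * b⁻¹ ∈ (A : Set G) * (B : Set G) :=
    ⟨a⁻¹, A.inv_mem ha, b⁻¹, B.inv_mem hb, rfl⟩
  obtain ⟨b', hb', a', ha', h2⟩ := h h1
  refine ⟨a'⁻¹, A.inv_mem ha', b'⁻¹, B.inv_mem hb', ?_⟩
  have h3 : (b' * a')⁻¹ = (a⁻¹ * b⁻¹)⁻¹ := by
    simp only at h2
    rw [h2]
  simpa [mul_inv_rev] using h3

lemma Permute.smul {A B : Subgroup G} (h : Permute A B) (g : G) :
    Permute (MulAut.conj g • A) (MulAut.conj g • B) := by
  apply permute_of_mul_subset
  rintro _ ⟨x, hx, y, hy, rfl⟩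
  rw [SetLike.mem_coe, Subgroup.mem_pointwise_smul_iff_inv_smul_mem] at hx hy
  have h1 : ((MulAut.conj g)⁻¹ • x) * ((MulAut.conj g)⁻¹ • y) ∈ (A : Set G) * (B : Set G) :=
    ⟨_, hx, _, hy, rfl⟩
  rw [h] at h1
  obtain ⟨b, hb, a, ha, h2⟩ := h1
  refine ⟨MulAut.conj g • b, Subgroup.smul_mem_pointwise_smul _ _ _ hb,
    MulAut.conj g • a, Subgroup.smul_mem_pointwise_smul _ _ _ ha, ?_⟩
  simp only at h2 ⊢
  rw [← smul_mul', h2, smul_mul', smul_inv_smul, smul_inv_smul]

lemma Permute.iSup_left {ι : Sort*} {X : ι → Subgroup G} {Y : Subgroup G}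
    (h : ∀ i, Permute (X i) Y) : Permute (⨆ i, X i) Y := by
  apply permute_of_mul_subset
  rintro _ ⟨j, hj, y, hy, rfl⟩
  have key : ∀ y ∈ Y, j * y ∈ (Y : Set G) * ((⨆ i, X i : Subgroup G) : Set G) := by
    refine Subgroup.iSup_induction X (C := fun j => ∀ y ∈ Y,
      j * y ∈ (Y : Set G) * ((⨆ i, X i : Subgroup G) : Set G)) hj ?_ ?_ ?_
    · intro i x hx y hy
      have h1 : x * y ∈ (X i : Set G) * (Y : Set G) := ⟨x, hx, y, hy, rfl⟩
      rw [h i] at h1
      obtain ⟨y', hy', x', hx', h2⟩ := h1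
      exact ⟨y', hy', x', (le_iSup X i) hx', h2⟩
    · intro y hy
      exact ⟨y, hy, 1, Subgroup.one_mem _, by simp⟩
    · intro j1 j2 h1 h2 y hy
      obtain ⟨y', hy', j', hj', e2⟩ := h2 y hy
      obtain ⟨y'', hy'', j'', hj'', e1⟩ := h1 y' hy'
      refine ⟨y'', hy'', j'' * j', Subgroup.mul_mem _ hj'' hj', ?_⟩
      simp only at e1 e2
      rw [mul_assoc j1, ← e2, ← mul_assoc j1, ← e1, mul_assoc]
  exact key y hy

lemma Permute.iSup_right {ι : Sort*} {X : Subgroup G} {Y : ι → Subgroup G}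
    (h : ∀ i, Permute X (Y i)) : Permute X (⨆ i, Y i) :=
  (Permute.iSup_left fun i => (h i).symm).symm

lemma isPGroup_sup_of_permute [Finite G] {p : ℕ} [Fact p.Prime] {A B : Subgroup G}
    (hA : IsPGroup p A) (hB : IsPGroup p B) (h : Permute A B) : IsPGroup p (A ⊔ B : Subgroup G) := by
  obtain ⟨a, ha⟩ := IsPGroup.iff_card.mp hA
  obtain ⟨b, hb⟩ := IsPGroup.iff_card.mp hB
  have h1 := Cfsg.Agent.Lib.Helper50.card_mul_card_eq_card_inf_mul_card_mul A B
  have h2 : Nat.card (A ⊔ B : Subgroup G) = Nat.card ((A : Set G) * (B : Set G) : Set G) := by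
    rw [← coe_sup_of_permute A B h]; rfl
  have h3 : Nat.card (A ⊔ B : Subgroup G) ∣ p ^ (a + b) := by
    rw [pow_add, ← ha, ← hb, h1, h2]
    exact dvd_mul_left _ _
  obtain ⟨c, -, hc⟩ := (Nat.dvd_prime_pow (Fact.out : p.Prime)).mp h3
  exact IsPGroup.of_card hc

/-- The subgroup generated by the conjugates of `H` contained in `T`. -/
def conjJoin (H T : Subgroup G) : Subgroup G :=
  ⨆ g : {g : G // MulAut.conj g • H ≤ T}, MulAut.conj (g : G) • H

lemma conjJoin_le (H T : Subgroup G) : conjJoin H T ≤ T := iSup_le fun g => g.2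

lemma le_conjJoin {H T : Subgroup G} {g : G} (h : MulAut.conj g • H ≤ T) :
    MulAut.conj g • H ≤ conjJoin H T :=
  le_iSup (fun g : {g : G // MulAut.conj g • H ≤ T} => MulAut.conj (g : G) • H) ⟨g, h⟩

lemma self_le_conjJoin {H T : Subgroup G} (h : H ≤ T) : H ≤ conjJoin H T := by
  have h1 : MulAut.conj (1 : G) • H ≤ T := by simpa using h
  simpa using le_conjJoin h1

lemma smul_conjJoin_le (H T : Subgroup G) (g : G) :
    MulAut.conj g • conjJoin H T ≤ conjJoin H (MulAut.conj g • T) := by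
  rw [Subgroup.pointwise_smul_subset_iff]
  refine iSup_le fun g' => ?_
  rw [← Subgroup.pointwise_smul_subset_iff, smul_smul, ← map_mul]
  apply le_conjJoin
  rw [map_mul, ← smul_smul]
  exact Subgroup.pointwise_smul_le_pointwise_smul_iff.mpr g'.2

lemma smul_conjJoin (H T : Subgroup G) (g : G) :
    MulAut.conj g • conjJoin H T = conjJoin H (MulAut.conj g • T) := by
  apply le_antisymm (smul_conjJoin_le H T g)
  have h1 := smul_conjJoin_le H (MulAut.conj g • T) g⁻¹
  rw [map_inv, inv_smul_smul] at h1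
  rwa [Subgroup.pointwise_smul_subset_iff, inv_inv] at h1

lemma conjJoin_weaklyClosed [Finite G] (H T : Subgroup G) (g : G)
    (h : MulAut.conj g • conjJoin H T ≤ T) :
    MulAut.conj g • conjJoin H T = conjJoin H T := by
  have h1 : MulAut.conj g • conjJoin H T ≤ conjJoin H T := by
    rw [smul_conjJoin] at h ⊢
    refine iSup_le fun g' => ?_
    apply le_conjJoin
    exact le_trans (le_conjJoin g'.2) h
  apply Subgroup.eq_of_le_of_card_ge h1
  rw [card_conj_smul]

lemma isPGroup_conj_smul {p : ℕ} {H : Subgroup G} (hH : IsPGroup p H) (g : G) :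
    IsPGroup p (MulAut.conj g • H : Subgroup G) :=
  hH.of_equiv (Subgroup.equivSMul (MulAut.conj g) H)

/-- A normal `p`-subgroup of a normal subgroup lies in `O_p(G)`. -/
lemma le_pCore_of_normal_in_normal [Finite G] {p : ℕ} [Fact p.Prime] {M D : Subgroup G} [hM : M.Normal]
    (hDM : D ≤ M) (hD : IsPGroup p D)
    (hnorm : M ≤ Subgroup.normalizer (D : Set G)) : D ≤ pCore p G := by
  have h1 : (D.subgroupOf M).Normal := by
    refine ⟨fun d hd m => ?_⟩
    rw [Subgroup.mem_subgroupOf] at hd ⊢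
    have := (Subgroup.mem_normalizer_iff.mp (hnorm m.2)) (d : G)
    exact this.mp hd
  have h2 : IsPGroup p (D.subgroupOf M) := hD.comap_subtype
  have h3 : D.subgroupOf M ≤ pCore p M := le_pCore h1 h2
  have h4 : ((pCore p M).map M.subtype).Normal := inferInstance
  have h5 : IsPGroup p ((pCore p M).map M.subtype) := (pCore_isPGroup (G := M) p).map _
  have h6 : (pCore p M).map M.subtype ≤ pCore p G := le_pCore h4 h5
  intro d hd
  apply h6
  exact ⟨⟨d, hDM hd⟩, h3 (Subgroup.mem_subgroupOf.mpr hd), rfl⟩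

/-- **Permuting `p`-subgroups.** If every conjugate of the `p`-subgroup `H` permutes with every
conjugate of the `p`-subgroup `K`, then `⁅H, K⁆ ≤ O_p(G)`. -/
theorem commutator_le_pCore_of_permute [Finite G] {p : ℕ} [Fact p.Prime] (H K : Subgroup G)
    (hH : IsPGroup p H) (hK : IsPGroup p K)
    (hperm : ∀ x y : G, Permute (MulAut.conj x • H) (MulAut.conj y • K)) :
    ⁅H, K⁆ ≤ pCore p G := by
  classical
  have hHK : IsPGroup p (H ⊔ K : Subgroup G) := by
    have h1 := hperm 1 1
    simp only [map_one, one_smul] at h1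
    exact isPGroup_sup_of_permute hH hK h1
  obtain ⟨S, hS⟩ := hHK.exists_le_sylow
  set H' := conjJoin H S with hH'
  set K' := conjJoin K S with hK'
  have hHH' : H ≤ H' := self_le_conjJoin (le_sup_left.trans hS)
  have hKK' : K ≤ K' := self_le_conjJoin (le_sup_right.trans hS)
  have hH'S : H' ≤ S := conjJoin_le H S
  have hK'S : K' ≤ S := conjJoin_le K S
  have hH'p : IsPGroup p H' := S.isPGroup'.to_le hH'S
  have hK'p : IsPGroup p K' := S.isPGroup'.to_le hK'S
  have hperm1 : ∀ (T : Subgroup G) (y : G), Permute (conjJoin H T) (MulAut.conj y • K) :=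
    fun T y => Permute.iSup_left fun g => hperm g y
  have hperm2 : ∀ (T T' : Subgroup G), Permute (conjJoin H T) (conjJoin K T') :=
    fun T T' => Permute.iSup_right fun g => hperm1 T g
  have hperm' : ∀ x y : G, Permute (MulAut.conj x • H') (MulAut.conj y • K') := by
    intro x y
    rw [hH', hK', smul_conjJoin, smul_conjJoin]
    exact hperm2 _ _
  have hSH' : (S : Subgroup G) ≤ Subgroup.normalizer (H' : Set G) := by
    intro s hs
    rw [mem_normalizer_iff_conj_smul_eq]
    apply conjJoin_weaklyClosed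
    calc MulAut.conj s • conjJoin H S ≤ MulAut.conj s • (S : Subgroup G) :=
          Subgroup.pointwise_smul_le_pointwise_smul_iff.mpr hH'S
      _ = S := Subgroup.conj_smul_eq_self_of_mem hs
  have hSK' : (S : Subgroup G) ≤ Subgroup.normalizer (K' : Set G) := by
    intro s hs
    rw [mem_normalizer_iff_conj_smul_eq]
    apply conjJoin_weaklyClosed
    calc MulAut.conj s • conjJoin K S ≤ MulAut.conj s • (S : Subgroup G) :=
          Subgroup.pointwise_smul_le_pointwise_smul_iff.mpr hK'S
      _ = S := Subgroup.conj_smul_eq_self_of_mem hs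
  -- factorization `G = N(H') N(K')`
  have hfact : ∀ g : G, ∃ u ∈ Subgroup.normalizer (H' : Set G),
      ∃ x ∈ Subgroup.normalizer (K' : Set G), g = u * x := by
    intro g
    have h1 : IsPGroup p (H' ⊔ MulAut.conj g • K' : Subgroup G) := by
      have h2 := hperm' 1 g
      simp only [map_one, one_smul] at h2
      exact isPGroup_sup_of_permute hH'p (isPGroup_conj_smul hK'p g) h2
    obtain ⟨S', hS'⟩ := h1.exists_le_sylow
    obtain ⟨u, hu⟩ := MulAction.exists_smul_eq G S S'
    have hS'eq : (S' : Subgroup G) = MulAut.conj u • (S : Subgroup G) := by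
      rw [← hu, Sylow.coe_subgroup_smul]
    have h3 : MulAut.conj u⁻¹ • H' ≤ S := by
      rw [map_inv, ← Subgroup.subset_pointwise_smul_iff, ← hS'eq]
      exact le_sup_left.trans hS'
    have h4 : MulAut.conj (u⁻¹ * g) • K' ≤ S := by
      rw [map_mul, ← smul_smul, map_inv, ← Subgroup.subset_pointwise_smul_iff, ← hS'eq]
      exact le_sup_right.trans hS'
    have h5 := conjJoin_weaklyClosed H S u⁻¹ h3
    have h6 := conjJoin_weaklyClosed K S (u⁻¹ * g) h4
    refine ⟨u, ?_, u⁻¹ * g, mem_normalizer_iff_conj_smul_eq.mpr h6, by group⟩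
    have := mem_normalizer_iff_conj_smul_eq.mpr h5
    simpa using inv_mem this
  -- all conjugates of `H'` normalize `K'`
  have hconj : ∀ g : G, MulAut.conj g • H' ≤ Subgroup.normalizer (K' : Set G) := by
    intro g
    obtain ⟨u, hu, x, hx, hg⟩ := hfact g⁻¹
    have hg' : g = x⁻¹ * u⁻¹ := by rw [← mul_inv_rev, ← hg, inv_inv]
    rw [hg', map_mul, ← smul_smul, mem_normalizer_iff_conj_smul_eq.mp (inv_mem hu)]
    calc MulAut.conj x⁻¹ • H' ≤ MulAut.conj x⁻¹ • Subgroup.normalizer (K' : Set G) :=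
          Subgroup.pointwise_smul_le_pointwise_smul_iff.mpr (hH'S.trans hSK')
      _ = Subgroup.normalizer (K' : Set G) := Subgroup.conj_smul_eq_self_of_mem (inv_mem hx)
  have hM : Subgroup.normalClosure (H' : Set G) ≤ Subgroup.normalizer (K' : Set G) := by
    apply (Subgroup.closure_le _).mpr
    intro x hx
    rw [Group.mem_conjugatesOfSet_iff] at hx
    obtain ⟨a, ha, hax⟩ := hx
    obtain ⟨c, hc⟩ := isConj_iff.mp hax
    apply hconj c
    rw [← hc]
    exact Subgroup.smul_mem_pointwise_smul a (MulAut.conj c) H' ha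
  set M := Subgroup.normalClosure (H' : Set G) with hMdef
  have hMn : M.Normal := Subgroup.normalClosure_normal
  have hD : K' ⊓ M ≤ pCore p G := by
    apply le_pCore_of_normal_in_normal (M := M) inf_le_right (hK'p.to_le inf_le_left)
    intro m hm
    rw [mem_normalizer_iff_conj_smul_eq, Subgroup.smul_inf,
      mem_normalizer_iff_conj_smul_eq.mp (hM hm), Subgroup.conj_smul_eq_self_of_mem hm]
  have hcomm : ⁅H', K'⁆ ≤ K' ⊓ M := by
    rw [Subgroup.commutator_le]
    intro h hh k hk
    have hhM : h ∈ M := Subgroup.subset_normalClosure hh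
    refine ⟨?_, ?_⟩
    · -- h k h⁻¹ k⁻¹ ∈ K'
      have h1 := (Subgroup.mem_normalizer_iff.mp (hM hhM)) k
      rw [commutatorElement_def]
      exact K'.mul_mem (h1.mp hk) (K'.inv_mem hk)
    · rw [commutatorElement_def, mul_assoc, mul_assoc]
      apply M.mul_mem hhM
      rw [← mul_assoc]
      exact hMn.conj_mem _ (M.inv_mem hhM) k
  exact (Subgroup.commutator_mono hHH' hKK').trans (hcomm.trans hD)

end Cfsg.Agent.Lib.Helper1
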