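import Mathlib
import Cfsg.Agent.Lib.Helper1.PermutingPGroups

/-!
# Kegel–Wielandt: reduction to the coprime case

* `permute_conj_of_factorized`: in a factorized group `G = AB`, if `A₀ ⊴ A` and `B₀ ⊴ B` permute
  then all their conjugates permute.
* `permute_sylow_of_factorized`: if `G = AB` and `Aₚ`, `Bₚ` are normal Sylow `p`-subgroups of
  `A`, `B`, then `Aₚ Bₚ = Bₚ Aₚ`.
* `kegel_wielandt_of_coprime_case`: the Kegel–Wielandt theorem follows from Wielandt's coprime
  case.
-/

set_option autoImplicit false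

namespace Cfsg.Agent.Lib.Helper1

open Pointwise Cfsg
open scoped commutatorElement

variable {G : Type*} [Group G]

lemma permute_conj_of_factorized {A B A0 B0 : Subgroup G}
    (hAB : ∀ g : G, ∃ a ∈ A, ∃ b ∈ B, g = a * b)
    (hA : A ≤ Subgroup.normalizer (A0 : Set G)) (hB : B ≤ Subgroup.normalizer (B0 : Set G))
    (h : Permute A0 B0) (x y : G) :
    Permute (MulAut.conj x • A0) (MulAut.conj y • B0) := by
  obtain ⟨a, ha, b, hb, hab⟩ := hAB (x⁻¹ * y)
  have hy : y = x * a * b := by rw [mul_assoc, ← hab]; group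
  have h1 : MulAut.conj x • A0 = MulAut.conj (x * a) • A0 := by
    rw [map_mul, ← smul_smul, mem_normalizer_iff_conj_smul_eq.mp (hA ha)]
  have h2 : MulAut.conj y • B0 = MulAut.conj (x * a) • B0 := by
    rw [hy, map_mul (MulAut.conj) (x * a) b, ← smul_smul,
      mem_normalizer_iff_conj_smul_eq.mp (hB hb)]
  rw [h1, h2]
  exact h.smul _

/-- In a factorized group, normal Sylow `p`-subgroups of the factors lie in a common Sylow
`p`-subgroup. -/
lemma exists_sylow_ge_of_factorized [Finite G] {p : ℕ} [Fact p.Prime] {A B Ap Bp : Subgroup G}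
    (hAB : ∀ g : G, ∃ a ∈ A, ∃ b ∈ B, g = a * b)
    (hA : A ≤ Subgroup.normalizer (Ap : Set G)) (hB : B ≤ Subgroup.normalizer (Bp : Set G))
    (hAp : IsPGroup p Ap) (hBp : IsPGroup p Bp) :
    ∃ S : Sylow p G, Ap ≤ S ∧ Bp ≤ S := by
  obtain ⟨S1, hS1⟩ := hAp.exists_le_sylow
  obtain ⟨S2, hS2⟩ := hBp.exists_le_sylow
  obtain ⟨g, hg⟩ := MulAction.exists_smul_eq G S1 S2
  obtain ⟨a, ha, b, hb, hab⟩ := hAB g⁻¹
  have hg' : g = b⁻¹ * a⁻¹ := by rw [← mul_inv_rev, ← hab, inv_inv]
  refine ⟨a⁻¹ • S1, ?_, ?_⟩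
  · rw [Sylow.coe_subgroup_smul, ← mem_normalizer_iff_conj_smul_eq.mp (hA (A.inv_mem ha))]
    exact Subgroup.pointwise_smul_le_pointwise_smul_iff.mpr hS1
  · have h1 : (a⁻¹ • S1 : Sylow p G) = b • S2 := by
      rw [← hg, hg', smul_smul, ← mul_assoc, mul_inv_cancel, one_mul]
    rw [h1, Sylow.coe_subgroup_smul, ← mem_normalizer_iff_conj_smul_eq.mp (hB hb)]
    exact Subgroup.pointwise_smul_le_pointwise_smul_iff.mpr hS2

lemma permute_of_coe_sup_eq_mul {A B : Subgroup G}
    (h : ((A ⊔ B : Subgroup G) : Set G) = (A : Set G) * (B : Set G)) : Permute A B := by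
  apply permute_of_mul_subset
  intro x hx
  rw [← h] at hx
  have h1 : x⁻¹ ∈ ((A ⊔ B : Subgroup G) : Set G) := (A ⊔ B).inv_mem hx
  rw [h] at h1
  obtain ⟨a, ha, b, hb, hab⟩ := h1
  refine ⟨b⁻¹, B.inv_mem hb, a⁻¹, A.inv_mem ha, ?_⟩
  simp only at hab ⊢
  rw [← mul_inv_rev, hab, inv_inv]

/-- If `G = AB` and `Aₚ`, `Bₚ` are normal Sylow `p`-subgroups of `A` and `B`, then `Aₚ` and `Bₚ`
permute. -/
lemma permute_sylow_of_factorized [Finite G] {p : ℕ} [Fact p.Prime] {A B Ap Bp : Subgroup G}
    (hAB : ∀ g : G, ∃ a ∈ A, ∃ b ∈ B, g = a * b)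
    (hApA : Ap ≤ A) (hBpB : Bp ≤ B)
    (hA : A ≤ Subgroup.normalizer (Ap : Set G)) (hB : B ≤ Subgroup.normalizer (Bp : Set G))
    (hAp : Nat.card Ap = p ^ (Nat.card A).factorization p)
    (hBp : Nat.card Bp = p ^ (Nat.card B).factorization p) :
    Permute Ap Bp := by
  have hp : p.Prime := Fact.out
  have hApp : IsPGroup p Ap := IsPGroup.of_card hAp
  have hBpp : IsPGroup p Bp := IsPGroup.of_card hBp
  obtain ⟨S, hSA, hSB⟩ := exists_sylow_ge_of_factorized hAB hA hB hApp hBpp
  -- counting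
  have h1 := Cfsg.Agent.Lib.Helper50.card_mul_card_eq_card_inf_mul_card_mul A B
  have h2 : ((A : Set G) * (B : Set G)) = Set.univ := by
    apply Set.eq_univ_of_forall
    intro g
    obtain ⟨a, ha, b, hb, hab⟩ := hAB g
    exact ⟨a, ha, b, hb, hab.symm⟩
  rw [h2, Nat.card_coe_set_eq, Set.ncard_univ] at h1
  have h3 := Cfsg.Agent.Lib.Helper50.card_mul_card_eq_card_inf_mul_card_mul Ap Bp
  obtain ⟨k, hk⟩ := IsPGroup.iff_card.mp (hApp.to_le (inf_le_left : Ap ⊓ Bp ≤ Ap))
  have h4 : Nat.card (Ap ⊓ Bp : Subgroup G) ∣ Nat.card (A ⊓ B : Subgroup G) :=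
    Subgroup.card_dvd_of_le (inf_le_inf hApA hBpB)
  have h5 : k ≤ (Nat.card (A ⊓ B : Subgroup G)).factorization p := by
    rw [hk] at h4
    exact (hp.pow_dvd_iff_le_factorization Nat.card_pos.ne').mp h4
  have h6 : (Nat.card A).factorization p + (Nat.card B).factorization p
      = (Nat.card (A ⊓ B : Subgroup G)).factorization p + (Nat.card G).factorization p := by
    have := congrArg (fun n => n.factorization p) h1
    rw [Nat.factorization_mul Nat.card_pos.ne' Nat.card_pos.ne',
      Nat.factorization_mul Nat.card_pos.ne' Nat.card_pos.ne'] at this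
    simpa using this
  have hS : Nat.card S = p ^ (Nat.card G).factorization p := S.card_eq_multiplicity
  -- |Ap * Bp| ≥ |S|
  have h7 : Nat.card S ≤ Nat.card ((Ap : Set G) * (Bp : Set G) : Set G) := by
    rw [hAp, hBp, hk, ← pow_add, h6] at h3
    have h8 : p ^ ((Nat.card (A ⊓ B : Subgroup G)).factorization p + (Nat.card G).factorization p)
        = p ^ k * (p ^ ((Nat.card (A ⊓ B : Subgroup G)).factorization p - k)
          * p ^ (Nat.card G).factorization p) := by
      rw [← pow_add, ← pow_add]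
      congr 1
      omega
    rw [h8] at h3
    have h9 := Nat.eq_of_mul_eq_mul_left (pow_pos hp.pos k) h3
    rw [hS, ← h9]
    exact Nat.le_mul_of_pos_left _ (pow_pos hp.pos _)
  have h10 : Nat.card ((Ap : Set G) * (Bp : Set G) : Set G) ≤ Nat.card (Ap ⊔ Bp : Subgroup G) :=
    Cfsg.Agent.Lib.Helper50.card_mul_le_card_sup Ap Bp
  have h11 : Nat.card (Ap ⊔ Bp : Subgroup G) ≤ Nat.card S :=
    Nat.le_of_dvd Nat.card_pos (Subgroup.card_dvd_of_le (sup_le hSA hSB))
  apply permute_of_coe_sup_eq_mul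
  apply Cfsg.Agent.Lib.Helper50.sup_eq_mul_of_card_eq
  omega

lemma factorized_quotient {A B : Subgroup G} (N : Subgroup G) [N.Normal]
    (hAB : ∀ g : G, ∃ a ∈ A, ∃ b ∈ B, g = a * b) :
    ∀ q : G ⧸ N, ∃ a ∈ A.map (QuotientGroup.mk' N), ∃ b ∈ B.map (QuotientGroup.mk' N),
      q = a * b := by
  intro q
  obtain ⟨g, rfl⟩ := QuotientGroup.mk'_surjective N q
  obtain ⟨a, ha, b, hb, rfl⟩ := hAB g
  exact ⟨_, Subgroup.mem_map_of_mem _ ha, _, Subgroup.mem_map_of_mem _ hb, map_mul _ _ _⟩

lemma card_quotient_lt_of_ne_bot [Finite G] (N : Subgroup G) [N.Normal] (hN : N ≠ ⊥) :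
    Nat.card (G ⧸ N) < Nat.card G := by
  rw [Subgroup.card_eq_card_quotient_mul_card_subgroup N]
  have h1 : 1 < Nat.card N := (Subgroup.one_lt_card_iff_ne_bot _).mpr hN
  have h0 : 0 < Nat.card (G ⧸ N) := Nat.card_pos
  nlinarith

/-- A normal Sylow subgroup of a subgroup, pushed to the ambient group. -/
lemma sylow_map_subtype_facts [Finite G] {p : ℕ} [Fact p.Prime] (A : Subgroup G) (P : Sylow p A)
    (hP : (P : Subgroup A).Normal) :
    (P : Subgroup A).map A.subtype ≤ A ∧
    A ≤ Subgroup.normalizer (((P : Subgroup A).map A.subtype : Subgroup G) : Set G) ∧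
    Nat.card ((P : Subgroup A).map A.subtype) = p ^ (Nat.card A).factorization p := by
  refine ⟨Subgroup.map_subtype_le _, ?_, ?_⟩
  · have h1 := Subgroup.le_normalizer_map (H := (P : Subgroup A)) A.subtype
    rw [Subgroup.normalizer_eq_top, ← MonoidHom.range_eq_map, Subgroup.range_subtype] at h1
    exact h1
  · rw [Subgroup.card_map_of_injective A.subtype_injective]
    exact P.card_eq_multiplicity

theorem kegel_wielandt_of_coprime_case.{u}
    (hcop : ∀ (G : Type u) [Group G] [Finite G] (A B : Subgroup G), Group.IsNilpotent A →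
      Group.IsNilpotent B → (Nat.card A).Coprime (Nat.card B) →
      (∀ g : G, ∃ a ∈ A, ∃ b ∈ B, g = a * b) → Group.IsSolvable G)
    {G : Type u} [Group G] [Finite G] (A B : Subgroup G) (hA : Group.IsNilpotent A)
    (hB : Group.IsNilpotent B) (hAB : ∀ g : G, ∃ a ∈ A, ∃ b ∈ B, g = a * b) :
    Group.IsSolvable G := by
  suffices H : ∀ (n : ℕ) (G : Type u) [Group G] [Finite G] (A B : Subgroup G), Nat.card G = n →
      Group.IsNilpotent A → Group.IsNilpotent B → (∀ g : G, ∃ a ∈ A, ∃ b ∈ B, g = a * b) →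
      Group.IsSolvable G from H _ G A B rfl hA hB hAB
  intro n
  induction n using Nat.strong_induction_on with
  | _ n ih =>
  intro G _ _ A B hn hA hB hAB
  have hquot : ∀ (N : Subgroup G) [N.Normal], N ≠ ⊥ → Group.IsSolvable (G ⧸ N) := by
    intro N _ hN
    exact ih (Nat.card (G ⧸ N)) (hn ▸ card_quotient_lt_of_ne_bot N hN) (G ⧸ N)
      (A.map (QuotientGroup.mk' N)) (B.map (QuotientGroup.mk' N)) rfl
      (isNilpotent_map _ A hA) (isNilpotent_map _ B hB) (factorized_quotient N hAB)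
  have hext : ∀ (N : Subgroup G) [N.Normal], N ≠ ⊥ → Group.IsSolvable N →
      Group.IsSolvable G := by
    intro N _ hN hsol
    have := hquot N hN
    have := hsol
    exact (Group.isSolvable_iff_subgroup_quotient N).mpr ⟨inferInstance, inferInstance⟩
  by_cases hc : (Nat.card A).Coprime (Nat.card B)
  · exact hcop G A B hA hB hc hAB
  obtain ⟨p, hp, hpA, hpB⟩ := Nat.Prime.not_coprime_iff_dvd.mp hc
  have : Fact p.Prime := ⟨hp⟩
  obtain ⟨P⟩ : Nonempty (Sylow p A) := inferInstance
  obtain ⟨Q⟩ : Nonempty (Sylow p B) := inferInstance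
  have hPn : (P : Subgroup A).Normal := inferInstance
  have hQn : (Q : Subgroup B).Normal := inferInstance
  obtain ⟨hApA, hAn, hApc⟩ := sylow_map_subtype_facts A P hPn
  obtain ⟨hBpB, hBn, hBpc⟩ := sylow_map_subtype_facts B Q hQn
  set Ap : Subgroup G := (P : Subgroup A).map A.subtype with hApdef
  set Bp : Subgroup G := (Q : Subgroup B).map B.subtype with hBpdef
  have hApp : IsPGroup p Ap := IsPGroup.of_card hApc
  have hBpp : IsPGroup p Bp := IsPGroup.of_card hBpc
  have hAp1 : Ap ≠ ⊥ := by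
    intro h
    rw [h, Subgroup.card_bot] at hApc
    have h1 : 0 < (Nat.card A).factorization p :=
      hp.factorization_pos_of_dvd Nat.card_pos.ne' hpA
    have := Nat.one_lt_pow h1.ne' hp.one_lt
    omega
  have hBp1 : Bp ≠ ⊥ := by
    intro h
    rw [h, Subgroup.card_bot] at hBpc
    have h1 : 0 < (Nat.card B).factorization p :=
      hp.factorization_pos_of_dvd Nat.card_pos.ne' hpB
    have := Nat.one_lt_pow h1.ne' hp.one_lt
    omega
  have hperm0 : Permute Ap Bp := permute_sylow_of_factorized hAB hApA hBpB hAn hBn hApc hBpc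
  have hperm : ∀ x y : G, Permute (MulAut.conj x • Ap) (MulAut.conj y • Bp) :=
    permute_conj_of_factorized hAB hAn hBn hperm0
  have hcomm : ∀ x y : G, ⁅MulAut.conj x • Ap, MulAut.conj y • Bp⁆ ≤ pCore p G := by
    intro x y
    apply commutator_le_pCore_of_permute _ _ (isPGroup_conj_smul hApp x) (isPGroup_conj_smul hBpp y)
    intro x' y'
    rw [smul_smul, smul_smul, ← map_mul, ← map_mul]
    exact hperm _ _
  by_cases hcore : pCore p G = ⊥
  · -- normal closures commute
    set M1 := Subgroup.normalClosure (Ap : Set G) with hM1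
    set M2 := Subgroup.normalClosure (Bp : Set G) with hM2
    have hM1n : M1.Normal := Subgroup.normalClosure_normal
    have hM2n : M2.Normal := Subgroup.normalClosure_normal
    have hM1ne : M1 ≠ ⊥ := fun h => hAp1 (le_bot_iff.mp (h ▸ Subgroup.le_normalClosure))
    have hM2ne : M2 ≠ ⊥ := fun h => hBp1 (le_bot_iff.mp (h ▸ Subgroup.le_normalClosure))
    have hel : ∀ x y : G, ∀ a ∈ Ap, ∀ b ∈ Bp,
        Commute (MulAut.conj x • a) (MulAut.conj y • b) := by
      intro x y a ha b hb
      have h1 : ⁅MulAut.conj x • a, MulAut.conj y • b⁆ ∈ ⁅MulAut.conj x • Ap, MulAut.conj y • Bp⁆ :=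
        Subgroup.commutator_mem_commutator (Subgroup.smul_mem_pointwise_smul _ _ _ ha)
          (Subgroup.smul_mem_pointwise_smul _ _ _ hb)
      have h2 := hcomm x y h1
      rw [hcore, Subgroup.mem_bot] at h2
      exact (commutatorElement_eq_one_iff_commute.mp h2)
    have h1 : ∀ x : G, ∀ a ∈ Ap, M2 ≤ Subgroup.centralizer {MulAut.conj x • a} := by
      intro x a ha
      apply (Subgroup.closure_le _).mpr
      intro z hz
      rw [Group.mem_conjugatesOfSet_iff] at hz
      obtain ⟨b, hb, hbz⟩ := hz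
      obtain ⟨c, hc⟩ := isConj_iff.mp hbz
      rw [SetLike.mem_coe, Subgroup.mem_centralizer_iff]
      intro h hh
      rw [Set.mem_singleton_iff] at hh
      subst hh
      rw [← hc]
      exact (hel x c a ha b hb).eq
    have hcent : M1 ≤ Subgroup.centralizer (M2 : Set G) := by
      apply (Subgroup.closure_le _).mpr
      intro z hz
      rw [Group.mem_conjugatesOfSet_iff] at hz
      obtain ⟨a, ha, haz⟩ := hz
      obtain ⟨c, hc⟩ := isConj_iff.mp haz
      rw [SetLike.mem_coe, Subgroup.mem_centralizer_iff]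
      intro m hm
      have h2 := Subgroup.mem_centralizer_iff.mp (h1 c a ha hm) (MulAut.conj c • a) rfl
      rw [← hc]
      exact h2.symm
    by_cases hD : M1 ⊓ M2 = ⊥
    · have hs1 := hquot M1 hM1ne
      have hs2 := hquot M2 hM2ne
      let f : G →* (G ⧸ M1) × (G ⧸ M2) := (QuotientGroup.mk' M1).prod (QuotientGroup.mk' M2)
      have hf : Function.Injective f := by
        rw [← MonoidHom.ker_eq_bot_iff, MonoidHom.ker_prod, QuotientGroup.ker_mk',
          QuotientGroup.ker_mk', hD]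
      exact Group.isSolvable_of_isSolvable_injective hf
    · have hDn : (M1 ⊓ M2).Normal := inferInstance
      apply hext (M1 ⊓ M2) hD
      apply Group.isSolvable_of_comm
      intro a b
      apply Subtype.ext
      have h2 := Subgroup.mem_centralizer_iff.mp (hcent a.2.1) (b : G) b.2.2
      simpa using h2.symm
  · have : IsPGroup p (pCore p G) := pCore_isPGroup p
    apply hext (pCore p G) hcore
    have hnil : Group.IsNilpotent (pCore p G) := this.isNilpotent
    exact IsNilpotent.to_isSolvable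

end Cfsg.Agent.Lib.Helper1
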