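import Mathlib
import Cfsg.Agent.S0561
import Cfsg.Agent.Lib.Helper1.KegelWielandt

/-!
# Coprime factorizations: Sylow subgroups of the factors permute (given solvability)

* `card_eq_mul_of_coprime_factorized`: `G = AB` with `(|A|, |B|) = 1` gives `|G| = |A| |B|`.
* `sylow_mul_of_coprime_factorized_of_isSolvable`: the second half of S0563 (Wielandt), assuming
  `G` solvable.
-/

set_option autoImplicit false

namespace Cfsg.Agent.Lib.Helper1

open Pointwise Cfsg

variable {G : Type*} [Group G]

lemma card_eq_mul_of_coprime_factorized [Finite G] (A B : Subgroup G)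
    (hcop : (Nat.card A).Coprime (Nat.card B))
    (hAB : ∀ g : G, ∃ a ∈ A, ∃ b ∈ B, g = a * b) :
    Nat.card G = Nat.card A * Nat.card B := by
  have h1 := Cfsg.Agent.Lib.Helper50.card_mul_card_eq_card_inf_mul_card_mul A B
  have h2 : ((A : Set G) * (B : Set G)) = Set.univ := by
    apply Set.eq_univ_of_forall
    intro g
    obtain ⟨a, ha, b, hb, hab⟩ := hAB g
    exact ⟨a, ha, b, hb, hab.symm⟩
  rw [h2, Nat.card_coe_set_eq, Set.ncard_univ] at h1
  have h3 : Nat.card (A ⊓ B : Subgroup G) = 1 := by
    have ha : Nat.card (A ⊓ B : Subgroup G) ∣ Nat.card A := Subgroup.card_dvd_of_le inf_le_left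
    have hb : Nat.card (A ⊓ B : Subgroup G) ∣ Nat.card B := Subgroup.card_dvd_of_le inf_le_right
    exact Nat.eq_one_of_dvd_coprimes hcop ha hb
  rw [h3, one_mul] at h1
  exact h1.symm

/-- A Sylow `p`-subgroup of `A`, where `G = AB` with `(|A|,|B|) = 1`, is a Hall subgroup of `G`. -/
lemma sylow_map_hall_of_coprime_factorized [Finite G] (A B : Subgroup G)
    (hcop : (Nat.card A).Coprime (Nat.card B))
    (hAB : ∀ g : G, ∃ a ∈ A, ∃ b ∈ B, g = a * b)
    (p : ℕ) [Fact p.Prime] (P : Sylow p A) :
    (Nat.card ((P : Subgroup A).map A.subtype)).Coprime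
      ((P : Subgroup A).map A.subtype).index := by
  have hp : p.Prime := Fact.out
  set P' : Subgroup G := (P : Subgroup A).map A.subtype with hP'
  have hcard : Nat.card P' = p ^ (Nat.card A).factorization p := by
    rw [hP', Subgroup.card_map_of_injective A.subtype_injective]
    exact P.card_eq_multiplicity
  have hG := card_eq_mul_of_coprime_factorized A B hcop hAB
  have hidx : Nat.card P' * P'.index = Nat.card G := Subgroup.card_mul_index P'
  have hA0 : Nat.card A ≠ 0 := Nat.card_pos.ne'
  have hsplit : Nat.card A = p ^ (Nat.card A).factorization p * (Nat.card A / p ^ (Nat.card A).factorization p) :=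
    (Nat.ordProj_mul_ordCompl_eq_self (Nat.card A) p).symm
  have hindex : P'.index = (Nat.card A / p ^ (Nat.card A).factorization p) * Nat.card B := by
    have hpos : 0 < p ^ (Nat.card A).factorization p := pow_pos hp.pos _
    apply Nat.eq_of_mul_eq_mul_left hpos
    rw [← hcard, hidx, hG, hcard, ← mul_assoc, ← hsplit]
  rw [hindex, hcard]
  rcases Nat.eq_zero_or_pos ((Nat.card A).factorization p) with h0 | hpos
  · rw [h0, pow_zero]; exact Nat.coprime_one_left _
  · apply Nat.Coprime.pow_left
    apply Nat.Coprime.mul_right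
    · exact Nat.coprime_ordCompl hp hA0
    · have hpA : p ∣ Nat.card A := Nat.dvd_of_factorization_pos hpos.ne'
      exact Nat.Coprime.coprime_dvd_left hpA hcop

/-- Second half of Wielandt's theorem S0563, assuming solvability: if `G = AB` is solvable with
`A`, `B` nilpotent of coprime orders, then `PQ` is a subgroup for all Sylow subgroups `P` of `A`
and `Q` of `B`. -/
theorem sylow_mul_of_coprime_factorized_of_isSolvable [Finite G] [Group.IsSolvable G]
    (A B : Subgroup G) (hA : Group.IsNilpotent A) (hB : Group.IsNilpotent B)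
    (hcop : (Nat.card A).Coprime (Nat.card B))
    (hAB : ∀ g : G, ∃ a ∈ A, ∃ b ∈ B, g = a * b)
    (p q : ℕ) [Fact p.Prime] [Fact q.Prime] (P : Sylow p A) (Q : Sylow q B) :
    ∃ S : Subgroup G, (S : Set G) = (((P : Subgroup A).map A.subtype : Subgroup G) : Set G) *
      (((Q : Subgroup B).map B.subtype : Subgroup G) : Set G) := by
  have hPn : (P : Subgroup A).Normal := inferInstance
  have hQn : (Q : Subgroup B).Normal := inferInstance
  have hcop' : (Nat.card B).Coprime (Nat.card A) := hcop.symm
  have hBA : ∀ g : G, ∃ b ∈ B, ∃ a ∈ A, g = b * a := by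
    intro g
    obtain ⟨a, ha, b, hb, hab⟩ := hAB g⁻¹
    refine ⟨b⁻¹, B.inv_mem hb, a⁻¹, A.inv_mem ha, ?_⟩
    rw [← mul_inv_rev, ← hab, inv_inv]
  have h1 := Cfsg.Agent.S0561.result A B ((P : Subgroup A).map A.subtype)
    ((Q : Subgroup B).map B.subtype) hAB (Subgroup.map_subtype_le _)
    (by
      have : ((P : Subgroup A).map A.subtype).subgroupOf A = (P : Subgroup A) :=
        Subgroup.comap_map_eq_self_of_injective A.subtype_injective _
      rw [this]; exact hPn) (Subgroup.map_subtype_le _)
    (by
      have : ((Q : Subgroup B).map B.subtype).subgroupOf B = (Q : Subgroup B) :=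
        Subgroup.comap_map_eq_self_of_injective B.subtype_injective _
      rw [this]; exact hQn)
    (sylow_map_hall_of_coprime_factorized A B hcop hAB p P)
    (sylow_map_hall_of_coprime_factorized B A hcop' hBA q Q) 1 1
  simpa using h1

end Cfsg.Agent.Lib.Helper1
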