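import Mathlib
import Cfsg.Agent.Lib.Helper19.FHDefs

/-!
# Feit–Higman project (S1142), module ARITH (helper1)

`fh_arith`: the multiplicity formula forces `n ∈ {2,3,4,6,8}`.
-/

set_option autoImplicit false

namespace Cfsg.Agent.Lib.Helper1.FHArith

open Real Cfsg.Agent.Lib.Helper19.FH

/-- the subfield of rational numbers inside `ℝ` -/
noncomputable abbrev ratField : Subfield ℝ := (algebraMap ℚ ℝ).fieldRange

theorem mem_ratField_iff (x : ℝ) : x ∈ ratField ↔ ∃ q : ℚ, x = q := by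
  constructor
  · rintro ⟨q, rfl⟩
    exact ⟨q, rfl⟩
  · rintro ⟨q, rfl⟩
    exact ⟨q, rfl⟩

theorem nat_mem_ratField (k : ℕ) : (k : ℝ) ∈ ratField := natCast_mem _ k

/-- Niven: `cos (2π/n)` rational with `n ≥ 3` forces `n ∈ {3,4,6}`. -/
theorem eq_of_cos_rat (n : ℕ) (hn : 3 ≤ n) (h : Real.cos (2 * π / n) ∈ ratField) :
    n = 3 ∨ n = 4 ∨ n = 6 := by
  rw [mem_ratField_iff] at h
  have h2 : (2 * π / (n : ℝ)) = (((2 : ℚ) / (n : ℚ) : ℚ) : ℝ) * π := by
    push_cast
    ring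
  rw [h2] at h
  have hn0 : (0 : ℚ) < (n : ℚ) := by
    have : 0 < n := by omega
    exact_mod_cast this
  have hb : ((2 : ℚ) / (n : ℚ)) ∈ Set.Icc (0 : ℚ) 1 := by
    constructor
    · positivity
    · rw [div_le_one hn0]
      have : 2 ≤ n := by omega
      exact_mod_cast this
  have h3 := niven_angle_div_pi_eq h hb
  simp only [Set.mem_insert_iff, Set.mem_singleton_iff] at h3
  have hn0' : (n : ℚ) ≠ 0 := ne_of_gt hn0
  rcases h3 with h | h | h | h | h
  · exfalso
    rw [div_eq_iff hn0'] at h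
    norm_num at h
  · right; right
    rw [div_eq_iff hn0'] at h
    have : (n : ℚ) = 6 := by linarith
    exact_mod_cast this
  · right; left
    rw [div_eq_iff hn0'] at h
    have : (n : ℚ) = 4 := by linarith
    exact_mod_cast this
  · left
    rw [div_eq_iff hn0'] at h
    have : (n : ℚ) = 3 := by linarith
    exact_mod_cast this
  · exfalso
    rw [div_eq_iff hn0'] at h
    have : (n : ℚ) = 2 := by linarith
    have : n = 2 := by exact_mod_cast this
    omega

/-- the linear algebra behind the even case -/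
theorem mem_of_two_eqs (K : Subfield ℝ) {a a' N A B c y : ℝ} (ha : a ∈ K) (ha' : a' ∈ K)
    (hN : N ∈ K) (hA : A ∈ K) (hB : B ∈ K) (hc : c ∈ K)
    (ha0 : 0 ≤ a) (ha'0 : 0 ≤ a') (hN0 : 0 < N) (hD : 0 < c - y ^ 2)
    (h1 : a * ((A - y) * (B + y)) = N * (c - y ^ 2))
    (h2 : a' * ((A + y) * (B - y)) = N * (c - y ^ 2))
    (hAB : A * B ≠ c) (hne : A ≠ B) : y ∈ K := by
  have hND : 0 < N * (c - y ^ 2) := mul_pos hN0 hD
  have ha1 : a ≠ 0 := by
    rintro rfl
    rw [zero_mul] at h1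
    linarith
  have ha'1 : a' ≠ 0 := by
    rintro rfl
    rw [zero_mul] at h2
    linarith
  have hapos : 0 < a := lt_of_le_of_ne ha0 (Ne.symm ha1)
  have ha'pos : 0 < a' := lt_of_le_of_ne ha'0 (Ne.symm ha'1)
  have h2K : (2 : ℝ) ∈ K := ofNat_mem K 2
  have hs : (N * (a + a') - 2 * a * a') * y ^ 2 = c * N * (a + a') - 2 * a * a' * (A * B) := by
    linear_combination a' * h1 + a * h2
  have hdet0 : N * (a + a') - 2 * a * a' ≠ 0 := by
    intro h0
    rw [h0, zero_mul] at hs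
    have h3 : N * (a + a') = 2 * a * a' := by linarith
    have h5 : N * (a + a') * (c - A * B) = 0 := by
      calc N * (a + a') * (c - A * B) = c * N * (a + a') - (N * (a + a')) * (A * B) := by ring
        _ = c * N * (a + a') - 2 * a * a' * (A * B) := by rw [h3]
        _ = 0 := hs.symm
    have h4 : N * (a + a') ≠ 0 := by positivity
    rcases mul_eq_zero.mp h5 with h | h
    · exact h4 h
    · exact hAB (by linarith)
  have hy2 : y ^ 2 ∈ K := by
    have : y ^ 2 = (c * N * (a + a') - 2 * a * a' * (A * B)) / (N * (a + a') - 2 * a * a') := by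
      rw [eq_div_iff hdet0]
      linarith
    rw [this]
    exact div_mem (sub_mem (mul_mem (mul_mem hc hN) (add_mem ha ha'))
      (mul_mem (mul_mem (mul_mem h2K ha) ha') (mul_mem hA hB)))
      (sub_mem (mul_mem hN (add_mem ha ha')) (mul_mem (mul_mem h2K ha) ha'))
  have ht : y * (a * (A - B)) = N * (c - y ^ 2) - a * (A * B) + a * y ^ 2 := by
    linear_combination h1
  have : y = (N * (c - y ^ 2) - a * (A * B) + a * y ^ 2) / (a * (A - B)) := by
    rw [eq_div_iff (mul_ne_zero ha1 (sub_ne_zero.mpr hne))]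
    exact ht
  rw [this]
  exact div_mem (add_mem (sub_mem (mul_mem hN (sub_mem hc hy2)) (mul_mem ha (mul_mem hA hB)))
    (mul_mem ha hy2)) (mul_mem ha (sub_mem hA hB))


/-- bounds for the cosine at an admissible angle -/
theorem cos_bounds {n j : ℕ} (hj : j ∈ angles n) :
    -1 < Real.cos (2 * π * j / n) ∧ Real.cos (2 * π * j / n) < 1 := by
  rw [mem_angles] at hj
  have hn : (0 : ℝ) < n := by exact_mod_cast (by omega : 0 < n)
  have hj0 : (0 : ℝ) < j := by exact_mod_cast (by omega : 0 < j)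
  have h2j : (2 : ℝ) * j < n := by exact_mod_cast hj.2
  have hθ0 : 0 < 2 * π * j / n := by positivity
  have hθ1 : 2 * π * j / n < π := by
    rw [div_lt_iff₀ hn]
    nlinarith [pi_pos]
  constructor
  · have := Real.cos_lt_cos_of_nonneg_of_le_pi hθ0.le le_rfl hθ1
    rwa [cos_pi] at this
  · have := Real.cos_lt_cos_of_nonneg_of_le_pi le_rfl hθ1.le hθ0
    rwa [cos_zero] at this

theorem sqrt_uv_pos {u v : ℕ} (hu : 2 ≤ u) (hv : 2 ≤ v) : 0 < √((u : ℝ) * v) := by
  apply Real.sqrt_pos.mpr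
  have h1 : (0 : ℝ) < u := by exact_mod_cast (by omega : 0 < u)
  have h2 : (0 : ℝ) < v := by exact_mod_cast (by omega : 0 < v)
  positivity

theorem sqrt_uv_sq (u v : ℕ) : √((u : ℝ) * v) ^ 2 = (u : ℝ) * v :=
  Real.sq_sqrt (by positivity)

/-- positivity facts for `y_j` -/
theorem yy_facts {n u v j : ℕ} (hu : 2 ≤ u) (hv : 2 ≤ v) (hj : j ∈ angles n) :
    0 < 4 * (u : ℝ) * v - (yy n u v j) ^ 2 ∧ 0 < 1 + (u : ℝ) * v - yy n u v j ∧
      0 < (u : ℝ) + v + yy n u v j := by
  obtain ⟨hc1, hc2⟩ := cos_bounds hj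
  have hr := sqrt_uv_pos hu hv
  have hr2 := sqrt_uv_sq u v
  have hu0 : (2 : ℝ) ≤ u := by exact_mod_cast hu
  have hv0 : (2 : ℝ) ≤ v := by exact_mod_cast hv
  unfold yy
  set r := √((u : ℝ) * v) with hrdef
  set c := Real.cos (2 * π * j / n) with hcdef
  have hB : 2 * r ≤ (u : ℝ) + v := by
    by_contra hlt
    rw [not_le] at hlt
    nlinarith [sq_nonneg ((u : ℝ) - v)]
  refine ⟨?_, ?_, ?_⟩
  · have : (2 * r * c) ^ 2 = 4 * ((u : ℝ) * v) * c ^ 2 := by
      rw [← hr2]; ring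
    rw [this]
    have hc3 : c ^ 2 < 1 := by nlinarith
    have huv : (0 : ℝ) < (u : ℝ) * v := by positivity
    nlinarith
  · have : 1 + (u : ℝ) * v - 2 * r * c = (1 - r) ^ 2 + 2 * r * (1 - c) := by
      rw [← hr2]; ring
    rw [this]
    have : 0 < 2 * r * (1 - c) := by
      apply mul_pos (by positivity) (by linarith)
    nlinarith [sq_nonneg (1 - r)]
  · have : 0 < 2 * r * (1 + c) := by
      apply mul_pos (by positivity) (by linarith)
    nlinarith

theorem yy_neg (m u v j : ℕ) (hm : 1 ≤ m) (hj : j ≤ m) :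
    yy (2 * m) u v (m - j) = - yy (2 * m) u v j := by
  unfold yy
  rw [Nat.cast_sub hj]
  have hm0 : (m : ℝ) ≠ 0 := by
    have : 0 < m := hm
    exact_mod_cast this.ne'
  have : 2 * π * ((m : ℝ) - j) / ((2 * m : ℕ) : ℝ) = π - 2 * π * j / ((2 * m : ℕ) : ℝ) := by
    push_cast
    field_simp
  rw [this, cos_pi_sub]
  ring

/-- even case: every `y_j` is rational -/
theorem yy_mem_even (m u v : ℕ) (hu : 2 ≤ u) (hv : 2 ≤ v) (N₀ : ℕ) (hN₀ : 0 < N₀)
    (mult : ℕ → ℕ)
    (h : ∀ j ∈ angles (2 * m), ((2 * m : ℕ) : ℝ) * mult j *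
        ((1 + (u : ℝ) * v - yy (2 * m) u v j) * ((u : ℝ) + v + yy (2 * m) u v j)) =
      N₀ * (4 * (u : ℝ) * v - (yy (2 * m) u v j) ^ 2))
    (j : ℕ) (hj1 : 1 ≤ j) (hj2 : j < m) : yy (2 * m) u v j ∈ ratField := by
  have hj : j ∈ angles (2 * m) := mem_angles.mpr ⟨hj1, by omega⟩
  have hj' : m - j ∈ angles (2 * m) := mem_angles.mpr ⟨by omega, by omega⟩
  have e1 := h j hj
  have e2 := h (m - j) hj'
  obtain ⟨hD, -, -⟩ := yy_facts hu hv hj
  rw [yy_neg m u v j (by omega) hj2.le] at e2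
  have hu0 : (2 : ℝ) ≤ u := by exact_mod_cast hu
  have hv0 : (2 : ℝ) ≤ v := by exact_mod_cast hv
  set y := yy (2 * m) u v j with hy
  refine mem_of_two_eqs ratField (a := ((2 * m : ℕ) : ℝ) * mult j)
    (a' := ((2 * m : ℕ) : ℝ) * mult (m - j)) (N := (N₀ : ℝ)) (A := 1 + (u : ℝ) * v)
    (B := (u : ℝ) + v) (c := 4 * (u : ℝ) * v) ?_ ?_ ?_ ?_ ?_ ?_ ?_ ?_ ?_ hD ?_ ?_ ?_ ?_
  · exact mul_mem (nat_mem_ratField _) (nat_mem_ratField _)
  · exact mul_mem (nat_mem_ratField _) (nat_mem_ratField _)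
  · exact nat_mem_ratField _
  · exact add_mem (one_mem _) (mul_mem (nat_mem_ratField _) (nat_mem_ratField _))
  · exact add_mem (nat_mem_ratField _) (nat_mem_ratField _)
  · exact mul_mem (mul_mem (ofNat_mem _ 4) (nat_mem_ratField _)) (nat_mem_ratField _)
  · positivity
  · positivity
  · exact_mod_cast hN₀
  · linear_combination e1
  · linear_combination e2
  · have h1 : 0 ≤ (u : ℝ) * v * ((u : ℝ) + v - 4) :=
      mul_nonneg (by positivity) (by linarith)
    intro h0
    nlinarith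
  · intro h0
    nlinarith [mul_pos (by linarith : (0 : ℝ) < (u : ℝ) - 1) (by linarith : (0 : ℝ) < (v : ℝ) - 1)]


/-- odd case: `y_1` is rational -/
theorem yy_mem_odd (n u : ℕ) (hn : 3 ≤ n) (hu : 2 ≤ u) (N₀ : ℕ) (hN₀ : 0 < N₀)
    (mult : ℕ → ℕ)
    (h : ∀ j ∈ angles n, (n : ℝ) * mult j *
        ((1 + (u : ℝ) * u - yy n u u j) * ((u : ℝ) + u + yy n u u j)) =
      N₀ * (4 * (u : ℝ) * u - (yy n u u j) ^ 2)) : yy n u u 1 ∈ ratField := by
  have hj : 1 ∈ angles n := mem_angles.mpr ⟨le_rfl, by omega⟩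
  have e := h 1 hj
  obtain ⟨hD, hA, hB⟩ := yy_facts hu hu hj
  have hu0 : (2 : ℝ) ≤ u := by exact_mod_cast hu
  have hN0 : (0 : ℝ) < N₀ := by exact_mod_cast hN₀
  set y := yy n u u 1 with hy
  set a : ℝ := (n : ℝ) * mult 1 with ha
  have haK : a ∈ ratField := mul_mem (nat_mem_ratField _) (nat_mem_ratField _)
  have e2 : a * (1 + (u : ℝ) * u - y) = N₀ * (2 * (u : ℝ) - y) := by
    apply mul_right_cancel₀ hB.ne'
    linear_combination e
  have hNa : (N₀ : ℝ) - a ≠ 0 := by
    intro h0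
    have h1 : a = N₀ := by linarith
    rw [h1] at e2
    have h2 : (N₀ : ℝ) * ((u : ℝ) - 1) ^ 2 = 0 := by linear_combination e2
    have h3 : (0 : ℝ) < (N₀ : ℝ) * ((u : ℝ) - 1) ^ 2 := by
      apply mul_pos hN0
      have : (0 : ℝ) < (u : ℝ) - 1 := by linarith
      positivity
    linarith
  have : y = (2 * (u : ℝ) * N₀ - a * (1 + (u : ℝ) * u)) / ((N₀ : ℝ) - a) := by
    rw [eq_div_iff hNa]
    linear_combination e2
  rw [this]
  exact div_mem (sub_mem (mul_mem (mul_mem (ofNat_mem _ 2) (nat_mem_ratField _))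
    (nat_mem_ratField _)) (mul_mem haK (add_mem (one_mem _)
    (mul_mem (nat_mem_ratField _) (nat_mem_ratField _)))))
    (sub_mem (nat_mem_ratField _) haK)

/-- **Module ARITH** of the Feit–Higman project. -/
theorem fh_arith (n u v : ℕ) (hn : 2 ≤ n) (hu : 2 ≤ u) (hv : 2 ≤ v) (hodd : Odd n → u = v)
    (N₀ : ℕ) (hN₀ : 0 < N₀) (mult : ℕ → ℕ)
    (h : ∀ j ∈ angles n, (n : ℝ) * mult j * ((1 + (u : ℝ) * v - yy n u v j) * ((u : ℝ) + v + yy n u v j)) =
      N₀ * (4 * (u : ℝ) * v - (yy n u v j) ^ 2)) :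
    n = 2 ∨ n = 3 ∨ n = 4 ∨ n = 6 ∨ n = 8 := by
  by_contra hcon
  have hr := sqrt_uv_pos hu hv
  have hr2 := sqrt_uv_sq u v
  have hu0 : (2 : ℝ) ≤ u := by exact_mod_cast hu
  have hv0 : (2 : ℝ) ≤ v := by exact_mod_cast hv
  rcases Nat.even_or_odd' n with ⟨m, rfl | rfl⟩
  · -- even case
    have hm : 5 ≤ m := by omega
    have hy1 := yy_mem_even m u v hu hv N₀ hN₀ mult h 1 le_rfl (by omega)
    have hm0 : (m : ℝ) ≠ 0 := by
      have : 0 < m := by omega
      exact_mod_cast this.ne'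
    have hcos : Real.cos (2 * π / m) ∈ ratField := by
      have e : Real.cos (2 * π / m) = (yy (2 * m) u v 1) ^ 2 / (2 * ((u : ℝ) * v)) - 1 := by
        unfold yy
        have : 2 * π / (m : ℝ) = 2 * (2 * π * ((1 : ℕ) : ℝ) / ((2 * m : ℕ) : ℝ)) := by
          push_cast
          field_simp
        rw [this, Real.cos_two_mul, mul_pow, mul_pow, hr2]
        have huv : (u : ℝ) * v ≠ 0 := by positivity
        field_simp
      rw [e]
      exact sub_mem (div_mem (pow_mem hy1 2) (mul_mem (ofNat_mem _ 2)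
        (mul_mem (nat_mem_ratField _) (nat_mem_ratField _)))) (one_mem _)
    rcases eq_of_cos_rat m (by omega) hcos with rfl | rfl | rfl
    · omega
    · omega
    · have hy2 := yy_mem_even 6 u v hu hv N₀ hN₀ mult h 2 (by norm_num) (by norm_num)
      have e1 : yy (2 * 6) u v 1 = √((u : ℝ) * v) * √3 := by
        unfold yy
        have : 2 * π * ((1 : ℕ) : ℝ) / ((2 * 6 : ℕ) : ℝ) = π / 6 := by
          push_cast
          ring
        rw [this, Real.cos_pi_div_six]
        ring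
      have e2 : yy (2 * 6) u v 2 = √((u : ℝ) * v) := by
        unfold yy
        have : 2 * π * ((2 : ℕ) : ℝ) / ((2 * 6 : ℕ) : ℝ) = π / 3 := by
          push_cast
          ring
        rw [this, Real.cos_pi_div_three]
        ring
      rw [e1] at hy1
      rw [e2] at hy2
      have h3 : √3 ∈ ratField := by
        have : √3 = (√((u : ℝ) * v) * √3) / √((u : ℝ) * v) := by
          field_simp
        rw [this]
        exact div_mem hy1 hy2
      have hirr : Irrational (√(3 : ℝ)) := by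
        simpa using Nat.prime_three.irrational_sqrt
      obtain ⟨q, hq⟩ := h3
      exact hirr ⟨q, hq⟩
  · -- odd case
    have hm : 2 ≤ m := by omega
    have huv : u = v := hodd ⟨m, rfl⟩
    subst huv
    have hy1 := yy_mem_odd (2 * m + 1) u (by omega) hu N₀ hN₀ mult h
    have hcos : Real.cos (2 * π / ((2 * m + 1 : ℕ) : ℝ)) ∈ ratField := by
      have e : Real.cos (2 * π / ((2 * m + 1 : ℕ) : ℝ)) = yy (2 * m + 1) u u 1 / (2 * (u : ℝ)) := by
        unfold yy
        rw [Real.sqrt_mul_self (by positivity)]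
        have hu1 : (u : ℝ) ≠ 0 := by positivity
        have : 2 * π * ((1 : ℕ) : ℝ) / ((2 * m + 1 : ℕ) : ℝ) = 2 * π / ((2 * m + 1 : ℕ) : ℝ) := by
          push_cast
          ring
        rw [this]
        field_simp
      rw [e]
      exact div_mem hy1 (mul_mem (ofNat_mem _ 2) (nat_mem_ratField _))
    rcases eq_of_cos_rat (2 * m + 1) (by omega) hcos with h1 | h1 | h1 <;> omega

end Cfsg.Agent.Lib.Helper1.FHArith
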