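import Cfsg.Agent.Lib.Helper19.FHHeckeDefs

/-!
# Feit–Higman project (S1142), module HECKE-D (helper1)

`heckeMat_const`: a common eigenfunction of all `T_s` with eigenvalues `q_s` is constant.
-/

set_option autoImplicit false

namespace Cfsg.Agent.Lib.Helper1.FHHeckeD

open Matrix Cfsg Cfsg.Agent.Lib.Helper6 Cfsg.Agent.Lib.Helper19.FH

variable {G : Type*} [Group G] (P : Cfsg.BNPair G)

/-- `InDC` does not see the choice of coset representative. -/
theorem inDC_mk_out (g z : G) : InDC P g (QuotientGroup.mk z : G ⧸ P.B).out ↔ InDC P g z := by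
  obtain ⟨b, hb⟩ := QuotientGroup.mk_out_eq_mul P.B z
  rw [hb]
  constructor
  · intro h
    have := inDC_mul_right P (P.B.inv_mem b.2) h
    simpa using this
  · intro h
    exact inDC_mul_right P b.2 h

/-- symmetry of `InDC s` -/
theorem inDC_S_symm {s : G} (hs : s ∈ P.S) {g : G} (h : InDC P s g) : InDC P s g⁻¹ :=
  inDC_trans P (inDC_S_inv P hs) (inDC_inv P h)

variable [Fintype (G ⧸ P.B)] [DecidableEq (G ⧸ P.B)]

omit [Fintype (G ⧸ P.B)] [DecidableEq (G ⧸ P.B)] in
theorem heckeMat_symm_apply {s : G} (hs : s ∈ P.S) (x y : G ⧸ P.B) :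
    heckeMat P s x y = heckeMat P s y x := by
  classical
  unfold heckeMat
  have : InDC P s (x.out⁻¹ * y.out) ↔ InDC P s (y.out⁻¹ * x.out) := by
    constructor
    · intro h
      have := inDC_S_symm P hs h
      simpa using this
    · intro h
      have := inDC_S_symm P hs h
      simpa using this
  simp only [this]

omit [DecidableEq (G ⧸ P.B)] in
theorem heckeMat_row_sum (g : G) (x : G ⧸ P.B) : ∑ y, heckeMat P g x y = (qIdx P g : ℝ) := by
  classical
  unfold heckeMat qIdx
  rw [Finset.sum_boole]
  norm_cast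
  rw [← Fintype.card_subtype, ← Nat.card_eq_fintype_card]
  apply Nat.card_congr
  refine Equiv.subtypeEquiv (MulAction.toPerm (x.out⁻¹)) ?_
  intro y
  have : (MulAction.toPerm (x.out⁻¹) : Equiv.Perm (G ⧸ P.B)) y
      = (QuotientGroup.mk (x.out⁻¹ * y.out) : G ⧸ P.B) := by
    conv_lhs => rw [← QuotientGroup.out_eq' y]
    rfl
  rw [this, inDC_mk_out]


omit [Fintype (G ⧸ P.B)] [DecidableEq (G ⧸ P.B)] in
theorem heckeMat_nonneg (g : G) (x y : G ⧸ P.B) : 0 ≤ heckeMat P g x y := by
  classical
  unfold heckeMat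
  split_ifs <;> norm_num

omit [DecidableEq (G ⧸ P.B)] in
/-- the energy argument: an eigenfunction of `T_s` for the eigenvalue `q_s` is constant along
the edges of `T_s` -/
theorem eq_of_heckeMat_ne_zero {s : G} (hs : s ∈ P.S) (f : G ⧸ P.B → ℝ)
    (hf : (heckeMat P s).mulVec f = (qIdx P s : ℝ) • f) (x y : G ⧸ P.B)
    (hxy : heckeMat P s x y ≠ 0) : f x = f y := by
  classical
  set T := heckeMat P s with hT
  set q : ℝ := (qIdx P s : ℝ) with hq
  have hrow : ∀ x, ∑ y, T x y = q := heckeMat_row_sum P s
  have hsym : ∀ x y, T x y = T y x := heckeMat_symm_apply P hs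
  have hTf : ∀ x, ∑ y, T x y * f y = q * f x := by
    intro x
    have := congrFun hf x
    simpa [Matrix.mulVec, dotProduct] using this
  have key : ∑ x, ∑ y, T x y * (f x - f y) ^ 2 = 0 := by
    have e : ∀ x y, T x y * (f x - f y) ^ 2
        = f x ^ 2 * T x y - 2 * f x * (T x y * f y) + T y x * f y ^ 2 := by
      intro x y
      rw [hsym y x]
      ring
    simp_rw [e, Finset.sum_add_distrib, Finset.sum_sub_distrib, ← Finset.mul_sum, hrow, hTf]
    rw [Finset.sum_comm]
    simp_rw [← Finset.sum_mul, hrow]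
    rw [Finset.sum_mul, ← Finset.sum_sub_distrib, ← Finset.sum_add_distrib]
    apply Finset.sum_eq_zero
    intro x _
    ring
  have hnn : ∀ x ∈ Finset.univ, 0 ≤ ∑ y, T x y * (f x - f y) ^ 2 := by
    intro x _
    apply Finset.sum_nonneg
    intro y _
    exact mul_nonneg (heckeMat_nonneg P s x y) (sq_nonneg _)
  have h1 := (Finset.sum_eq_zero_iff_of_nonneg hnn).mp key x (Finset.mem_univ x)
  have hnn2 : ∀ y ∈ Finset.univ, 0 ≤ T x y * (f x - f y) ^ 2 := by
    intro y _
    exact mul_nonneg (heckeMat_nonneg P s x y) (sq_nonneg _)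
  have h2 := (Finset.sum_eq_zero_iff_of_nonneg hnn2).mp h1 y (Finset.mem_univ y)
  rcases mul_eq_zero.mp h2 with h3 | h3
  · exact absurd h3 hxy
  · have : f x - f y = 0 := by simpa using h3
    linarith

/-- **Module HECKE-D** of the Feit–Higman project. -/
theorem heckeMat_const (f : G ⧸ P.B → ℝ)
    (hf : ∀ s ∈ P.S, (heckeMat P s).mulVec f = (qIdx P s : ℝ) • f) : ∀ i j, f i = f j := by
  classical
  -- invariance along double cosets `B s B`
  have hstep : ∀ s ∈ P.S, ∀ g h : G, InDC P s h →
      f (QuotientGroup.mk (g * h)) = f (QuotientGroup.mk g) := by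
    intro s hs g h hh
    symm
    apply eq_of_heckeMat_ne_zero P hs f (hf s hs)
    rw [heckeMat_mk]
    simp [hh]
  let H : Subgroup G :=
    { carrier := {h | ∀ g : G, f (QuotientGroup.mk (g * h)) = f (QuotientGroup.mk g)}
      one_mem' := by
        intro g
        simp
      mul_mem' := by
        intro a b ha hb g
        rw [← mul_assoc, hb (g * a), ha g]
      inv_mem' := by
        intro a ha g
        have := ha (g * a⁻¹)
        rw [inv_mul_cancel_right] at this
        exact this.symm }
  have hB : P.B ≤ H := by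
    intro b hb g
    have : (QuotientGroup.mk (g * b) : G ⧸ P.B) = QuotientGroup.mk g := by
      rw [QuotientGroup.eq]
      simpa using hb
    rw [this]
  have hS : Subgroup.closure P.S ≤ H := by
    rw [Subgroup.closure_le]
    intro s hs g
    exact hstep s hs g s (inDC_self P s)
  have htop : H = ⊤ := by
    apply top_le_iff.mp
    rw [← P.sup_eq_top]
    refine sup_le hB ?_
    rw [← P.closure_sup]
    exact sup_le hS (le_trans inf_le_left hB)
  have hall : ∀ h : G, f (QuotientGroup.mk h) = f (QuotientGroup.mk 1) := by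
    intro h
    have hh : h ∈ H := by rw [htop]; exact Subgroup.mem_top h
    have := hh 1
    simpa using this
  intro i j
  induction i using QuotientGroup.induction_on with
  | H a =>
    induction j using QuotientGroup.induction_on with
    | H b => rw [hall a, hall b]

end Cfsg.Agent.Lib.Helper1.FHHeckeD
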