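import Mathlib
import Cfsg.Prelude.Def_Solvable
import Cfsg.Agent.Lib.Helper1.PCore
import Cfsg.Agent.Lib.Helper1.Fitting

set_option autoImplicit false
set_option linter.style.haveILetI false

/-!
# S3822-[ASM3822]: `F(A) V` is nilpotent once cross-characteristic pieces commute (helper1, for helper2)
-/

namespace Cfsg.Agent.Lib.Helper1.Flavell

open Cfsg

variable {G : Type*} [Group G]

theorem le_normalizer_of_forall_conj_mem (H N : Subgroup G)
    (h : ∀ x ∈ H, ∀ n ∈ N, x * n * x⁻¹ ∈ N) : H ≤ Subgroup.normalizer (N : Set G) := by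
  intro x hx
  rw [Subgroup.mem_normalizer_iff]
  intro n
  constructor
  · exact h x hx n
  · intro hn
    have := h x⁻¹ (H.inv_mem hx) _ hn
    rw [inv_inv] at this
    have e : x⁻¹ * (x * n * x⁻¹) * x = n := by group
    rwa [e] at this

theorem conj_mem_of_le_normalizer {H N : Subgroup G} (h : H ≤ Subgroup.normalizer (N : Set G))
    {x n : G} (hx : x ∈ H) (hn : n ∈ N) : x * n * x⁻¹ ∈ N :=
  (Subgroup.mem_normalizer_iff.mp (h hx) n).mp hn

/-- the image in `G` of a normal subgroup of `↥H` is normalized by `H` -/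
theorem le_normalizer_map_subtype (H : Subgroup G) (N : Subgroup H) [hN : N.Normal] :
    H ≤ Subgroup.normalizer ((N.map H.subtype : Subgroup G) : Set G) := by
  apply le_normalizer_of_forall_conj_mem
  rintro x hx _ ⟨n, hn, rfl⟩
  refine ⟨⟨x, hx⟩ * n * ⟨x, hx⟩⁻¹, hN.conj_mem n hn ⟨x, hx⟩, rfl⟩

/-- a `q`-subgroup of `V` normalized by `V` lies in the image of `O_q(V)` -/
theorem le_map_pCore {q : ℕ} (V N : Subgroup G) (hNV : N ≤ V)
    (hVN : V ≤ Subgroup.normalizer (N : Set G)) (hN : IsPGroup q N) :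
    N ≤ (pCore q ↥V).map V.subtype := by
  have hnorm : (N.subgroupOf V).Normal := by
    constructor
    intro n hn g
    rw [Subgroup.mem_subgroupOf] at hn ⊢
    exact conj_mem_of_le_normalizer hVN g.2 hn
  have hp : IsPGroup q (N.subgroupOf V) :=
    hN.of_equiv (Subgroup.subgroupOfEquivOfLe hNV).symm
  have := le_pCore hnorm hp
  intro x hx
  exact ⟨⟨x, hNV hx⟩, this (Subgroup.mem_subgroupOf.mpr hx), rfl⟩

/-- `O_q(V)` (as a subgroup of `G`) is normalized by everything normalizing `V` -/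
theorem normalizer_le_normalizer_map_pCore (q : ℕ) (V : Subgroup G) :
    Subgroup.normalizer (V : Set G) ≤
      Subgroup.normalizer (((pCore q ↥V).map V.subtype : Subgroup G) : Set G) := by
  set Vq : Subgroup G := (pCore q ↥V).map V.subtype with hVq
  have hVqV : Vq ≤ V := Subgroup.map_subtype_le _
  have hVnorm : V ≤ Subgroup.normalizer (Vq : Set G) := le_normalizer_map_subtype V _
  apply le_normalizer_of_forall_conj_mem
  intro g hg n hn
  -- N = g Vq g⁻¹
  set N : Subgroup G := Vq.map (MulAut.conj g).toMonoidHom with hNdef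
  have hmemN : ∀ y, y ∈ N ↔ ∃ m ∈ Vq, y = g * m * g⁻¹ := by
    intro y
    constructor
    · rintro ⟨m, hm, rfl⟩; exact ⟨m, hm, rfl⟩
    · rintro ⟨m, hm, rfl⟩; exact ⟨m, hm, rfl⟩
  have hNV : N ≤ V := by
    intro y hy
    obtain ⟨m, hm, rfl⟩ := (hmemN y).mp hy
    exact (Subgroup.mem_normalizer_iff.mp hg m).mp (hVqV hm)
  have hNp : IsPGroup q N := (pCore_isPGroup q).map V.subtype |>.map _
  have hVN : V ≤ Subgroup.normalizer (N : Set G) := by
    apply le_normalizer_of_forall_conj_mem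
    intro v hv y hy
    obtain ⟨m, hm, rfl⟩ := (hmemN y).mp hy
    have hv' : g⁻¹ * v * g ∈ V := by
      have := (Subgroup.mem_normalizer_iff.mp (Subgroup.inv_mem _ hg) v).mp hv
      rwa [inv_inv] at this
    have hm' := conj_mem_of_le_normalizer hVnorm hv' hm
    rw [hmemN]
    refine ⟨_, hm', ?_⟩
    group
  have := le_map_pCore V N hNV hVN hNp
  exact this ((hmemN _).mpr ⟨n, hn, rfl⟩)

theorem asm3822 [Finite G] (A V : Subgroup G) (hV : Group.IsNilpotent ↥V)
    (hAV : A ≤ Subgroup.normalizer (V : Set G))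
    (hcore : ∀ (q r : ℕ) [Fact q.Prime] [Fact r.Prime], q ≠ r → ∀ U R : Subgroup G,
      IsPGroup q U → A ≤ Subgroup.normalizer (U : Set G) → IsPGroup r R → R ≤ A →
      A ≤ Subgroup.normalizer (R : Set G) → ∀ f ∈ R, ∀ w ∈ U, f * w = w * f) :
    Group.IsNilpotent ↥((Cfsg.fittingSubgroup ↥A).map A.subtype ⊔ V) := by
  classical
  -- the pieces
  let Fq : Nat.Primes → Subgroup G := fun q => (pCore (q : ℕ) ↥A).map A.subtype
  let Vq : Nat.Primes → Subgroup G := fun q => (pCore (q : ℕ) ↥V).map V.subtype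
  let Sq : Nat.Primes → Subgroup G := fun q => Fq q ⊔ Vq q
  have hFqA : ∀ q, Fq q ≤ A := fun q => Subgroup.map_subtype_le _
  have hVqV : ∀ q, Vq q ≤ V := fun q => Subgroup.map_subtype_le _
  have hFqp : ∀ q : Nat.Primes, IsPGroup (q : ℕ) (Fq q) := fun q => (pCore_isPGroup _).map _
  have hVqp : ∀ q : Nat.Primes, IsPGroup (q : ℕ) (Vq q) := fun q => (pCore_isPGroup _).map _
  have hAFq : ∀ q, A ≤ Subgroup.normalizer ((Fq q : Subgroup G) : Set G) :=
    fun q => le_normalizer_map_subtype A _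
  have hAVq : ∀ q, A ≤ Subgroup.normalizer ((Vq q : Subgroup G) : Set G) :=
    fun q => hAV.trans (normalizer_le_normalizer_map_pCore _ V)
  have hVVq : ∀ q, V ≤ Subgroup.normalizer ((Vq q : Subgroup G) : Set G) :=
    fun q => le_normalizer_map_subtype V _
  -- F and V as joins
  have hF : (Cfsg.fittingSubgroup ↥A).map A.subtype = ⨆ q, Fq q := by
    rw [fittingSubgroup_eq_iSup_pCore, Subgroup.map_iSup]
  have hVtop : Cfsg.fittingSubgroup ↥V = ⊤ := by
    apply top_unique
    apply le_fittingSubgroup inferInstance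
    exact Group.isNilpotent_top.mpr hV
  have hVe : V = ⨆ q, Vq q := by
    have h1 : (Cfsg.fittingSubgroup ↥V).map V.subtype = ⨆ q, Vq q := by
      rw [fittingSubgroup_eq_iSup_pCore, Subgroup.map_iSup]
    rw [hVtop, ← MonoidHom.range_eq_map, Subgroup.range_subtype] at h1
    exact h1
  set W : Subgroup G := (Cfsg.fittingSubgroup ↥A).map A.subtype ⊔ V with hW
  have hWS : W = ⨆ q, Sq q := by
    rw [hW, hF]
    conv_lhs => rw [hVe]
    exact iSup_sup_eq.symm
  -- commutation
  have cFV : ∀ q r : Nat.Primes, q ≠ r → ∀ f ∈ Fq r, ∀ w ∈ Vq q, f * w = w * f := by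
    intro q r hqr
    haveI : Fact (q : ℕ).Prime := ⟨q.2⟩
    haveI : Fact (r : ℕ).Prime := ⟨r.2⟩
    exact hcore q r (fun h => hqr (Subtype.ext h)) (Vq q) (Fq r) (hVqp q) (hAVq q) (hFqp r)
      (hFqA r) (hAFq r)
  have cFF : ∀ q r : Nat.Primes, q ≠ r → ∀ f ∈ Fq r, ∀ w ∈ Fq q, f * w = w * f := by
    intro q r hqr
    haveI : Fact (q : ℕ).Prime := ⟨q.2⟩
    haveI : Fact (r : ℕ).Prime := ⟨r.2⟩
    exact hcore q r (fun h => hqr (Subtype.ext h)) (Fq q) (Fq r) (hFqp q) (hAFq q) (hFqp r)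
      (hFqA r) (hAFq r)
  have cVV : ∀ q r : Nat.Primes, q ≠ r → ∀ f ∈ Vq r, ∀ w ∈ Vq q, f * w = w * f := by
    intro q r hqr
    haveI : Fact (q : ℕ).Prime := ⟨q.2⟩
    haveI : Fact (r : ℕ).Prime := ⟨r.2⟩
    rintro _ ⟨f, hf, rfl⟩ _ ⟨w, hw, rfl⟩
    have hdis : Disjoint (pCore (r : ℕ) ↥V) (pCore (q : ℕ) ↥V) :=
      IsPGroup.disjoint_of_ne (r : ℕ) (q : ℕ) (fun h => hqr (Subtype.ext h.symm)) _ _
        (pCore_isPGroup _) (pCore_isPGroup _)
    have := Subgroup.commute_of_normal_of_disjoint _ _ (pCore_normal (r : ℕ))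
      (pCore_normal (q : ℕ)) hdis f w hf hw
    exact congrArg Subtype.val this.eq
  -- S_q is a q-group
  have hSqp : ∀ q : Nat.Primes, IsPGroup (q : ℕ) (Sq q) := fun q =>
    IsPGroup.to_sup_of_normal_right' (hFqp q) (hVqp q) ((hFqA q).trans (hAVq q))
  -- centralizing implies normalizing
  have cent_to_norm : ∀ (X : Subgroup G) (q : Nat.Primes),
      (∀ f ∈ X, ∀ w ∈ Fq q, f * w = w * f) → (∀ f ∈ X, ∀ w ∈ Vq q, f * w = w * f) →
      X ≤ Subgroup.normalizer ((Sq q : Subgroup G) : Set G) := by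
    intro X q h1 h2
    have h3 : Sq q ≤ Subgroup.centralizer (X : Set G) := by
      apply sup_le
      · intro w hw
        rw [Subgroup.mem_centralizer_iff]
        intro f hf
        exact h1 f hf w hw
      · intro w hw
        rw [Subgroup.mem_centralizer_iff]
        intro f hf
        exact h2 f hf w hw
    exact (Subgroup.le_centralizer_iff.mp h3).trans (Subgroup.centralizer_le_normalizer _)
  have hFr_norm : ∀ q r : Nat.Primes, Fq r ≤ Subgroup.normalizer ((Sq q : Subgroup G) : Set G) := by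
    intro q r
    by_cases h : q = r
    · subst h
      exact (le_sup_left : Fq q ≤ Sq q).trans Subgroup.le_normalizer
    · exact cent_to_norm (Fq r) q (cFF q r h) (cFV q r h)
  have hVr_norm : ∀ q r : Nat.Primes, Vq r ≤ Subgroup.normalizer ((Sq q : Subgroup G) : Set G) := by
    intro q r
    by_cases h : q = r
    · subst h
      exact (le_sup_right : Vq q ≤ Sq q).trans Subgroup.le_normalizer
    · refine cent_to_norm (Vq r) q ?_ (cVV q r h)
      intro f hf w hw
      exact (cFV r q (Ne.symm h) w hw f hf).symm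
  have hWnorm : ∀ q : Nat.Primes, W ≤ Subgroup.normalizer ((Sq q : Subgroup G) : Set G) := by
    intro q
    rw [hWS]
    apply iSup_le
    intro r
    exact sup_le (hFr_norm q r) (hVr_norm q r)
  have hSqW : ∀ q, Sq q ≤ W := by
    intro q; rw [hWS]; exact le_iSup Sq q
  -- the Fitting subgroup of W is everything
  have hfit : Cfsg.fittingSubgroup ↥W = ⊤ := by
    have hle : ∀ q : Nat.Primes, Sq q ≤ (Cfsg.fittingSubgroup ↥W).map W.subtype := by
      intro q
      haveI : Fact (q : ℕ).Prime := ⟨q.2⟩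
      have h1 := le_map_pCore W (Sq q) (hSqW q) (hWnorm q) (hSqp q)
      refine h1.trans (Subgroup.map_mono ?_)
      exact le_fittingSubgroup (pCore_normal _) (pCore_isPGroup (q : ℕ)).isNilpotent
    have hWle : W ≤ (Cfsg.fittingSubgroup ↥W).map W.subtype := by
      conv_lhs => rw [hWS]
      exact iSup_le hle
    apply top_unique
    intro x _
    obtain ⟨y, hy, hyx⟩ := hWle x.2
    have : y = x := Subtype.ext hyx
    rwa [this] at hy
  have hnil : Group.IsNilpotent ↥(Cfsg.fittingSubgroup ↥W) := fittingSubgroup_isNilpotent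
  rw [hfit] at hnil
  exact Group.isNilpotent_top.mp hnil

end Cfsg.Agent.Lib.Helper1.Flavell
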