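import Mathlib
import Cfsg.Agent.Lib.Helper63.HHIndLA
import Cfsg.Agent.Lib.Helper2.IrrSpan

set_option autoImplicit false
set_option linter.style.haveILetI false

/-!
# S3818-[CLIFF]: Clifford decomposition for an abelian normal subgroup (helper1, for helper2)
-/

namespace Cfsg.Agent.Lib.Helper1.Flavell

open Module

variable {G : Type*} [Group G] {K : Type*} [Field K] {V : Type*} [AddCommGroup V] [Module K V]

/-- `W.map (ρ g)` membership. -/
theorem mem_map_rho (ρ : Representation K G V) (W : Submodule K V) (g : G) (w : V) :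
    w ∈ W.map (ρ g) ↔ ρ g⁻¹ w ∈ W := by
  constructor
  · rintro ⟨v, hv, rfl⟩
    have : ρ g⁻¹ (ρ g v) = v := by
      rw [← Module.End.mul_apply, ← map_mul, inv_mul_cancel, map_one, Module.End.one_apply]
    rw [this]; exact hv
  · intro h
    refine ⟨ρ g⁻¹ w, h, ?_⟩
    rw [← Module.End.mul_apply, ← map_mul, mul_inv_cancel, map_one, Module.End.one_apply]

theorem map_rho_mul (ρ : Representation K G V) (W : Submodule K V) (g h : G) :
    W.map (ρ (g * h)) = (W.map (ρ h)).map (ρ g) := by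
  rw [map_mul, Module.End.mul_eq_comp, Submodule.map_comp]

theorem map_rho_one (ρ : Representation K G V) (W : Submodule K V) : W.map (ρ 1) = W := by
  rw [map_one]; exact Submodule.map_id W

theorem cliff [Finite G] [IsAlgClosed K] [FiniteDimensional K V] [Nontrivial V]
    (ρ : Representation K G V)
    (hirr : ∀ W : Submodule K V, (∀ g, W ≤ W.comap (ρ g)) → W = ⊥ ∨ W = ⊤)
    (A : Subgroup G) [A.Normal] (hA : ∀ a ∈ A, ∀ b ∈ A, a * b = b * a) (a₀ : G) (ha₀ : a₀ ∈ A)
    (hns : ∀ c : K, ρ a₀ ≠ c • LinearMap.id) :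
    ∃ (H : Subgroup G) (W₀ : Submodule K V), H ≠ ⊤ ∧
      (∀ g₁ g₂ : G, g₁⁻¹ * g₂ ∈ H → W₀.map (ρ g₁) = W₀.map (ρ g₂)) ∧
      iSupIndep (fun q : G ⧸ H => W₀.map (ρ q.out)) ∧
      ⨆ q : G ⧸ H, W₀.map (ρ q.out) = ⊤ := by
  classical
  -- the restriction to A and a common eigenvector
  set ρA : Representation K A V := ρ.comp A.subtype with hρA
  have hρA_apply : ∀ a : A, ρA a = ρ (a : G) := fun a => rfl
  have hcommA : ∀ a b : A, ρA a * ρA b = ρA b * ρA a := by
    intro a b
    rw [hρA_apply, hρA_apply, ← map_mul, ← map_mul, hA a a.2 b b.2]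
  obtain ⟨χ, hχ⟩ := Cfsg.Agent.Lib.Helper63.HHIndLA.exists_common_eigenvector ρA hcommA
  set W₀ : Submodule K V := ⨅ a : A, Module.End.eigenspace (ρA a) (χ a) with hW₀
  have memW₀ : ∀ v : V, v ∈ W₀ ↔ ∀ a : A, ρ (a : G) v = χ a • v := by
    intro v
    rw [hW₀, Submodule.mem_iInf]
    exact forall_congr' fun a => by rw [Module.End.mem_eigenspace_iff, hρA_apply]
  -- conjugation on A
  have hconj : ∀ (g : G) (a : A), g⁻¹ * (a : G) * g ∈ A := by
    intro g a
    have := ‹A.Normal›.conj_mem a a.2 g⁻¹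
    rwa [inv_inv] at this
  let cA : G → A → A := fun g a => ⟨g⁻¹ * (a : G) * g, hconj g a⟩
  let ψ : G → A → K := fun g a => χ (cA g a)
  -- eigen property of the translates
  have heig : ∀ (g : G) (w : V), w ∈ W₀.map (ρ g) → ∀ a : A, ρ (a : G) w = ψ g a • w := by
    rintro g _ ⟨v, hv, rfl⟩ a
    have h1 : (a : G) * g = g * (g⁻¹ * (a : G) * g) := by group
    have h2 := (memW₀ v).mp hv (cA g a)
    calc ρ (a : G) (ρ g v) = ρ ((a : G) * g) v := by rw [map_mul, Module.End.mul_apply]
      _ = ρ (g * (g⁻¹ * (a : G) * g)) v := by rw [h1]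
      _ = ρ g (ρ (g⁻¹ * (a : G) * g) v) := by rw [map_mul, Module.End.mul_apply]
      _ = ρ g (χ (cA g a) • v) := by rw [← h2]
      _ = ψ g a • ρ g v := by rw [map_smul]
  -- equal characters give equal translates
  have hconv_le : ∀ g g' : G, ψ g = ψ g' → W₀.map (ρ g) ≤ W₀.map (ρ g') := by
    intro g g' hψ w hw
    rw [mem_map_rho, memW₀]
    intro a
    -- b = g' a g'⁻¹
    have hb : g' * (a : G) * g'⁻¹ ∈ A := ‹A.Normal›.conj_mem a a.2 g'
    set b : A := ⟨g' * (a : G) * g'⁻¹, hb⟩ with hbdef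
    have h1 := heig g w hw b
    have h2 : ψ g b = χ a := by
      rw [hψ]
      show χ (cA g' b) = χ a
      congr 1
      apply Subtype.ext
      show g'⁻¹ * (g' * (a : G) * g'⁻¹) * g' = a
      group
    rw [h2] at h1
    have h3 : (a : G) * g'⁻¹ = g'⁻¹ * (g' * (a : G) * g'⁻¹) := by group
    calc ρ (a : G) (ρ g'⁻¹ w) = ρ ((a : G) * g'⁻¹) w := by rw [map_mul, Module.End.mul_apply]
      _ = ρ (g'⁻¹ * (g' * (a : G) * g'⁻¹)) w := by rw [h3]
      _ = ρ g'⁻¹ (ρ (g' * (a : G) * g'⁻¹) w) := by rw [map_mul, Module.End.mul_apply]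
      _ = ρ g'⁻¹ (χ a • w) := by rw [show ρ (g' * (a : G) * g'⁻¹) w = χ a • w from h1]
      _ = χ a • ρ g'⁻¹ w := by rw [map_smul]
  have hconv : ∀ g g' : G, ψ g = ψ g' → W₀.map (ρ g) = W₀.map (ρ g') :=
    fun g g' h => le_antisymm (hconv_le g g' h) (hconv_le g' g h.symm)
  -- the inertia subgroup
  let H : Subgroup G :=
    { carrier := {g | W₀.map (ρ g) = W₀}
      one_mem' := map_rho_one ρ W₀
      mul_mem' := by
        intro g h hg hh
        show W₀.map (ρ (g * h)) = W₀
        rw [map_rho_mul, show W₀.map (ρ h) = W₀ from hh]; exact hg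
      inv_mem' := by
        intro g hg
        show W₀.map (ρ g⁻¹) = W₀
        have h1 : W₀.map (ρ g) = W₀ := hg
        have h2 : W₀.map (ρ (g⁻¹ * g)) = W₀ := by rw [inv_mul_cancel]; exact map_rho_one ρ W₀
        rw [map_rho_mul, h1] at h2
        exact h2 }
  have memH : ∀ g : G, g ∈ H ↔ W₀.map (ρ g) = W₀ := fun g => Iff.rfl
  have hcoset : ∀ g₁ g₂ : G, g₁⁻¹ * g₂ ∈ H → W₀.map (ρ g₁) = W₀.map (ρ g₂) := by
    intro g₁ g₂ h
    have h1 : g₂ = g₁ * (g₁⁻¹ * g₂) := by group
    rw [h1, map_rho_mul, (memH _).mp h]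
  have hcoset' : ∀ g₁ g₂ : G, W₀.map (ρ g₁) = W₀.map (ρ g₂) → g₁⁻¹ * g₂ ∈ H := by
    intro g₁ g₂ h
    rw [memH, map_rho_mul, ← h, ← map_rho_mul, inv_mul_cancel, map_rho_one]
  have hout : ∀ g : G, W₀.map (ρ ((g : G ⧸ H).out)) = W₀.map (ρ g) := by
    intro g
    apply hcoset
    have : ((g : G ⧸ H).out : G ⧸ H) = (g : G ⧸ H) := QuotientGroup.out_eq' _
    exact QuotientGroup.eq.mp this
  refine ⟨H, W₀, ?_, hcoset, ?_, ?_⟩
  · -- H ≠ ⊤
    intro hH
    have hinv : ∀ g, W₀ ≤ W₀.comap (ρ g) := by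
      intro g v hv
      have hg : g ∈ H := by rw [hH]; trivial
      rw [Submodule.mem_comap, ← (memH g).mp hg]
      exact Submodule.mem_map_of_mem hv
    rcases hirr W₀ hinv with h | h
    · exact hχ h
    · apply hns (χ ⟨a₀, ha₀⟩)
      apply LinearMap.ext
      intro v
      have hv : v ∈ W₀ := by rw [h]; trivial
      have := (memW₀ v).mp hv ⟨a₀, ha₀⟩
      rw [LinearMap.smul_apply, LinearMap.id_apply]
      exact this
  · -- independence
    rw [iSupIndep_iff_finsetSum_eq_zero_imp_eq_zero]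
    intro s v hv hsum
    by_contra hne
    push Not at hne
    obtain ⟨i₀, hi₀s, hi₀⟩ := hne
    -- the nonzero part
    let κ := {q : G ⧸ H // q ∈ s ∧ v q ≠ 0}
    have hfin : Finite κ := Subtype.finite
    letI : Fintype κ := Fintype.ofFinite κ
    let C : A → V →ₗ[K] V := fun a => ρ (a : G)
    let vv : κ → V := fun k => v k.1
    let lam : κ → A → K := fun k a => ψ (k.1.out) a
    have hli : LinearIndependent K vv := by
      apply Cfsg.Agent.Lib.Helper2.IrrSpan.linearIndependent_of_joint_eigen C vv lam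
      · intro k; exact k.2.2
      · intro a k
        exact heig (k.1.out) (v k.1) (hv k.1 k.2.1) a
      · intro k k' hkk'
        by_contra hall
        push Not at hall
        have hψ : ψ (k.1.out) = ψ (k'.1.out) := funext hall
        have h1 := hcoset' _ _ (hconv _ _ hψ)
        have h2 : ((k.1.out : G) : G ⧸ H) = ((k'.1.out : G) : G ⧸ H) := QuotientGroup.eq.mpr h1
        rw [QuotientGroup.out_eq', QuotientGroup.out_eq'] at h2
        exact hkk' (Subtype.ext h2)
    -- the dependency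
    have hsum' : ∑ k : κ, (1 : K) • vv k = 0 := by
      simp only [one_smul]
      have h1 : ∑ q ∈ s, v q = ∑ q ∈ s.filter (fun q => v q ≠ 0), v q := by
        rw [Finset.sum_filter]
        apply Finset.sum_congr rfl
        intro q _
        by_cases h : v q = 0
        · simp [h]
        · simp [h]
      rw [h1] at hsum
      rw [← hsum]
      symm
      apply Finset.sum_bij (fun q hq => (⟨q, by
          rw [Finset.mem_filter] at hq; exact hq⟩ : κ))
      · intro q hq; exact Finset.mem_univ _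
      · intro q₁ h₁ q₂ h₂ h; exact congrArg Subtype.val h
      · intro k _; exact ⟨k.1, by rw [Finset.mem_filter]; exact k.2, rfl⟩
      · intro q hq; rfl
    have := (Fintype.linearIndependent_iff.mp hli) (fun _ => (1 : K)) hsum' ⟨i₀, hi₀s, hi₀⟩
    exact one_ne_zero this
  · -- the sum is everything
    set S : Submodule K V := ⨆ q : G ⧸ H, W₀.map (ρ q.out) with hS
    have hSinv : ∀ g, S ≤ S.comap (ρ g) := by
      intro g
      rw [← Submodule.map_le_iff_le_comap, hS, Submodule.map_iSup]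
      apply iSup_le
      intro q
      rw [← map_rho_mul, ← hout (g * q.out)]
      exact le_iSup (fun q : G ⧸ H => W₀.map (ρ q.out)) ((g * q.out : G) : G ⧸ H)
    rcases hirr S hSinv with h | h
    · exfalso
      apply hχ
      have h1 : W₀ ≤ S := by
        have := le_iSup (fun q : G ⧸ H => W₀.map (ρ q.out)) ((1 : G) : G ⧸ H)
        rw [hout 1, map_rho_one] at this
        exact this
      rw [h] at h1
      exact le_bot_iff.mp h1
    · exact h

end Cfsg.Agent.Lib.Helper1.Flavell
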