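import Mathlib
import Cfsg.Agent.Lib.Helper1.SZConj

set_option autoImplicit false
set_option linter.style.haveILetI false

/-!
# S3822-[COMPLCONJ]: complements normalizing a fixed-point-free `r`-subgroup are `N`-conjugate
(helper1, for helper2)
-/

namespace Cfsg.Agent.Lib.Helper1.Flavell

open scoped Pointwise

variable {H : Type*} [Group H]

theorem mem_map_conj (S : Subgroup H) (h y : H) :
    y ∈ S.map (MulAut.conj h).toMonoidHom ↔ h⁻¹ * y * h ∈ S := by
  constructor
  · rintro ⟨s, hs, rfl⟩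
    have : h⁻¹ * ((MulAut.conj h).toMonoidHom s) * h = s := by
      show h⁻¹ * (h * s * h⁻¹) * h = s
      group
    rwa [this]
  · intro hy
    refine ⟨h⁻¹ * y * h, hy, ?_⟩
    show h * (h⁻¹ * y * h) * h⁻¹ = y
    group

/-- every element is `n * x` with `n ∈ N`, `x ∈ X`, when `X ⊔ N = ⊤` and `N` is normal -/
theorem exists_mul_of_sup_eq_top (N X : Subgroup H) [N.Normal] (h : X ⊔ N = ⊤) (g : H) :
    ∃ n ∈ N, ∃ x ∈ X, g = n * x := by
  have hg : g ∈ ((N ⊔ X : Subgroup H) : Set H) := by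
    rw [sup_comm, h]; trivial
  rw [Subgroup.normal_mul] at hg
  obtain ⟨n, hn, x, hx, rfl⟩ := hg
  exact ⟨n, hn, x, hx, rfl⟩

/-- the normalizer of a fixed-point-free (on `N`) normal subgroup `R` of a supplement `X` is `X` -/
theorem normalizer_eq_of_fpf (N X R : Subgroup H) [hNn : N.Normal] (hXN : X ⊓ N = ⊥)
    (hXN' : X ⊔ N = ⊤) (hRX : R ≤ X) (hXR : X ≤ Subgroup.normalizer (R : Set H))
    (hfix : ∀ n ∈ N, (∀ f ∈ R, f * n = n * f) → n = 1) :
    Subgroup.normalizer (R : Set H) = X := by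
  apply le_antisymm _ hXR
  intro x hx
  obtain ⟨n, hn, a, ha, rfl⟩ := exists_mul_of_sup_eq_top N X hXN' x
  have hnR : n ∈ Subgroup.normalizer (R : Set H) := by
    have := Subgroup.mul_mem _ hx (Subgroup.inv_mem _ (hXR ha))
    rwa [mul_inv_cancel_right] at this
  have hn1 : n = 1 := by
    apply hfix n hn
    intro f hf
    -- the commutator n f n⁻¹ f⁻¹ lies in R ⊓ N ≤ X ⊓ N = ⊥
    have h1 : n * f * n⁻¹ ∈ R := (Subgroup.mem_normalizer_iff.mp hnR f).mp hf
    have h2 : n * f * n⁻¹ * f⁻¹ ∈ R := R.mul_mem h1 (R.inv_mem hf)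
    have h3 : n * f * n⁻¹ * f⁻¹ ∈ N := by
      have : f * n⁻¹ * f⁻¹ ∈ N := hNn.conj_mem _ (N.inv_mem hn) f
      have := N.mul_mem hn this
      have e : n * (f * n⁻¹ * f⁻¹) = n * f * n⁻¹ * f⁻¹ := by group
      rwa [e] at this
    have h4 : n * f * n⁻¹ * f⁻¹ ∈ X ⊓ N := ⟨hRX h2, h3⟩
    rw [hXN, Subgroup.mem_bot] at h4
    have : n * f = f * n := by
      have e : n * f = (n * f * n⁻¹ * f⁻¹) * (f * n) := by group
      rw [e, h4, one_mul]
    exact this.symm
  rw [hn1, one_mul]; exact ha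

theorem compl_conj [Finite H] {q r : ℕ} [Fact q.Prime] [Fact r.Prime] (hqr : q ≠ r)
    (N A B R : Subgroup H) [hNn : N.Normal] (hN : IsPGroup q N) (hAN : A ⊓ N = ⊥)
    (hAN' : A ⊔ N = ⊤) (hBN : B ⊓ N = ⊥) (hBN' : B ⊔ N = ⊤) (hR : IsPGroup r R) (hRA : R ≤ A)
    (hAR : A ≤ Subgroup.normalizer (R : Set H))
    (hfix : ∀ n ∈ N, (∀ f ∈ R, f * n = n * f) → n = 1) :
    ∃ n ∈ N, B = A.map (MulAut.conj n).toMonoidHom := by
  classical
  -- K = R N
  set K : Subgroup H := R ⊔ N with hK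
  have hRK : R ≤ K := le_sup_left
  have hNK : N ≤ K := le_sup_right
  have hRN : R ⊓ N = ⊥ := le_bot_iff.mp (hAN ▸ inf_le_inf_right N hRA)
  -- K is normal
  have hKnorm : ∀ g : H, ∀ k ∈ K, g * k * g⁻¹ ∈ K := by
    have h1 : A ≤ Subgroup.normalizer (K : Set H) := by
      intro a ha
      rw [Subgroup.mem_normalizer_iff]
      have key : ∀ a ∈ A, ∀ k ∈ K, a * k * a⁻¹ ∈ K := by
        intro a ha k hk
        have h2 : K.map (MulAut.conj a).toMonoidHom ≤ K := by
          rw [hK, Subgroup.map_sup]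
          apply sup_le_sup
          · rintro _ ⟨f, hf, rfl⟩
            exact (Subgroup.mem_normalizer_iff.mp (hAR ha) f).mp hf
          · rintro _ ⟨n, hn, rfl⟩
            exact hNn.conj_mem n hn a
        exact h2 ⟨k, hk, rfl⟩
      intro k
      constructor
      · exact key a ha k
      · intro hk
        have := key a⁻¹ (A.inv_mem ha) _ hk
        rw [inv_inv] at this
        have e : a⁻¹ * (a * k * a⁻¹) * a = k := by group
        rwa [e] at this
    have h2 : N ≤ Subgroup.normalizer (K : Set H) := hNK.trans Subgroup.le_normalizer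
    have h3 : (⊤ : Subgroup H) ≤ Subgroup.normalizer (K : Set H) := by
      rw [← hAN']; exact sup_le h1 h2
    intro g k hk
    exact (Subgroup.mem_normalizer_iff.mp (h3 (Subgroup.mem_top g)) k).mp hk
  -- R' = B ⊓ K
  set R' : Subgroup H := B ⊓ K with hR'
  have hR'K : R' ≤ K := inf_le_right
  -- work inside K
  let N₁ : Subgroup K := N.subgroupOf K
  let R₁ : Subgroup K := R.subgroupOf K
  let R₂ : Subgroup K := R'.subgroupOf K
  haveI : N₁.Normal := hNn.subgroupOf K
  have hc1 : Subgroup.IsComplement' N₁ R₁ := by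
    apply Subgroup.isComplement'_of_disjoint_and_mul_eq_univ
    · rw [Subgroup.disjoint_def]
      intro x hx1 hx2
      have hx : (x : H) ∈ R ⊓ N := ⟨Subgroup.mem_subgroupOf.mp hx2, Subgroup.mem_subgroupOf.mp hx1⟩
      rw [hRN, Subgroup.mem_bot] at hx
      exact Subtype.ext hx
    · rw [Set.eq_univ_iff_forall]
      intro k
      have hk : (k : H) ∈ ((N ⊔ R : Subgroup H) : Set H) := by
        rw [sup_comm]; exact k.2
      rw [Subgroup.normal_mul] at hk
      obtain ⟨n, hn, f, hf, hnf⟩ := hk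
      refine ⟨⟨n, hNK hn⟩, Subgroup.mem_subgroupOf.mpr hn, ⟨f, hRK hf⟩,
        Subgroup.mem_subgroupOf.mpr hf, ?_⟩
      exact Subtype.ext hnf
  have hc2 : Subgroup.IsComplement' N₁ R₂ := by
    apply Subgroup.isComplement'_of_disjoint_and_mul_eq_univ
    · rw [Subgroup.disjoint_def]
      intro x hx1 hx2
      have hx2' : (x : H) ∈ R' := Subgroup.mem_subgroupOf.mp hx2
      have hx : (x : H) ∈ B ⊓ N := ⟨hx2'.1, Subgroup.mem_subgroupOf.mp hx1⟩
      rw [hBN, Subgroup.mem_bot] at hx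
      exact Subtype.ext hx
    · rw [Set.eq_univ_iff_forall]
      intro k
      obtain ⟨n, hn, b, hb, hnb⟩ := exists_mul_of_sup_eq_top N B hBN' (k : H)
      have hbK : b ∈ K := by
        have : b = n⁻¹ * (k : H) := by rw [hnb]; group
        rw [this]
        exact K.mul_mem (K.inv_mem (hNK hn)) k.2
      refine ⟨⟨n, hNK hn⟩, Subgroup.mem_subgroupOf.mpr hn, ⟨b, hbK⟩,
        Subgroup.mem_subgroupOf.mpr ⟨hb, hbK⟩, ?_⟩
      exact Subtype.ext hnb.symm
  have hN₁ : IsPGroup q N₁ := hN.comap_subtype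
  have hR₁ : IsPGroup r R₁ := hR.comap_subtype
  have hcop : (Nat.card N₁).Coprime (Nat.card R₁) :=
    IsPGroup.coprime_card_of_ne q r hqr N₁ R₁ hN₁ hR₁
  haveI : Group.IsNilpotent N₁ := hN₁.isNilpotent
  obtain ⟨g, hg⟩ := Cfsg.Agent.Lib.Helper1.exists_conj_eq_of_isComplement' N₁ R₁ R₂ hc1 hc2 hcop
    (Or.inl inferInstance)
  set h : H := (g : H) with hh
  have hhK : h ∈ K := g.2
  -- R' = h R h⁻¹
  have hR'conj : ∀ y : H, y ∈ R' ↔ h⁻¹ * y * h ∈ R := by
    intro y
    constructor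
    · intro hy
      have hyK : y ∈ K := hR'K hy
      have h1 : (⟨y, hyK⟩ : K) ∈ R₂ := Subgroup.mem_subgroupOf.mpr hy
      rw [← hg, Subgroup.mem_pointwise_smul_iff_inv_smul_mem] at h1
      have h2 := Subgroup.mem_subgroupOf.mp h1
      have e : (((MulAut.conj g)⁻¹ • (⟨y, hyK⟩ : K) : K) : H) = h⁻¹ * y * h := by
        rw [← map_inv, MulAut.smul_def, MulAut.conj_apply]
        simp [hh]
      rwa [e] at h2
    · intro hy
      have hyK : y ∈ K := by
        have e : y = h * (h⁻¹ * y * h) * h⁻¹ := by group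
        rw [e]
        exact K.mul_mem (K.mul_mem hhK (hRK hy)) (K.inv_mem hhK)
      have h1 : (⟨y, hyK⟩ : K) ∈ MulAut.conj g • R₁ := by
        rw [Subgroup.mem_pointwise_smul_iff_inv_smul_mem]
        apply Subgroup.mem_subgroupOf.mpr
        have e : (((MulAut.conj g)⁻¹ • (⟨y, hyK⟩ : K) : K) : H) = h⁻¹ * y * h := by
          rw [← map_inv, MulAut.smul_def, MulAut.conj_apply]
          simp [hh]
        rw [e]; exact hy
      rw [hg] at h1
      exact Subgroup.mem_subgroupOf.mp h1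
  -- normalizers
  have hNA : Subgroup.normalizer (R : Set H) = A :=
    normalizer_eq_of_fpf N A R hAN hAN' hRA hAR hfix
  have hfix' : ∀ n ∈ N, (∀ f ∈ R', f * n = n * f) → n = 1 := by
    intro n hn hcomm
    have hn' : h⁻¹ * n * h ∈ N := by
      have := hNn.conj_mem n hn h⁻¹
      rwa [inv_inv] at this
    have h1 : h⁻¹ * n * h = 1 := by
      apply hfix _ hn'
      intro f hf
      have hf' : h * f * h⁻¹ ∈ R' := by
        rw [hR'conj]
        have e : h⁻¹ * (h * f * h⁻¹) * h = f := by group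
        rwa [e]
      have := hcomm _ hf'
      have e1 : f * (h⁻¹ * n * h) = h⁻¹ * ((h * f * h⁻¹) * n) * h := by group
      have e2 : (h⁻¹ * n * h) * f = h⁻¹ * (n * (h * f * h⁻¹)) * h := by group
      rw [e1, e2, this]
    have e : n = h * (h⁻¹ * n * h) * h⁻¹ := by group
    rw [e, h1]; group
  have hBR' : B ≤ Subgroup.normalizer (R' : Set H) := by
    have key : ∀ b ∈ B, ∀ y ∈ R', b * y * b⁻¹ ∈ R' := by
      intro b hb y hy
      exact ⟨B.mul_mem (B.mul_mem hb hy.1) (B.inv_mem hb), hKnorm b y hy.2⟩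
    intro b hb
    rw [Subgroup.mem_normalizer_iff]
    intro y
    constructor
    · exact key b hb y
    · intro hy
      have := key b⁻¹ (B.inv_mem hb) _ hy
      rw [inv_inv] at this
      have e : b⁻¹ * (b * y * b⁻¹) * b = y := by group
      rwa [e] at this
  have hNB : Subgroup.normalizer (R' : Set H) = B :=
    normalizer_eq_of_fpf N B R' hBN hBN' inf_le_left hBR' hfix'
  -- B = h A h⁻¹
  have hBA : ∀ x : H, x ∈ B ↔ h⁻¹ * x * h ∈ A := by
    intro x
    rw [← hNB, ← hNA, Subgroup.mem_normalizer_iff, Subgroup.mem_normalizer_iff]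
    constructor
    · intro hx z
      have h1 := hx (h * z * h⁻¹)
      rw [hR'conj, hR'conj] at h1
      have e1 : h⁻¹ * (h * z * h⁻¹) * h = z := by group
      have e2 : h⁻¹ * (x * (h * z * h⁻¹) * x⁻¹) * h = h⁻¹ * x * h * z * (h⁻¹ * x * h)⁻¹ := by group
      rw [e1, e2] at h1
      exact h1
    · intro hx y
      have h1 := hx (h⁻¹ * y * h)
      rw [hR'conj, hR'conj]
      have e2 : h⁻¹ * x * h * (h⁻¹ * y * h) * (h⁻¹ * x * h)⁻¹ = h⁻¹ * (x * y * x⁻¹) * h := by group
      rw [e2] at h1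
      exact h1
  -- split h = n f
  have hhNR : h ∈ ((N ⊔ R : Subgroup H) : Set H) := by
    rw [sup_comm]; exact hhK
  rw [Subgroup.normal_mul] at hhNR
  obtain ⟨n, hn, f, hf, hnf⟩ := hhNR
  refine ⟨n, hn, ?_⟩
  ext x
  rw [mem_map_conj, hBA]
  have hfA : f ∈ A := hRA hf
  have e : h⁻¹ * x * h = f⁻¹ * (n⁻¹ * x * n) * f := by rw [← hnf]; group
  rw [e]
  constructor
  · intro hx
    have := A.mul_mem (A.mul_mem hfA hx) (A.inv_mem hfA)
    have e2 : f * (f⁻¹ * (n⁻¹ * x * n) * f) * f⁻¹ = n⁻¹ * x * n := by group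
    rwa [e2] at this
  · intro hx
    exact A.mul_mem (A.mul_mem (A.inv_mem hfA) hx) hfA

end Cfsg.Agent.Lib.Helper1.Flavell
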