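import Mathlib

/-!
# Automorphism-invariant subgroups: restriction and quotient automorphisms

Basic machinery for an automorphism `φ : G ≃* G` and subgroups `H` with `H.map φ = H`.
-/

set_option autoImplicit false

namespace Cfsg.Agent.Lib.Helper1

variable {G : Type*} [Group G]

/-- `H` is invariant under the automorphism `φ`. -/
def AutInv (φ : G ≃* G) (H : Subgroup G) : Prop := H.map φ.toMonoidHom = H

theorem AutInv.mem_iff {φ : G ≃* G} {H : Subgroup G} (h : AutInv φ H) (x : G) :
    φ x ∈ H ↔ x ∈ H := by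
  constructor
  · intro hx
    rw [← h] at hx
    obtain ⟨y, hy, hyx⟩ := hx
    have : y = x := φ.injective hyx
    rwa [← this]
  · intro hx
    rw [← h]
    exact ⟨x, hx, rfl⟩

theorem autInv_of_forall_mem [Finite G] (φ : G ≃* G) (H : Subgroup G)
    (h : ∀ x ∈ H, φ x ∈ H) : AutInv φ H := by
  have hle : H.map φ.toMonoidHom ≤ H := by
    rintro _ ⟨x, hx, rfl⟩
    exact h x hx
  have hcard : Nat.card (H.map φ.toMonoidHom) = Nat.card H :=
    Subgroup.card_map_of_injective φ.injective
  exact Subgroup.eq_of_le_of_card_ge hle hcard.ge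

theorem autInv_top (φ : G ≃* G) : AutInv φ ⊤ := by
  unfold AutInv
  rw [← MonoidHom.range_eq_map]
  exact MonoidHom.range_eq_top.mpr φ.surjective

theorem autInv_bot (φ : G ≃* G) : AutInv φ ⊥ := Subgroup.map_bot _

theorem AutInv.sup {φ : G ≃* G} {H K : Subgroup G} (hH : AutInv φ H) (hK : AutInv φ K) :
    AutInv φ (H ⊔ K) := by
  unfold AutInv at *
  rw [Subgroup.map_sup, hH, hK]

theorem AutInv.inf {φ : G ≃* G} {H K : Subgroup G} (hH : AutInv φ H) (hK : AutInv φ K) :
    AutInv φ (H ⊓ K) := by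
  unfold AutInv at *
  rw [Subgroup.map_inf_eq _ _ _ φ.injective, hH, hK]

theorem AutInv.commutator {φ : G ≃* G} {H K : Subgroup G} (hH : AutInv φ H) (hK : AutInv φ K) :
    AutInv φ ⁅H, K⁆ := by
  unfold AutInv at *
  rw [Subgroup.map_commutator, hH, hK]

theorem AutInv.normalizer {φ : G ≃* G} {H : Subgroup G} (hH : AutInv φ H) :
    AutInv φ (Subgroup.normalizer (H : Set G)) := by
  unfold AutInv at *
  rw [Subgroup.map_equiv_normalizer_eq, hH]

theorem AutInv.centralizer [Finite G] {φ : G ≃* G} {H : Subgroup G} (hH : AutInv φ H) :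
    AutInv φ (Subgroup.centralizer (H : Set G)) := by
  apply autInv_of_forall_mem
  intro x hx
  rw [Subgroup.mem_centralizer_iff] at hx ⊢
  intro y hy
  have hy' : φ.symm y ∈ H := by
    rw [← hH.mem_iff, MulEquiv.apply_symm_apply]; exact hy
  have := congrArg φ (hx _ hy')
  simpa using this

/-- The restriction of an automorphism to an invariant subgroup. -/
def restrictAut (φ : G ≃* G) (H : Subgroup G) (h : AutInv φ H) : H ≃* H where
  toFun x := ⟨φ (x : G), (h.mem_iff x).mpr x.2⟩
  invFun x := ⟨φ.symm (x : G), by rw [← h.mem_iff, MulEquiv.apply_symm_apply]; exact x.2⟩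
  left_inv x := Subtype.ext (φ.symm_apply_apply (x : G))
  right_inv x := Subtype.ext (φ.apply_symm_apply (x : G))
  map_mul' x y := Subtype.ext (map_mul φ (x : G) (y : G))

@[simp] theorem restrictAut_apply (φ : G ≃* G) (H : Subgroup G) (h : AutInv φ H) (x : H) :
    ((restrictAut φ H h x : H) : G) = φ (x : G) := rfl

theorem restrictAut_pow_apply (φ : G ≃* G) (H : Subgroup G) (h : AutInv φ H) (k : ℕ) (x : H) :
    (((restrictAut φ H h : MulAut H) ^ k) x : G) = ((φ : MulAut G) ^ k) (x : G) := by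
  induction k generalizing x with
  | zero => simp
  | succ k ih =>
    rw [pow_succ, pow_succ, MulAut.mul_apply, MulAut.mul_apply, ih]
    rfl

theorem restrictAut_pow_eq_one (φ : G ≃* G) (H : Subgroup G) (h : AutInv φ H) (k : ℕ)
    (hk : (φ : MulAut G) ^ k = 1) : (restrictAut φ H h : MulAut H) ^ k = 1 := by
  ext x
  rw [restrictAut_pow_apply, hk]
  rfl

theorem restrictAut_fpf (φ : G ≃* G) (H : Subgroup G) (h : AutInv φ H)
    (hφ : ∀ g : G, φ g = g → g = 1) : ∀ x : H, restrictAut φ H h x = x → x = 1 := by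
  intro x hx
  apply Subtype.ext
  apply hφ
  exact congrArg Subtype.val hx

/-- The automorphism induced on the quotient by an invariant normal subgroup. -/
noncomputable def quotAut (φ : G ≃* G) (N : Subgroup G) [N.Normal] (h : AutInv φ N) :
    G ⧸ N ≃* G ⧸ N :=
  QuotientGroup.congr N N φ h

theorem quotAut_mk (φ : G ≃* G) (N : Subgroup G) [N.Normal] (h : AutInv φ N) (x : G) :
    quotAut φ N h (x : G ⧸ N) = ((φ x : G) : G ⧸ N) :=
  QuotientGroup.congr_mk N N φ h x

theorem quotAut_pow_mk (φ : G ≃* G) (N : Subgroup G) [N.Normal] (h : AutInv φ N) (k : ℕ)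
    (x : G) : ((quotAut φ N h : MulAut (G ⧸ N)) ^ k) (x : G ⧸ N)
      = ((((φ : MulAut G) ^ k) x : G) : G ⧸ N) := by
  induction k generalizing x with
  | zero => simp
  | succ k ih =>
    rw [pow_succ, pow_succ, MulAut.mul_apply, MulAut.mul_apply, quotAut_mk, ih]

theorem quotAut_pow_eq_one (φ : G ≃* G) (N : Subgroup G) [N.Normal] (h : AutInv φ N) (k : ℕ)
    (hk : (φ : MulAut G) ^ k = 1) : (quotAut φ N h : MulAut (G ⧸ N)) ^ k = 1 := by
  ext x
  induction x using QuotientGroup.induction_on with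
  | H x =>
    rw [quotAut_pow_mk, hk]
    rfl

end Cfsg.Agent.Lib.Helper1
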