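import Mathlib
import Cfsg.Agent.Lib.Helper1.FpfBasic

/-!
# A counting lemma for fixed-point-free automorphisms of prime order

If `φ` is a fixed-point-free automorphism of prime order of the finite group `G`, `M` an abelian
normal `φ`-invariant subgroup and `Z` a `φ`-invariant subgroup of order prime to `|M|` with
`C_M(Z) = 1`, then `M = 1`.
-/

set_option autoImplicit false

namespace Cfsg.Agent.Lib.Helper1

variable {G : Type*} [Group G]

theorem fixed_pow (ψ : MulAut G) (g : G) (h : ψ g = g) (k : ℕ) : (ψ ^ k) g = g := by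
  induction k with
  | zero => simp
  | succ k ih => rw [pow_succ, MulAut.mul_apply, h, ih]

theorem fpf_pow_of_prime {φ : MulAut G} {p : ℕ} (hp : p.Prime) (hpow : φ ^ p = 1)
    (hφ : ∀ g : G, φ g = g → g = 1) (i : ℕ) (hi : ¬ p ∣ i) :
    ∀ g : G, (φ ^ i) g = g → g = 1 := by
  intro g hg
  have hcop : i.Coprime p := ((Nat.Prime.coprime_iff_not_dvd hp).mpr hi).symm
  obtain ⟨k, -, hk⟩ := Nat.exists_mul_mod_eq_one_of_coprime hcop hp.one_lt
  have h1 : (φ ^ i) ^ k = φ := by
    rw [← pow_mul, ← Nat.mod_add_div (i * k) p, hk, pow_add, pow_one, pow_mul, hpow, one_pow,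
      mul_one]
  have h2 := fixed_pow (φ ^ i) g hg k
  rw [h1] at h2
  exact hφ g h2

theorem AutInv.pow {φ : MulAut G} {H : Subgroup G} (h : AutInv φ H) (i : ℕ) :
    ∀ x ∈ H, (φ ^ i) x ∈ H := by
  induction i with
  | zero => intro x hx; simpa using hx
  | succ i ih =>
    intro x hx
    rw [pow_succ, MulAut.mul_apply]
    exact ih _ ((h.mem_iff x).mpr hx)

/-- In a commutative group, a fixed-point-free automorphism `ψ` with `ψ ^ n = 1` satisfies
`∏_{i<n} ψ^i m = 1`. -/
theorem prod_pow_eq_one_of_fpf {M : Type*} [CommGroup M] (ψ : MulAut M) (n : ℕ)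
    (hpow : ψ ^ n = 1) (hψ : ∀ m : M, ψ m = m → m = 1) (m : M) :
    ∏ i ∈ Finset.range n, (ψ ^ i) m = 1 := by
  apply hψ
  rw [map_prod]
  have h1 : ∀ i, ψ ((ψ ^ i) m) = (ψ ^ (i + 1)) m := by
    intro i
    rw [pow_succ', MulAut.mul_apply]
  simp only [h1]
  have h2 := Finset.prod_range_succ' (fun i => (ψ ^ i) m) n
  have h3 := Finset.prod_range_succ (fun i => (ψ ^ i) m) n
  rw [h3] at h2
  simp only [hpow, pow_zero, MulAut.one_apply] at h2
  exact (mul_right_cancel h2).symm

theorem frobenius_action_lemma [Finite G] (φ : MulAut G) (p : ℕ) (hp : p.Prime)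
    (hpow : φ ^ p = 1) (hφ : ∀ g : G, φ g = g → g = 1) (M Z : Subgroup G) [hMn : M.Normal]
    (hMc : ∀ a ∈ M, ∀ b ∈ M, a * b = b * a) (hM : AutInv φ M) (hZ : AutInv φ Z)
    (hC : M ⊓ Subgroup.centralizer (Z : Set G) = ⊥)
    (hcop : (Nat.card Z).Coprime (Nat.card M)) : M = ⊥ := by
  classical
  have : Fintype Z := Fintype.ofFinite Z
  let _ : CommGroup M :=
    { (inferInstance : Group M) with
      mul_comm := fun a b => Subtype.ext (hMc a a.2 b b.2) }
  set φM : MulAut M := restrictAut φ M hM with hφM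
  have hφMpow : φM ^ p = 1 := restrictAut_pow_eq_one φ M hM p hpow
  have hφMfpf : ∀ m : M, φM m = m → m = 1 := restrictAut_fpf φ M hM hφ
  -- the conjugated automorphisms
  let Ψ : G → MulAut M := fun y => MulAut.conjNormal y * φM * (MulAut.conjNormal y)⁻¹
  have hΨpow : ∀ y, Ψ y ^ p = 1 := by
    intro y
    show (MulAut.conjNormal y * φM * (MulAut.conjNormal y)⁻¹) ^ p = 1
    rw [conj_pow, hφMpow, mul_one, mul_inv_cancel]
  have hΨfpf : ∀ y, ∀ m : M, Ψ y m = m → m = 1 := by
    intro y m hm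
    have h1 : φM ((MulAut.conjNormal y)⁻¹ m) = (MulAut.conjNormal y)⁻¹ m := by
      have : (MulAut.conjNormal y)⁻¹ (Ψ y m) = (MulAut.conjNormal y)⁻¹ m := by rw [hm]
      simpa [Ψ, MulAut.mul_apply] using this
    have h2 := hφMfpf _ h1
    have h3 := congrArg (MulAut.conjNormal y) h2
    simpa using h3
  have hstep1 : ∀ (y : G) (m : M), ∏ i ∈ Finset.range p, (Ψ y ^ i) m = 1 :=
    fun y m => prod_pow_eq_one_of_fpf (Ψ y) p (hΨpow y) (hΨfpf y) m
  -- explicit formula
  have hformula : ∀ (y : G) (i : ℕ) (m : M),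
      (Ψ y ^ i) m = MulAut.conjNormal (y * ((φ ^ i) y)⁻¹) ((φM ^ i) m) := by
    intro y i m
    apply Subtype.ext
    have e1 : Ψ y ^ i = MulAut.conjNormal y * φM ^ i * (MulAut.conjNormal y)⁻¹ := by
      show (MulAut.conjNormal y * φM * (MulAut.conjNormal y)⁻¹) ^ i = _
      rw [conj_pow]
    rw [e1, MulAut.mul_apply, MulAut.mul_apply, MulAut.conjNormal_apply, MulAut.conjNormal_apply,
      restrictAut_pow_apply, restrictAut_pow_apply, MulAut.conjNormal_inv_apply]
    rw [map_mul, map_mul, map_inv]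
    group
  -- the trace map lands in `C_M(Z)`
  have htrace : ∀ m : M, ∏ w : Z, MulAut.conjNormal (w : G) m = 1 := by
    intro m
    have hmem : ((∏ w : Z, MulAut.conjNormal (w : G) m : M) : G)
        ∈ M ⊓ Subgroup.centralizer (Z : Set G) := by
      refine Subgroup.mem_inf.mpr ⟨Subtype.property _, Subgroup.mem_centralizer_iff.mpr ?_⟩
      intro z hz
      have hfix : MulAut.conjNormal z (∏ w : Z, MulAut.conjNormal (w : G) m)
          = ∏ w : Z, MulAut.conjNormal (w : G) m := by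
        rw [map_prod]
        have : ∀ w : Z, MulAut.conjNormal z (MulAut.conjNormal (w : G) m)
            = MulAut.conjNormal (((⟨z, hz⟩ : Z) * w : Z) : G) m := by
          intro w
          rw [← MulAut.mul_apply, ← map_mul]
          rfl
        simp only [this]
        exact Equiv.prod_comp (Equiv.mulLeft (⟨z, hz⟩ : Z))
          (fun w : Z => MulAut.conjNormal (w : G) m)
      have h2 := congrArg Subtype.val hfix
      rw [MulAut.conjNormal_apply] at h2
      generalize ((∏ w : Z, MulAut.conjNormal (w : G) m : M) : G) = t at h2 ⊢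
      calc z * t = z * t * z⁻¹ * z := by group
        _ = t * z := by rw [h2]
    rw [hC, Subgroup.mem_bot] at hmem
    exact Subtype.ext hmem
  -- the bijections `y ↦ y * (φ^i y)⁻¹` of `Z`
  have hbij : ∀ i : ℕ, ¬ p ∣ i → Function.Bijective
      (fun y : Z => (⟨(y : G) * ((φ ^ i) (y : G))⁻¹,
        Z.mul_mem y.2 (Z.inv_mem (hZ.pow i _ y.2))⟩ : Z)) := by
    intro i hi
    rw [← Finite.injective_iff_bijective]
    intro y y' hyy'
    have h1 : (y : G) * ((φ ^ i) (y : G))⁻¹ = (y' : G) * ((φ ^ i) (y' : G))⁻¹ :=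
      congrArg Subtype.val hyy'
    have h2 : (φ ^ i) ((y' : G)⁻¹ * (y : G)) = (y' : G)⁻¹ * (y : G) := by
      rw [map_mul, map_inv]
      have : (φ ^ i) (y : G) = (φ ^ i) (y' : G) * ((y' : G)⁻¹ * (y : G)) := by
        have h3 : ((φ ^ i) (y : G))⁻¹ = (y : G)⁻¹ * ((y' : G) * ((φ ^ i) (y' : G))⁻¹) := by
          rw [← h1]; group
        rw [← inv_inv ((φ ^ i) (y : G)), h3]; group
      rw [this]; group
    have h4 := fpf_pow_of_prime hp hpow hφ i hi _ h2
    apply Subtype.ext
    have : (y : G) = (y' : G) * ((y' : G)⁻¹ * (y : G)) := by group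
    rw [this, h4, mul_one]
  -- main computation
  rw [eq_bot_iff]
  intro m₀ hm₀
  rw [Subgroup.mem_bot]
  set m : M := ⟨m₀, hm₀⟩ with hm
  have hcol : ∀ i : ℕ, ¬ p ∣ i → ∏ y : Z, (Ψ (y : G) ^ i) m = 1 := by
    intro i hi
    simp only [hformula]
    have := (hbij i hi).prod_comp (fun w : Z => MulAut.conjNormal (w : G) ((φM ^ i) m))
    simp only at this
    rw [this]
    exact htrace _
  have htotal : ∏ y : Z, ∏ i ∈ Finset.range p, (Ψ (y : G) ^ i) m = 1 := by
    simp only [hstep1, Finset.prod_const_one]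
  rw [Finset.prod_comm] at htotal
  obtain ⟨p', rfl⟩ : ∃ p', p = p' + 1 := ⟨p - 1, (Nat.succ_pred_eq_of_pos hp.pos).symm⟩
  rw [Finset.prod_range_succ'] at htotal
  have hrest : ∏ i ∈ Finset.range p', ∏ y : Z, (Ψ (y : G) ^ (i + 1)) m = 1 := by
    apply Finset.prod_eq_one
    intro i hi
    apply hcol
    intro hdvd
    have := Nat.le_of_dvd (Nat.succ_pos i) hdvd
    rw [Finset.mem_range] at hi
    omega
  rw [hrest, one_mul] at htotal
  simp only [pow_zero, MulAut.one_apply, Finset.prod_const, Finset.card_univ] at htotal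
  -- `m ^ |Z| = 1` and `m ^ |M| = 1`
  have h1 : orderOf m ∣ Fintype.card Z := orderOf_dvd_of_pow_eq_one htotal
  have h2 : orderOf m ∣ Nat.card M := orderOf_dvd_natCard m
  rw [← Nat.card_eq_fintype_card] at h1
  have h3 : orderOf m = 1 := Nat.eq_one_of_dvd_coprimes hcop h1 h2
  have h4 : m = 1 := orderOf_eq_one_iff.mp h3
  exact congrArg Subtype.val h4

end Cfsg.Agent.Lib.Helper1
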