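import Mathlib

/-!
# Frobenius group modules, part A (helper1)

Linear algebra over an algebraically closed field `K`:
if `E` normalises `U`, `ρ(U)` is commutative of order invertible in `K`, every `u ∈ U` is a
commutator `[x,u']` for each `1 ≠ x ∈ E`, and `U` has no fixed points on an invariant subspace `M`,
then `dim M = |E| * dim (M ∩ Fix(E))`  (`M` is a free `K[E]`-module).
-/

set_option autoImplicit false

namespace Cfsg.Agent.Lib.Helper1.FrobMod

open Module Polynomial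

theorem exists_common_eigenvector {K M : Type*} [Field K] [IsAlgClosed K] [AddCommGroup M]
    [Module K M] [FiniteDimensional K M] [Nontrivial M]
    {ι : Type*} (f : ι → Module.End K M) (hcomm : ∀ i j, Commute (f i) (f j)) (n : ℕ)
    (hn : (n : K) ≠ 0) (hf : ∀ i, f i ^ n = 1) :
    ∃ (χ : ι → K) (m : M), m ≠ 0 ∧ ∀ i, f i m = χ i • m := by
  have h1 := Module.End.iSup_iInf_maxGenEigenspace_eq_top_of_iSup_maxGenEigenspace_eq_top_of_commute
    f (fun i j _ => hcomm i j) (fun i => Module.End.iSup_maxGenEigenspace_eq_top (f i))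
  have h2 : ∃ χ : ι → K, (⨅ i, (f i).maxGenEigenspace (χ i)) ≠ ⊥ := by
    by_contra hcon
    have hcon' : ∀ χ : ι → K, (⨅ i, (f i).maxGenEigenspace (χ i)) = ⊥ := by
      intro χ
      by_contra h
      exact hcon ⟨χ, h⟩
    have : (⨆ χ : ι → K, ⨅ i, (f i).maxGenEigenspace (χ i)) = ⊥ := by
      simp [hcon']
    rw [this] at h1
    exact bot_ne_top h1
  obtain ⟨χ, hχ⟩ := h2
  obtain ⟨m, hm, hm0⟩ := (Submodule.ne_bot_iff _).mp hχ
  refine ⟨χ, m, hm0, fun i => ?_⟩
  have hsq : Squarefree (X ^ n - C (1 : K)) :=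
    (Polynomial.separable_X_pow_sub_C (1 : K) hn one_ne_zero).squarefree
  have hss : (f i).IsSemisimple := by
    apply Module.End.isSemisimple_of_squarefree_aeval_eq_zero hsq
    simp [hf i]
  have h3 := (hss.isFinitelySemisimple).maxGenEigenspace_eq_eigenspace (χ i)
  have h4 : m ∈ (f i).maxGenEigenspace (χ i) := (Submodule.mem_iInf _).mp hm i
  rw [h3] at h4
  exact Module.End.mem_eigenspace_iff.mp h4

section Basic

variable {K W A : Type*} [Field K] [AddCommGroup W] [Module K W] [Group A]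
  (ρ : A →* Module.End K W)

theorem rho_mul (a b : A) (w : W) : ρ (a * b) w = ρ a (ρ b w) := by
  rw [map_mul]; rfl

theorem rho_one (w : W) : ρ 1 w = w := by
  rw [map_one]; rfl

theorem rho_inv_cancel (a : A) (w : W) : ρ a (ρ a⁻¹ w) = w := by
  rw [← rho_mul, mul_inv_cancel, rho_one]

theorem rho_inv_cancel' (a : A) (w : W) : ρ a⁻¹ (ρ a w) = w := by
  rw [← rho_mul, inv_mul_cancel, rho_one]

/-- fixed points of a subgroup -/
def fixedSub (B : Subgroup A) : Submodule K W where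
  carrier := {w | ∀ b ∈ B, ρ b w = w}
  add_mem' := by
    intro a b ha hb x hx
    rw [map_add, ha x hx, hb x hx]
  zero_mem' := by intro x _; simp
  smul_mem' := by
    intro c w hw x hx
    rw [map_smul, hw x hx]

theorem mem_fixedSub {B : Subgroup A} {w : W} : w ∈ fixedSub ρ B ↔ ∀ b ∈ B, ρ b w = w := Iff.rfl

/-- fixed points of one operator -/
def fixOf (T : Module.End K W) : Submodule K W where
  carrier := {w | T w = w}
  add_mem' := by
    intro a b ha hb
    show T (a + b) = a + b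
    rw [map_add, ha, hb]
  zero_mem' := by simp
  smul_mem' := by
    intro c w hw
    show T (c • w) = c • w
    rw [map_smul, hw]

theorem mem_fixOf {T : Module.End K W} {w : W} : w ∈ fixOf T ↔ T w = w := Iff.rfl

/-- Splitting along an idempotent preserving `M`. -/
theorem finrank_split (T : Module.End K W) (hT : ∀ w, T (T w) = T w) (M : Submodule K W)
    [Module.Finite K M] (hM : ∀ m ∈ M, T m ∈ M) :
    finrank K M = finrank K ↥(M ⊓ fixOf T) + finrank K ↥(M ⊓ LinearMap.ker T) := by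
  set TM : ↥M →ₗ[K] ↥M := T.restrict hM with hTM
  have h1 := LinearMap.finrank_range_add_finrank_ker TM
  have h2 : (LinearMap.range TM).map M.subtype = M ⊓ fixOf T := by
    ext w
    constructor
    · rintro ⟨m, ⟨m', rfl⟩, rfl⟩
      refine ⟨Subtype.mem _, ?_⟩
      show T ((TM m' : ↥M) : W) = ((TM m' : ↥M) : W)
      rw [hTM, LinearMap.coe_restrict_apply, hT]
    · rintro ⟨hwM, hw⟩
      refine ⟨TM ⟨w, hwM⟩, ⟨⟨w, hwM⟩, rfl⟩, ?_⟩
      show ((TM ⟨w, hwM⟩ : ↥M) : W) = w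
      rw [hTM, LinearMap.coe_restrict_apply]
      exact hw
  have h3 : (LinearMap.ker TM).map M.subtype = M ⊓ LinearMap.ker T := by
    ext w
    constructor
    · rintro ⟨m, hm, rfl⟩
      refine ⟨Subtype.mem _, ?_⟩
      have : TM m = 0 := hm
      show T (m : W) = 0
      have h4 := congrArg Subtype.val this
      rwa [hTM, LinearMap.coe_restrict_apply] at h4
    · rintro ⟨hwM, hw⟩
      refine ⟨⟨w, hwM⟩, ?_, rfl⟩
      show TM ⟨w, hwM⟩ = 0
      apply Subtype.ext
      rw [hTM, LinearMap.coe_restrict_apply]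
      exact hw
  rw [← h1, ← h2, ← h3, Submodule.finrank_map_subtype_eq, Submodule.finrank_map_subtype_eq]

end Basic

section LemmaL

variable {K W G : Type*} [Field K] [AddCommGroup W] [Module K W] [Group G] [Fintype G]
  (σ : G →* Module.End K W) (P : Module.End K W)

/-- the sum of the conjugates of `P` -/
def Qop : Module.End K W := ∑ g : G, σ g * P * σ g⁻¹

theorem Qop_apply (w : W) : Qop σ P w = ∑ g : G, σ g (P (σ g⁻¹ w)) := by
  simp [Qop, LinearMap.sum_apply]

theorem Q_comm (g : G) (w : W) : σ g (Qop σ P w) = Qop σ P (σ g w) := by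
  rw [Qop_apply, Qop_apply, map_sum]
  apply Fintype.sum_equiv (Equiv.mulLeft g)
  intro h
  show σ g (σ h (P (σ h⁻¹ w))) = σ (g * h) (P (σ (g * h)⁻¹ (σ g w)))
  rw [← rho_mul, ← rho_mul σ (g * h)⁻¹ g]
  congr 3
  group

variable (hPP : ∀ w, P (P w) = P w) (hPσP : ∀ g : G, g ≠ 1 → ∀ w, P (σ g (P w)) = 0)

include hPσP in
theorem P_sigma_sum (f : G → W) (hf : ∀ g, P (f g) = f g) (h : G) :
    P (σ h⁻¹ (∑ g, σ g (f g))) = f h := by
  rw [map_sum, map_sum]
  rw [Finset.sum_eq_single h]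
  · rw [rho_inv_cancel', hf]
  · intro g _ hg
    rw [← rho_mul, ← hf g]
    apply hPσP
    intro h1
    apply hg
    have : h * (h⁻¹ * g) = h * 1 := by rw [h1]
    simpa using this
  · intro h1
    exact absurd (Finset.mem_univ h) h1

include hPP hPσP

theorem P_sigma_Q (g : G) (w : W) : P (σ g⁻¹ (Qop σ P w)) = P (σ g⁻¹ w) := by
  rw [Qop_apply]
  exact P_sigma_sum σ P hPσP (fun g => P (σ g⁻¹ w)) (fun g => hPP _) g

theorem Q_idem (w : W) : Qop σ P (Qop σ P w) = Qop σ P w := by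
  rw [Qop_apply σ P (Qop σ P w)]
  simp_rw [P_sigma_Q σ P hPP hPσP]
  rw [← Qop_apply]

omit hPP in
theorem Q_sum (f : G → W) (hf : ∀ g, P (f g) = f g) :
    Qop σ P (∑ g, σ g (f g)) = ∑ g, σ g (f g) := by
  rw [Qop_apply]
  simp_rw [P_sigma_sum σ P hPσP f hf]

theorem finrank_fixOf_Q [Module.Finite K W] (M : Submodule K W) (hMP : ∀ m ∈ M, P m ∈ M)
    (hMσ : ∀ g, ∀ m ∈ M, σ g m ∈ M) :
    finrank K ↥(M ⊓ fixOf (Qop σ P)) = Fintype.card G * finrank K ↥(M ⊓ fixOf P) := by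
  set N1 := M ⊓ fixOf (Qop σ P) with hN1
  set N2 := M ⊓ fixOf P with hN2
  let a : ↥N1 →ₗ[K] (G → ↥N2) := LinearMap.pi (fun g =>
    LinearMap.codRestrict N2 ((P * σ g⁻¹).comp N1.subtype)
      (fun m => ⟨hMP _ (hMσ _ _ m.2.1), hPP _⟩))
  have hb : ∀ f : G → ↥N2, (∑ g : G, σ g ((f g : ↥N2) : W)) ∈ N1 := by
    intro f
    refine ⟨Submodule.sum_mem _ (fun g _ => hMσ _ _ (f g).2.1), ?_⟩
    exact Q_sum σ P hPσP (fun g => ((f g : ↥N2) : W)) (fun g => (f g).2.2)
  let b : (G → ↥N2) →ₗ[K] ↥N1 := LinearMap.codRestrict N1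
    (∑ g : G, (σ g).comp (N2.subtype.comp (LinearMap.proj g)))
    (fun f => by
      have := hb f
      simpa [LinearMap.sum_apply] using this)
  have hb_val : ∀ f : G → ↥N2, ((b f : ↥N1) : W) = ∑ g : G, σ g ((f g : ↥N2) : W) := by
    intro f
    simp [b, LinearMap.sum_apply]
  have ha_val : ∀ (m : ↥N1) (g : G), ((a m g : ↥N2) : W) = P (σ g⁻¹ (m : W)) := by
    intro m g
    rfl
  have hab : ∀ f, a (b f) = f := by
    intro f
    funext g
    apply Subtype.ext
    rw [ha_val, hb_val]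
    exact P_sigma_sum σ P hPσP (fun g => ((f g : ↥N2) : W)) (fun g => (f g).2.2) g
  have hba : ∀ m, b (a m) = m := by
    intro m
    apply Subtype.ext
    rw [hb_val]
    simp_rw [ha_val]
    rw [← Qop_apply]
    exact m.2.2
  let e : ↥N1 ≃ₗ[K] (G → ↥N2) := LinearEquiv.ofLinearMap a b
    (LinearMap.ext hab) (LinearMap.ext hba)
  rw [e.finrank_eq, Module.finrank_pi_fintype]
  simp

theorem finrank_fixed_fixOf_Q [Module.Finite K W] (M : Submodule K W) (hMP : ∀ m ∈ M, P m ∈ M)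
    (hMσ : ∀ g, ∀ m ∈ M, σ g m ∈ M) :
    finrank K ↥(M ⊓ fixedSub σ ⊤ ⊓ fixOf (Qop σ P)) = finrank K ↥(M ⊓ fixOf P) := by
  set S : Module.End K W := ∑ g : G, σ g with hS
  have hS_apply : ∀ w, S w = ∑ g : G, σ g w := by
    intro w; simp [hS, LinearMap.sum_apply]
  have h1 : M ⊓ fixOf P ≤ (M ⊓ fixedSub σ ⊤ ⊓ fixOf (Qop σ P)).map P := by
    rintro w ⟨hwM, hwP⟩
    have hwP' : P w = w := hwP
    refine ⟨S w, ⟨⟨?_, ?_⟩, ?_⟩, ?_⟩
    · rw [hS_apply]
      exact Submodule.sum_mem _ (fun g _ => hMσ _ _ hwM)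
    · intro h _
      rw [hS_apply, map_sum]
      apply Fintype.sum_equiv (Equiv.mulLeft h)
      intro g
      rw [← rho_mul]
      rfl
    · show Qop σ P (S w) = S w
      rw [hS_apply]
      exact Q_sum σ P hPσP (fun _ => w) (fun _ => hwP')
    · rw [hS_apply]
      have := P_sigma_sum σ P hPσP (fun _ => w) (fun _ => hwP') 1
      simpa [rho_one] using this
  have h2 : M ⊓ fixedSub σ ⊤ ⊓ fixOf (Qop σ P) ≤ (M ⊓ fixOf P).map S := by
    rintro m ⟨⟨hmM, hmfix⟩, hmQ⟩
    refine ⟨P m, ⟨hMP _ hmM, hPP _⟩, ?_⟩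
    have hmQ' : Qop σ P m = m := hmQ
    rw [hS_apply]
    conv_rhs => rw [← hmQ', Qop_apply]
    apply Finset.sum_congr rfl
    intro g _
    rw [hmfix g⁻¹ (Subgroup.mem_top _)]
  apply le_antisymm
  · exact (Submodule.finrank_mono h2).trans (Submodule.finrank_map_le _ _)
  · exact (Submodule.finrank_mono h1).trans (Submodule.finrank_map_le _ _)

end LemmaL

section Proj

variable {K W A : Type*} [Field K] [AddCommGroup W] [Module K W] [Group A]
  (ρ : A →* Module.End K W) (U : Subgroup A) [Fintype U]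

/-- the projector onto the `χ`-weight space of `U` -/
noncomputable def proj (χ : A → K) : Module.End K W :=
  ((Fintype.card U : K))⁻¹ • ∑ u : U, χ ((u : A)⁻¹) • ρ (u : A)

theorem proj_apply (χ : A → K) (w : W) :
    proj ρ U χ w = ((Fintype.card U : K))⁻¹ • ∑ u : U, χ ((u : A)⁻¹) • ρ (u : A) w := by
  simp [proj, LinearMap.sum_apply]

/-- multiplicativity on `U` -/
structure IsMult (χ : A → K) : Prop where
  one : χ 1 = 1
  mul : ∀ u ∈ U, ∀ u' ∈ U, χ (u * u') = χ u * χ u'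

variable {U}

omit [Fintype U] in
theorem IsMult.inv_mul {χ : A → K} (hχ : IsMult U χ) {u : A} (hu : u ∈ U) :
    χ u⁻¹ * χ u = 1 := by
  rw [← hχ.mul _ (U.inv_mem hu) _ hu, inv_mul_cancel, hχ.one]

omit [Fintype U] in
theorem IsMult.mul_inv {χ : A → K} (hχ : IsMult U χ) {u : A} (hu : u ∈ U) :
    χ u * χ u⁻¹ = 1 := by
  rw [mul_comm, hχ.inv_mul hu]

theorem proj_left {χ : A → K} (hχ : IsMult U χ) {u : A} (hu : u ∈ U) (w : W) :
    ρ u (proj ρ U χ w) = χ u • proj ρ U χ w := by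
  rw [proj_apply, map_smul, smul_comm (χ u)]
  congr 1
  rw [map_sum, Finset.smul_sum]
  apply Fintype.sum_equiv (Equiv.mulLeft (⟨u, hu⟩ : U))
  intro v
  show ρ u (χ ((v : A)⁻¹) • ρ (v : A) w) = χ u • (χ ((u * (v : A))⁻¹) • ρ (u * (v : A)) w)
  rw [map_smul, rho_mul, smul_smul]
  congr 1
  rw [mul_inv_rev, hχ.mul _ (U.inv_mem v.2) _ (U.inv_mem hu), mul_comm (χ u), mul_assoc,
    hχ.inv_mul hu, mul_one]

theorem proj_right {χ : A → K} (hχ : IsMult U χ) {u : A} (hu : u ∈ U) (w : W) :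
    proj ρ U χ (ρ u w) = χ u • proj ρ U χ w := by
  rw [proj_apply, proj_apply, smul_comm (χ u)]
  congr 1
  rw [Finset.smul_sum]
  apply Fintype.sum_equiv (Equiv.mulRight (⟨u, hu⟩ : U))
  intro v
  show χ ((v : A)⁻¹) • ρ (v : A) (ρ u w) = χ u • (χ (((v : A) * u)⁻¹) • ρ ((v : A) * u) w)
  rw [rho_mul, smul_smul]
  congr 1
  rw [mul_inv_rev, hχ.mul _ (U.inv_mem hu) _ (U.inv_mem v.2), ← mul_assoc, hχ.mul_inv hu, one_mul]

theorem proj_fixed {χ : A → K} (hχ : IsMult U χ) (hn : (Fintype.card U : K) ≠ 0) (w : W)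
    (hw : ∀ u ∈ U, ρ u w = χ u • w) : proj ρ U χ w = w := by
  rw [proj_apply]
  have : ∀ u : U, χ ((u : A)⁻¹) • ρ (u : A) w = w := by
    intro u
    rw [hw _ u.2, smul_smul, hχ.inv_mul u.2, one_smul]
  simp_rw [this]
  rw [Finset.sum_const, Finset.card_univ, ← Nat.cast_smul_eq_nsmul K, smul_smul,
    inv_mul_cancel₀ hn, one_smul]

theorem proj_idem {χ : A → K} (hχ : IsMult U χ) (hn : (Fintype.card U : K) ≠ 0) (w : W) :
    proj ρ U χ (proj ρ U χ w) = proj ρ U χ w :=
  proj_fixed ρ hχ hn _ (fun _ hu => proj_left ρ hχ hu w)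

theorem proj_mem {χ : A → K} (M : Submodule K W) (hM : ∀ u ∈ U, ∀ m ∈ M, ρ u m ∈ M) {m : W}
    (hm : m ∈ M) : proj ρ U χ m ∈ M := by
  rw [proj_apply]
  apply Submodule.smul_mem
  apply Submodule.sum_mem
  intro u _
  exact Submodule.smul_mem _ _ (hM _ u.2 _ hm)

end Proj

section Level1

variable {K W A : Type*} [Field K] [IsAlgClosed K] [AddCommGroup W] [Module K W]
  [FiniteDimensional K W] [Group A]
  (ρ : A →* Module.End K W) (U E : Subgroup A) [Finite U] [Finite E]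

/-- **Level 1**: free-ness (in dimension form) of a module of a Frobenius-like group `UE`
with commutative image of `U`, over an algebraically closed field. -/
theorem finrank_eq_card_mul_finrank_fixed_of_commute
    (hnorm : ∀ x ∈ E, ∀ u ∈ U, x * u * x⁻¹ ∈ U)
    (hcomm : ∀ u ∈ U, ∀ u' ∈ U, ∀ w, ρ u (ρ u' w) = ρ u' (ρ u w))
    (hn : (Nat.card U : K) ≠ 0)
    (hfree : ∀ x ∈ E, x ≠ 1 → ∀ u ∈ U, ∃ u' ∈ U, u = x * u' * x⁻¹ * u'⁻¹) :
    ∀ (d : ℕ) (M : Submodule K W), finrank K M = d →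
      (∀ u ∈ U, ∀ m ∈ M, ρ u m ∈ M) → (∀ x ∈ E, ∀ m ∈ M, ρ x m ∈ M) →
      (∀ m ∈ M, (∀ u ∈ U, ρ u m = m) → m = 0) →
      finrank K M = Nat.card E * finrank K ↥(M ⊓ fixedSub ρ E) := by
  classical
  letI : Fintype U := Fintype.ofFinite U
  letI : Fintype E := Fintype.ofFinite E
  have hn' : (Fintype.card U : K) ≠ 0 := by rwa [← Nat.card_eq_fintype_card]
  intro d
  induction d using Nat.strong_induction_on with
  | _ d ih =>
  intro M hd hMU hME hfix
  by_cases hM0 : M = ⊥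
  · subst hM0
    simp
  haveI : Nontrivial ↥M := Submodule.nontrivial_iff_ne_bot.mpr hM0
  let f : ↥U → Module.End K ↥M := fun u => (ρ (u : A)).restrict (hMU _ u.2)
  have hf_val : ∀ (u : ↥U) (m : ↥M), ((f u m : ↥M) : W) = ρ (u : A) (m : W) := fun u m => rfl
  have hfc : ∀ i j, Commute (f i) (f j) := by
    intro i j
    apply LinearMap.ext; intro m; apply Subtype.ext
    show ((f i ((f j) m) : ↥M) : W) = ((f j ((f i) m) : ↥M) : W)
    rw [hf_val, hf_val, hf_val, hf_val]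
    exact hcomm _ i.2 _ j.2 _
  have hfn : ∀ i, f i ^ (Fintype.card U) = 1 := by
    intro i
    have hk : ∀ (k : ℕ) (m : ↥M), ((((f i) ^ k) m : ↥M) : W) = ρ ((i : A) ^ k) (m : W) := by
      intro k
      induction k with
      | zero => intro m; simp
      | succ k ihk =>
        intro m
        rw [pow_succ', pow_succ', rho_mul, ← ihk m]
        rfl
    apply LinearMap.ext; intro m; apply Subtype.ext
    rw [hk]
    have : (i : A) ^ Fintype.card U = 1 := by
      have h1 : i ^ Fintype.card U = 1 := pow_card_eq_one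
      have h2 := congrArg Subtype.val h1
      rw [Subgroup.coe_pow, Subgroup.coe_one] at h2
      exact h2
    rw [this, rho_one]
    rfl
  obtain ⟨χ₀, m₀, hm₀, hχ₀⟩ := exists_common_eigenvector f hfc (Fintype.card U) hn' hfn
  set χ : A → K := fun a => if h : a ∈ U then χ₀ ⟨a, h⟩ else 0 with hχdef
  have hχU : ∀ u (hu : u ∈ U), χ u = χ₀ ⟨u, hu⟩ := fun u hu => dif_pos hu
  have hm₀' : (m₀ : W) ≠ 0 := fun h => hm₀ (Subtype.ext h)
  have hev : ∀ u ∈ U, ρ u (m₀ : W) = χ u • (m₀ : W) := by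
    intro u hu
    rw [hχU u hu]
    have := congrArg Subtype.val (hχ₀ ⟨u, hu⟩)
    rw [hf_val] at this
    exact this
  have hmult : IsMult U χ := by
    constructor
    · have h1 := hev 1 U.one_mem
      rw [rho_one] at h1
      have h2 : (χ 1) • (m₀ : W) = (1 : K) • (m₀ : W) := by rw [one_smul]; exact h1.symm
      exact smul_left_injective K hm₀' h2
    · intro u hu u' hu'
      have h1 := hev (u * u') (U.mul_mem hu hu')
      rw [rho_mul, hev u' hu', map_smul, hev u hu, smul_smul] at h1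
      have h2 : (χ (u * u')) • (m₀ : W) = (χ u * χ u') • (m₀ : W) := by
        rw [← h1, mul_comm]
      exact smul_left_injective K hm₀' h2
  set P : Module.End K W := proj ρ U χ with hPdef
  have hPP : ∀ w, P (P w) = P w := proj_idem ρ hmult hn'
  have hPm₀ : P (m₀ : W) = (m₀ : W) := proj_fixed ρ hmult hn' _ hev
  set σ : ↥E →* Module.End K W := ρ.comp E.subtype with hσdef
  have hσ_val : ∀ (g : ↥E) (w : W), σ g w = ρ (g : A) w := fun g w => rfl
  have key : ∀ g : ↥E, g ≠ 1 → ∃ u₀ ∈ U, χ ((g : A)⁻¹ * u₀ * (g : A)) ≠ χ u₀ := by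
    intro g hg
    by_contra hall
    have hall' : ∀ u₀ ∈ U, χ ((g : A)⁻¹ * u₀ * (g : A)) = χ u₀ := by
      intro u₀ hu₀
      by_contra h
      exact hall ⟨u₀, hu₀, h⟩
    have hone : ∀ u ∈ U, χ u = 1 := by
      intro u hu
      have hg' : (g : A)⁻¹ ≠ 1 := by
        intro h
        apply hg
        apply Subtype.ext
        simpa using h
      obtain ⟨u', hu', huu⟩ := hfree (g : A)⁻¹ (E.inv_mem g.2) hg' u hu
      rw [inv_inv] at huu
      have hmem : (g : A)⁻¹ * u' * (g : A) ∈ U := by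
        have := hnorm (g : A)⁻¹ (E.inv_mem g.2) u' hu'
        rwa [inv_inv] at this
      rw [huu, hmult.mul _ hmem _ (U.inv_mem hu'), hall' u' hu', hmult.mul_inv hu']
    apply hm₀'
    apply hfix _ m₀.2
    intro u hu
    rw [hev u hu, hone u hu, one_smul]
  have hPσP : ∀ g : ↥E, g ≠ 1 → ∀ w, P (σ g (P w)) = 0 := by
    intro g hg w
    obtain ⟨u₀, hu₀, hne⟩ := key g hg
    have hmem : (g : A)⁻¹ * u₀ * (g : A) ∈ U := by
      have := hnorm (g : A)⁻¹ (E.inv_mem g.2) u₀ hu₀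
      rwa [inv_inv] at this
    rw [hσ_val]
    set v := ρ (g : A) (P w) with hv
    have hv1 : ρ u₀ v = χ ((g : A)⁻¹ * u₀ * (g : A)) • v := by
      rw [hv, ← rho_mul, ← map_smul, ← proj_left ρ hmult hmem, ← rho_mul]
      congr 2
      group
    have h1 : P (ρ u₀ v) = χ u₀ • P v := proj_right ρ hmult hu₀ v
    have h2 : P (ρ u₀ v) = χ ((g : A)⁻¹ * u₀ * (g : A)) • P v := by rw [hv1, map_smul]
    have h3 : (χ u₀ - χ ((g : A)⁻¹ * u₀ * (g : A))) • P v = 0 := by
      rw [sub_smul, ← h1, ← h2, sub_self]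
    rcases smul_eq_zero.mp h3 with h | h
    · exact absurd (sub_eq_zero.mp h).symm hne
    · exact h
  set Q : Module.End K W := Qop σ P with hQdef
  have hQidem : ∀ w, Q (Q w) = Q w := Q_idem σ P hPP hPσP
  have hPcomm : ∀ u ∈ U, ∀ w, ρ u (P w) = P (ρ u w) := by
    intro u hu w
    rw [proj_left ρ hmult hu, proj_right ρ hmult hu]
  have hQU : ∀ u ∈ U, ∀ w, ρ u (Q w) = Q (ρ u w) := by
    intro u hu w
    rw [hQdef, Qop_apply, Qop_apply, map_sum]
    apply Finset.sum_congr rfl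
    intro g _
    have hmem : (g : A)⁻¹ * u * (g : A) ∈ U := by
      have := hnorm (g : A)⁻¹ (E.inv_mem g.2) u hu
      rwa [inv_inv] at this
    rw [hσ_val, hσ_val, hσ_val, hσ_val]
    have e1 : u * (g : A) = (g : A) * ((g : A)⁻¹ * u * (g : A)) := by group
    rw [← rho_mul, e1, rho_mul, hPcomm _ hmem, ← rho_mul, ← rho_mul]
    congr 3
    simp
  have hPM : ∀ m ∈ M, P m ∈ M := fun m hm => proj_mem ρ M hMU hm
  have hσM : ∀ g : ↥E, ∀ m ∈ M, σ g m ∈ M := fun g m hm => hME _ g.2 _ hm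
  have hQM : ∀ m ∈ M, Q m ∈ M := by
    intro m hm
    rw [hQdef, Qop_apply]
    exact Submodule.sum_mem _ (fun g _ => hσM _ _ (hPM _ (hσM _ _ hm)))
  have hsplit1 := finrank_split Q hQidem M hQM
  have hfixeq : fixedSub σ ⊤ = fixedSub ρ E := by
    ext w
    constructor
    · intro h b hb
      exact h ⟨b, hb⟩ (Subgroup.mem_top _)
    · intro h b _
      exact h _ b.2
  have hQM' : ∀ m ∈ M ⊓ fixedSub ρ E, Q m ∈ M ⊓ fixedSub ρ E := by
    rintro m ⟨hm1, hm2⟩
    refine ⟨hQM m hm1, ?_⟩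
    intro x hx
    have := Q_comm σ P ⟨x, hx⟩ m
    rw [hσ_val, hσ_val] at this
    rw [hQdef, this]
    congr 1
    exact hm2 x hx
  have hsplit2 := finrank_split Q hQidem (M ⊓ fixedSub ρ E) hQM'
  have hL1 := finrank_fixOf_Q σ P hPP hPσP M hPM hσM
  have hL2 := finrank_fixed_fixOf_Q σ P hPP hPσP M hPM hσM
  rw [hfixeq] at hL2
  have hQm₀ : Q (m₀ : W) = (m₀ : W) := by
    rw [hQdef, Qop_apply, Finset.sum_eq_single 1]
    · simp only [inv_one, map_one]
      exact hPm₀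
    · intro g _ hg
      have hg' : g⁻¹ ≠ 1 := by simpa using hg
      rw [← hPm₀, hPσP g⁻¹ hg', map_zero]
    · intro h
      exact absurd (Finset.mem_univ _) h
  have hpos : 0 < finrank K ↥(M ⊓ fixOf Q) := by
    rw [Module.finrank_pos_iff_exists_ne_zero]
    refine ⟨⟨(m₀ : W), m₀.2, hQm₀⟩, ?_⟩
    intro h
    exact hm₀' (congrArg Subtype.val h)
  have hlt : finrank K ↥(M ⊓ LinearMap.ker Q) < d := by omega
  have hIH := ih _ hlt (M ⊓ LinearMap.ker Q) rfl
    (by
      rintro u hu m ⟨hm1, hm2⟩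
      refine ⟨hMU u hu m hm1, ?_⟩
      show Q (ρ u m) = 0
      rw [← hQU u hu, show Q m = 0 from hm2, map_zero])
    (by
      rintro x hx m ⟨hm1, hm2⟩
      refine ⟨hME x hx m hm1, ?_⟩
      show Q (ρ x m) = 0
      have := Q_comm σ P ⟨x, hx⟩ m
      rw [hσ_val, hσ_val] at this
      rw [hQdef, ← this]
      have hm2' : Qop σ P m = 0 := hm2
      rw [hm2', map_zero])
    (fun m hm => hfix m hm.1)
  have hre : M ⊓ fixedSub ρ E ⊓ LinearMap.ker Q = M ⊓ LinearMap.ker Q ⊓ fixedSub ρ E :=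
    inf_right_comm _ _ _
  rw [hre] at hsplit2
  rw [hsplit2, hsplit1, hL1, hIH, hL2, Nat.card_eq_fintype_card]
  ring

end Level1

end Cfsg.Agent.Lib.Helper1.FrobMod
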