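import Mathlib
import Cfsg.Agent.Lib.Helper1.FrobModA

/-!
# Frobenius group modules, part B (helper1)

* `finrank_eq_card_mul_finrank_fixed_of_commute'` (Level 2): arbitrary field `F` (orders of `U`,
  `E` invertible), commutative image of `U`: pass to `Hom_F(V, K)`, `K` the algebraic closure.
* `finrank_eq_card_mul_finrank_fixed` (Level 3): `U` solvable normal, induction via `⁅U,U⁆`.
* `finrank_formula` (Level 5): `dim V + e dim Fix(UE) = e dim Fix(E) + dim Fix(U)`.
-/

set_option autoImplicit false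

namespace Cfsg.Agent.Lib.Helper1.FrobMod

open Module

section Dual

variable {F V A : Type*} [Field F] [AddCommGroup V] [Module F V] [Group A]
  (K : Type*) [Field K] [Algebra F K]

/-- The contragredient action on `K`-valued `F`-linear forms. -/
def dualRep (ρ : A →* Module.End F V) : A →* Module.End K (V →ₗ[F] K) where
  toFun a :=
    { toFun := fun f => f.comp (ρ a⁻¹)
      map_add' := fun f g => LinearMap.add_comp _ _ _
      map_smul' := fun c f => LinearMap.smul_comp _ _ _ }
  map_one' := by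
    apply LinearMap.ext; intro f
    apply LinearMap.ext; intro v
    show f (ρ (1 : A)⁻¹ v) = f v
    rw [inv_one, rho_one]
  map_mul' := by
    intro a b
    apply LinearMap.ext; intro f
    apply LinearMap.ext; intro v
    show f (ρ (a * b)⁻¹ v) = f (ρ b⁻¹ (ρ a⁻¹ v))
    rw [mul_inv_rev, rho_mul]

theorem dualRep_apply (ρ : A →* Module.End F V) (a : A) (f : V →ₗ[F] K) (v : V) :
    dualRep K ρ a f v = f (ρ a⁻¹ v) := rfl

end Dual

theorem exists_commutator_eq {A : Type*} [Group A] (U E : Subgroup A) [Finite U]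
    (hnorm : ∀ x ∈ E, ∀ u ∈ U, x * u * x⁻¹ ∈ U)
    (hfpf : ∀ x ∈ E, x ≠ 1 → ∀ u ∈ U, x * u = u * x → u = 1) :
    ∀ x ∈ E, x ≠ 1 → ∀ u ∈ U, ∃ u' ∈ U, u = x * u' * x⁻¹ * u'⁻¹ := by
  intro x hx hx1 u hu
  let f : ↥U → ↥U := fun a => ⟨x * a * x⁻¹ * (a : A)⁻¹, U.mul_mem (hnorm x hx a a.2) (U.inv_mem a.2)⟩
  have hinj : Function.Injective f := by
    intro a b hab
    have h1 : x * a * x⁻¹ * (a : A)⁻¹ = x * b * x⁻¹ * (b : A)⁻¹ := congrArg Subtype.val hab
    have h2 : x * ((b : A)⁻¹ * a) = ((b : A)⁻¹ * a) * x := by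
      have h3 : (a : A) * x⁻¹ * (a : A)⁻¹ = b * x⁻¹ * (b : A)⁻¹ := by
        have := congrArg (fun t => x⁻¹ * t) h1
        simpa [mul_assoc] using this
      have h4 : ((b : A)⁻¹ * a) * x⁻¹ = x⁻¹ * ((b : A)⁻¹ * a) := by
        calc ((b : A)⁻¹ * a) * x⁻¹ = (b : A)⁻¹ * ((a : A) * x⁻¹ * (a : A)⁻¹) * a := by group
          _ = (b : A)⁻¹ * (b * x⁻¹ * (b : A)⁻¹) * a := by rw [h3]
          _ = x⁻¹ * ((b : A)⁻¹ * a) := by group
      calc x * ((b : A)⁻¹ * a) = x * (((b : A)⁻¹ * a) * x⁻¹) * x := by group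
        _ = x * (x⁻¹ * ((b : A)⁻¹ * a)) * x := by rw [h4]
        _ = ((b : A)⁻¹ * a) * x := by group
    have h5 := hfpf x hx hx1 _ (U.mul_mem (U.inv_mem b.2) a.2) h2
    apply Subtype.ext
    have : (a : A) = b * ((b : A)⁻¹ * a) := by group
    rw [this, h5, mul_one]
  obtain ⟨a, ha⟩ := (Finite.injective_iff_surjective.mp hinj) ⟨u, hu⟩
  exact ⟨a, a.2, (congrArg Subtype.val ha).symm⟩

section Level2

variable {F V A : Type*} [Field F] [AddCommGroup V] [Module F V] [FiniteDimensional F V] [Group A]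
  (ρ : A →* Module.End F V) (U E : Subgroup A) [Finite U] [Finite E]

/-- **Level 2**: arbitrary field, commutative image of `U`. -/
theorem finrank_eq_card_mul_finrank_fixed_of_commute'
    (hnorm : ∀ x ∈ E, ∀ u ∈ U, x * u * x⁻¹ ∈ U)
    (hcomm : ∀ u ∈ U, ∀ u' ∈ U, ∀ v, ρ u (ρ u' v) = ρ u' (ρ u v))
    (hU : (Nat.card U : F) ≠ 0) (hE : (Nat.card E : F) ≠ 0)
    (hfree : ∀ x ∈ E, x ≠ 1 → ∀ u ∈ U, ∃ u' ∈ U, u = x * u' * x⁻¹ * u'⁻¹)
    (hfix : ∀ v, (∀ u ∈ U, ρ u v = v) → v = 0) :
    finrank F V = Nat.card E * finrank F ↥(fixedSub ρ E) := by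
  classical
  letI : Fintype U := Fintype.ofFinite U
  letI : Fintype E := Fintype.ofFinite E
  let K := AlgebraicClosure F
  have hinj : Function.Injective (algebraMap F K) := (algebraMap F K).injective
  have hUK : (Nat.card U : K) ≠ 0 := by
    rw [← map_natCast (algebraMap F K)]
    exact (map_ne_zero_iff _ hinj).mpr hU
  have hEK : (Nat.card E : K) ≠ 0 := by
    rw [← map_natCast (algebraMap F K)]
    exact (map_ne_zero_iff _ hinj).mpr hE
  set ρ' := dualRep K ρ with hρ'
  have hcomm' : ∀ u ∈ U, ∀ u' ∈ U, ∀ w, ρ' u (ρ' u' w) = ρ' u' (ρ' u w) := by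
    intro u hu u' hu' w
    apply LinearMap.ext; intro v
    rw [hρ', dualRep_apply, dualRep_apply, dualRep_apply, dualRep_apply]
    rw [hcomm _ (U.inv_mem hu') _ (U.inv_mem hu)]
  have hfix' : ∀ m ∈ (⊤ : Submodule K (V →ₗ[F] K)), (∀ u ∈ U, ρ' u m = m) → m = 0 := by
    intro f _ hf
    apply LinearMap.ext; intro v
    have hs : (∑ u : U, ρ (u : A) v) = 0 := by
      apply hfix
      intro u hu
      rw [map_sum]
      apply Fintype.sum_equiv (Equiv.mulLeft (⟨u, hu⟩ : U))
      intro a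
      rw [← rho_mul]
      rfl
    have h1 : f (∑ u : U, ρ (u : A) v) = (Nat.card U : K) * f v := by
      rw [map_sum]
      have : ∀ u : U, f (ρ (u : A) v) = f v := by
        intro u
        have := congrArg (fun g : V →ₗ[F] K => g v) (hf (u : A)⁻¹ (U.inv_mem u.2))
        simp only [hρ', dualRep_apply, inv_inv] at this
        exact this
      simp_rw [this]
      rw [Finset.sum_const, Finset.card_univ, nsmul_eq_mul, Nat.card_eq_fintype_card]
    rw [hs, map_zero] at h1
    rcases mul_eq_zero.mp h1.symm with h | h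
    · exact absurd h hUK
    · simpa using h
  have hmain := finrank_eq_card_mul_finrank_fixed_of_commute ρ' U E hnorm hcomm' hUK hfree
    _ ⊤ rfl (fun _ _ _ _ => Submodule.mem_top) (fun _ _ _ _ => Submodule.mem_top) hfix'
  rw [finrank_top, top_inf_eq, Module.finrank_linearMap_self] at hmain
  rw [hmain]
  congr 1
  -- the fixed points of `E` on `Hom(V,K)` are `Hom(Fix_V(E), K)`
  set C := fixedSub ρ E with hC
  let Φ : ↥(fixedSub ρ' E) →ₗ[K] (↥C →ₗ[F] K) :=
    { toFun := fun f => (f : V →ₗ[F] K).comp C.subtype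
      map_add' := fun f g => LinearMap.add_comp _ _ _
      map_smul' := fun c f => LinearMap.smul_comp _ _ _ }
  have hΦ : ∀ (f : ↥(fixedSub ρ' E)) (c : ↥C), Φ f c = (f : V →ₗ[F] K) (c : V) := fun f c => rfl
  have hsum_mem : ∀ v : V, (∑ x : E, ρ (x : A) v) ∈ C := by
    intro v y hy
    rw [map_sum]
    apply Fintype.sum_equiv (Equiv.mulLeft (⟨y, hy⟩ : E))
    intro a
    rw [← rho_mul]
    rfl
  have hfE : ∀ (f : ↥(fixedSub ρ' E)) (x : E) (v : V),
      (f : V →ₗ[F] K) (ρ (x : A) v) = (f : V →ₗ[F] K) v := by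
    intro f x v
    have := congrArg (fun g : V →ₗ[F] K => g v) (f.2 (x : A)⁻¹ (E.inv_mem x.2))
    simp only [hρ', dualRep_apply, inv_inv] at this
    exact this
  have hΦinj : Function.Injective Φ := by
    rw [injective_iff_map_eq_zero]
    intro f hf
    apply Subtype.ext
    apply LinearMap.ext; intro v
    have h1 : (f : V →ₗ[F] K) (∑ x : E, ρ (x : A) v) = (Nat.card E : K) * (f : V →ₗ[F] K) v := by
      rw [map_sum]
      simp_rw [hfE f]
      rw [Finset.sum_const, Finset.card_univ, nsmul_eq_mul, Nat.card_eq_fintype_card]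
    have h2 : (f : V →ₗ[F] K) (∑ x : E, ρ (x : A) v) = 0 := by
      have := congrArg (fun g : ↥C →ₗ[F] K => g ⟨_, hsum_mem v⟩) hf
      simpa [hΦ] using this
    rw [h2] at h1
    rcases mul_eq_zero.mp h1.symm with h | h
    · exact absurd h hEK
    · simpa using h
  have hΦsurj : Function.Surjective Φ := by
    intro g
    let π : V →ₗ[F] ↥C :=
      { toFun := fun v => ⟨∑ x : E, ρ (x : A) v, hsum_mem v⟩
        map_add' := by
          intro a b
          apply Subtype.ext
          simp [Finset.sum_add_distrib]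
        map_smul' := by
          intro c a
          apply Subtype.ext
          simp [Finset.smul_sum] }
    have hπ : ∀ v, ((π v : ↥C) : V) = ∑ x : E, ρ (x : A) v := fun v => rfl
    let f0 : V →ₗ[F] K := ((Nat.card E : K))⁻¹ • g.comp π
    have hf0 : ∀ v, f0 v = ((Nat.card E : K))⁻¹ * g (π v) := fun v => rfl
    have hπρ : ∀ (y : A), y ∈ E → ∀ v, π (ρ y v) = π v := by
      intro y hy v
      apply Subtype.ext
      rw [hπ, hπ]
      apply Fintype.sum_equiv (Equiv.mulRight (⟨y, hy⟩ : E))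
      intro a
      rw [← rho_mul]
      rfl
    have hf0mem : f0 ∈ fixedSub ρ' E := by
      intro y hy
      apply LinearMap.ext; intro v
      rw [hρ', dualRep_apply, hf0, hf0, hπρ _ (E.inv_mem hy)]
    refine ⟨⟨f0, hf0mem⟩, ?_⟩
    apply LinearMap.ext; intro c
    rw [hΦ]
    show f0 (c : V) = g c
    rw [hf0]
    have hπc : π (c : V) = (Nat.card E : F) • c := by
      apply Subtype.ext
      rw [hπ]
      have : ∀ x : E, ρ (x : A) (c : V) = (c : V) := fun x => c.2 _ x.2
      simp_rw [this]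
      rw [Finset.sum_const, Finset.card_univ, Nat.card_eq_fintype_card]
      simp [Nat.cast_smul_eq_nsmul]
    rw [hπc, map_smul, Algebra.smul_def, map_natCast, ← mul_assoc, inv_mul_cancel₀ hEK, one_mul]
  have e : ↥(fixedSub ρ' E) ≃ₗ[K] (↥C →ₗ[F] K) := LinearEquiv.ofBijective Φ ⟨hΦinj, hΦsurj⟩
  rw [e.finrank_eq, Module.finrank_linearMap_self]

end Level2

theorem card_lt_of_lt {G : Type*} [Group G] {H K : Subgroup G} [Finite K] (h : H < K) :
    Nat.card H < Nat.card K := by
  have h1 := Subgroup.card_le_of_le h.le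
  rcases h1.lt_or_eq with h2 | h2
  · exact h2
  · exact absurd (Subgroup.eq_of_le_of_card_ge h.le h2.ge) h.ne

section Level3

variable {F V A : Type*} [Field F] [AddCommGroup V] [Module F V] [Group A]
  (ρ : A →* Module.End F V)

/-- restriction of a representation to an invariant submodule -/
def subRep (M : Submodule F V) (hM : ∀ a, ∀ m ∈ M, ρ a m ∈ M) : A →* Module.End F ↥M where
  toFun a := (ρ a).restrict (hM a)
  map_one' := by
    apply LinearMap.ext; intro m; apply Subtype.ext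
    show ρ 1 (m : V) = m
    rw [rho_one]
  map_mul' := by
    intro a b
    apply LinearMap.ext; intro m; apply Subtype.ext
    show ρ (a * b) (m : V) = ρ a (ρ b m)
    rw [rho_mul]

theorem subRep_apply (M : Submodule F V) (hM : ∀ a, ∀ m ∈ M, ρ a m ∈ M) (a : A) (m : ↥M) :
    ((subRep ρ M hM a m : ↥M) : V) = ρ a (m : V) := rfl

theorem fixedSub_subRep_map (M : Submodule F V) (hM : ∀ a, ∀ m ∈ M, ρ a m ∈ M) (B : Subgroup A) :
    (fixedSub (subRep ρ M hM) B).map M.subtype = M ⊓ fixedSub ρ B := by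
  ext w
  constructor
  · rintro ⟨m, hm, rfl⟩
    refine ⟨m.2, fun b hb => ?_⟩
    have := congrArg Subtype.val (hm b hb)
    exact this
  · rintro ⟨hwM, hw⟩
    exact ⟨⟨w, hwM⟩, fun b hb => Subtype.ext (hw b hb), rfl⟩

theorem isMult_one (U : Subgroup A) : IsMult U (fun _ : A => (1 : F)) :=
  ⟨rfl, fun _ _ _ _ => (one_mul 1).symm⟩

theorem proj_one_comm (U : Subgroup A) [U.Normal] [Fintype U] (a : A) (w : V) :
    ρ a (proj ρ U (fun _ => (1 : F)) w) = proj ρ U (fun _ => (1 : F)) (ρ a w) := by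
  rw [proj_apply, proj_apply, map_smul]
  congr 1
  rw [map_sum]
  apply Fintype.sum_equiv (MulAut.conjNormal a : ↥U ≃* ↥U).toEquiv
  intro u
  show ρ a ((1 : F) • ρ (u : A) w) = (1 : F) • ρ ((MulAut.conjNormal a u : ↥U) : A) (ρ a w)
  rw [one_smul, one_smul, MulAut.conjNormal_apply, ← rho_mul, ← rho_mul]
  congr 2
  group

theorem fixOf_proj_one (U : Subgroup A) [Fintype U] (hU : (Fintype.card U : F) ≠ 0) :
    fixOf (proj ρ U (fun _ => (1 : F))) = fixedSub ρ U := by
  ext w
  constructor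
  · intro hw u hu
    have hw' : proj ρ U (fun _ => (1 : F)) w = w := hw
    rw [← hw', proj_left ρ (isMult_one U) hu, one_smul]
  · intro hw
    exact proj_fixed ρ (isMult_one U) hU w (fun u hu => by rw [hw u hu, one_smul])

variable [FiniteDimensional F V]

/-- **Level 3**: `U` normal solvable, `E` acting fixed-point-freely on `U`, orders invertible in `F`,
`M` an invariant subspace without `U`-fixed points: `dim M = |E| dim (M ∩ Fix E)`. -/
theorem finrank_eq_card_mul_finrank_fixed [Finite A] (E : Subgroup A)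
    (hE : (Nat.card E : F) ≠ 0) :
    ∀ (n : ℕ) (U : Subgroup A) (M : Submodule F V), U.Normal → Nat.card U + finrank F M = n →
      Group.IsSolvable U → (Nat.card U : F) ≠ 0 →
      (∀ x ∈ E, x ≠ 1 → ∀ u ∈ U, x * u = u * x → u = 1) →
      (∀ a, ∀ m ∈ M, ρ a m ∈ M) → (∀ m ∈ M, (∀ u ∈ U, ρ u m = m) → m = 0) →
      finrank F M = Nat.card E * finrank F ↥(M ⊓ fixedSub ρ E) := by
  intro n
  induction n using Nat.strong_induction_on with
  | _ n ih =>
  intro U M hUn hn hsolv hU hfpf hM hfix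
  haveI := hUn
  haveI : Group.IsSolvable ↥U := hsolv
  have hnorm : ∀ x ∈ E, ∀ u ∈ U, x * u * x⁻¹ ∈ U := fun x _ u hu => hUn.conj_mem u hu x
  by_cases hc : ∀ u ∈ U, ∀ u' ∈ U, ∀ m ∈ M, ρ u (ρ u' m) = ρ u' (ρ u m)
  · have h2 := finrank_eq_card_mul_finrank_fixed_of_commute' (subRep ρ M hM) U E hnorm
      (fun u hu u' hu' m => Subtype.ext (hc u hu u' hu' m m.2)) hU hE
      (exists_commutator_eq U E hnorm hfpf)
      (fun m hm => Subtype.ext (hfix m m.2 (fun u hu => congrArg Subtype.val (hm u hu))))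
    rw [h2, ← fixedSub_subRep_map ρ M hM E, Submodule.finrank_map_subtype_eq]
  · classical
    set U₁ : Subgroup A := ⁅U, U⁆ with hU₁def
    letI : Fintype ↥U₁ := Fintype.ofFinite _
    have hU₁U : U₁ ≤ U := Subgroup.commutator_le_left U U
    have hUbot : U ≠ ⊥ := by
      rintro rfl
      apply hc
      intro u hu u' hu' m _
      rw [Subgroup.mem_bot] at hu hu'
      subst hu hu'
      rfl
    have hlt : U₁ < U := by
      refine lt_of_le_of_ne hU₁U ?_
      intro heq
      haveI : Nontrivial ↥U := (Subgroup.nontrivial_iff_ne_bot U).mpr hUbot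
      have h1 : commutator ↥U < ⊤ := Group.IsSolvable.commutator_lt_top_of_nontrivial ↥U
      apply h1.ne
      apply Subgroup.map_injective U.subtype_injective
      rw [Subgroup.map_subtype_commutator, ← hU₁def, heq, ← MonoidHom.range_eq_map,
        Subgroup.range_subtype]
    have hcardlt : Nat.card U₁ < Nat.card U := card_lt_of_lt hlt
    have hU₁ : (Nat.card U₁ : F) ≠ 0 := by
      obtain ⟨k, hk⟩ := Subgroup.card_dvd_of_le hU₁U
      intro h
      apply hU
      rw [hk, Nat.cast_mul, h, zero_mul]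
    have hU₁' : (Fintype.card U₁ : F) ≠ 0 := by rwa [← Nat.card_eq_fintype_card]
    set π := proj ρ U₁ (fun _ => (1 : F)) with hπdef
    have hπidem : ∀ w, π (π w) = π w := proj_idem ρ (isMult_one U₁) hU₁'
    have hπcomm : ∀ a w, ρ a (π w) = π (ρ a w) := proj_one_comm ρ U₁
    have hπfix : fixOf π = fixedSub ρ U₁ := fixOf_proj_one ρ U₁ hU₁'
    have hπM : ∀ m ∈ M, π m ∈ M := fun m hm => proj_mem ρ M (fun u _ m hm => hM u m hm) hm
    have hs1 := finrank_split π hπidem M hπM
    have hπM' : ∀ m ∈ M ⊓ fixedSub ρ E, π m ∈ M ⊓ fixedSub ρ E := by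
      rintro m ⟨h1, h2⟩
      refine ⟨hπM m h1, fun x hx => ?_⟩
      rw [hπcomm, h2 x hx]
    have hs2 := finrank_split π hπidem (M ⊓ fixedSub ρ E) hπM'
    have hM₂pos : 0 < finrank F ↥(M ⊓ LinearMap.ker π) := by
      by_contra h0
      have hbot : M ⊓ LinearMap.ker π = ⊥ := by
        have : finrank F ↥(M ⊓ LinearMap.ker π) = 0 := by omega
        exact Submodule.finrank_eq_zero.mp this
      apply hc
      have htriv : ∀ u ∈ U₁, ∀ m ∈ M, ρ u m = m := by
        intro u hu m hm
        have hmem : m - π m ∈ M ⊓ LinearMap.ker π := by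
          refine ⟨M.sub_mem hm (hπM m hm), ?_⟩
          show π (m - π m) = 0
          rw [map_sub, hπidem, sub_self]
        rw [hbot, Submodule.mem_bot, sub_eq_zero] at hmem
        have : m ∈ fixedSub ρ U₁ := by
          rw [← hπfix]
          exact hmem.symm
        exact this u hu
      intro u hu u' hu' m hm
      have hcm : u⁻¹ * u'⁻¹ * u * u' ∈ U₁ := by
        have := Subgroup.commutator_mem_commutator (U.inv_mem hu) (U.inv_mem hu')
        simpa [commutatorElement_def] using this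
      have e1 : u * u' = u' * u * (u⁻¹ * u'⁻¹ * u * u') := by group
      rw [← rho_mul, e1, rho_mul, htriv _ hcm m hm, rho_mul]
    have ih1 := ih (Nat.card U + finrank F ↥(M ⊓ fixOf π)) (by omega) U (M ⊓ fixOf π) hUn rfl
      hsolv hU hfpf
      (fun a m hm => ⟨hM a m hm.1, by
        show π (ρ a m) = ρ a m
        rw [← hπcomm, show π m = m from hm.2]⟩)
      (fun m hm => hfix m hm.1)
    have hsolv₁ : Group.IsSolvable ↥U₁ :=
      Group.isSolvable_of_isSolvable_injective (f := Subgroup.inclusion hU₁U)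
        (Subgroup.inclusion_injective hU₁U)
    have ih2 := ih (Nat.card U₁ + finrank F ↥(M ⊓ LinearMap.ker π)) (by omega) U₁
      (M ⊓ LinearMap.ker π) inferInstance rfl hsolv₁ hU₁
      (fun x hx hx1 u hu => hfpf x hx hx1 u (hU₁U hu))
      (fun a m hm => ⟨hM a m hm.1, by
        show π (ρ a m) = 0
        rw [← hπcomm, show π m = 0 from hm.2, map_zero]⟩)
      (fun m hm hmf => by
        have h1 : π m = m := proj_fixed ρ (isMult_one U₁) hU₁' m
          (fun u hu => by rw [hmf u hu, one_smul])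
        have h2 : π m = 0 := hm.2
        rw [← h1, h2])
    have hre1 : M ⊓ fixedSub ρ E ⊓ fixOf π = M ⊓ fixOf π ⊓ fixedSub ρ E := inf_right_comm _ _ _
    have hre2 : M ⊓ fixedSub ρ E ⊓ LinearMap.ker π = M ⊓ LinearMap.ker π ⊓ fixedSub ρ E :=
      inf_right_comm _ _ _
    rw [hre1, hre2] at hs2
    rw [hs2, hs1, ih1, ih2]
    ring

/-- **Level 5**: the dimension form of the Frobenius fixed point formula. -/
theorem finrank_formula [Finite A] (U E : Subgroup A) [U.Normal] (hsolv : Group.IsSolvable U)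
    (hU : (Nat.card U : F) ≠ 0) (hE : (Nat.card E : F) ≠ 0)
    (hfpf : ∀ x ∈ E, x ≠ 1 → ∀ u ∈ U, x * u = u * x → u = 1) :
    finrank F V + Nat.card E * finrank F ↥(fixedSub ρ U ⊓ fixedSub ρ E) =
      Nat.card E * finrank F ↥(fixedSub ρ E) + finrank F ↥(fixedSub ρ U) := by
  classical
  letI : Fintype ↥U := Fintype.ofFinite _
  have hU' : (Fintype.card U : F) ≠ 0 := by rwa [← Nat.card_eq_fintype_card]
  set π := proj ρ U (fun _ => (1 : F)) with hπdef
  have hπidem : ∀ w, π (π w) = π w := proj_idem ρ (isMult_one U) hU'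
  have hπcomm : ∀ a w, ρ a (π w) = π (ρ a w) := proj_one_comm ρ U
  have hπfix : fixOf π = fixedSub ρ U := fixOf_proj_one ρ U hU'
  have hs1 := finrank_split π hπidem ⊤ (fun _ _ => Submodule.mem_top)
  have hπM' : ∀ m ∈ fixedSub ρ E, π m ∈ fixedSub ρ E := by
    intro m h2 x hx
    rw [hπcomm, h2 x hx]
  have hs2 := finrank_split π hπidem (fixedSub ρ E) hπM'
  have h3 := finrank_eq_card_mul_finrank_fixed ρ E hE _ U (LinearMap.ker π) inferInstance rfl
    hsolv hU hfpf
    (fun a m hm => by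
      show π (ρ a m) = 0
      rw [← hπcomm, show π m = 0 from hm, map_zero])
    (fun m hm hmf => by
      have h1 : π m = m := proj_fixed ρ (isMult_one U) hU' m
        (fun u hu => by rw [hmf u hu, one_smul])
      have h2 : π m = 0 := hm
      rw [← h1, h2])
  rw [finrank_top, top_inf_eq, top_inf_eq, hπfix] at hs1
  rw [hπfix] at hs2
  rw [hs1, hs2, h3, inf_comm (fixedSub ρ U) (fixedSub ρ E),
    inf_comm (LinearMap.ker π) (fixedSub ρ E)]
  ring

end Level3

end Cfsg.Agent.Lib.Helper1.FrobMod
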