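import Mathlib
import Cfsg.Agent.Lib.Helper1.FrobModB

/-!
# Frobenius fixed point formula, elementary abelian case (helper1)

`elemAb_formula`: `U E N ≤ X`, `E` normalising `U` and acting fixed-point-freely on it, `U`
solvable, `N` an elementary abelian `r`-group normalised by `U ⊔ E`, `r ∤ |U ⊔ E|`:
`|C_N(UE)|^|E| * |N| = |C_N(E)|^|E| * |C_N(U)|`.
-/

set_option autoImplicit false

namespace Cfsg.Agent.Lib.Helper1.FrobFixed

open Module
open Cfsg.Agent.Lib.Helper1.FrobMod

theorem fixedSub_sup {K W A : Type*} [Field K] [AddCommGroup W] [Module K W] [Group A]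
    (ρ : A →* Module.End K W) (S T : Subgroup A) :
    fixedSub ρ S ⊓ fixedSub ρ T = fixedSub ρ (S ⊔ T) := by
  ext w
  constructor
  · rintro ⟨h1, h2⟩
    let St : Subgroup A :=
      { carrier := {a | ρ a w = w}
        mul_mem' := by
          intro a b ha hb
          show ρ (a * b) w = w
          rw [rho_mul, show ρ b w = w from hb, show ρ a w = w from ha]
        one_mem' := rho_one ρ w
        inv_mem' := by
          intro a ha
          show ρ a⁻¹ w = w
          have ha' : ρ a w = w := ha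
          rw [← ha', rho_inv_cancel', ha'] }
    have hS : S ≤ St := fun a ha => h1 a ha
    have hT : T ≤ St := fun a ha => h2 a ha
    intro a ha
    exact (sup_le hS hT) ha
  · intro h
    exact ⟨fun a ha => h a (le_sup_left (a := S) ha), fun a ha => h a (le_sup_right (b := T) ha)⟩

section Bridge

variable {X : Type*} [Group X]

/-- conjugation action of `B` on `N` -/
def conjAct (B N : Subgroup X) (hB : ∀ b ∈ B, ∀ n ∈ N, b * n * b⁻¹ ∈ N) : ↥B →* MulAut ↥N where
  toFun b :=
    { toFun := fun n => ⟨b * n * (b : X)⁻¹, hB b b.2 n n.2⟩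
      invFun := fun n => ⟨(b : X)⁻¹ * n * b, by
        have := hB (b : X)⁻¹ (B.inv_mem b.2) n n.2
        simpa using this⟩
      left_inv := fun n => by apply Subtype.ext; simp [mul_assoc]
      right_inv := fun n => by apply Subtype.ext; simp [mul_assoc]
      map_mul' := fun m n => by apply Subtype.ext; simp [mul_assoc] }
  map_one' := by
    apply MulEquiv.ext; intro n; apply Subtype.ext; simp
  map_mul' := by
    intro a b
    apply MulEquiv.ext; intro n; apply Subtype.ext; simp [mul_assoc]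

theorem conjAct_apply (B N : Subgroup X) (hB : ∀ b ∈ B, ∀ n ∈ N, b * n * b⁻¹ ∈ N) (b : ↥B)
    (n : ↥N) : ((conjAct B N hB b n : ↥N) : X) = b * n * (b : X)⁻¹ := rfl

end Bridge

theorem mem_centralizer_sup {X : Type*} [Group X] (U E : Subgroup X) (x : X) :
    x ∈ Subgroup.centralizer ((U ⊔ E : Subgroup X) : Set X) ↔
      x ∈ Subgroup.centralizer (U : Set X) ∧ x ∈ Subgroup.centralizer (E : Set X) := by
  constructor
  · intro h
    exact ⟨Subgroup.centralizer_le (show (U : Set X) ⊆ (U ⊔ E : Subgroup X) from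
        (le_sup_left : U ≤ U ⊔ E)) h,
      Subgroup.centralizer_le (show (E : Set X) ⊆ (U ⊔ E : Subgroup X) from
        (le_sup_right : E ≤ U ⊔ E)) h⟩
  · rintro ⟨h1, h2⟩
    rw [Subgroup.mem_centralizer_iff]
    intro y hy
    have hU : U ≤ Subgroup.centralizer {x} := by
      intro u hu
      rw [Subgroup.mem_centralizer_singleton_iff]
      exact (Subgroup.mem_centralizer_iff.mp h1 u hu)
    have hE : E ≤ Subgroup.centralizer {x} := by
      intro u hu
      rw [Subgroup.mem_centralizer_singleton_iff]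
      exact (Subgroup.mem_centralizer_iff.mp h2 u hu)
    have := (sup_le hU hE) hy
    rw [Subgroup.mem_centralizer_singleton_iff] at this
    exact this

/-- The Frobenius fixed point formula for an elementary abelian `r`-group `N`. -/
theorem elemAb_formula {X : Type*} [Group X] [Finite X] (U E N : Subgroup X) (r : ℕ)
    [Fact r.Prime]
    (hUn : ∀ e ∈ E, ∀ u ∈ U, e * u * e⁻¹ ∈ U)
    (hfpf : ∀ e ∈ E, e ≠ 1 → ∀ u ∈ U, e * u = u * e → u = 1)
    (hNn : ∀ x ∈ U ⊔ E, ∀ h ∈ N, x * h * x⁻¹ ∈ N)
    (hNc : ∀ a ∈ N, ∀ b ∈ N, a * b = b * a) (hNr : ∀ n ∈ N, n ^ r = 1)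
    (hcop : Nat.Coprime r (Nat.card ↥(U ⊔ E)))
    (hUsolv : Group.IsSolvable U) :
    Nat.card ↥(N ⊓ Subgroup.centralizer ((U ⊔ E : Subgroup X) : Set X)) ^ Nat.card E * Nat.card N =
      Nat.card ↥(N ⊓ Subgroup.centralizer (E : Set X)) ^ Nat.card E *
        Nat.card ↥(N ⊓ Subgroup.centralizer (U : Set X)) := by
  classical
  set B : Subgroup X := U ⊔ E with hBdef
  have hUB : U ≤ B := le_sup_left
  have hEB : E ≤ B := le_sup_right
  set U₀ : Subgroup ↥B := U.subgroupOf B with hU₀
  set E₀ : Subgroup ↥B := E.subgroupOf B with hE₀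
  haveI hU₀n : U₀.Normal := by
    rw [hU₀, Subgroup.normal_subgroupOf_iff_le_normalizer hUB]
    apply sup_le
    · exact Subgroup.le_normalizer
    · intro e he
      rw [Subgroup.mem_normalizer_iff]
      intro u
      constructor
      · intro hu
        exact hUn e he u hu
      · intro hu
        have := hUn e⁻¹ (E.inv_mem he) _ hu
        simpa [mul_assoc] using this
  have hcardU : Nat.card U₀ = Nat.card U := Nat.card_congr (Subgroup.subgroupOfEquivOfLe hUB).toEquiv
  have hcardE : Nat.card E₀ = Nat.card E := Nat.card_congr (Subgroup.subgroupOfEquivOfLe hEB).toEquiv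
  have hsolv₀ : Group.IsSolvable ↥U₀ := by
    haveI := hUsolv
    exact Group.isSolvable_of_isSolvable_injective
      (f := (Subgroup.subgroupOfEquivOfLe hUB).toMonoidHom)
      (Subgroup.subgroupOfEquivOfLe hUB).injective
  have hfpf₀ : ∀ x ∈ E₀, x ≠ 1 → ∀ u ∈ U₀, x * u = u * x → u = 1 := by
    intro x hx hx1 u hu hxu
    apply Subtype.ext
    apply hfpf (x : X) (Subgroup.mem_subgroupOf.mp hx) _ (u : X) (Subgroup.mem_subgroupOf.mp hu)
    · exact congrArg Subtype.val hxu
    · intro h
      exact hx1 (Subtype.ext h)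
  have hrU : ¬ r ∣ Nat.card U := by
    intro h
    have h1 : r ∣ Nat.card ↥B := h.trans (Subgroup.card_dvd_of_le hUB)
    have := Nat.Coprime.eq_one_of_dvd hcop h1
    exact (Fact.out : r.Prime).one_lt.ne' this
  have hrE : ¬ r ∣ Nat.card E := by
    intro h
    have h1 : r ∣ Nat.card ↥B := h.trans (Subgroup.card_dvd_of_le hEB)
    have := Nat.Coprime.eq_one_of_dvd hcop h1
    exact (Fact.out : r.Prime).one_lt.ne' this
  have hU₀F : (Nat.card U₀ : ZMod r) ≠ 0 := by
    rw [hcardU, Ne, ZMod.natCast_eq_zero_iff]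
    exact hrU
  have hE₀F : (Nat.card E₀ : ZMod r) ≠ 0 := by
    rw [hcardE, Ne, ZMod.natCast_eq_zero_iff]
    exact hrE
  letI instC : CommGroup ↥N :=
    { (inferInstance : Group ↥N) with mul_comm := fun a b => Subtype.ext (hNc a a.2 b b.2) }
  obtain ⟨instM⟩ : Nonempty (Module (ZMod r) (Additive ↥N)) :=
    ⟨AddCommGroup.zmodModule (n := r) (by
      intro x
      have h := hNr ((Additive.toMul x : ↥N) : X) (Additive.toMul x : ↥N).2
      have h' : (Additive.toMul x : ↥N) ^ r = 1 := Subtype.ext h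
      change Additive.ofMul ((Additive.toMul x : ↥N) ^ r) = 0
      rw [h']
      rfl)⟩
  haveI : Finite (Additive ↥N) := inferInstanceAs (Finite ↥N)
  haveI : Module.Finite (ZMod r) (Additive ↥N) := Module.Finite.of_finite
  let c := conjAct B N hNn
  let Fρ : ↥B → Module.End (ZMod r) (Additive ↥N) := fun b =>
    ((c b).toMonoidHom.toAdditive).toZModLinearMap r
  have hF : ∀ (b : ↥B) (v : Additive ↥N), Fρ b v = Additive.ofMul (c b (Additive.toMul v)) :=
    fun _ _ => rfl
  have hF1 : Fρ 1 = 1 := by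
    apply LinearMap.ext
    intro a
    rw [hF, map_one]
    rfl
  have hF2 : ∀ x y, Fρ (x * y) = Fρ x * Fρ y := by
    intro x y
    apply LinearMap.ext
    intro a
    rw [Module.End.mul_apply, hF, hF, hF, map_mul]
    rfl
  let ρ : ↥B →* Module.End (ZMod r) (Additive ↥N) :=
    { toFun := Fρ, map_one' := hF1, map_mul' := hF2 }
  have hρ : ∀ (b : ↥B) (v : Additive ↥N), ρ b v = Additive.ofMul (c b (Additive.toMul v)) :=
    fun _ _ => rfl
  have hmain := finrank_formula ρ U₀ E₀ hsolv₀ hU₀F hE₀F hfpf₀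
  -- cardinalities of fixed points
  have hfixcard : ∀ S : Subgroup X, S ≤ B →
      Nat.card ↥(fixedSub ρ (S.subgroupOf B)) = Nat.card ↥(N ⊓ Subgroup.centralizer (S : Set X)) := by
    intro S hSB
    apply Nat.card_congr
    refine
      { toFun := fun v => ⟨((Additive.toMul (v : Additive ↥N) : ↥N) : X),
          (Additive.toMul (v : Additive ↥N) : ↥N).2, ?_⟩
        invFun := fun x => ⟨Additive.ofMul (⟨(x : X), x.2.1⟩ : ↥N), ?_⟩
        left_inv := fun v => rfl
        right_inv := fun x => rfl }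
    · refine Subgroup.mem_centralizer_iff.mpr ?_
      intro s hs
      have h1 := v.2 ⟨s, hSB hs⟩ (Subgroup.mem_subgroupOf.mpr hs)
      rw [hρ] at h1
      have h2 : (c ⟨s, hSB hs⟩ (Additive.toMul (v : Additive ↥N)) : ↥N) =
          Additive.toMul (v : Additive ↥N) := congrArg Additive.toMul h1
      have h3 := congrArg Subtype.val h2
      rw [conjAct_apply] at h3
      have h4 : s * ((Additive.toMul (v : Additive ↥N) : ↥N) : X) * s⁻¹ =
          ((Additive.toMul (v : Additive ↥N) : ↥N) : X) := h3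
      calc s * ((Additive.toMul (v : Additive ↥N) : ↥N) : X)
          = (s * ((Additive.toMul (v : Additive ↥N) : ↥N) : X) * s⁻¹) * s := by group
        _ = ((Additive.toMul (v : Additive ↥N) : ↥N) : X) * s := by rw [h4]
    · intro b hb
      rw [hρ]
      apply congrArg Additive.ofMul
      apply Subtype.ext
      rw [conjAct_apply]
      have hbS : (b : X) ∈ S := Subgroup.mem_subgroupOf.mp hb
      have h1 := Subgroup.mem_centralizer_iff.mp x.2.2 (b : X) hbS
      show (b : X) * (x : X) * (b : X)⁻¹ = (x : X)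
      rw [h1]
      group
  have hcN : Nat.card ↥N = r ^ finrank (ZMod r) (Additive ↥N) := by
    have h1 := Module.natCard_eq_pow_finrank (K := ZMod r) (V := Additive ↥N)
    rw [Nat.card_zmod] at h1
    rw [← h1]
    rfl
  have hcS : ∀ S : Subgroup X, S ≤ B → Nat.card ↥(N ⊓ Subgroup.centralizer (S : Set X)) =
      r ^ finrank (ZMod r) ↥(fixedSub ρ (S.subgroupOf B)) := by
    intro S hSB
    rw [← hfixcard S hSB]
    have h1 := Module.natCard_eq_pow_finrank (K := ZMod r) (V := ↥(fixedSub ρ (S.subgroupOf B)))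
    rw [Nat.card_zmod] at h1
    exact h1
  have hsupfix : fixedSub ρ U₀ ⊓ fixedSub ρ E₀ = fixedSub ρ ((U ⊔ E).subgroupOf B) := by
    rw [fixedSub_sup, hU₀, hE₀, ← Subgroup.subgroupOf_sup hUB hEB]
  rw [hsupfix] at hmain
  rw [hcN, hcS U hUB, hcS E hEB, hcS (U ⊔ E) le_rfl, ← hcardE]
  rw [← pow_mul, ← pow_mul, ← pow_add, ← pow_add]
  congr 1
  rw [← hU₀, ← hE₀]
  linarith

end Cfsg.Agent.Lib.Helper1.FrobFixed
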