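import Mathlib
import Cfsg.Agent.S0022

/-!
# Coprime action and quotients `N_X(N)/N` (helper1)

Transport of subgroups to `N_X(N)/N`, cardinalities, and the coprime fixed-point lemma
in cardinality form (`img_inf_centralizer`, via `S0022`).
-/

set_option autoImplicit false

namespace Cfsg.Agent.Lib.Helper1.FrobFixed

section Quot

variable {X : Type*} [Group X] (N : Subgroup X)

/-- The quotient `N_X(N)/N`. -/
abbrev QG : Type _ := ↥(Subgroup.normalizer (N : Set X)) ⧸ N.subgroupOf (Subgroup.normalizer (N : Set X))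

/-- the quotient map -/
def qmap : ↥(Subgroup.normalizer (N : Set X)) →* QG N := QuotientGroup.mk' _

/-- image of a subgroup in the quotient -/
def img (S : Subgroup X) : Subgroup (QG N) :=
  (S.subgroupOf (Subgroup.normalizer (N : Set X))).map (qmap N)

variable {N}

theorem mem_img {S : Subgroup X} {y : QG N} :
    y ∈ img N S ↔ ∃ s, ∃ (_ : s ∈ S) (hy : s ∈ Subgroup.normalizer (N : Set X)),
      qmap N ⟨s, hy⟩ = y := by
  constructor
  · rintro ⟨s, hs, rfl⟩
    exact ⟨s.1, Subgroup.mem_subgroupOf.mp hs, s.2, rfl⟩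
  · rintro ⟨s, hs, hy, rfl⟩
    exact ⟨⟨s, hy⟩, Subgroup.mem_subgroupOf.mpr hs, rfl⟩

theorem qmap_eq_one_iff {y : ↥(Subgroup.normalizer (N : Set X))} :
    qmap N y = 1 ↔ (y : X) ∈ N := by
  rw [qmap, QuotientGroup.mk'_apply, QuotientGroup.eq_one_iff]
  exact Subgroup.mem_subgroupOf

theorem qmap_eq_iff {a b : ↥(Subgroup.normalizer (N : Set X))} :
    qmap N a = qmap N b ↔ (a : X)⁻¹ * (b : X) ∈ N := by
  rw [qmap, QuotientGroup.mk'_apply, QuotientGroup.mk'_apply, QuotientGroup.eq]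
  exact Subgroup.mem_subgroupOf

theorem img_mono {S T : Subgroup X} (h : S ≤ T) : img N S ≤ img N T := by
  intro y hy
  obtain ⟨s, hs, hsn, rfl⟩ := mem_img.mp hy
  exact mem_img.mpr ⟨s, h hs, hsn, rfl⟩

theorem img_sup {S T : Subgroup X} (hS : S ≤ Subgroup.normalizer (N : Set X))
    (hT : T ≤ Subgroup.normalizer (N : Set X)) : img N (S ⊔ T) = img N S ⊔ img N T := by
  rw [img, img, img, Subgroup.subgroupOf_sup hS hT, Subgroup.map_sup]

/-- the restriction of the quotient map to a subgroup `T ≤ N_X(N)` -/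
def qres (T : Subgroup X) (hT : T ≤ Subgroup.normalizer (N : Set X)) : ↥T →* QG N :=
  (qmap N).comp (Subgroup.inclusion hT)

theorem qres_apply (T : Subgroup X) (hT : T ≤ Subgroup.normalizer (N : Set X)) (t : ↥T) :
    qres T hT t = qmap N ⟨t, hT t.2⟩ := rfl

theorem range_qres (T : Subgroup X) (hT : T ≤ Subgroup.normalizer (N : Set X)) :
    (qres T hT).range = img N T := by
  ext y
  constructor
  · rintro ⟨t, rfl⟩
    exact mem_img.mpr ⟨t, t.2, hT t.2, rfl⟩
  · intro hy
    obtain ⟨s, hs, hsn, rfl⟩ := mem_img.mp hy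
    exact ⟨⟨s, hs⟩, rfl⟩

theorem card_img_mul [Finite X] (T : Subgroup X) (hT : T ≤ Subgroup.normalizer (N : Set X)) :
    Nat.card (img N T) * Nat.card ↥(T ⊓ N) = Nat.card T := by
  have h1 := Subgroup.card_mul_index (qres T hT).ker
  rw [Subgroup.index_ker, range_qres] at h1
  rw [← h1, mul_comm]
  congr 1
  apply Nat.card_congr
  refine
    { toFun := fun x => ⟨⟨(x : X), x.2.1⟩, ?_⟩
      invFun := fun k => ⟨((k : ↥T) : X), (k : ↥T).2, ?_⟩
      left_inv := fun x => rfl
      right_inv := fun k => rfl }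
  · rw [MonoidHom.mem_ker, qres_apply, qmap_eq_one_iff]
    exact x.2.2
  · have := k.2
    rw [MonoidHom.mem_ker, qres_apply, qmap_eq_one_iff] at this
    exact this

theorem card_img_of_disjoint [Finite X] (T : Subgroup X)
    (hT : T ≤ Subgroup.normalizer (N : Set X)) (hTN : T ⊓ N = ⊥) :
    Nat.card (img N T) = Nat.card T := by
  have := card_img_mul T hT
  rw [hTN, Subgroup.card_bot, mul_one] at this
  exact this

/-- Coprime action: fixed points in the quotient come from fixed points (`S0022`). -/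
theorem img_inf_centralizer [Finite X] (S H : Subgroup X)
    (hN : N ≤ H) (hHN : H ≤ Subgroup.normalizer (N : Set X))
    (hSN : S ≤ Subgroup.normalizer (N : Set X)) (hSH : S ≤ Subgroup.normalizer (H : Set X))
    (hcop : (Nat.card S).Coprime (Nat.card H)) (hsolv : Group.IsSolvable H) :
    img N (H ⊓ Subgroup.centralizer (S : Set X)) =
      img N H ⊓ Subgroup.centralizer ((img N S : Subgroup (QG N)) : Set (QG N)) := by
  apply le_antisymm
  · intro y hy
    obtain ⟨c, hc, hcn, rfl⟩ := mem_img.mp hy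
    refine ⟨mem_img.mpr ⟨c, hc.1, hcn, rfl⟩, ?_⟩
    refine Subgroup.mem_centralizer_iff.mpr ?_
    intro z hz
    obtain ⟨s, hs, hsn, rfl⟩ := mem_img.mp hz
    rw [← map_mul, ← map_mul]
    congr 1
    apply Subtype.ext
    exact Subgroup.mem_centralizer_iff.mp hc.2 s hs
  · rintro y ⟨hyH, hyC⟩
    obtain ⟨h, hh, hhn, rfl⟩ := mem_img.mp hyH
    have hfix : ∀ a ∈ S, a * h * a⁻¹ * h⁻¹ ∈ N := by
      intro a ha
      have h1 := Subgroup.mem_centralizer_iff.mp hyC (qmap N ⟨a, hSN ha⟩)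
        (mem_img.mpr ⟨a, ha, hSN ha, rfl⟩)
      rw [← map_mul, ← map_mul, qmap_eq_iff] at h1
      -- h1 : (a*h)⁻¹ * (h*a) ∈ N
      have h2 : ((a * h)⁻¹ * (h * a))⁻¹ ∈ N := N.inv_mem h1
      have h3 : a * h * a⁻¹ * h⁻¹ = (a * h) * ((a * h)⁻¹ * (h * a))⁻¹ * (a * h)⁻¹ := by group
      rw [h3]
      have hah : a * h ∈ Subgroup.normalizer (N : Set X) :=
        (Subgroup.normalizer (N : Set X)).mul_mem (hSN ha) hhn
      exact (Subgroup.mem_normalizer_iff.mp hah _).mp h2
    obtain ⟨c, hc, hcN⟩ := Cfsg.Agent.S0022.result S H hSH hcop (Or.inr hsolv) N hN hHN hSN h hh hfix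
    refine mem_img.mpr ⟨c, hc, hHN hc.1, ?_⟩
    rw [qmap_eq_iff]
    show c⁻¹ * h ∈ N
    have : c⁻¹ * h = (h⁻¹ * c)⁻¹ := by group
    rw [this]
    exact N.inv_mem hcN

end Quot

end Cfsg.Agent.Lib.Helper1.FrobFixed
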