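import Mathlib

/-!
Maximal subgroups of finite `p`-groups are normal of index `p`.
-/

set_option autoImplicit false

namespace Cfsg.Agent.Lib.Helper1

variable {G : Type*} [Group G]

theorem coatom_normal_of_isPGroup [Finite G] {p : ℕ} [Fact p.Prime] (hG : IsPGroup p G)
    {M : Subgroup G} (hM : IsCoatom M) : M.Normal := by
  have hnil : Group.IsNilpotent G := hG.isNilpotent
  exact Subgroup.NormalizerCondition.normal_of_coatom M (Group.normalizerCondition_of_isNilpotent (G := G)) hM

theorem coatom_index_of_isPGroup [Finite G] {p : ℕ} [hp : Fact p.Prime] (hG : IsPGroup p G)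
    {M : Subgroup G} (hM : IsCoatom M) : M.index = p := by
  have hn : M.Normal := coatom_normal_of_isPGroup hG hM
  have hQ : IsPGroup p (G ⧸ M) := hG.to_quotient M
  obtain ⟨k, hk⟩ := IsPGroup.iff_card.mp hQ
  have hk0 : k ≠ 0 := by
    rintro rfl
    rw [pow_zero, ← Subgroup.index_eq_card, Subgroup.index_eq_one] at hk
    exact hM.1 hk
  obtain ⟨k, rfl⟩ := Nat.exists_eq_succ_of_ne_zero hk0
  have hdvd : p ^ k ∣ Nat.card (G ⧸ M) := by
    rw [hk]; exact pow_dvd_pow p (Nat.le_succ k)
  obtain ⟨K, hK⟩ := Sylow.exists_subgroup_card_pow_prime p hdvd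
  have hKidx : K.index = p := by
    have h1 := K.card_mul_index
    rw [hK, hk, pow_succ] at h1
    exact Nat.eq_of_mul_eq_mul_left (pow_pos hp.out.pos k) h1
  let M' := K.comap (QuotientGroup.mk' M)
  have hM'idx : M'.index = p := by
    rw [Subgroup.index_comap_of_surjective _ (QuotientGroup.mk'_surjective M)]
    exact hKidx
  have hle : M ≤ M' := by
    intro x hx
    change QuotientGroup.mk' M x ∈ K
    have : QuotientGroup.mk' M x = 1 := by
      rw [← MonoidHom.mem_ker, QuotientGroup.ker_mk']; exact hx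
    rw [this]; exact K.one_mem
  have hne : M' ≠ ⊤ := by
    intro h
    rw [← Subgroup.index_eq_one, hM'idx] at h
    exact hp.out.one_lt.ne' h
  rcases eq_or_lt_of_le hle with h | h
  · rw [h]; exact hM'idx
  · exact absurd (hM.2 M' h) hne

end Cfsg.Agent.Lib.Helper1
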