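import Mathlib
import Cfsg.Prelude.Def_PLocal
import Cfsg.Prelude.Def_Transfer
import Cfsg.Agent.Lib.Helper1.FpfAction
import Cfsg.Agent.Lib.Helper1.CarterConj
import Cfsg.Agent.Lib.Helper1.CarterSysNorm
import Cfsg.Agent.Lib.Helper1.CoverAvoid
import Cfsg.Agent.Lib.Helper1.SZConj
import Cfsg.Agent.Lib.Helper34.NPC
import Cfsg.Agent.S0628
import Cfsg.Agent.S0622
import Cfsg.Agent.S0031
import Cfsg.Agent.S0032

/-!
# Thompson's theorem: a finite group with a fixed-point-free automorphism of prime order is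
nilpotent (S0033)
-/

set_option autoImplicit false

namespace Cfsg.Agent.Lib.Helper1

open Cfsg

universe u

/-- A group embedding in a product of two nilpotent quotients is nilpotent. -/
theorem isNilpotent_of_two_quotients {G : Type*} [Group G] (N₁ N₂ : Subgroup G) [N₁.Normal]
    [N₂.Normal] (h : N₁ ⊓ N₂ = ⊥) (h₁ : Group.IsNilpotent (G ⧸ N₁))
    (h₂ : Group.IsNilpotent (G ⧸ N₂)) : Group.IsNilpotent G := by
  let f : G →* (G ⧸ N₁) × (G ⧸ N₂) := (QuotientGroup.mk' N₁).prod (QuotientGroup.mk' N₂)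
  have hf : Function.Injective f := by
    rw [injective_iff_map_eq_one]
    intro x hx
    have h1 : QuotientGroup.mk' N₁ x = 1 := congrArg Prod.fst hx
    have h2 : QuotientGroup.mk' N₂ x = 1 := congrArg Prod.snd hx
    rw [← MonoidHom.mem_ker, QuotientGroup.ker_mk'] at h1 h2
    have : x ∈ N₁ ⊓ N₂ := ⟨h1, h2⟩
    rwa [h, Subgroup.mem_bot] at this
  exact isNilpotent_of_injective f hf

theorem hasNPC_of_isNilpotent {X : Type*} [Group X] [Finite X] (q : ℕ) [Fact q.Prime]
    (h : Group.IsNilpotent X) : HasNormalPComplement q X := by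
  rw [Cfsg.Agent.Lib.Helper34.hasNPC_iff_exists_normal]
  obtain ⟨j, hj⟩ := index_pPrimeCore_of_isNilpotent (X := X) q
  exact ⟨pPrimeCore q X, pPrimeCore_normal q, pPrimeCore_card_coprime q, j, hj⟩

theorem quotAut_fpf {G : Type*} [Group G] [Finite G] (φ : MulAut G)
    (hφ : ∀ g : G, φ g = g → g = 1) (N : Subgroup G) [N.Normal] (hN : AutInv φ N) :
    ∀ x : G ⧸ N, quotAut φ N hN x = x → x = 1 := by
  intro x hx
  induction x using QuotientGroup.induction_on with
  | H x =>
    rw [quotAut_mk, QuotientGroup.eq] at hx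
    have hx' : x ∈ N := Cfsg.Agent.S0032.result φ (fun g hg => hφ g hg) N
      (fun n hn => (hN.mem_iff n).mpr hn) x hx
    exact (QuotientGroup.eq_one_iff x).mpr hx'

/-- The characteristic subgroup `W(Q)` of an invariant Sylow subgroup is invariant. -/
theorem autInv_stableNormalClosure {G : Type u} [Group G] [Finite G] (φ : MulAut G) (q : ℕ)
    [Fact q.Prime] (Q : Sylow q G) (hQ : AutInv φ (Q : Subgroup G)) :
    AutInv φ ((stableNormalClosure q ↥(Q : Subgroup G)).map (Q : Subgroup G).subtype) := by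
  have hchar : (stableNormalClosure q ↥(Q : Subgroup G)).Characteristic :=
    (Cfsg.Agent.S0622.result (Q.isPGroup')).1
  have h1 := Subgroup.characteristic_iff_map_eq.mp hchar (restrictAut φ (Q : Subgroup G) hQ)
  unfold AutInv
  rw [Subgroup.map_map]
  have hcomp : (φ.toMonoidHom).comp (Q : Subgroup G).subtype
      = ((Q : Subgroup G).subtype).comp (restrictAut φ (Q : Subgroup G) hQ).toMonoidHom := by
    ext x; rfl
  rw [hcomp, ← Subgroup.map_map, h1]

theorem stableNormalClosure_map_ne_bot {G : Type u} [Group G] [Finite G] (q : ℕ)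
    [Fact q.Prime] (Q : Sylow q G) (hQ : (Q : Subgroup G) ≠ ⊥) :
    (stableNormalClosure q ↥(Q : Subgroup G)).map (Q : Subgroup G).subtype ≠ ⊥ := by
  have hnt : Nontrivial ↥(Q : Subgroup G) := (Subgroup.nontrivial_iff_ne_bot _).mpr hQ
  have h1 := (Cfsg.Agent.S0622.result (Q.isPGroup')).2.2.2.1 hnt
  intro h
  apply h1
  rwa [Subgroup.map_eq_bot_iff_of_injective _ (Q : Subgroup G).subtype_injective] at h

/-- Solvability step in Thompson's theorem, via the Thompson normal `p`-complement theorem. -/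
theorem fpf_isSolvable_step {G : Type u} [Group G] [Finite G] (φ : MulAut G)
    (hφ : ∀ g : G, φ g = g → g = 1)
    (ihSub : ∀ H : Subgroup G, AutInv φ H → H ≠ ⊤ → Group.IsNilpotent H)
    (ihQuot : ∀ (N : Subgroup G) [N.Normal], AutInv φ N → N ≠ ⊥ → Group.IsNilpotent (G ⧸ N)) :
    Group.IsSolvable G := by
  by_cases h2 : ∀ q : ℕ, q.Prime → q ∣ Nat.card G → q = 2
  · have hcard := Nat.eq_prime_pow_of_unique_prime_dvd (Nat.card_pos (α := G)).ne'
      (fun {d} hd hdvd => h2 d hd hdvd)
    have : Fact (Nat.Prime 2) := ⟨Nat.prime_two⟩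
    have hP : IsPGroup 2 G := IsPGroup.of_card hcard
    have := hP.isNilpotent
    infer_instance
  · push Not at h2
    obtain ⟨q, hq, hqdvd, hq2⟩ := h2
    have : Fact q.Prime := ⟨hq⟩
    obtain ⟨Q, hQ⟩ := Cfsg.Agent.S0031.result φ (fun g hg => hφ g hg) q
    have hQinv : AutInv φ (Q : Subgroup G) := hQ
    have hQne : (Q : Subgroup G) ≠ ⊥ := Q.ne_bot_of_dvd_card hqdvd
    set W : Subgroup G :=
      (stableNormalClosure q ↥(Q : Subgroup G)).map (Q : Subgroup G).subtype with hW
    have hWinv : AutInv φ W := autInv_stableNormalClosure φ q Q hQinv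
    have hWne : W ≠ ⊥ := stableNormalClosure_map_ne_bot q Q hQne
    by_cases hN : Subgroup.normalizer (W : Set G) = ⊤
    · have hWn : W.Normal := Subgroup.normalizer_eq_top_iff.mp hN
      have hquot := ihQuot W hWinv hWne
      have hWp : IsPGroup q W := Q.isPGroup'.to_le (Subgroup.map_subtype_le _)
      have := hWp.isNilpotent
      exact Group.isSolvable_of_ker_le_range W.subtype (QuotientGroup.mk' W)
        (by rw [QuotientGroup.ker_mk', Subgroup.range_subtype])
    · have hNnil := ihSub _ hWinv.normalizer hN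
      have h1 : HasNormalPComplement q ↥(Subgroup.normalizer (W : Set G)) :=
        hasNPC_of_isNilpotent q hNnil
      have h3 := Cfsg.Agent.S0628.result hq2 Q h1
      rw [Cfsg.Agent.Lib.Helper34.hasNPC_iff_exists_normal] at h3
      obtain ⟨Y, hYn, hYcop, k, hk⟩ := h3
      have hYinv : AutInv φ Y := by
        apply autInv_of_forall_mem
        intro x hx
        have hle : Y.map φ.toMonoidHom ≤ Y := by
          apply Cfsg.Agent.Lib.Helper34.le_of_card_coprime_of_index_pow Y hk
          rw [Subgroup.card_map_of_injective φ.injective]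
          exact hYcop
        exact hle ⟨x, hx, rfl⟩
      have hYne : Y ≠ ⊤ := by
        intro h
        rw [h, Subgroup.card_top] at hYcop
        exact (Nat.Prime.coprime_iff_not_dvd hq).mp hYcop.symm hqdvd
      have hYnil := ihSub Y hYinv hYne
      have hQuotP : IsPGroup q (G ⧸ Y) :=
        IsPGroup.of_card (n := k) (by rw [← Subgroup.index_eq_card, hk])
      have := hQuotP.isNilpotent
      exact Group.isSolvable_of_ker_le_range Y.subtype (QuotientGroup.mk' Y)
        (by rw [QuotientGroup.ker_mk', Subgroup.range_subtype])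

/-- A Sylow subgroup that is normal in a normal subgroup `L` is normal in `G`. -/
theorem normal_of_normal_subgroupOf_of_sylow {G : Type*} [Group G] [Finite G] (s : ℕ)
    [Fact s.Prime] (S : Sylow s G) (L : Subgroup G) [L.Normal] (hSL : (S : Subgroup G) ≤ L)
    (hn : ((S : Subgroup G).subgroupOf L).Normal) : (S : Subgroup G).Normal := by
  open Pointwise in
  have key : ∀ g : G, MulAut.conj g • (S : Subgroup G) ≤ (S : Subgroup G) := by
    intro g
    have hgL : MulAut.conj g • (S : Subgroup G) ≤ L := by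
      have h1 : MulAut.conj g • (S : Subgroup G) ≤ MulAut.conj g • L :=
        Subgroup.pointwise_smul_le_pointwise_smul_iff.mpr hSL
      rwa [Subgroup.Normal.conj_smul_eq_self g L] at h1
    have hidx : ¬ s ∣ ((S : Subgroup G).subgroupOf L).index := by
      intro hdvd
      have h1 : ((S : Subgroup G).subgroupOf L).index ∣ (S : Subgroup G).index :=
        Subgroup.relIndex_dvd_index_of_le hSL
      exact S.not_dvd_index (hdvd.trans h1)
    have hle : (MulAut.conj g • (S : Subgroup G)).subgroupOf L ≤ (S : Subgroup G).subgroupOf L := by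
      apply le_of_normal_of_coprime_index
      rw [card_subgroupOf_of_le hgL, card_conj_smul]
      obtain ⟨k, hk⟩ := (IsPGroup.iff_card (p := s)).mp S.isPGroup'
      rw [hk]
      exact Nat.Coprime.pow_left _ ((Nat.Prime.coprime_iff_not_dvd Fact.out).mpr hidx)
    intro x hx
    have hx' : (⟨x, hgL hx⟩ : L) ∈ (MulAut.conj g • (S : Subgroup G)).subgroupOf L :=
      Subgroup.mem_subgroupOf.mpr hx
    exact Subgroup.mem_subgroupOf.mp (hle hx')
  refine ⟨fun n hn g => ?_⟩
  open Pointwise in
  have := key g (Subgroup.smul_mem_pointwise_smul n (MulAut.conj g) _ hn)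
  simpa [MulAut.smul_def] using this

/-- The solvable step of Thompson's theorem. -/
theorem fpf_nilpotent_of_solvable_step {G : Type u} [Group G] [Finite G] [Group.IsSolvable G]
    (p : ℕ) (hp : p.Prime) (φ : MulAut G) (hpow : φ ^ p = 1) (hφ : ∀ g : G, φ g = g → g = 1)
    (ihSub : ∀ H : Subgroup G, AutInv φ H → H ≠ ⊤ → Group.IsNilpotent H)
    (ihQuot : ∀ (N : Subgroup G) [N.Normal], AutInv φ N → N ≠ ⊥ → Group.IsNilpotent (G ⧸ N)) :
    Group.IsNilpotent G := by
  by_contra hnil
  have hnt : Nontrivial G := by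
    by_contra h
    rw [not_nontrivial_iff_subsingleton] at h
    exact hnil Group.isNilpotent_of_subsingleton
  -- a minimal invariant normal subgroup
  let 𝒮 : Set (Subgroup G) := {H | H.Normal ∧ H ≠ ⊥ ∧ AutInv φ H}
  have h𝒮 : 𝒮.Nonempty := ⟨⊤, inferInstance, top_ne_bot, autInv_top φ⟩
  obtain ⟨M, ⟨hMn, hM1, hMinv⟩, hmin⟩ := (wellFounded_lt (α := Subgroup G)).has_min 𝒮 h𝒮
  have hmin' : ∀ H : Subgroup G, H.Normal → AutInv φ H → H ≤ M → H = ⊥ ∨ H = M := by
    intro H hHn hHinv hHM
    by_cases hH1 : H = ⊥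
    · exact Or.inl hH1
    · right
      by_contra hne
      exact hmin H ⟨hHn, hH1, hHinv⟩ (lt_of_le_of_ne hHM hne)
  have := hMn
  -- `M` is abelian
  have hMcomm : ⁅M, M⁆ = ⊥ := by
    have hlt : ⁅M, M⁆ < M := commutator_lt_of_isSolvable hM1
    rcases hmin' ⁅M, M⁆ inferInstance (hMinv.commutator hMinv) hlt.le with h | h
    · exact h
    · exact absurd h hlt.ne
  have hMZ : M ≤ Subgroup.centralizer (M : Set G) :=
    Subgroup.commutator_eq_bot_iff_le_centralizer.mp hMcomm
  have hMc : ∀ a ∈ M, ∀ b ∈ M, a * b = b * a := by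
    intro a ha b hb
    exact (Subgroup.mem_centralizer_iff.mp (hMZ hb) a ha)
  -- `M` has prime exponent `q`
  have hMcard : Nat.card M ≠ 1 := by
    intro h
    exact hM1 (Subgroup.card_eq_one.mp h)
  obtain ⟨q, hq, hqdvd⟩ := Nat.exists_prime_and_dvd hMcard
  have : Fact q.Prime := ⟨hq⟩
  have hMq : ∀ x ∈ M, x ^ q = 1 := by
    let Mq : Subgroup G :=
      { carrier := {x | x ∈ M ∧ x ^ q = 1}
        mul_mem' := by
          rintro a b ⟨ha, ha'⟩ ⟨hb, hb'⟩
          refine ⟨M.mul_mem ha hb, ?_⟩
          have hc : Commute a b := hMc a ha b hb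
          rw [hc.mul_pow, ha', hb', one_mul]
        one_mem' := ⟨M.one_mem, one_pow q⟩
        inv_mem' := by
          rintro a ⟨ha, ha'⟩
          exact ⟨M.inv_mem ha, by rw [inv_pow, ha', inv_one]⟩ }
    have hMqn : Mq.Normal := by
      refine ⟨fun n hn g => ⟨hMn.conj_mem n hn.1 g, ?_⟩⟩
      rw [conj_pow, hn.2, mul_one, mul_inv_cancel]
    have hMqinv : AutInv φ Mq := by
      apply autInv_of_forall_mem
      intro x hx
      exact ⟨(hMinv.mem_iff x).mpr hx.1, by rw [← map_pow, hx.2, map_one]⟩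
    have hMqle : Mq ≤ M := fun x hx => hx.1
    have hMqne : Mq ≠ ⊥ := by
      obtain ⟨x, hx⟩ := exists_prime_orderOf_dvd_card' (G := M) q hqdvd
      intro h
      have hmem : (x : G) ∈ Mq := by
        refine ⟨x.2, ?_⟩
        have h1 : x ^ q = 1 := by rw [← hx]; exact pow_orderOf_eq_one x
        exact_mod_cast congrArg Subtype.val h1
      rw [h, Subgroup.mem_bot] at hmem
      have hx1 : x = 1 := Subtype.ext hmem
      rw [hx1, orderOf_one] at hx
      exact hq.one_lt.ne hx
    rcases hmin' Mq hMqn hMqinv hMqle with h | h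
    · exact absurd h hMqne
    · intro x hx
      have : x ∈ Mq := by rw [h]; exact hx
      exact this.2
  have hMp : IsPGroup q M := fun x =>
    ⟨1, by rw [pow_one]; exact Subtype.ext (by simpa using hMq x x.2)⟩
  -- a prime `s ≠ q` dividing `|G|`
  have hs : ∃ s : ℕ, s.Prime ∧ s ∣ Nat.card G ∧ s ≠ q := by
    by_contra h
    push Not at h
    have hcard := Nat.eq_prime_pow_of_unique_prime_dvd (Nat.card_pos (α := G)).ne'
      (fun {d} hd hdvd => h d hd hdvd)
    have hP : IsPGroup q G := IsPGroup.of_card hcard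
    exact hnil hP.isNilpotent
  obtain ⟨s, hsp, hsdvd, hsq⟩ := hs
  have : Fact s.Prime := ⟨hsp⟩
  obtain ⟨S, hS⟩ := Cfsg.Agent.S0031.result φ (fun g hg => hφ g hg) s
  have hSinv : AutInv φ (S : Subgroup G) := hS
  have hSne : (S : Subgroup G) ≠ ⊥ := S.ne_bot_of_dvd_card hsdvd
  have hcop : (Nat.card (S : Subgroup G)).Coprime (Nat.card M) :=
    IsPGroup.coprime_card_of_ne s q hsq (S : Subgroup G) M S.isPGroup' hMp
  have hQuotM : Group.IsNilpotent (G ⧸ M) := ihQuot M hMinv hM1
  -- if `S` is normal we are done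
  have hSnormal_contra : (S : Subgroup G).Normal → False := by
    intro hSn
    have hQuotS : Group.IsNilpotent (G ⧸ (S : Subgroup G)) := ihQuot (S : Subgroup G) hSinv hSne
    have hdisj : (S : Subgroup G) ⊓ M = ⊥ :=
      disjoint_iff.mp (Subgroup.disjoint_of_coprime_natCard hcop)
    exact hnil (isNilpotent_of_two_quotients (S : Subgroup G) M hdisj hQuotS hQuotM)
  -- `M ⊔ S` is normal
  have hMSn : (M ⊔ (S : Subgroup G)).Normal := by
    have hSbarP : IsPGroup s ((S : Subgroup G).map (QuotientGroup.mk' M)) := S.isPGroup'.map _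
    have hSbarI : ¬ s ∣ ((S : Subgroup G).map (QuotientGroup.mk' M)).index := by
      intro hdvd
      exact S.not_dvd_index (hdvd.trans
        (Subgroup.index_map_dvd (S : Subgroup G) (QuotientGroup.mk'_surjective M)))
    have hall : ∀ (r : ℕ) (_ : Fact r.Prime) (P : Sylow r (G ⧸ M)),
        (P : Subgroup (G ⧸ M)).Normal :=
      ((Group.isNilpotent_of_finite_tfae (G := G ⧸ M)).out 0 3).mp hQuotM
    have hnorm : ((hSbarP.toSylow hSbarI : Sylow s (G ⧸ M)) : Subgroup (G ⧸ M)).Normal :=
      hall s inferInstance _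
    have hcomap : ((S : Subgroup G).map (QuotientGroup.mk' M)).comap (QuotientGroup.mk' M)
        = M ⊔ (S : Subgroup G) := by
      rw [Subgroup.comap_map_eq, QuotientGroup.ker_mk', sup_comm]
    rw [← hcomap]
    exact Subgroup.Normal.comap hnorm _
  by_cases hMS : M ⊔ (S : Subgroup G) = ⊤
  · -- `G = M S`
    have hCn : (M ⊓ Subgroup.centralizer ((S : Subgroup G) : Set G)).Normal := by
      rw [← Subgroup.normalizer_eq_top_iff, eq_top_iff, ← hMS]
      apply sup_le
      · exact hMZ.trans (centralizer_le_normalizer_inf M _)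
      · exact Subgroup.le_normalizer.trans
          (normalizer_le_normalizer_inf_centralizer M (S : Subgroup G))
    have hCinv : AutInv φ (M ⊓ Subgroup.centralizer ((S : Subgroup G) : Set G)) :=
      hMinv.inf hSinv.centralizer
    rcases hmin' _ hCn hCinv inf_le_left with h | h
    · exact hM1 (frobenius_action_lemma φ p hp hpow hφ M (S : Subgroup G) hMc hMinv hSinv h hcop)
    · apply hSnormal_contra
      have hMS' : M ≤ Subgroup.centralizer ((S : Subgroup G) : Set G) := inf_eq_left.mp h
      rw [← Subgroup.normalizer_eq_top_iff, eq_top_iff, ← hMS]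
      apply sup_le
      · exact hMS'.trans (Subgroup.centralizer_le_normalizer _)
      · exact Subgroup.le_normalizer
  · -- `M S < G`
    have hLnil : Group.IsNilpotent ↥(M ⊔ (S : Subgroup G)) := ihSub _ (hMinv.sup hSinv) hMS
    apply hSnormal_contra
    have hSL : (S : Subgroup G) ≤ M ⊔ (S : Subgroup G) := le_sup_right
    apply normal_of_normal_subgroupOf_of_sylow s S (M ⊔ (S : Subgroup G)) hSL
    have hP : IsPGroup s ((S : Subgroup G).subgroupOf (M ⊔ (S : Subgroup G))) :=
      S.isPGroup'.comap_subtype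
    have hI : ¬ s ∣ ((S : Subgroup G).subgroupOf (M ⊔ (S : Subgroup G))).index := by
      intro hdvd
      have h1 : ((S : Subgroup G).subgroupOf (M ⊔ (S : Subgroup G))).index ∣ (S : Subgroup G).index :=
        Subgroup.relIndex_dvd_index_of_le hSL
      exact S.not_dvd_index (hdvd.trans h1)
    have hall : ∀ (r : ℕ) (_ : Fact r.Prime) (P : Sylow r ↥(M ⊔ (S : Subgroup G))),
        (P : Subgroup ↥(M ⊔ (S : Subgroup G))).Normal :=
      ((Group.isNilpotent_of_finite_tfae (G := ↥(M ⊔ (S : Subgroup G)))).out 0 3).mp hLnil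
    exact hall s inferInstance (hP.toSylow hI)

theorem fpf_nilpotent_aux (p : ℕ) (hp : p.Prime) : ∀ (n : ℕ) (G : Type u) [Group G] [Finite G],
    Nat.card G = n → ∀ φ : MulAut G, φ ^ p = 1 → (∀ g : G, φ g = g → g = 1) →
    Group.IsNilpotent G := by
  intro n
  induction n using Nat.strong_induction_on with
  | _ n ih =>
    intro G _ _ hn φ hpow hφ
    subst hn
    have ihSub : ∀ H : Subgroup G, AutInv φ H → H ≠ ⊤ → Group.IsNilpotent H := fun H hH hne =>
      ih (Nat.card H) (card_subgroup_lt H hne) H rfl (restrictAut φ H hH)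
        (restrictAut_pow_eq_one φ H hH p hpow) (restrictAut_fpf φ H hH hφ)
    have ihQuot : ∀ (N : Subgroup G) [N.Normal], AutInv φ N → N ≠ ⊥ →
        Group.IsNilpotent (G ⧸ N) := fun N _ hN hne =>
      ih (Nat.card (G ⧸ N)) (card_quotient_lt N hne) (G ⧸ N) rfl (quotAut φ N hN)
        (quotAut_pow_eq_one φ N hN p hpow) (quotAut_fpf φ hφ N hN)
    have hsolv : Group.IsSolvable G := fpf_isSolvable_step φ hφ ihSub ihQuot
    exact fpf_nilpotent_of_solvable_step p hp φ hpow hφ ihSub ihQuot

/-- **Thompson's theorem** (S0033). -/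
theorem thompson_fpf_nilpotent {G : Type u} [Group G] [Finite G] (φ : G ≃* G)
    (hφ : MonoidHom.FixedPointFree (φ : G →* G)) (p : ℕ) (hp : p.Prime)
    (hord : orderOf φ = p) : Group.IsNilpotent G := by
  have hpow : (φ : MulAut G) ^ p = 1 := by rw [← hord]; exact pow_orderOf_eq_one φ
  exact fpf_nilpotent_aux p hp _ G rfl φ hpow (fun g hg => hφ g hg)

end Cfsg.Agent.Lib.Helper1
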