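import Mathlib
import Cfsg.Agent.Lib.Helper1.FrobFixedA
import Cfsg.Agent.Lib.Helper1.FrobFixedB
import Cfsg.Agent.S0033

/-!
# The Frobenius fixed point formula (helper1)

`frobenius_fixed_point_formula`: for a Frobenius group `UE` acting coprimely on a solvable group `H`,
`|C_H(UE)|^|E| * |H| = |C_H(E)|^|E| * |C_H(U)|`.
-/

set_option autoImplicit false

namespace Cfsg.Agent.Lib.Helper1.FrobFixed

open Cfsg.Agent.Lib.Helper1.FrobMod
open scoped commutatorElement

/-- A Frobenius kernel is solvable (via Thompson's theorem `S0033`). -/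
theorem isSolvable_of_fpf {X : Type*} [Group X] [Finite X] (U E : Subgroup X) (hU1 : U ≠ ⊥)
    (hE1 : E ≠ ⊥) (hUn : ∀ e ∈ E, ∀ u ∈ U, e * u * e⁻¹ ∈ U)
    (hfpf : ∀ e ∈ E, e ≠ 1 → ∀ u ∈ U, e * u = u * e → u = 1) : Group.IsSolvable U := by
  have hcardE : Nat.card ↥E ≠ 1 := fun h => hE1 (Subgroup.card_eq_one.mp h)
  obtain ⟨p, hp, hpdvd⟩ := Nat.exists_prime_and_dvd hcardE
  haveI := Fact.mk hp
  obtain ⟨x, hx⟩ := exists_prime_orderOf_dvd_card' p hpdvd
  have hx1 : (x : X) ≠ 1 := by
    intro h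
    have : x = 1 := Subtype.ext h
    rw [this, orderOf_one] at hx
    exact hp.one_lt.ne hx
  set φ : MulAut ↥U := conjAct E U hUn x with hφ
  have hφ_apply : ∀ u : ↥U, ((φ u : ↥U) : X) = x * u * (x : X)⁻¹ := fun u => rfl
  have hφfpf : MonoidHom.FixedPointFree ((φ : ↥U ≃* ↥U) : ↥U →* ↥U) := by
    intro u hu
    have h1 : ((φ u : ↥U) : X) = (u : X) := congrArg Subtype.val hu
    rw [hφ_apply] at h1
    apply Subtype.ext
    apply hfpf (x : X) x.2 hx1 (u : X) u.2
    calc (x : X) * u = ((x : X) * u * (x : X)⁻¹) * x := by group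
      _ = u * x := by rw [h1]
  have hφp : φ ^ p = 1 := by
    rw [hφ, ← map_pow, ← hx, pow_orderOf_eq_one, map_one]
  have hord : orderOf φ = p := by
    have h1 : orderOf φ ∣ p := orderOf_dvd_of_pow_eq_one hφp
    rcases (Nat.dvd_prime hp).mp h1 with h2 | h2
    · exfalso
      have h3 : φ = 1 := orderOf_eq_one_iff.mp h2
      apply hU1
      rw [eq_bot_iff]
      intro u hu
      rw [Subgroup.mem_bot]
      have h4 := hφfpf ⟨u, hu⟩ (by rw [h3]; rfl)
      exact congrArg Subtype.val h4
    · exact h2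
  haveI : Group.IsNilpotent ↥U := Cfsg.Agent.S0033.result φ hφfpf p hp hord
  infer_instance

theorem conj_mem_commutator {X : Type*} [Group X] (H : Subgroup X) (x : X)
    (hx : ∀ h ∈ H, x * h * x⁻¹ ∈ H) (d : X) (hd : d ∈ ⁅H, H⁆) : x * d * x⁻¹ ∈ ⁅H, H⁆ := by
  have h1 : (MulAut.conj x).toMonoidHom d ∈ (⁅H, H⁆).map (MulAut.conj x).toMonoidHom :=
    Subgroup.mem_map_of_mem _ hd
  rw [Subgroup.map_commutator] at h1
  have h2 : H.map (MulAut.conj x).toMonoidHom ≤ H := by
    rintro _ ⟨h, hh, rfl⟩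
    exact hx h hh
  exact Subgroup.commutator_mono h2 h2 h1

universe u

/-- The Frobenius fixed point formula, by induction on `|H|`. -/
theorem frobenius_formula_aux : ∀ (n : ℕ) (X : Type u) [Group X] [Finite X] (U E H : Subgroup X),
    Nat.card H = n → U ≠ ⊥ → E ≠ ⊥ → U ⊓ E = ⊥ → (∀ e ∈ E, ∀ u ∈ U, e * u * e⁻¹ ∈ U) →
    (∀ e ∈ E, e ≠ 1 → ∀ u ∈ U, e * u = u * e → u = 1) →
    (∀ x ∈ U ⊔ E, ∀ h ∈ H, x * h * x⁻¹ ∈ H) → H ⊓ (U ⊔ E) = ⊥ → Group.IsSolvable H →
    Nat.Coprime (Nat.card H) (Nat.card ↥(U ⊔ E)) →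
    Nat.card ↥(H ⊓ Subgroup.centralizer ((U ⊔ E : Subgroup X) : Set X)) ^ Nat.card E * Nat.card H =
      Nat.card ↥(H ⊓ Subgroup.centralizer (E : Set X)) ^ Nat.card E *
        Nat.card ↥(H ⊓ Subgroup.centralizer (U : Set X)) := by
  intro n
  induction n using Nat.strong_induction_on with
  | _ n ih =>
  intro X _ _ U E H hn hU1 hE1 hUE hUn hfpf hHn hdisj hsolv hcop
  haveI := hsolv
  have hUsolv := isSolvable_of_fpf U E hU1 hE1 hUn hfpf
  by_cases hex : ∃ N : Subgroup X, N ≠ ⊥ ∧ N < H ∧ H ≤ Subgroup.normalizer (N : Set X) ∧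
      (∀ x ∈ U ⊔ E, ∀ h ∈ N, x * h * x⁻¹ ∈ N)
  · obtain ⟨N, hN1, hNH, hHN, hNn⟩ := hex
    have hNle : N ≤ H := hNH.le
    have hcardN : Nat.card N < n := hn ▸ card_lt_of_lt hNH
    have hNsolv : Group.IsSolvable ↥N :=
      Group.isSolvable_of_isSolvable_injective (f := Subgroup.inclusion hNle)
        (Subgroup.inclusion_injective hNle)
    have hNB : ∀ x ∈ U ⊔ E, x ∈ N → x = 1 := by
      intro x hx hxN
      have : x ∈ H ⊓ (U ⊔ E) := ⟨hNle hxN, hx⟩
      rw [hdisj, Subgroup.mem_bot] at this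
      exact this
    have ihN := ih (Nat.card N) hcardN X U E N rfl hU1 hE1 hUE hUn hfpf hNn
      (by
        rw [eq_bot_iff]
        rintro x ⟨h1, h2⟩
        rw [Subgroup.mem_bot]
        exact hNB x h2 h1)
      hNsolv (Nat.Coprime.coprime_dvd_left (Subgroup.card_dvd_of_le hNle) hcop)
    -- the quotient
    have hBN : U ⊔ E ≤ Subgroup.normalizer (N : Set X) := by
      intro x hx
      rw [Subgroup.mem_normalizer_iff]
      intro h
      constructor
      · intro hh
        exact hNn x hx h hh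
      · intro hh
        have := hNn x⁻¹ ((U ⊔ E).inv_mem hx) _ hh
        simpa [mul_assoc] using this
    have hUB : U ≤ U ⊔ E := le_sup_left
    have hEB : E ≤ U ⊔ E := le_sup_right
    have hUY : U ≤ Subgroup.normalizer (N : Set X) := hUB.trans hBN
    have hEY : E ≤ Subgroup.normalizer (N : Set X) := hEB.trans hBN
    have hBH : U ⊔ E ≤ Subgroup.normalizer (H : Set X) := by
      intro x hx
      rw [Subgroup.mem_normalizer_iff]
      intro h
      constructor
      · intro hh
        exact hHn x hx h hh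
      · intro hh
        have := hHn x⁻¹ ((U ⊔ E).inv_mem hx) _ hh
        simpa [mul_assoc] using this
    have hcardU' : Nat.card (img N U) = Nat.card U := by
      apply card_img_of_disjoint U hUY
      rw [eq_bot_iff]
      rintro x ⟨h1, h2⟩
      rw [Subgroup.mem_bot]
      exact hNB x (hUB h1) h2
    have hcardE' : Nat.card (img N E) = Nat.card E := by
      apply card_img_of_disjoint E hEY
      rw [eq_bot_iff]
      rintro x ⟨h1, h2⟩
      rw [Subgroup.mem_bot]
      exact hNB x (hEB h1) h2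
    have hcardH' : Nat.card (img N H) * Nat.card N = Nat.card H := by
      have := card_img_mul H hHN
      rwa [inf_of_le_right hNle] at this
    have hcardB' : Nat.card (img N (U ⊔ E)) ∣ Nat.card ↥(U ⊔ E) :=
      Dvd.intro _ (card_img_mul (U ⊔ E) hBN)
    have hU1' : img N U ≠ ⊥ := by
      intro h
      apply hU1
      rw [← Subgroup.card_eq_one, ← hcardU', h, Subgroup.card_bot]
    have hE1' : img N E ≠ ⊥ := by
      intro h
      apply hE1
      rw [← Subgroup.card_eq_one, ← hcardE', h, Subgroup.card_bot]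
    have hUE' : img N U ⊓ img N E = ⊥ := by
      rw [eq_bot_iff]
      rintro y ⟨h1, h2⟩
      rw [Subgroup.mem_bot]
      obtain ⟨u, hu, hun, rfl⟩ := mem_img.mp h1
      obtain ⟨e, he, hen, heq⟩ := mem_img.mp h2
      rw [qmap_eq_iff] at heq
      have h3 : e⁻¹ * u = 1 := hNB _ ((U ⊔ E).mul_mem ((U ⊔ E).inv_mem (hEB he)) (hUB hu)) heq
      have h4 : u = e := by
        have : u = e * (e⁻¹ * u) := by group
        rw [this, h3, mul_one]
      have h5 : u ∈ U ⊓ E := ⟨hu, h4 ▸ he⟩
      rw [hUE, Subgroup.mem_bot] at h5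
      rw [qmap_eq_one_iff]
      show u ∈ N
      rw [h5]
      exact N.one_mem
    have hUn' : ∀ e ∈ img N E, ∀ u ∈ img N U, e * u * e⁻¹ ∈ img N U := by
      intro e' he' u' hu'
      obtain ⟨e, he, hen, rfl⟩ := mem_img.mp he'
      obtain ⟨u, hu, hun, rfl⟩ := mem_img.mp hu'
      rw [← map_inv, ← map_mul, ← map_mul]
      exact mem_img.mpr ⟨e * u * e⁻¹, hUn e he u hu,
        (Subgroup.normalizer (N : Set X)).mul_mem ((Subgroup.normalizer (N : Set X)).mul_mem hen hun)
          ((Subgroup.normalizer (N : Set X)).inv_mem hen), rfl⟩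
    have hfpf' : ∀ e ∈ img N E, e ≠ 1 → ∀ u ∈ img N U, e * u = u * e → u = 1 := by
      intro e' he' hne u' hu' hcomm
      obtain ⟨e, he, hen, rfl⟩ := mem_img.mp he'
      obtain ⟨u, hu, hun, rfl⟩ := mem_img.mp hu'
      rw [← map_mul, ← map_mul, qmap_eq_iff] at hcomm
      have h1 : (e * u)⁻¹ * (u * e) = 1 :=
        hNB _ ((U ⊔ E).mul_mem ((U ⊔ E).inv_mem ((U ⊔ E).mul_mem (hEB he) (hUB hu)))
          ((U ⊔ E).mul_mem (hUB hu) (hEB he))) hcomm
      have h2 : e * u = u * e := by
        have : u * e = (e * u) * ((e * u)⁻¹ * (u * e)) := by group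
        rw [this, h1, mul_one]
      have he1 : e ≠ 1 := by
        rintro rfl
        apply hne
        rw [qmap_eq_one_iff]
        exact N.one_mem
      have h3 := hfpf e he he1 u hu h2
      rw [qmap_eq_one_iff]
      show u ∈ N
      rw [h3]
      exact N.one_mem
    have hHn' : ∀ x ∈ img N U ⊔ img N E, ∀ h ∈ img N H, x * h * x⁻¹ ∈ img N H := by
      rw [← img_sup hUY hEY]
      intro x' hx' h' hh'
      obtain ⟨x, hx, hxn, rfl⟩ := mem_img.mp hx'
      obtain ⟨h, hh, hhn, rfl⟩ := mem_img.mp hh'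
      rw [← map_inv, ← map_mul, ← map_mul]
      exact mem_img.mpr ⟨x * h * x⁻¹, hHn x hx h hh,
        (Subgroup.normalizer (N : Set X)).mul_mem ((Subgroup.normalizer (N : Set X)).mul_mem hxn hhn)
          ((Subgroup.normalizer (N : Set X)).inv_mem hxn), rfl⟩
    have hdisj' : img N H ⊓ (img N U ⊔ img N E) = ⊥ := by
      rw [← img_sup hUY hEY, eq_bot_iff]
      rintro y ⟨h1, h2⟩
      rw [Subgroup.mem_bot]
      obtain ⟨h, hh, hhn, rfl⟩ := mem_img.mp h1
      obtain ⟨x, hx, hxn, heq⟩ := mem_img.mp h2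
      rw [qmap_eq_iff] at heq
      have h3 : x⁻¹ * h ∈ H := hNle heq
      have h4 : x ∈ H := by
        have : x = h * (x⁻¹ * h)⁻¹ := by group
        rw [this]
        exact H.mul_mem hh (H.inv_mem h3)
      have h5 : x ∈ H ⊓ (U ⊔ E) := ⟨h4, hx⟩
      rw [hdisj, Subgroup.mem_bot] at h5
      rw [qmap_eq_one_iff]
      show h ∈ N
      have heq' : x⁻¹ * h ∈ N := heq
      rw [h5, inv_one, one_mul] at heq'
      exact heq'
    have hsolv' : Group.IsSolvable ↥(img N H) := by
      rw [← range_qres H hHN]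
      exact Group.isSolvable_of_surjective (f := (qres H hHN).rangeRestrict)
        (MonoidHom.rangeRestrict_surjective _)
    have hcop' : Nat.Coprime (Nat.card (img N H)) (Nat.card ↥(img N U ⊔ img N E)) := by
      rw [← img_sup hUY hEY]
      exact Nat.Coprime.coprime_dvd_left (Dvd.intro _ hcardH')
        (Nat.Coprime.coprime_dvd_right hcardB' hcop)
    have hN2 : 1 < Nat.card N := (Subgroup.one_lt_card_iff_ne_bot N).mpr hN1
    have hHpos : 0 < Nat.card (img N H) := Nat.card_pos
    have hlt' : Nat.card (img N H) < n := by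
      rw [← hn, ← hcardH']
      nlinarith
    have ihQ := ih _ hlt' (QG N) (img N U) (img N E) (img N H) rfl hU1' hE1' hUE' hUn' hfpf'
      hHn' hdisj' hsolv' hcop'
    rw [← img_sup hUY hEY] at ihQ
    have hcopS : ∀ S : Subgroup X, S ≤ U ⊔ E → (Nat.card S).Coprime (Nat.card H) := by
      intro S hS
      exact (Nat.Coprime.coprime_dvd_right (Subgroup.card_dvd_of_le hS) hcop).symm
    rw [← img_inf_centralizer (U ⊔ E) H hNle hHN hBN hBH (hcopS _ le_rfl) hsolv,
      ← img_inf_centralizer E H hNle hHN hEY (hEB.trans hBH) (hcopS _ hEB) hsolv,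
      ← img_inf_centralizer U H hNle hHN hUY (hUB.trans hBH) (hcopS _ hUB) hsolv,
      hcardE'] at ihQ
    have hQ1 : ∀ S : Subgroup X, Nat.card (img N (H ⊓ Subgroup.centralizer (S : Set X))) *
        Nat.card ↥(N ⊓ Subgroup.centralizer (S : Set X)) =
        Nat.card ↥(H ⊓ Subgroup.centralizer (S : Set X)) := by
      intro S
      have := card_img_mul (N := N) (H ⊓ Subgroup.centralizer (S : Set X))
        (inf_le_left.trans hHN)
      rwa [inf_right_comm, inf_of_le_right hNle] at this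
    rw [← hQ1 (U ⊔ E), ← hQ1 E, ← hQ1 U, ← hcardH', mul_pow, mul_pow]
    calc Nat.card (img N (H ⊓ Subgroup.centralizer ((U ⊔ E : Subgroup X) : Set X))) ^ Nat.card E *
          Nat.card ↥(N ⊓ Subgroup.centralizer ((U ⊔ E : Subgroup X) : Set X)) ^ Nat.card E *
          (Nat.card (img N H) * Nat.card N)
        = (Nat.card (img N (H ⊓ Subgroup.centralizer ((U ⊔ E : Subgroup X) : Set X))) ^ Nat.card E *
            Nat.card (img N H)) *
          (Nat.card ↥(N ⊓ Subgroup.centralizer ((U ⊔ E : Subgroup X) : Set X)) ^ Nat.card E *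
            Nat.card N) := by ring
      _ = _ := by
        rw [ihQ, ihN]
        ring
  · -- no proper invariant normal subgroup: `H` is trivial or elementary abelian
    have hno : ∀ N : Subgroup X, N ≤ H → H ≤ Subgroup.normalizer (N : Set X) →
        (∀ x ∈ U ⊔ E, ∀ h ∈ N, x * h * x⁻¹ ∈ N) → N = ⊥ ∨ N = H := by
      intro N hNle hHN hNn
      by_contra hcon
      rw [not_or] at hcon
      exact hex ⟨N, hcon.1, lt_of_le_of_ne hNle hcon.2, hHN, hNn⟩
    by_cases hH1 : H = ⊥
    · subst hH1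
      simp
    -- commutativity
    have hDle : ⁅H, H⁆ ≤ H := by
      rw [Subgroup.commutator_le]
      intro a ha b hb
      rw [commutatorElement_def]
      exact H.mul_mem (H.mul_mem (H.mul_mem ha hb) (H.inv_mem ha)) (H.inv_mem hb)
    have hDne : ⁅H, H⁆ ≠ H := by
      intro heq
      haveI : Nontrivial ↥H := (Subgroup.nontrivial_iff_ne_bot H).mpr hH1
      have h1 : commutator ↥H < ⊤ := Group.IsSolvable.commutator_lt_top_of_nontrivial ↥H
      apply h1.ne
      apply Subgroup.map_injective H.subtype_injective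
      rw [Subgroup.map_subtype_commutator, heq, ← MonoidHom.range_eq_map, Subgroup.range_subtype]
    have hD : ⁅H, H⁆ = ⊥ := by
      rcases hno ⁅H, H⁆ hDle
        (by
          intro h hh
          rw [Subgroup.mem_normalizer_iff]
          intro d
          constructor
          · intro hd
            exact conj_mem_commutator H h (fun k hk => H.mul_mem (H.mul_mem hh hk) (H.inv_mem hh)) d hd
          · intro hd
            have := conj_mem_commutator H h⁻¹
              (fun k hk => H.mul_mem (H.mul_mem (H.inv_mem hh) hk) (H.inv_mem (H.inv_mem hh))) _ hd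
            simpa [mul_assoc] using this)
        (fun x hx d hd => conj_mem_commutator H x (hHn x hx) d hd) with h | h
      · exact h
      · exact absurd h hDne
    have hHc : ∀ a ∈ H, ∀ b ∈ H, a * b = b * a := by
      intro a ha b hb
      have h1 : ⁅a, b⁆ ∈ ⁅H, H⁆ := Subgroup.commutator_mem_commutator ha hb
      rw [hD, Subgroup.mem_bot] at h1
      exact commutatorElement_eq_one_iff_mul_comm.mp h1
    -- exponent
    have hcardH : Nat.card ↥H ≠ 1 := fun h => hH1 (Subgroup.card_eq_one.mp h)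
    obtain ⟨r, hr, hrdvd⟩ := Nat.exists_prime_and_dvd hcardH
    haveI := Fact.mk hr
    let Ω : Subgroup X :=
      { carrier := {h | h ∈ H ∧ h ^ r = 1}
        mul_mem' := by
          rintro a b ⟨ha, har⟩ ⟨hb, hbr⟩
          refine ⟨H.mul_mem ha hb, ?_⟩
          rw [(show Commute a b from hHc a ha b hb).mul_pow, har, hbr, one_mul]
        one_mem' := ⟨H.one_mem, one_pow _⟩
        inv_mem' := by
          rintro a ⟨ha, har⟩
          exact ⟨H.inv_mem ha, by rw [inv_pow, har, inv_one]⟩ }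
    have hΩmem : ∀ h, h ∈ Ω ↔ h ∈ H ∧ h ^ r = 1 := fun h => Iff.rfl
    have hΩle : Ω ≤ H := fun h hh => hh.1
    have hΩne : Ω ≠ ⊥ := by
      obtain ⟨x, hx⟩ := exists_prime_orderOf_dvd_card' (G := ↥H) r hrdvd
      intro hbot
      have h1 : (x : X) ∈ Ω := by
        refine ⟨x.2, ?_⟩
        have : x ^ r = 1 := by rw [← hx, pow_orderOf_eq_one]
        exact congrArg Subtype.val this
      rw [hbot, Subgroup.mem_bot] at h1
      have : x = 1 := Subtype.ext h1
      rw [this, orderOf_one] at hx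
      exact hr.one_lt.ne hx
    have hΩ : Ω = H := by
      rcases hno Ω hΩle
        (by
          intro h hh
          rw [Subgroup.mem_normalizer_iff]
          intro d
          have hconj : ∀ k ∈ H, h * k * h⁻¹ = k := by
            intro k hk
            rw [hHc h hh k hk]
            group
          constructor
          · rintro ⟨hd, hdr⟩
            rw [hconj d hd]
            exact ⟨hd, hdr⟩
          · rintro ⟨hd, hdr⟩
            have hd' : d ∈ H := by
              have : d = h⁻¹ * (h * d * h⁻¹) * h := by group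
              rw [this]
              exact H.mul_mem (H.mul_mem (H.inv_mem hh) hd) hh
            rw [hconj d hd'] at hdr
            exact ⟨hd', hdr⟩)
        (by
          rintro x hx d ⟨hd, hdr⟩
          refine ⟨hHn x hx d hd, ?_⟩
          rw [conj_pow, hdr]
          group) with h | h
      · exact absurd h hΩne
      · exact h
    have hHr : ∀ h ∈ H, h ^ r = 1 := by
      intro h hh
      rw [← hΩ] at hh
      exact hh.2
    exact elemAb_formula U E H r hUn hfpf hHn hHc hHr
      (Nat.Coprime.coprime_dvd_left hrdvd hcop) hUsolv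

/-- **Frobenius fixed point formula** (BG): if the Frobenius group `UE` (kernel `U`, complement `E`)
acts coprimely on the solvable group `H`, then
`|C_H(UE)|^|E| * |H| = |C_H(E)|^|E| * |C_H(U)|`. -/
theorem frobenius_fixed_point_formula {X : Type u} [Group X] [Finite X] (U E H : Subgroup X)
    (hU1 : U ≠ ⊥) (hE1 : E ≠ ⊥) (hUE : U ⊓ E = ⊥) (hUn : ∀ e ∈ E, ∀ u ∈ U, e * u * e⁻¹ ∈ U)
    (hfpf : ∀ e ∈ E, e ≠ 1 → ∀ u ∈ U, e * u = u * e → u = 1)
    (hHn : ∀ x ∈ U ⊔ E, ∀ h ∈ H, x * h * x⁻¹ ∈ H) (hdisj : H ⊓ (U ⊔ E) = ⊥)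
    (hsolv : Group.IsSolvable H) (hcop : Nat.Coprime (Nat.card H) (Nat.card ↥(U ⊔ E))) :
    Nat.card ↥(H ⊓ Subgroup.centralizer ((U ⊔ E : Subgroup X) : Set X)) ^ Nat.card E * Nat.card H =
      Nat.card ↥(H ⊓ Subgroup.centralizer (E : Set X)) ^ Nat.card E *
        Nat.card ↥(H ⊓ Subgroup.centralizer (U : Set X)) :=
  frobenius_formula_aux _ X U E H rfl hU1 hE1 hUE hUn hfpf hHn hdisj hsolv hcop

end Cfsg.Agent.Lib.Helper1.FrobFixed
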