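import Mathlib
import Cfsg.Prelude.Def_Local
import Cfsg.Agent.Lib.Helper1.PCore
import Cfsg.Agent.Lib.Helper1.SZConj
import Cfsg.Agent.Lib.Helper1.Complements
import Cfsg.Agent.Lib.Helper76.PCore
import Cfsg.Agent.Lib.Helper63.PLen2
import Cfsg.Agent.S1443

/-!
The Gaschütz–Yen theorem (helper1): a `p`-soluble group, `p` odd, whose automorphism group
permutes the subgroups of order `p` transitively has `p`-length at most one.

Elementary proof.  Pass to `G / O_{p'}(G)`; put `N = O_p(G)`, `Z = Z(N)`.  `Z` is characteristic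
and contains an element of order `p`, hence all of them.  Let `K / N = O_{p'}(G / N)` and `Q` a
complement of `N` in `K`.  If some element of order `p` centralized `K`, all of them would, so `Q`
would centralize `N` (p odd, S1443), i.e. `Q ≤ C(N) ≤ N`, `Q = 1`, `K = N`, and then `G = N`.
By the Frattini argument `G = K N_G(Q)`, so if `p ∣ |G : N|` then `N_G(Q)` has an element `y` of
order `p`; `y ∈ Z ≤ N` normalizes `Q`, hence centralizes `Q` and `N`, hence `K`: contradiction.
-/

set_option autoImplicit false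
set_option linter.unusedSectionVars false
set_option linter.unusedVariables false

namespace Cfsg.Agent.Lib.Helper1.GaschutzYen

open Cfsg
open Pointwise

section basics

variable {G : Type*} [Group G]

/-- An automorphism maps the centralizer of a characteristic subgroup into itself. -/
theorem map_mem_centralizer_of_characteristic (K : Subgroup G) [hK : K.Characteristic]
    (a : MulAut G) {y : G} (hy : y ∈ Subgroup.centralizer (K : Set G)) :
    a y ∈ Subgroup.centralizer (K : Set G) := by
  rw [Subgroup.mem_centralizer_iff] at hy ⊢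
  intro k hk
  have hk' : a⁻¹ k ∈ K := by
    have := Subgroup.characteristic_iff_comap_eq.1 hK a⁻¹
    rw [← this] at hk
    exact hk
  have h := hy (a⁻¹ k) hk'
  have h2 := congrArg a h
  simpa using h2

theorem map_mem_of_characteristic (K : Subgroup G) [hK : K.Characteristic]
    (a : MulAut G) {y : G} (hy : y ∈ K) : a y ∈ K := by
  have := Subgroup.characteristic_iff_comap_eq.1 hK a
  rw [← this] at hy
  exact hy

end basics


section step1

variable {G : Type*} [Group G] [Finite G] {p : ℕ} [hp : Fact p.Prime]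

/-- The centre `Z(N)` of `N = O_p(G)`, as a subgroup of `G`. -/
def zN (p : ℕ) (G : Type*) [Group G] : Subgroup G :=
  pCore p G ⊓ Subgroup.centralizer (pCore p G : Set G)

theorem map_mem_zN (a : MulAut G) {y : G} (hy : y ∈ zN p G) : a y ∈ zN p G := by
  have hchar : (pCore p G).Characteristic := Cfsg.Agent.Lib.Helper1.pCore_characteristic p
  exact ⟨map_mem_of_characteristic _ a hy.1, map_mem_centralizer_of_characteristic _ a hy.2⟩

/-- If `O_p(G) ≠ 1`, then `Z(O_p(G))` contains an element of order `p`. -/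
theorem exists_orderOf_eq_mem_zN (hN : pCore p G ≠ ⊥) : ∃ z ∈ zN p G, orderOf z = p := by
  have hNp : IsPGroup p (pCore p G) := Cfsg.Agent.Lib.Helper76.pCore_isPGroup p
  have : Nontrivial (pCore p G) := (Subgroup.nontrivial_iff_ne_bot _).2 hN
  have : Nontrivial (Subgroup.center (pCore p G)) := hNp.center_nontrivial
  have hZp : IsPGroup p (Subgroup.center (pCore p G)) := hNp.to_subgroup _
  obtain ⟨n, hn⟩ := IsPGroup.iff_card.1 hZp
  have hn0 : n ≠ 0 := by
    rintro rfl
    have h1 : Nat.card (Subgroup.center (pCore p G)) = 1 := by simpa using hn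
    have := (Nat.card_eq_one_iff_unique.1 h1).1
    exact not_subsingleton _ this
  have hdvd : p ∣ Nat.card (Subgroup.center (pCore p G)) := by
    rw [hn]; exact dvd_pow_self p hn0
  obtain ⟨z, hz⟩ := exists_prime_orderOf_dvd_card' p hdvd
  refine ⟨((z : pCore p G) : G), ⟨(z : pCore p G).2, ?_⟩, ?_⟩
  · show ((z : pCore p G) : G) ∈ Subgroup.centralizer (pCore p G : Set G)
    rw [Subgroup.mem_centralizer_iff]
    intro n hn
    have := Subgroup.mem_center_iff.1 z.2 ⟨n, hn⟩
    have h2 := congrArg (Subtype.val) this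
    simpa using h2
  · have h1 : orderOf (((z : pCore p G) : G)) = orderOf z := by
      rw [Subgroup.orderOf_coe, Subgroup.orderOf_coe]
    rw [h1, hz]

/-- Under transitivity of `Aut G` on subgroups of order `p`, every element of order `p` lies in
`Z(O_p(G))` (if `O_p(G) ≠ 1`). -/
theorem mem_zN_of_orderOf_eq (hN : pCore p G ≠ ⊥)
    (htrans : ∀ U V : Subgroup G, Nat.card U = p → Nat.card V = p →
      ∃ a : MulAut G, U.map a.toMonoidHom = V)
    {x : G} (hx : orderOf x = p) : x ∈ zN p G := by
  obtain ⟨z, hzZ, hz⟩ := exists_orderOf_eq_mem_zN (p := p) hN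
  obtain ⟨a, ha⟩ := htrans (Subgroup.zpowers z) (Subgroup.zpowers x)
    (by rw [Nat.card_zpowers, hz]) (by rw [Nat.card_zpowers, hx])
  have hxm : x ∈ (Subgroup.zpowers z).map a.toMonoidHom := by
    rw [ha]; exact Subgroup.mem_zpowers x
  obtain ⟨u, hu, rfl⟩ := hxm
  have huZ : u ∈ zN p G := by
    obtain ⟨k, rfl⟩ := Subgroup.mem_zpowers_iff.1 hu
    exact Subgroup.zpow_mem _ hzZ k
  exact map_mem_zN a huZ

/-- If one element of order `p` centralizes the characteristic subgroup `K`, all do. -/
theorem mem_centralizer_of_orderOf_eq (K : Subgroup G) [hK : K.Characteristic]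
    (htrans : ∀ U V : Subgroup G, Nat.card U = p → Nat.card V = p →
      ∃ a : MulAut G, U.map a.toMonoidHom = V)
    {y : G} (hy : orderOf y = p) (hyK : y ∈ Subgroup.centralizer (K : Set G))
    {x : G} (hx : orderOf x = p) : x ∈ Subgroup.centralizer (K : Set G) := by
  obtain ⟨a, ha⟩ := htrans (Subgroup.zpowers y) (Subgroup.zpowers x)
    (by rw [Nat.card_zpowers, hy]) (by rw [Nat.card_zpowers, hx])
  have hxm : x ∈ (Subgroup.zpowers y).map a.toMonoidHom := by
    rw [ha]; exact Subgroup.mem_zpowers x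
  obtain ⟨u, hu, rfl⟩ := hxm
  have huZ : u ∈ Subgroup.centralizer (K : Set G) := by
    obtain ⟨k, rfl⟩ := Subgroup.mem_zpowers_iff.1 hu
    exact Subgroup.zpow_mem _ hyK k
  exact map_mem_centralizer_of_characteristic K a huZ

end step1


section main

variable {G : Type*} [Group G] [Finite G] {p : ℕ} [hp : Fact p.Prime]

/-- `O_p(G / O_p(G)) = 1`. -/
theorem pCore_quotient_pCore : pCore p (G ⧸ pCore p G) = ⊥ := by
  have hNp : IsPGroup p (pCore p G) := Cfsg.Agent.Lib.Helper76.pCore_isPGroup p
  have hRn : ((pCore p (G ⧸ pCore p G)).comap (QuotientGroup.mk' (pCore p G))).Normal :=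
    inferInstance
  have hRp : IsPGroup p ((pCore p (G ⧸ pCore p G)).comap (QuotientGroup.mk' (pCore p G))) := by
    apply IsPGroup.comap_of_ker_isPGroup (Cfsg.Agent.Lib.Helper76.pCore_isPGroup p)
      (QuotientGroup.mk' (pCore p G))
    rw [QuotientGroup.ker_mk']; exact hNp
  have hRN := Cfsg.Agent.Lib.Helper76.le_pCore p _ hRn hRp
  rw [eq_bot_iff]
  intro x hx
  obtain ⟨g, rfl⟩ := QuotientGroup.mk'_surjective (pCore p G) x
  have h1 : g ∈ (pCore p (G ⧸ pCore p G)).comap (QuotientGroup.mk' (pCore p G)) := hx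
  have h2 := hRN h1
  rw [Subgroup.mem_bot]
  exact (QuotientGroup.eq_one_iff g).2 h2

theorem centralizer_bot_eq_top {H : Type*} [Group H] :
    Subgroup.centralizer (((⊥ : Subgroup H) : Subgroup H) : Set H) = ⊤ := by
  rw [eq_top_iff]
  intro g _
  rw [Subgroup.mem_centralizer_iff]
  intro n hn
  have : n = 1 := by simpa using hn
  subst this
  simp

theorem mem_normalizer_of_conj_smul_eq {H : Type*} [Group H] (Q : Subgroup H) (m : H)
    (h : MulAut.conj m • Q = Q) : m ∈ Subgroup.normalizer (Q : Set H) := by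
  rw [Subgroup.mem_normalizer_iff]
  intro x
  constructor
  · intro hx
    rw [← h]
    exact (Subgroup.mem_smul_pointwise_iff_exists _ _ _).2 ⟨x, hx, by simp [MulAut.smul_def]⟩
  · intro hx
    rw [← h] at hx
    obtain ⟨s, hs, hsx⟩ := (Subgroup.mem_smul_pointwise_iff_exists _ _ _).1 hx
    have : s = x := by
      have h2 : m * s * m⁻¹ = m * x * m⁻¹ := by simpa [MulAut.smul_def] using hsx
      have h3 := mul_right_cancel h2
      exact mul_left_cancel h3
    rw [← this]; exact hs

end main


section mainthm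

variable {G : Type*} [Group G] [Finite G] {p : ℕ} [hp : Fact p.Prime]

/-- **Main lemma.** `G` finite `p`-soluble, `p` odd, `O_{p'}(G) = 1`, `Aut G` transitive on the
subgroups of order `p`.  Then `O_p(G)` is a Sylow `p`-subgroup of `G`. -/
theorem not_dvd_index_pCore (hp2 : p ≠ 2) (hsol : IsPSolvable p G)
    (hcore : ∀ N : Subgroup G, N.Normal → (Nat.card N).Coprime p → N = ⊥)
    (htrans : ∀ U V : Subgroup G, Nat.card U = p → Nat.card V = p →
      ∃ a : MulAut G, U.map a.toMonoidHom = V) : ¬ p ∣ (pCore p G).index := by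
  intro hdvd
  have hNn : (pCore p G).Normal := inferInstance
  have hNchar : (pCore p G).Characteristic := Cfsg.Agent.Lib.Helper1.pCore_characteristic p
  have hNp : IsPGroup p (pCore p G) := Cfsg.Agent.Lib.Helper76.pCore_isPGroup p
  have hCN : Subgroup.centralizer (pCore p G : Set G) ≤ pCore p G :=
    Cfsg.Agent.Lib.Helper76.centralizer_pCore_le p hsol hcore
  -- `N ≠ 1`
  have hN1 : pCore p G ≠ ⊥ := by
    intro h
    have h1 : (⊤ : Subgroup G) ≤ pCore p G := by
      refine le_trans ?_ hCN
      rw [h, centralizer_bot_eq_top]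
    have h2 : pCore p G = ⊤ := top_le_iff.1 h1
    rw [h2, Subgroup.index_top] at hdvd
    exact hp.out.one_lt.ne' (Nat.dvd_one.1 hdvd)
  -- the subgroup `K`
  have hPchar : (pPrimeCore p (G ⧸ pCore p G)).Characteristic :=
    Cfsg.Agent.Lib.Helper1.pPrimeCore_characteristic p
  have hKchar : ((pPrimeCore p (G ⧸ pCore p G)).comap (QuotientGroup.mk' (pCore p G))).Characteristic :=
    Cfsg.Agent.Lib.Helper63.comap_mk'_characteristic _ _
  obtain ⟨K, hKdef⟩ : ∃ K : Subgroup G,
      K = (pPrimeCore p (G ⧸ pCore p G)).comap (QuotientGroup.mk' (pCore p G)) := ⟨_, rfl⟩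
  rw [← hKdef] at hKchar
  have hKn : K.Normal := by rw [hKdef]; infer_instance
  have hNK : pCore p G ≤ K := by
    rw [hKdef]
    conv_lhs => rw [← QuotientGroup.ker_mk' (pCore p G)]
    exact Subgroup.ker_le_comap _ _
  have hKmap : K.map (QuotientGroup.mk' (pCore p G)) = pPrimeCore p (G ⧸ pCore p G) := by
    rw [hKdef]
    exact Subgroup.map_comap_eq_self_of_surjective (QuotientGroup.mk'_surjective _) _
  have hPcop : (Nat.card (pPrimeCore p (G ⧸ pCore p G))).Coprime p :=
    Cfsg.Agent.Lib.Helper76.pPrimeCore_coprime p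
  have hrel : (pCore p G).relIndex K = Nat.card (pPrimeCore p (G ⧸ pCore p G)) := by
    rw [← hKmap, ← Subgroup.relIndex_ker, QuotientGroup.ker_mk']
  -- `K ≠ N`
  have hKN : ¬ K ≤ pCore p G := by
    intro hKN
    have hPbot : pPrimeCore p (G ⧸ pCore p G) = ⊥ := by
      rw [← hKmap, eq_bot_iff]
      calc K.map (QuotientGroup.mk' (pCore p G))
          ≤ (pCore p G).map (QuotientGroup.mk' (pCore p G)) := Subgroup.map_mono hKN
        _ = ⊥ := (Subgroup.map_eq_bot_iff _).2 (QuotientGroup.ker_mk' (pCore p G)).ge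
    have hsolq : IsPSolvable p (G ⧸ pCore p G) :=
      Cfsg.Agent.Lib.Helper76.IsPSolvable_of_surjective p (QuotientGroup.mk' (pCore p G))
        (QuotientGroup.mk'_surjective _) hsol
    have hcoreq : ∀ M : Subgroup (G ⧸ pCore p G), M.Normal → (Nat.card M).Coprime p → M = ⊥ := by
      intro M hM hMc
      have := Cfsg.Agent.Lib.Helper76.le_pPrimeCore p M hM hMc
      rw [eq_bot_iff]
      exact this.trans hPbot.le
    have h1 := Cfsg.Agent.Lib.Helper76.centralizer_pCore_le p hsolq hcoreq
    rw [pCore_quotient_pCore, centralizer_bot_eq_top] at h1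
    have h2 : Nat.card (G ⧸ pCore p G) = 1 := by
      rw [Nat.card_eq_one_iff_unique]
      refine ⟨⟨fun a b => ?_⟩, ⟨1⟩⟩
      have ha : a ∈ (⊥ : Subgroup (G ⧸ pCore p G)) := h1 (Subgroup.mem_top a)
      have hb : b ∈ (⊥ : Subgroup (G ⧸ pCore p G)) := h1 (Subgroup.mem_top b)
      rw [Subgroup.mem_bot] at ha hb
      rw [ha, hb]
    rw [Subgroup.index_eq_card, h2] at hdvd
    exact hp.out.one_lt.ne' (Nat.dvd_one.1 hdvd)
  -- the complement `Q`
  obtain ⟨n, hn⟩ := IsPGroup.iff_card.1 hNp
  have hcopNP : (Nat.card (pCore p G)).Coprime (Nat.card (pPrimeCore p (G ⧸ pCore p G))) := by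
    rw [hn]
    exact Nat.Coprime.pow_left n hPcop.symm
  have hcop' : (Nat.card ((pCore p G).subgroupOf K)).Coprime ((pCore p G).subgroupOf K).index := by
    rw [Cfsg.Agent.Lib.Helper1.card_subgroupOf_of_le hNK]
    show (Nat.card (pCore p G)).Coprime ((pCore p G).relIndex K)
    rw [hrel]
    exact hcopNP
  obtain ⟨Q', hQ'⟩ := Subgroup.exists_right_complement'_of_coprime hcop'
  obtain ⟨Q, hQdef⟩ : ∃ Q : Subgroup G, Q = Q'.map K.subtype := ⟨_, rfl⟩
  have hQK : Q ≤ K := by
    rw [hQdef]
    intro x hx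
    obtain ⟨y, _, rfl⟩ := hx
    exact y.2
  have hQcard : Nat.card Q = Nat.card (pPrimeCore p (G ⧸ pCore p G)) := by
    rw [hQdef, Subgroup.card_map_of_injective K.subtype_injective, ← hQ'.symm.index_eq_card]
    show (pCore p G).relIndex K = _
    exact hrel
  have hQcop : (Nat.card Q).Coprime p := by rw [hQcard]; exact hPcop
  have hcopNQ : (Nat.card (pCore p G)).Coprime (Nat.card Q) := by rw [hQcard]; exact hcopNP
  have hNQ : pCore p G ⊓ Q = ⊥ := (Subgroup.disjoint_of_coprime_natCard hcopNQ).eq_bot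
  have hsup : K = Q ⊔ pCore p G := by
    have h1 := hQ'.sup_eq_top
    have h2 := congrArg (Subgroup.map K.subtype) h1
    rw [Subgroup.map_sup, Subgroup.subgroupOf_map_subtype, ← hQdef, inf_of_le_left hNK,
      ← MonoidHom.range_eq_map, Subgroup.range_subtype] at h2
    rw [← h2, sup_comm]
  -- Step 4: no element of order `p` centralizes `K`
  have hstep4 : ∀ y : G, orderOf y = p → y ∉ Subgroup.centralizer (K : Set G) := by
    intro y hy hyK
    have hall : ∀ x : G, orderOf x = p → x ∈ Subgroup.centralizer (K : Set G) :=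
      fun x hx => mem_centralizer_of_orderOf_eq K htrans hy hyK hx
    have hQC : Q ≤ Subgroup.centralizer (pCore p G : Set G) := by
      apply Cfsg.Agent.S1443.result p hp2 (pCore p G) ⊥ Q hNp bot_le
      · refine ⟨⟨⟨fun a b => ?_⟩⟩, ?_⟩
        · have ha : (a : G) = 1 := Subgroup.mem_bot.1 a.2
          have hb : (b : G) = 1 := Subgroup.mem_bot.1 b.2
          apply Subtype.ext
          simp [ha, hb]
        · intro a ha
          have : a = 1 := by simpa using ha
          rw [this, one_pow]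
      · rw [Subgroup.normalizer_eq_top]; exact le_top
      · exact hQcop
      · intro x _ hx q hq
        have h1 := hall x hx
        rw [Subgroup.mem_centralizer_iff] at h1 ⊢
        intro h hh
        rw [Set.mem_singleton_iff] at hh
        subst hh
        exact (h1 q (hQK hq)).symm
    have hQN : Q ≤ pCore p G := hQC.trans hCN
    have hQbot : Q = ⊥ := by
      rw [eq_bot_iff, ← hNQ]
      exact le_inf hQN le_rfl
    apply hKN
    rw [hsup, hQbot, bot_sup_eq]
  -- Step 5: Frattini argument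
  have hfrat : ∀ g : G, g ∈ Subgroup.normalizer (Q : Set G) ⊔ K := by
    intro g
    have hc1 : Subgroup.IsComplement' ((pCore p G).subgroupOf K) (Q.subgroupOf K) :=
      Cfsg.Agent.Lib.Helper1.isComplement'_subgroupOf_sup hcopNQ hsup
    have hgQ : MulAut.conj g • Q ≤ K := by
      have h1 : MulAut.conj g • Q ≤ MulAut.conj g • K :=
        Subgroup.pointwise_smul_le_pointwise_smul_iff.mpr hQK
      rwa [Subgroup.Normal.conj_smul_eq_self g K] at h1
    have hsupg : K = MulAut.conj g • Q ⊔ pCore p G := by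
      have h1 : MulAut.conj g • K = MulAut.conj g • (Q ⊔ pCore p G) := by rw [← hsup]
      rw [Subgroup.Normal.conj_smul_eq_self g K, Subgroup.smul_sup,
        Subgroup.Normal.conj_smul_eq_self g (pCore p G)] at h1
      exact h1
    have hc2 : Subgroup.IsComplement' ((pCore p G).subgroupOf K)
        ((MulAut.conj g • Q).subgroupOf K) :=
      Cfsg.Agent.Lib.Helper1.isComplement'_subgroupOf_sup
        (by rw [Cfsg.Agent.Lib.Helper1.card_conj_smul]; exact hcopNQ) hsupg
    have hsolN : Group.IsSolvable ((pCore p G).subgroupOf K) := by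
      have h1 : IsPGroup p ((pCore p G).subgroupOf K) := by
        apply IsPGroup.of_injective hNp ((pCore p G).subgroupOfEquivOfLe hNK).toMonoidHom
        exact ((pCore p G).subgroupOfEquivOfLe hNK).injective
      have := h1.isNilpotent
      infer_instance
    obtain ⟨l, hl⟩ := Cfsg.Agent.Lib.Helper1.exists_conj_eq_of_isComplement'
      ((pCore p G).subgroupOf K) (Q.subgroupOf K) ((MulAut.conj g • Q).subgroupOf K) hc1 hc2
      (by
        rw [Cfsg.Agent.Lib.Helper1.card_subgroupOf_of_le hNK,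
          Cfsg.Agent.Lib.Helper1.card_subgroupOf_of_le hQK]
        exact hcopNQ)
      (Or.inl hsolN)
    have hl' : MulAut.conj (l : G) • Q = MulAut.conj g • Q :=
      Cfsg.Agent.Lib.Helper1.conj_smul_eq_of_subgroupOf hQK hgQ l hl
    have hm : (l : G)⁻¹ * g ∈ Subgroup.normalizer (Q : Set G) := by
      apply mem_normalizer_of_conj_smul_eq
      rw [← Cfsg.Agent.Lib.Helper1.conj_smul_conj_smul, ← hl',
        Cfsg.Agent.Lib.Helper1.conj_smul_conj_smul, inv_mul_cancel,
        Cfsg.Agent.Lib.Helper1.conj_one_smul]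
    have hg : g = (l : G) * ((l : G)⁻¹ * g) := by group
    rw [hg, sup_comm]
    exact Subgroup.mul_mem_sup l.2 hm
  have htop : Subgroup.normalizer (Q : Set G) ⊔ K = ⊤ := by
    rw [eq_top_iff]; intro g _; exact hfrat g
  -- `p ∣ |N_G(Q)|`
  have hpK : p ∣ K.index := by
    have h1 := Subgroup.relIndex_mul_index hNK
    rw [← h1, hrel] at hdvd
    exact (Nat.Coprime.dvd_mul_left (Nat.Coprime.symm hPcop)).1 hdvd
  have hpM : p ∣ Nat.card (Subgroup.normalizer (Q : Set G)) := by
    have h1 : K.index = K.relIndex (Subgroup.normalizer (Q : Set G)) := by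
      rw [← Subgroup.relIndex_sup_right, htop, Subgroup.relIndex_top_right]
    rw [h1] at hpK
    exact hpK.trans (Subgroup.relIndex_dvd_card _ _)
  -- Step 6: contradiction
  obtain ⟨y, hy⟩ := exists_prime_orderOf_dvd_card' p hpM
  have hy' : orderOf ((y : G)) = p := by rw [Subgroup.orderOf_coe]; exact hy
  have hyZ : (y : G) ∈ zN p G := mem_zN_of_orderOf_eq hN1 htrans hy'
  apply hstep4 (y : G) hy'
  rw [Subgroup.mem_centralizer_iff]
  intro k hk
  rw [hsup] at hk
  -- `y` centralizes `Q ⊔ N`
  have hyQ : ∀ q ∈ Q, q * (y : G) = (y : G) * q := by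
    intro q hq
    have h1 : (y : G) * q * (y : G)⁻¹ ∈ Q := (Subgroup.mem_normalizer_iff.1 y.2 q).1 hq
    have h2 : (y : G) * q * (y : G)⁻¹ * q⁻¹ ∈ Q := Q.mul_mem h1 (Q.inv_mem hq)
    have h3 : (y : G) * q * (y : G)⁻¹ * q⁻¹ ∈ pCore p G := by
      have h4 : q * (y : G)⁻¹ * q⁻¹ ∈ pCore p G :=
        hNn.conj_mem _ (Subgroup.inv_mem _ hyZ.1) q
      have := Subgroup.mul_mem _ hyZ.1 h4
      simpa [mul_assoc] using this
    have h5 : (y : G) * q * (y : G)⁻¹ * q⁻¹ ∈ pCore p G ⊓ Q := ⟨h3, h2⟩
    rw [hNQ, Subgroup.mem_bot] at h5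
    have h6 : (y : G) * q * (y : G)⁻¹ = q := by
      have := mul_inv_eq_one.1 h5
      exact this
    have h7 : (y : G) * q = q * (y : G) := by
      have := mul_inv_eq_iff_eq_mul.1 h6
      exact this
    exact h7.symm
  have hyC : (Q ⊔ pCore p G) ≤ Subgroup.centralizer ({(y : G)} : Set G) := by
    rw [sup_le_iff]
    constructor
    · intro q hq
      rw [Subgroup.mem_centralizer_iff]
      intro h hh
      rw [Set.mem_singleton_iff] at hh
      subst hh
      exact (hyQ q hq).symm
    · intro n hn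
      rw [Subgroup.mem_centralizer_iff]
      intro h hh
      rw [Set.mem_singleton_iff] at hh
      subst hh
      have := Subgroup.mem_centralizer_iff.1 hyZ.2 n hn
      exact this.symm
  have := hyC hk
  rw [Subgroup.mem_centralizer_iff] at this
  exact (this (y : G) rfl).symm

end mainthm


section final

variable {G : Type*} [Group G] [Finite G] {p : ℕ} [hp : Fact p.Prime]

/-- A subgroup of order `p` of `G / R`, `R` normal of order prime to `p`, is the image of a
subgroup of order `p` of `G`. -/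
theorem exists_lift_of_card_eq (R : Subgroup G) [R.Normal] (hR : (Nat.card R).Coprime p)
    (U : Subgroup (G ⧸ R)) (hU : Nat.card U = p) :
    ∃ U₀ : Subgroup G, Nat.card U₀ = p ∧ U₀.map (QuotientGroup.mk' R) = U := by
  have hUnt : U ≠ ⊥ := by
    intro h
    rw [h, Subgroup.card_bot] at hU
    exact hp.out.one_lt.ne hU
  obtain ⟨⟨x, hxU⟩, hx⟩ := (Subgroup.ne_bot_iff_exists_ne_one).1 hUnt
  have hx1 : x ≠ 1 := fun h => hx (Subtype.ext h)
  obtain ⟨u, rfl⟩ := QuotientGroup.mk'_surjective R x
  set c := Nat.card R with hc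
  have hxp : ((QuotientGroup.mk' R) u) ^ p = 1 := by
    have h1 : (⟨_, hxU⟩ : U) ^ Nat.card U = 1 := pow_card_eq_one'
    rw [hU] at h1
    have h2 := congrArg (Subtype.val) h1
    simpa using h2
  have hup : u ^ p ∈ R := by
    rw [← QuotientGroup.eq_one_iff]
    exact hxp
  have h1 : (u ^ c) ^ p = 1 := by
    rw [← pow_mul, mul_comm, pow_mul]
    have h2 : (⟨u ^ p, hup⟩ : R) ^ Nat.card R = 1 := pow_card_eq_one'
    have h3 : ((⟨u ^ p, hup⟩ : R) ^ Nat.card R : R).1 = (1 : R).1 := congrArg (Subtype.val) h2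
    rw [Subgroup.coe_pow, Subgroup.coe_one] at h3
    exact h3
  have hxc : ((QuotientGroup.mk' R) u) ^ c ≠ 1 := by
    intro h
    have hord : orderOf ((QuotientGroup.mk' R) u) = p := by
      have hdvd := orderOf_dvd_of_pow_eq_one hxp
      rcases (Nat.dvd_prime hp.out).1 hdvd with h2 | h2
      · exact absurd (orderOf_eq_one_iff.1 h2) hx1
      · exact h2
    have h2 := orderOf_dvd_of_pow_eq_one h
    rw [hord] at h2
    have h3 : p ∣ Nat.gcd c p := Nat.dvd_gcd h2 dvd_rfl
    rw [Nat.Coprime.gcd_eq_one hR] at h3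
    exact hp.out.one_lt.ne' (Nat.dvd_one.1 h3)
  have huc1 : u ^ c ≠ 1 := by
    intro h
    apply hxc
    rw [← map_pow, h, map_one]
  have hord : orderOf (u ^ c) = p := by
    have hdvd := orderOf_dvd_of_pow_eq_one h1
    rcases (Nat.dvd_prime hp.out).1 hdvd with h2 | h2
    · exact absurd (orderOf_eq_one_iff.1 h2) huc1
    · exact h2
  refine ⟨Subgroup.zpowers (u ^ c), by rw [Nat.card_zpowers, hord], ?_⟩
  rw [MonoidHom.map_zpowers]
  apply Subgroup.eq_of_le_of_card_ge
  · rw [Subgroup.zpowers_le, map_pow]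
    exact Subgroup.pow_mem _ hxU c
  · rw [hU, Nat.card_zpowers]
    have hdvd : orderOf ((QuotientGroup.mk' R) (u ^ c)) ∣ p := by
      apply orderOf_dvd_of_pow_eq_one
      rw [← map_pow, h1, map_one]
    rcases (Nat.dvd_prime hp.out).1 hdvd with h2 | h2
    · exfalso
      apply hxc
      rw [← map_pow]
      exact orderOf_eq_one_iff.1 h2
    · exact h2.ge

/-- The transitivity hypothesis passes to `G / O_{p'}(G)`. -/
theorem trans_quotient (R : Subgroup G) [R.Normal] [hRc : R.Characteristic]
    (hR : (Nat.card R).Coprime p)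
    (htrans : ∀ U V : Subgroup G, Nat.card U = p → Nat.card V = p →
      ∃ a : MulAut G, U.map a.toMonoidHom = V) :
    ∀ U V : Subgroup (G ⧸ R), Nat.card U = p → Nat.card V = p →
      ∃ a : MulAut (G ⧸ R), U.map a.toMonoidHom = V := by
  intro U V hU hV
  obtain ⟨U₀, hU₀, rfl⟩ := exists_lift_of_card_eq R hR U hU
  obtain ⟨V₀, hV₀, rfl⟩ := exists_lift_of_card_eq R hR V hV
  obtain ⟨a, ha⟩ := htrans U₀ V₀ hU₀ hV₀
  have hRa : R.map a.toMonoidHom = R := Subgroup.characteristic_iff_map_eq.1 hRc a
  refine ⟨QuotientGroup.congr R R a hRa, ?_⟩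
  rw [← ha, Subgroup.map_map, Subgroup.map_map]
  congr 1

/-- **Gaschütz–Yen.** -/
theorem pLengthLE_one (hp2 : p ≠ 2) (hsol : IsPSolvable p G)
    (htrans : ∀ U V : Subgroup G, Nat.card U = p → Nat.card V = p →
      ∃ a : MulAut G, U.map a.toMonoidHom = V) : PLengthLE p 1 G := by
  have hRn : (pPrimeCore p G).Normal := inferInstance
  have hRc : (pPrimeCore p G).Characteristic := Cfsg.Agent.Lib.Helper1.pPrimeCore_characteristic p
  have hRcop : (Nat.card (pPrimeCore p G)).Coprime p := Cfsg.Agent.Lib.Helper76.pPrimeCore_coprime p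
  have hsolq : IsPSolvable p (G ⧸ pPrimeCore p G) :=
    Cfsg.Agent.Lib.Helper76.IsPSolvable_of_surjective p (QuotientGroup.mk' (pPrimeCore p G))
      (QuotientGroup.mk'_surjective _) hsol
  have hcoreq := Cfsg.Agent.Lib.Helper76.quotient_pPrimeCore_core_trivial (G := G) p
  have htransq := trans_quotient (pPrimeCore p G) hRcop htrans
  have hmain := not_dvd_index_pCore hp2 hsolq hcoreq htransq
  -- `G / O_{p'}(G)` has `p`-length at most one
  have hq : PLengthLE p 1 (G ⧸ pPrimeCore p G) := by
    have h1 : PLengthLE p 1 (pCore p (G ⧸ pPrimeCore p G)) :=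
      Cfsg.Agent.Lib.Helper63.PLengthLE.one_of_isPGroup (Cfsg.Agent.Lib.Helper76.pCore_isPGroup p)
    have h0 : PLengthLE p 0 ((G ⧸ pPrimeCore p G) ⧸ pCore p (G ⧸ pPrimeCore p G)) := by
      apply Cfsg.Agent.Lib.Helper63.PLengthLE.zero_of_coprime
      rw [← Subgroup.index_eq_card]
      exact (Nat.Prime.coprime_iff_not_dvd hp.out).2 hmain |>.symm
    exact Cfsg.Agent.Lib.Helper63.PLengthLE.extension (pCore p (G ⧸ pPrimeCore p G)) h1 h0
  have h0 : PLengthLE p 0 (pPrimeCore p G) :=
    Cfsg.Agent.Lib.Helper63.PLengthLE.zero_of_coprime hRcop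
  have := Cfsg.Agent.Lib.Helper63.PLengthLE.extension (pPrimeCore p G) h0 hq
  simpa using this

end final

end Cfsg.Agent.Lib.Helper1.GaschutzYen
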