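import Mathlib
import Cfsg.Prelude.Def_HallClasses

/-!
S2538 / S2535 module [W8] (helper71 #3625): the group `S_4 wr S_2` of an 8-set `β` attached to a
4-subset `B` (the stabilizer of the partition `{B, Bᶜ}`), its order `1152`, oddness and conjugacy.
The definition needs no hypothesis: the carrier is a subgroup for every `B`.
-/

set_option autoImplicit false

namespace Cfsg.Agent.Lib.Helper1.HallAlt

open Cfsg Equiv

variable {β : Type} [Fintype β] [DecidableEq β]

omit [Fintype β] [DecidableEq β] in
theorem perm_apply_inv (σ : Perm β) (x : β) : σ (σ⁻¹ x) = x := σ.apply_symm_apply x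

omit [Fintype β] [DecidableEq β] in
theorem map_eq_iff (B : Finset β) (σ : Perm β) :
    B.map σ.toEmbedding = B ↔ ∀ x, σ x ∈ B ↔ x ∈ B := by
  constructor
  · intro h x
    conv_lhs => rw [← h]
    exact Finset.mem_map' σ.toEmbedding
  · intro h
    ext y
    rw [Finset.mem_map_equiv, ← h (σ.symm y), Equiv.apply_symm_apply]

theorem map_eq_compl_iff (B : Finset β) (σ : Perm β) :
    B.map σ.toEmbedding = Bᶜ ↔ ∀ x, σ x ∈ B ↔ x ∉ B := by
  constructor
  · intro h x
    have h1 : σ x ∈ B.map σ.toEmbedding ↔ x ∈ B := Finset.mem_map' σ.toEmbedding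
    rw [h, Finset.mem_compl] at h1
    tauto
  · intro h
    ext y
    rw [Finset.mem_map_equiv, Finset.mem_compl]
    have := h (σ.symm y)
    rw [Equiv.apply_symm_apply] at this
    tauto

/-- The stabilizer of the partition `{B, Bᶜ}`. -/
def wreathEight (B : Finset β) : Subgroup (Perm β) where
  carrier := {σ | B.map σ.toEmbedding = B ∨ B.map σ.toEmbedding = Bᶜ}
  one_mem' := by
    left
    rw [map_eq_iff]
    intro x
    rfl
  mul_mem' := by
    intro σ τ hσ hτ
    simp only [Set.mem_ofPred_eq, map_eq_iff, map_eq_compl_iff, Perm.mul_apply] at hσ hτ ⊢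
    rcases hσ with hσ | hσ <;> rcases hτ with hτ | hτ
    · left; intro x; rw [hσ, hτ]
    · right; intro x; rw [hσ, hτ]
    · right; intro x; rw [hσ, hτ]
    · left; intro x; rw [hσ, hτ, not_not]
  inv_mem' := by
    intro σ hσ
    simp only [Set.mem_ofPred_eq, map_eq_iff, map_eq_compl_iff] at hσ ⊢
    rcases hσ with hσ | hσ
    · left; intro x
      have := hσ (σ⁻¹ x)
      rw [perm_apply_inv] at this
      exact this.symm
    · right; intro x
      have := hσ (σ⁻¹ x)
      rw [perm_apply_inv] at this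
      tauto

theorem mem_wreathEight' (B : Finset β) (σ : Perm β) :
    σ ∈ wreathEight B ↔ (B.map σ.toEmbedding = B ∨ B.map σ.toEmbedding = Bᶜ) := Iff.rfl

theorem mem_wreathEight (hcard : Fintype.card β = 8) (B : Finset β) (hB : B.card = 4) (σ : Perm β) :
    σ ∈ wreathEight B ↔ (B.map σ.toEmbedding = B ∨ B.map σ.toEmbedding = Bᶜ) := Iff.rfl

/-- The setwise stabilizer of `B`. -/
def setStab (B : Finset β) : Subgroup (Perm β) where
  carrier := {σ | B.map σ.toEmbedding = B}
  one_mem' := by
    show B.map (1 : Perm β).toEmbedding = B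
    rw [map_eq_iff]; intro x; rfl
  mul_mem' := by
    intro σ τ hσ hτ
    simp only [Set.mem_ofPred_eq, map_eq_iff, Perm.mul_apply] at hσ hτ ⊢
    intro x; rw [hσ, hτ]
  inv_mem' := by
    intro σ hσ
    simp only [Set.mem_ofPred_eq, map_eq_iff] at hσ ⊢
    intro x
    have := hσ (σ⁻¹ x)
    rw [perm_apply_inv] at this
    exact this.symm

theorem mem_setStab (B : Finset β) (σ : Perm β) :
    σ ∈ setStab B ↔ ∀ x, σ x ∈ B ↔ x ∈ B := by
  show B.map σ.toEmbedding = B ↔ _
  exact map_eq_iff B σ

theorem setStab_le (B : Finset β) : setStab B ≤ wreathEight B := fun _ h => Or.inl h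

/-- The setwise stabilizer of `B` is the image of `Sym(B) × Sym(Bᶜ)`. -/
theorem setStab_eq_range (B : Finset β) :
    setStab B = (Perm.subtypeCongrHom (fun x => x ∈ B)).range := by
  ext σ
  rw [mem_setStab, MonoidHom.mem_range]
  constructor
  · intro h
    have h1 : ∀ x, σ x ∈ B ↔ x ∈ B := h
    have h2 : ∀ x, ¬ σ x ∈ B ↔ ¬ x ∈ B := fun x => not_congr (h1 x)
    refine ⟨(σ.subtypePerm h1, σ.subtypePerm h2), ?_⟩
    ext x
    by_cases hx : x ∈ B
    · rw [Perm.subtypeCongrHom_apply, Perm.subtypeCongr.left_apply _ _ hx]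
      rfl
    · rw [Perm.subtypeCongrHom_apply, Perm.subtypeCongr.right_apply _ _ hx]
      rfl
  · rintro ⟨⟨a, b⟩, rfl⟩ x
    by_cases hx : x ∈ B
    · rw [Perm.subtypeCongrHom_apply, Perm.subtypeCongr.left_apply _ _ hx]
      simp [hx]
    · rw [Perm.subtypeCongrHom_apply, Perm.subtypeCongr.right_apply _ _ hx]
      have := (b ⟨x, hx⟩).2
      simp [hx, this]

theorem card_setStab (B : Finset β) :
    Nat.card (setStab B) = B.card.factorial * (Fintype.card β - B.card).factorial := by
  rw [setStab_eq_range]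
  rw [Nat.card_congr (MonoidHom.ofInjective
    (Perm.subtypeCongrHom_injective (fun x => x ∈ B))).toEquiv.symm]
  rw [Nat.card_eq_fintype_card, Fintype.card_prod, Fintype.card_perm, Fintype.card_perm]
  congr 2
  · exact Fintype.card_coe B
  · rw [Fintype.card_subtype_compl, Fintype.card_coe]

/-- A permutation mapping `B` onto `B'`. -/
theorem exists_perm_map_eq (B B' : Finset β) (h : B.card = B'.card) :
    ∃ g : Perm β, B.map g.toEmbedding = B' := by
  have e1 : {x // x ∈ B} ≃ {x // x ∈ B'} := Fintype.equivOfCardEq (by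
    rw [Fintype.card_coe, Fintype.card_coe, h])
  have e2 : {x // ¬ x ∈ B} ≃ {x // ¬ x ∈ B'} := Fintype.equivOfCardEq (by
    rw [Fintype.card_subtype_compl, Fintype.card_subtype_compl, Fintype.card_coe,
      Fintype.card_coe, h])
  refine ⟨Equiv.subtypeCongr e1 e2, ?_⟩
  have key : ∀ x, (Equiv.subtypeCongr e1 e2) x ∈ B' ↔ x ∈ B := by
    intro x
    by_cases hx : x ∈ B
    · have h1 : Equiv.subtypeCongr e1 e2 x = (e1 ⟨x, hx⟩ : β) := by
        simp [Equiv.subtypeCongr, hx]
      rw [h1]
      exact ⟨fun _ => hx, fun _ => (e1 ⟨x, hx⟩).2⟩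
    · have h1 : Equiv.subtypeCongr e1 e2 x = (e2 ⟨x, hx⟩ : β) := by
        simp [Equiv.subtypeCongr, hx]
      rw [h1]
      exact ⟨fun h => absurd h (e2 ⟨x, hx⟩).2, fun h => absurd h hx⟩
  ext y
  rw [Finset.mem_map_equiv]
  have := key ((Equiv.subtypeCongr e1 e2).symm y)
  rw [Equiv.apply_symm_apply] at this
  exact this.symm

theorem compl_ne_self (hcard : 0 < Fintype.card β) (B : Finset β) : Bᶜ ≠ B := by
  intro h
  obtain ⟨x⟩ : Nonempty β := Fintype.card_pos_iff.mp hcard
  by_cases hx : x ∈ B
  · have : x ∈ Bᶜ := by rw [h]; exact hx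
    exact (Finset.mem_compl.mp this) hx
  · have : x ∈ B := by rw [← h]; exact Finset.mem_compl.mpr hx
    exact hx this

theorem card_wreathEight (hcard : Fintype.card β = 8) (B : Finset β) (hB : B.card = 4) :
    Nat.card (wreathEight B) = 1152 ∧ ¬ wreathEight B ≤ alternatingGroup β := by
  have hne : Bᶜ ≠ B := compl_ne_self (by omega) B
  constructor
  · -- a permutation exchanging `B` and `Bᶜ`
    obtain ⟨τ, hτ⟩ := exists_perm_map_eq B Bᶜ (by rw [Finset.card_compl, hcard, hB])
    have hτW : τ ∈ wreathEight B := Or.inr hτ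
    have hτ' := (map_eq_compl_iff B τ).mp hτ
    -- index two
    have hidx : ((setStab B).subgroupOf (wreathEight B)).index = 2 := by
      rw [Subgroup.index_eq_two_iff]
      refine ⟨⟨τ, hτW⟩, ?_⟩
      rintro ⟨b, hb⟩
      simp only [Subgroup.mem_subgroupOf, Subgroup.coe_mul, mem_setStab, Perm.mul_apply]
      rcases hb with hb | hb
      · have hb' := (map_eq_iff B b).mp hb
        refine Or.inr ⟨hb', ?_⟩
        intro h
        obtain ⟨x⟩ : Nonempty β := Fintype.card_pos_iff.mp (by omega)
        have := h x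
        rw [hb', hτ'] at this
        tauto
      · have hb' := (map_eq_compl_iff B b).mp hb
        refine Or.inl ⟨?_, ?_⟩
        · intro x; rw [hb', hτ', not_not]
        · intro h
          obtain ⟨x⟩ : Nonempty β := Fintype.card_pos_iff.mp (by omega)
          have := h x
          rw [hb'] at this
          tauto
    have h1 := ((setStab B).subgroupOf (wreathEight B)).card_mul_index
    rw [hidx, Nat.card_congr (Subgroup.subgroupOfEquivOfLe (setStab_le B)).toEquiv,
      card_setStab, hcard, hB] at h1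
    rw [← h1]
    decide
  · -- a transposition inside `B`
    intro hle
    have h2 : 1 < B.card := by omega
    obtain ⟨a, ha, b, hb, hab⟩ := Finset.one_lt_card.mp h2
    have hsw : swap a b ∈ wreathEight B := by
      left
      rw [map_eq_iff]
      intro x
      by_cases hxa : x = a
      · subst hxa; rw [swap_apply_left]; tauto
      · by_cases hxb : x = b
        · subst hxb; rw [swap_apply_right]; tauto
        · rw [swap_apply_of_ne_of_ne hxa hxb]
    have := hle hsw
    rw [Equiv.Perm.mem_alternatingGroup, Equiv.Perm.sign_swap hab] at this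
    exact absurd this (by decide)

theorem wreathEight_conj (hcard : Fintype.card β = 8) (B B' : Finset β) (hB : B.card = 4)
    (hB' : B'.card = 4) :
    ∃ g : Perm β, wreathEight B' = (wreathEight B).map (MulAut.conj g).toMonoidHom := by
  obtain ⟨g, hg⟩ := exists_perm_map_eq B B' (by rw [hB, hB'])
  have hg' : ∀ x, g x ∈ B' ↔ x ∈ B := by
    intro x
    rw [← hg]
    exact Finset.mem_map' g.toEmbedding
  have hginv : ∀ y, g⁻¹ y ∈ B ↔ y ∈ B' := by
    intro y
    rw [← hg' (g⁻¹ y), perm_apply_inv]
  refine ⟨g, ?_⟩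
  ext τ
  rw [Subgroup.mem_map]
  simp only [mem_wreathEight', map_eq_iff, map_eq_compl_iff, MulEquiv.coe_toMonoidHom,
    MulAut.conj_apply]
  constructor
  · intro hτ
    refine ⟨g⁻¹ * τ * g, ?_, by group⟩
    simp only [Perm.mul_apply]
    rcases hτ with hτ | hτ
    · left; intro x; rw [hginv, hτ, hg']
    · right; intro x; rw [hginv, hτ, hg']
  · rintro ⟨σ, hσ, rfl⟩
    simp only [Perm.mul_apply]
    rcases hσ with hσ | hσ
    · left; intro y; rw [hg', hσ, hginv]
    · right; intro y; rw [hg', hσ, hginv]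

end Cfsg.Agent.Lib.Helper1.HallAlt
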