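import Mathlib
import Cfsg.Prelude.Def_HallClasses
import Cfsg.Agent.Lib.Helper1.HallDom

/-!
HALL module [DOM] (for S1908, helper15 #3322): dominance step.
`N` a normal π- or π'-subgroup, dominance in `G ⧸ N` ⟹ dominance in `G`
(with an explicit Feit–Thompson hypothesis).
-/

set_option autoImplicit false

namespace Cfsg.Agent.Lib.Helper1.HallDomStep

open Pointwise

universe u

variable {G : Type u} [Group G]

/-- Variant of `exists_le_conj_of_coprime` where either `N` or `K` is solvable. -/
theorem exists_le_conj_of_coprime_or [Finite G] (N H₀ K : Subgroup G)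
    [N.Normal] (hH₀ : Subgroup.IsComplement' N H₀)
    (hK : (Nat.card N).Coprime (Nat.card K))
    (hsol : Group.IsSolvable N ∨ Group.IsSolvable K) :
    ∃ g : G, K ≤ MulAut.conj g • H₀ := by
  set L : Subgroup G := K ⊔ N with hLdef
  have hNL : N ≤ L := le_sup_right
  have hKL : K ≤ L := le_sup_left
  have hNLn : (N.subgroupOf L).Normal := Subgroup.normal_subgroupOf
  have hc1 : Subgroup.IsComplement' (N.subgroupOf L) (K.subgroupOf L) :=
    isComplement'_subgroupOf_sup hK rfl
  have hc2 : Subgroup.IsComplement' (N.subgroupOf L) (H₀.subgroupOf L) :=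
    isComplement'_subgroupOf_of_le_left hH₀ hNL
  have hsolL : Group.IsSolvable (N.subgroupOf L) ∨ Group.IsSolvable (K.subgroupOf L) := by
    rcases hsol with h | h
    · exact Or.inl (isSolvable_of_mulEquiv (Subgroup.subgroupOfEquivOfLe hNL))
    · exact Or.inr (isSolvable_of_mulEquiv (Subgroup.subgroupOfEquivOfLe hKL))
  obtain ⟨l, hl⟩ := exists_conj_eq_of_isComplement' (N.subgroupOf L) (K.subgroupOf L)
    (H₀.subgroupOf L) hc1 hc2
    (by rw [card_subgroupOf_of_le hNL, card_subgroupOf_of_le hKL]; exact hK) hsolL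
  rw [← Subgroup.inf_subgroupOf_right H₀ L] at hl
  have h2 := conj_smul_eq_of_subgroupOf hKL inf_le_right l hl
  refine ⟨(l : G)⁻¹, ?_⟩
  rw [map_inv, ← Subgroup.pointwise_smul_subset_iff, h2]
  exact inf_le_left

/-- Two coprime naturals: one of them is odd. -/
theorem odd_or_odd_of_coprime {a b : ℕ} (h : a.Coprime b) : Odd a ∨ Odd b := by
  by_contra hcon
  rw [not_or, Nat.not_odd_iff_even, Nat.not_odd_iff_even] at hcon
  obtain ⟨ha, hb⟩ := hcon
  have h2 : 2 ∣ Nat.gcd a b := Nat.dvd_gcd ha.two_dvd hb.two_dvd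
  rw [h] at h2
  omega

theorem dom_step [Finite G]
    (FT : ∀ (X : Type u) [Group X] [Finite X], Odd (Nat.card X) → Group.IsSolvable X)
    (π : Set ℕ) (N : Subgroup G) [N.Normal]
    (hN : (∀ p : ℕ, p.Prime → p ∣ Nat.card N → p ∈ π) ∨
      (∀ p : ℕ, p.Prime → p ∣ Nat.card N → p ∉ π))
    (hQ : ∀ U : Subgroup (G ⧸ N), (∀ q : ℕ, q.Prime → q ∣ Nat.card U → q ∈ π) →
      ∃ K : Subgroup (G ⧸ N), Cfsg.IsPiHall π K ∧ U ≤ K)
    (U : Subgroup G) (hU : ∀ q : ℕ, q.Prime → q ∣ Nat.card U → q ∈ π) :
    ∃ K : Subgroup G, Cfsg.IsPiHall π K ∧ U ≤ K := by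
  classical
  let f := QuotientGroup.mk' N
  have hf : Function.Surjective f := QuotientGroup.mk'_surjective N
  have hUbar : ∀ q : ℕ, q.Prime → q ∣ Nat.card (U.map f) → q ∈ π := fun q hq hd =>
    hU q hq (hd.trans (Subgroup.card_map_dvd U f))
  obtain ⟨Kbar, hKbar, hUK⟩ := hQ (U.map f) hUbar
  set K : Subgroup G := Kbar.comap f with hKdef
  have hNK : N ≤ K := le_comap_mk'_of_le N Kbar
  have hUKle : U ≤ K := (Subgroup.le_comap_map f U).trans (Subgroup.comap_mono hUK)
  have hcardK : Nat.card K = Nat.card Kbar * Nat.card N := by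
    rw [hKdef, card_comap_mk' N Kbar, mul_comm]
  have hidxK : K.index = Kbar.index := Subgroup.index_comap_of_surjective Kbar hf
  rcases hN with hN | hN
  · -- `N` is a π-group: `K` itself is Hall
    refine ⟨K, ⟨?_, ?_⟩, hUKle⟩
    · intro p hp hd
      rw [hcardK] at hd
      rcases (Nat.Prime.dvd_mul hp).mp hd with h | h
      · exact hKbar.1 p hp h
      · exact hN p hp h
    · intro p hp hpπ
      rw [hidxK]
      exact hKbar.2 p hp hpπ
  · -- `N` is a π'-group
    have hcopNKbar : (Nat.card N).Coprime (Nat.card Kbar) := by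
      apply Nat.Coprime.symm
      apply Nat.coprime_of_dvd
      intro p hp h1 h2
      exact hN p hp h2 (hKbar.1 p hp h1)
    have hcopNU : (Nat.card N).Coprime (Nat.card U) := by
      apply Nat.Coprime.symm
      apply Nat.coprime_of_dvd
      intro p hp h1 h2
      exact hN p hp h2 (hU p hp h1)
    -- work inside the group `K`
    have hNKn : (N.subgroupOf K).Normal := Subgroup.normal_subgroupOf
    have hcardNK : Nat.card (N.subgroupOf K) = Nat.card N := card_subgroupOf_of_le hNK
    have hcardUK : Nat.card (U.subgroupOf K) = Nat.card U := card_subgroupOf_of_le hUKle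
    have hidxNK : (N.subgroupOf K).index = Nat.card Kbar := by
      have h1 := (N.subgroupOf K).card_mul_index
      rw [hcardNK, hcardK, mul_comm] at h1
      have hNpos : 0 < Nat.card N := Nat.card_pos
      exact Nat.eq_of_mul_eq_mul_right hNpos h1
    have hcopK : (Nat.card (N.subgroupOf K)).Coprime (N.subgroupOf K).index := by
      rw [hcardNK, hidxNK]; exact hcopNKbar
    obtain ⟨C, hC⟩ := Subgroup.exists_right_complement'_of_coprime hcopK
    have hcardC : Nat.card C = Nat.card Kbar := by rw [← hC.symm.index_eq_card, hidxNK]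
    have hcopNU' : (Nat.card (N.subgroupOf K)).Coprime (Nat.card (U.subgroupOf K)) := by
      rw [hcardNK, hcardUK]; exact hcopNU
    have hsol : Group.IsSolvable (N.subgroupOf K) ∨ Group.IsSolvable (U.subgroupOf K) := by
      rcases odd_or_odd_of_coprime hcopNU' with h | h
      · exact Or.inl (FT _ h)
      · exact Or.inr (FT _ h)
    obtain ⟨l, hl⟩ := exists_le_conj_of_coprime_or (N.subgroupOf K) C (U.subgroupOf K) hC
      hcopNU' hsol
    set H : Subgroup G := (MulAut.conj l • C).map K.subtype with hHdef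
    have hcardH : Nat.card H = Nat.card Kbar := by
      rw [hHdef, Subgroup.card_map_of_injective K.subtype_injective, card_conj_smul, hcardC]
    have hidxH : H.index = Nat.card N * Kbar.index := by
      have h1 := H.card_mul_index
      have h2 := K.card_mul_index
      rw [hcardH] at h1
      rw [hcardK, hidxK] at h2
      have hpos : 0 < Nat.card Kbar := Nat.card_pos
      apply Nat.eq_of_mul_eq_mul_left hpos
      rw [h1, ← h2]; ring
    refine ⟨H, ⟨?_, ?_⟩, ?_⟩
    · intro p hp hd
      rw [hcardH] at hd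
      exact hKbar.1 p hp hd
    · intro p hp hpπ hd
      rw [hidxH] at hd
      rcases (Nat.Prime.dvd_mul hp).mp hd with h | h
      · exact hN p hp h hpπ
      · exact hKbar.2 p hp hpπ h
    · intro x hx
      exact ⟨⟨x, hUKle hx⟩, hl (Subgroup.mem_subgroupOf.mpr hx), rfl⟩

end Cfsg.Agent.Lib.Helper1.HallDomStep
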