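import Mathlib
import Cfsg.Prelude.Def_HallClasses

/-!
S2536 modules [EX-P], [EX-7], [EX-8] (helper71 #3376): existence of the exceptional Hall subgroups
`S_{p-1} < S_p`, `S_3 × S_4 < S_7`, `S_4 wr S_2 < S_8`.
-/

set_option autoImplicit false

namespace Cfsg.Agent.Lib.Helper1.HallSym

open Cfsg Equiv

/-- A group of order `m` embedded in `Perm β`, with `m * k = |β|!`, `m` a π-number and `k` a
π'-number, gives a Hall π-subgroup. -/
theorem isEPiGroup_of_injective {β : Type} [Fintype β] [DecidableEq β]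
    {A : Type} [Group A] [Finite A] (π : Set ℕ) (m k : ℕ)
    (f : A →* Perm β) (hf : Function.Injective f) (hm : Nat.card A = m)
    (hmk : m * k = (Fintype.card β).factorial)
    (h1 : ∀ p : ℕ, p.Prime → p ∣ m → p ∈ π) (h2 : ∀ p : ℕ, p.Prime → p ∈ π → ¬ p ∣ k) :
    IsEPiGroup π (Perm β) := by
  have hcard : Nat.card f.range = m := by
    rw [← hm]
    exact (Nat.card_congr (MonoidHom.ofInjective hf).toEquiv).symm
  have hidx : f.range.index = k := by
    have h := f.range.card_mul_index
    rw [hcard, Nat.card_eq_fintype_card, Fintype.card_perm, ← hmk] at h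
    have hmpos : 0 < m := by
      rw [← hm]; exact Nat.card_pos
    exact Nat.eq_of_mul_eq_mul_left hmpos h
  refine ⟨f.range, ?_, ?_⟩
  · intro p hp hd
    rw [hcard] at hd
    exact h1 p hp hd
  · intro p hp hpπ
    rw [hidx]
    exact h2 p hp hpπ

theorem exists_hall_prime (n : ℕ) (hn : n.Prime) (π : Set ℕ)
    (hπ : ∀ r : ℕ, r.Prime → r ≤ n → (r ∈ π ↔ r < n)) : IsEPiGroup π (Perm (Fin n)) := by
  obtain ⟨k, rfl⟩ : ∃ k, n = k + 1 := ⟨n - 1, by have := hn.pos; omega⟩
  let f : Perm (Fin k) × Perm (Fin 1) →* Perm (Fin (k + 1)) :=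
    (Equiv.permCongrHom finSumFinEquiv).toMonoidHom.comp (Perm.sumCongrHom (Fin k) (Fin 1))
  have hf : Function.Injective f :=
    (Equiv.permCongrHom finSumFinEquiv).injective.comp Perm.sumCongrHom_injective
  refine isEPiGroup_of_injective π k.factorial (k + 1) f hf ?_ ?_ ?_ ?_
  · rw [Nat.card_eq_fintype_card, Fintype.card_prod, Fintype.card_perm, Fintype.card_perm]
    simp
  · rw [Fintype.card_fin, Nat.factorial_succ, mul_comm]
  · intro p hp hd
    have hle : p ≤ k := (Nat.Prime.dvd_factorial hp).mp hd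
    exact (hπ p hp (by omega)).mpr (by omega)
  · intro p hp hpπ hd
    have hle : p ≤ k + 1 := Nat.le_of_dvd (Nat.succ_pos k) hd
    have hlt : p < k + 1 := (hπ p hp hle).mp hpπ
    have := (Nat.prime_dvd_prime_iff_eq hp hn).mp hd
    omega

theorem exists_hall_seven (π : Set ℕ)
    (hπ : ∀ r : ℕ, r.Prime → r ≤ 7 → (r ∈ π ↔ (r = 2 ∨ r = 3))) :
    IsEPiGroup π (Perm (Fin 7)) := by
  let f : Perm (Fin 3) × Perm (Fin 4) →* Perm (Fin 7) :=
    (Equiv.permCongrHom (finSumFinEquiv (m := 3) (n := 4))).toMonoidHom.comp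
      (Perm.sumCongrHom (Fin 3) (Fin 4))
  have hf : Function.Injective f :=
    (Equiv.permCongrHom finSumFinEquiv).injective.comp Perm.sumCongrHom_injective
  refine isEPiGroup_of_injective π 144 35 f hf ?_ ?_ ?_ ?_
  · rw [Nat.card_eq_fintype_card, Fintype.card_prod, Fintype.card_perm, Fintype.card_perm]
    simp [Nat.factorial]
  · rw [Fintype.card_fin]; decide
  · intro p hp hd
    have h23 : p = 2 ∨ p = 3 := by
      have h144 : (144 : ℕ) = 2 ^ 4 * 3 ^ 2 := by norm_num
      rw [h144] at hd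
      rcases (Nat.Prime.dvd_mul hp).mp hd with h | h
      · left; exact (Nat.prime_dvd_prime_iff_eq hp Nat.prime_two).mp (hp.dvd_of_dvd_pow h)
      · right; exact (Nat.prime_dvd_prime_iff_eq hp Nat.prime_three).mp (hp.dvd_of_dvd_pow h)
    have hle : p ≤ 7 := by rcases h23 with rfl | rfl <;> norm_num
    exact (hπ p hp hle).mpr h23
  · intro p hp hpπ hd
    have h57 : p = 5 ∨ p = 7 := by
      have h35 : (35 : ℕ) = 5 * 7 := by norm_num
      rw [h35] at hd
      rcases (Nat.Prime.dvd_mul hp).mp hd with h | h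
      · left; exact (Nat.prime_dvd_prime_iff_eq hp (by norm_num)).mp h
      · right; exact (Nat.prime_dvd_prime_iff_eq hp (by norm_num)).mp h
    have hle : p ≤ 7 := by rcases h57 with rfl | rfl <;> norm_num
    have := (hπ p hp hle).mp hpπ
    omega

theorem exists_hall_eight (π : Set ℕ)
    (hπ : ∀ r : ℕ, r.Prime → r ≤ 8 → (r ∈ π ↔ (r = 2 ∨ r = 3))) :
    IsEPiGroup π (Perm (Fin 8)) := by
  let Q := Multiplicative (ZMod 2)
  have hcardQ : Fintype.card Q = 2 := by
    show Fintype.card (Multiplicative (ZMod 2)) = 2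
    rw [Fintype.card_multiplicative, ZMod.card]
  have hcard8 : Fintype.card (Fin 4 × Q) = Fintype.card (Fin 8) := by
    rw [Fintype.card_prod, hcardQ, Fintype.card_fin, Fintype.card_fin]
  let e : Fin 4 × Q ≃ Fin 8 := Fintype.equivOfCardEq hcard8
  let f : RegularWreathProduct (Perm (Fin 4)) Q →* Perm (Fin 8) :=
    (Equiv.permCongrHom e).toMonoidHom.comp (RegularWreathProduct.toPerm (Perm (Fin 4)) Q (Fin 4))
  have hf : Function.Injective f :=
    (Equiv.permCongrHom e).injective.comp (RegularWreathProduct.toPermInj (Perm (Fin 4)) Q (Fin 4))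
  refine isEPiGroup_of_injective π 1152 35 f hf ?_ ?_ ?_ ?_
  · rw [RegularWreathProduct.card, Nat.card_eq_fintype_card, Nat.card_eq_fintype_card,
      Fintype.card_perm, hcardQ, Fintype.card_fin]
    decide
  · rw [Fintype.card_fin]; decide
  · intro p hp hd
    have h23 : p = 2 ∨ p = 3 := by
      have h1152 : (1152 : ℕ) = 2 ^ 7 * 3 ^ 2 := by norm_num
      rw [h1152] at hd
      rcases (Nat.Prime.dvd_mul hp).mp hd with h | h
      · left; exact (Nat.prime_dvd_prime_iff_eq hp Nat.prime_two).mp (hp.dvd_of_dvd_pow h)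
      · right; exact (Nat.prime_dvd_prime_iff_eq hp Nat.prime_three).mp (hp.dvd_of_dvd_pow h)
    have hle : p ≤ 8 := by rcases h23 with rfl | rfl <;> norm_num
    exact (hπ p hp hle).mpr h23
  · intro p hp hpπ hd
    have h57 : p = 5 ∨ p = 7 := by
      have h35 : (35 : ℕ) = 5 * 7 := by norm_num
      rw [h35] at hd
      rcases (Nat.Prime.dvd_mul hp).mp hd with h | h
      · left; exact (Nat.prime_dvd_prime_iff_eq hp (by norm_num)).mp h
      · right; exact (Nat.prime_dvd_prime_iff_eq hp (by norm_num)).mp h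
    have hle : p ≤ 8 := by rcases h57 with rfl | rfl <;> norm_num
    have := (hπ p hp hle).mp hpπ
    omega

end Cfsg.Agent.Lib.Helper1.HallSym
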