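import Mathlib

/-!
S2536 module [NT2] (helper71 #3362): the only number theory needed for Thompson's theorem on Hall
subgroups of symmetric groups.  If `1 ≤ b ≤ a` and `C(a+b, b)` is prime to all primes `≤ a` then
`b = 1` and `a + 1` is prime, or `(a, b) = (4, 3)`.
-/

set_option autoImplicit false

namespace Cfsg.Agent.Lib.Helper1.HallSym

/-- A prime factor of a composite positive number is at most half of it. -/
theorem two_mul_prime_factor_le {M r : ℕ} (hr : r.Prime) (hd : r ∣ M) (hM : ¬ M.Prime)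
    (hM0 : 0 < M) : 2 * r ≤ M := by
  obtain ⟨s, rfl⟩ := hd
  have hs0 : s ≠ 0 := by rintro rfl; simp at hM0
  have hs1 : s ≠ 1 := by rintro rfl; rw [mul_one] at hM; exact hM hr
  have hs2 : 2 ≤ s := by omega
  calc 2 * r = r * 2 := mul_comm _ _
    _ ≤ r * s := Nat.mul_le_mul_left r hs2

/-- A prime factor of an odd composite positive number is at most a third of it. -/
theorem three_mul_prime_factor_le {M r : ℕ} (hr : r.Prime) (hd : r ∣ M) (hM : ¬ M.Prime)
    (hM0 : 0 < M) (hodd : ¬ 2 ∣ M) : 3 * r ≤ M := by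
  obtain ⟨s, rfl⟩ := hd
  have hs0 : s ≠ 0 := by rintro rfl; simp at hM0
  have hs1 : s ≠ 1 := by rintro rfl; rw [mul_one] at hM; exact hM hr
  have hs2 : s ≠ 2 := by rintro rfl; exact hodd (dvd_mul_left 2 r)
  have hs3 : 3 ≤ s := by omega
  calc 3 * r = r * 3 := mul_comm _ _
    _ ≤ r * s := Nat.mul_le_mul_left r hs3

/-- `C(N,b) * b * a = N * (N-1) * C(N-2,b-1)` in successor form. -/
theorem choose_mul_mul_eq (a' b' : ℕ) :
    Nat.choose (a' + b' + 2) (b' + 1) * ((b' + 1) * (a' + 1)) =
      (a' + b' + 2) * ((a' + b' + 1) * Nat.choose (a' + b') b') := by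
  have h1 := Nat.add_one_mul_choose_eq (a' + b' + 1) b'
  have h2 := Nat.choose_mul_succ_eq (a' + b') b'
  have h3 : a' + b' + 1 - b' = a' + 1 := by omega
  rw [h3] at h2
  calc Nat.choose (a' + b' + 2) (b' + 1) * ((b' + 1) * (a' + 1))
      = (Nat.choose (a' + b' + 1 + 1) (b' + 1) * (b' + 1)) * (a' + 1) := by ring
    _ = ((a' + b' + 1 + 1) * Nat.choose (a' + b' + 1) b') * (a' + 1) := by rw [← h1]
    _ = (a' + b' + 2) * (Nat.choose (a' + b' + 1) b' * (a' + 1)) := by ring
    _ = (a' + b' + 2) * (Nat.choose (a' + b') b' * (a' + b' + 1)) := by rw [← h2]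
    _ = (a' + b' + 2) * ((a' + b' + 1) * Nat.choose (a' + b') b') := by ring

open Nat in
/-- `C(2c+7,c+3) * (c+4)(c+3)(c+2) = 8 (2c+7)(2c+5)(2c+3) C(2c+1,c)`. -/
theorem choose_seven_identity (c : ℕ) :
    Nat.choose (2 * c + 7) (c + 3) * ((c + 4) * (c + 3) * (c + 2)) =
      8 * (2 * c + 7) * (2 * c + 5) * (2 * c + 3) * Nat.choose (2 * c + 1) c := by
  have hA := Nat.choose_mul_factorial_mul_factorial (n := 2 * c + 7) (k := c + 3) (by omega)
  have hB := Nat.choose_mul_factorial_mul_factorial (n := 2 * c + 1) (k := c) (by omega)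
  have e1 : 2 * c + 7 - (c + 3) = c + 4 := by omega
  have e2 : 2 * c + 1 - c = c + 1 := by omega
  rw [e1] at hA
  rw [e2] at hB
  have f1 : (2*c+7)! = (2*c+7)*((2*c+6)*((2*c+5)*((2*c+4)*((2*c+3)*((2*c+2)*(2*c+1)!))))) := by
    simp only [Nat.factorial_succ]
  have f2 : (c+4)! = (c+4)*((c+3)*((c+2)*(c+1)!)) := by
    simp only [Nat.factorial_succ]
  have f3 : (c+3)! = (c+3)*((c+2)*((c+1)*c !)) := by
    simp only [Nat.factorial_succ]
  rw [f1, f2, f3, ← hB] at hA
  have hpos : 0 < (c + 3) * (c + 2) * (c + 1) * (c ! * (c + 1)!) := by positivity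
  apply Nat.eq_of_mul_eq_mul_right hpos
  calc Nat.choose (2 * c + 7) (c + 3) * ((c + 4) * (c + 3) * (c + 2)) *
        ((c + 3) * (c + 2) * (c + 1) * (c ! * (c + 1)!))
      = Nat.choose (2 * c + 7) (c + 3) * ((c+3)*((c+2)*((c+1)*c !))) *
          ((c+4)*((c+3)*((c+2)*(c+1)!))) := by ring
    _ = (2*c+7)*((2*c+6)*((2*c+5)*((2*c+4)*((2*c+3)*((2*c+2)*
          (Nat.choose (2 * c + 1) c * c ! * (c + 1)!)))))) := hA
    _ = 8 * (2 * c + 7) * (2 * c + 5) * (2 * c + 3) * Nat.choose (2 * c + 1) c *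
        ((c + 3) * (c + 2) * (c + 1) * (c ! * (c + 1)!)) := by ring

theorem coprime_of_int_comb {x y : ℕ} (u v : ℤ) (h : u * (x : ℤ) + v * (y : ℤ) = 1) :
    Nat.Coprime x y :=
  Nat.isCoprime_iff_coprime.mp ⟨u, v, h⟩

theorem three_dvd_cases (c : ℕ) : 3 ∣ 2 * c + 7 ∨ 3 ∣ 2 * c + 5 ∨ 3 ∣ 2 * c + 3 := by
  have h : c % 3 = 0 ∨ c % 3 = 1 ∨ c % 3 = 2 := by omega
  rcases h with h | h | h
  · right; right; omega
  · left; omega
  · right; left; omega

theorem eq_six_of_dvd_fifteen (c : ℕ) (h3 : 3 ∣ 2 * c + 3) (hlt : 3 < 2 * c + 3)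
    (hd3 : (2 * c + 3) ∣ 15) : c = 6 := by
  have hle := Nat.le_of_dvd (by norm_num) hd3
  have hc : c ≤ 6 := by omega
  interval_cases c <;> omega

theorem nt2 (a b : ℕ) (hb : 1 ≤ b) (hab : b ≤ a)
    (h : ∀ r : ℕ, r.Prime → r ≤ a → ¬ r ∣ Nat.choose (a + b) b) :
    (b = 1 ∧ (a + 1).Prime) ∨ (a = 4 ∧ b = 3) := by
  have key : ∀ M : ℕ, (∀ r : ℕ, r.Prime → r ∣ M → r ≤ a) →
      Nat.Coprime M (Nat.choose (a + b) b) := fun M hM =>
    Nat.coprime_of_dvd (fun r hr h1 h2 => h r hr (hM r hr h1) h2)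
  rcases Nat.eq_or_lt_of_le hb with hb1 | hb2
  · -- `b = 1`
    left
    subst hb1
    refine ⟨rfl, ?_⟩
    by_contra hnp
    have h2 : 2 ≤ a + 1 := by omega
    have hmf : (a + 1).minFac.Prime := Nat.minFac_prime (by omega)
    have hdvd : (a + 1).minFac ∣ a + 1 := Nat.minFac_dvd (a + 1)
    have hlt : (a + 1).minFac < a + 1 := (Nat.not_prime_iff_minFac_lt h2).mp hnp
    apply h _ hmf (by omega)
    rw [Nat.choose_one_right]
    exact hdvd
  · right
    -- (1) `b ≠ a`
    have hba : b + 1 ≤ a := by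
      rcases Nat.eq_or_lt_of_le hab with heq | hlt
      · exfalso
        subst heq
        have h2 : 2 ∣ Nat.choose (b + b) b := by
          have := Nat.two_dvd_centralBinom_of_one_le (n := b) (by omega)
          rwa [Nat.centralBinom_eq_two_mul_choose, two_mul] at this
        exact h 2 Nat.prime_two (by omega) h2
      · omega
    -- (2) `N = a + b` is prime
    have hNp : (a + b).Prime := by
      by_contra hnp
      have hcop : Nat.Coprime (a + b) (Nat.choose (a + b) b) := by
        apply key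
        intro r hr hd
        have := two_mul_prime_factor_le hr hd hnp (by omega)
        omega
      obtain ⟨b', rfl⟩ : ∃ b', b = b' + 1 := ⟨b - 1, by omega⟩
      have h1 := Nat.add_one_mul_choose_eq (a + b') b'
      have hdvd : (a + (b' + 1)) ∣ Nat.choose (a + (b' + 1)) (b' + 1) * (b' + 1) := by
        rw [show a + (b' + 1) = a + b' + 1 by ring, ← h1]
        exact dvd_mul_right _ _
      have := Nat.le_of_dvd (by omega) (hcop.dvd_of_dvd_mul_left hdvd)
      omega
    -- (3) `(b+1) ∣ a`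
    have hdiv3 : (b + 1) ∣ a := by
      have hcop : Nat.Coprime (b + 1) (Nat.choose (a + b) b) := by
        apply key
        intro r hr hd
        have := Nat.le_of_dvd (by omega) hd
        omega
      have h1 := Nat.choose_succ_right_eq (a + b) b
      rw [show a + b - b = a by omega] at h1
      have hdvd : (b + 1) ∣ Nat.choose (a + b) b * a := by
        rw [← h1]; exact dvd_mul_left _ _
      exact hcop.dvd_of_dvd_mul_left hdvd
    -- (4) `(N-1) ∣ a*b`, hence `a = b + 1`
    obtain ⟨b', rfl⟩ : ∃ b', b = b' + 1 := ⟨b - 1, by omega⟩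
    obtain ⟨a', rfl⟩ : ∃ a', a = a' + 1 := ⟨a - 1, by omega⟩
    have hb'1 : 1 ≤ b' := by omega
    have hNodd : ¬ 2 ∣ (a' + 1 + (b' + 1)) := by
      intro h2
      have := (Nat.prime_dvd_prime_iff_eq Nat.prime_two hNp).mp h2
      omega
    have hm_np : ¬ (a' + b' + 1).Prime := by
      intro hp
      have h2 : 2 ∣ a' + b' + 1 := by omega
      have := (Nat.prime_dvd_prime_iff_eq Nat.prime_two hp).mp h2
      omega
    have hcop4 : Nat.Coprime (a' + b' + 1) (Nat.choose (a' + 1 + (b' + 1)) (b' + 1)) := by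
      apply key
      intro r hr hd
      have := two_mul_prime_factor_le hr hd hm_np (by omega)
      omega
    have hid := choose_mul_mul_eq a' b'
    have hdvd4 : (a' + b' + 1) ∣ (b' + 1) * (a' + 1) := by
      have : (a' + b' + 1) ∣ Nat.choose (a' + 1 + (b' + 1)) (b' + 1) * ((b' + 1) * (a' + 1)) := by
        rw [show a' + 1 + (b' + 1) = a' + b' + 2 by ring, hid]
        exact (dvd_mul_right _ _).mul_left _
      exact hcop4.dvd_of_dvd_mul_left this
    -- `(N-1) ∣ b (b-1)`
    have hdvd4' : (a' + b' + 1) ∣ (b' + 1) * b' := by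
      have e : (b' + 1) * (a' + 1) + (b' + 1) * b' = (a' + b' + 1) * (b' + 1) := by ring
      have : (a' + b' + 1) ∣ (b' + 1) * (a' + 1) + (b' + 1) * b' := by
        rw [e]; exact dvd_mul_right _ _
      exact (Nat.dvd_add_right hdvd4).mp this
    obtain ⟨j, hj⟩ := hdvd4'
    obtain ⟨k, hk⟩ := hdiv3
    -- `2 j ≤ b'`
    have h2j : 2 * j ≤ b' := by
      have h1 : (2 * (b' + 1)) * j ≤ (a' + b' + 1) * j := Nat.mul_le_mul_right j (by omega)
      rw [← hj] at h1
      have h3 : (b' + 1) * (2 * j) ≤ (b' + 1) * b' := by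
        calc (b' + 1) * (2 * j) = (2 * (b' + 1)) * j := by ring
          _ ≤ (b' + 1) * b' := h1
      exact Nat.le_of_mul_le_mul_left h3 (by omega)
    -- `(b'+2) ∣ 2 (j+1)`
    have hdvd5 : (b' + 2) ∣ 2 * (j + 1) := by
      have e : 2 * (j + 1) + (b' + 2) * b' = (b' + 2) * (j * (k + 1)) + (b' + 2) := by
        have hk' : (a' : ℤ) + 1 = ((b' : ℤ) + 1 + 1) * k := by exact_mod_cast hk
        have hj' : ((b' : ℤ) + 1) * b' = (a' + b' + 1) * j := by exact_mod_cast hj
        have : ((2 * (j + 1) + (b' + 2) * b' : ℕ) : ℤ) =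
            (((b' + 2) * (j * (k + 1)) + (b' + 2) : ℕ) : ℤ) := by
          push_cast
          have ha : (a' : ℤ) = ((b' : ℤ) + 2) * k - 1 := by linarith
          rw [ha] at hj'
          linarith [hj']
        exact_mod_cast this
      have h1 : (b' + 2) ∣ 2 * (j + 1) + (b' + 2) * b' := by
        rw [e]
        exact dvd_add (dvd_mul_right _ _) (dvd_refl _)
      exact (Nat.dvd_add_left (dvd_mul_right _ _)).mp h1
    have h2j' : b' + 2 ≤ 2 * (j + 1) := Nat.le_of_dvd (by omega) hdvd5
    have hjb : b' = 2 * j := by omega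
    have hj1 : 1 ≤ j := by omega
    have ha' : a' + 1 = b' + 2 := by
      have h1 : (b' + 1) * (2 * j) = (a' + b' + 1) * j := by rw [← hjb]; exact hj
      have h3 : (2 * (b' + 1)) * j = (a' + b' + 1) * j := by rw [← h1]; ring
      have := Nat.eq_of_mul_eq_mul_right hj1 h3
      omega
    -- (5) `a = b + 1`, `b = c + 3`
    obtain ⟨c, hc⟩ : ∃ c, b' = c + 2 := ⟨b' - 2, by omega⟩
    have ha'c : a' = c + 3 := by omega
    subst hc
    subst ha'c
    have hN : c + 3 + 1 + (c + 2 + 1) = 2 * c + 7 := by ring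
    have hCeq : Nat.choose (c + 3 + 1 + (c + 2 + 1)) (c + 2 + 1) = Nat.choose (2 * c + 7) (c + 3) := by
      rw [hN]
    have hid7 := choose_seven_identity c
    -- generic step for a multiple of 3 among the three factors
    have step : ∀ M : ℕ, 3 ∣ M → 3 < M → ¬ 2 ∣ M → M ≤ 2 * c + 7 →
        M ∣ 8 * (2 * c + 7) * (2 * c + 5) * (2 * c + 3) * Nat.choose (2 * c + 1) c →
        M ∣ (c + 4) * (c + 3) * (c + 2) := by
      intro M h3 hM3 hModd hMle hMd
      have hMnp : ¬ M.Prime := by
        intro hp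
        have := (Nat.prime_dvd_prime_iff_eq Nat.prime_three hp).mp h3
        omega
      have hcop : Nat.Coprime M (Nat.choose (c + 3 + 1 + (c + 2 + 1)) (c + 2 + 1)) := by
        apply key
        intro r hr hd
        have := three_mul_prime_factor_le hr hd hMnp (by omega) hModd
        omega
      rw [hCeq] at hcop
      rw [← hid7] at hMd
      exact hcop.dvd_of_dvd_mul_left hMd
    have h3cases : 3 ∣ 2 * c + 7 ∨ 3 ∣ 2 * c + 5 ∨ 3 ∣ 2 * c + 3 := three_dvd_cases c
    rcases h3cases with h3 | h3 | h3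
    · -- `M = 2c+7 = N`
      exfalso
      have hd := step (2 * c + 7) h3 (by omega) (by omega) le_rfl
        (by
          have : 8 * (2 * c + 7) * (2 * c + 5) * (2 * c + 3) * Nat.choose (2 * c + 1) c =
            (2 * c + 7) * (8 * (2 * c + 5) * (2 * c + 3) * Nat.choose (2 * c + 1) c) := by ring
          rw [this]; exact dvd_mul_right _ _)
      have c1 : Nat.Coprime (2 * c + 7) (c + 4) :=
        coprime_of_int_comb (-1) 2 (by push_cast; ring)
      have c2 : Nat.Coprime (2 * c + 7) (c + 3) :=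
        coprime_of_int_comb 1 (-2) (by push_cast; ring)
      have hd2 : (2 * c + 7) ∣ c + 2 :=
        c2.dvd_of_dvd_mul_left (c1.dvd_of_dvd_mul_left (by rwa [mul_assoc] at hd))
      have := Nat.le_of_dvd (by omega) hd2
      omega
    · -- `M = 2c+5`
      exfalso
      have hd := step (2 * c + 5) h3 (by omega) (by omega) (by omega)
        (by
          have : 8 * (2 * c + 7) * (2 * c + 5) * (2 * c + 3) * Nat.choose (2 * c + 1) c =
            (2 * c + 5) * (8 * (2 * c + 7) * (2 * c + 3) * Nat.choose (2 * c + 1) c) := by ring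
          rw [this]; exact dvd_mul_right _ _)
      have c1 : Nat.Coprime (2 * c + 5) (c + 2) :=
        coprime_of_int_comb 1 (-2) (by push_cast; ring)
      have c2 : Nat.Coprime (2 * c + 5) (c + 3) :=
        coprime_of_int_comb (-1) 2 (by push_cast; ring)
      have hd2 : (2 * c + 5) ∣ c + 4 := by
        have h1 : (2 * c + 5) ∣ (c + 4) * (c + 3) := c1.dvd_of_dvd_mul_right hd
        exact c2.dvd_of_dvd_mul_right h1
      have := Nat.le_of_dvd (by omega) hd2
      omega
    · -- `M = 2c+3`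
      rcases Nat.eq_or_lt_of_le (show 3 ≤ 2 * c + 3 by omega) with heq | hlt
      · have hc0 : c = 0 := by omega
        subst hc0
        exact ⟨rfl, rfl⟩
      · exfalso
        have hd := step (2 * c + 3) h3 hlt (by omega) (by omega)
          (by
            have : 8 * (2 * c + 7) * (2 * c + 5) * (2 * c + 3) * Nat.choose (2 * c + 1) c =
              (2 * c + 3) * (8 * (2 * c + 7) * (2 * c + 5) * Nat.choose (2 * c + 1) c) := by ring
            rw [this]; exact dvd_mul_right _ _)
        have c1 : Nat.Coprime (2 * c + 3) (c + 2) :=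
          coprime_of_int_comb (-1) 2 (by push_cast; ring)
        have hd2 : (2 * c + 3) ∣ (c + 4) * (c + 3) := c1.dvd_of_dvd_mul_right hd
        have hd3 : (2 * c + 3) ∣ 15 := by
          have e : 4 * ((c + 4) * (c + 3)) = (2 * c + 3) * (2 * c + 11) + 15 := by ring
          have h1 : (2 * c + 3) ∣ (2 * c + 3) * (2 * c + 11) + 15 := by
            rw [← e]; exact hd2.mul_left 4
          exact (Nat.dvd_add_right (dvd_mul_right _ _)).mp h1
        have hc6 : c = 6 := eq_six_of_dvd_fifteen c h3 hlt hd3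
        subst hc6
        apply h 2 Nat.prime_two (by omega)
        norm_num [Nat.choose]

end Cfsg.Agent.Lib.Helper1.HallSym
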