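import Mathlib
import Cfsg.Agent.Lib.Helper1.KegelWielandt
import Cfsg.Agent.Lib.Helper1.MinimalNormal
import Cfsg.Agent.S0015
import Cfsg.Agent.Lib.Helper9.CoprimeIndex2

/-!
# Kegel: a factor of a product of two nilpotent groups lies in a proper normal subgroup

Given solvability (Kegel–Wielandt), if `G = AB` with `A`, `B` nilpotent and
`A G' = G = B G'`, then `G` is nilpotent (and so `A = B = G`).
-/

set_option autoImplicit false

namespace Cfsg.Agent.Lib.Helper1

open Pointwise Cfsg

variable {G : Type*} [Group G]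

lemma commutator_le_coatom_of_isNilpotent [Finite G] [Group.IsNilpotent G] {M : Subgroup G}
    (hM : IsCoatom M) : commutator G ≤ M := by
  have hMn : M.Normal :=
    Subgroup.NormalizerCondition.normal_of_coatom M Group.normalizerCondition_of_isNilpotent hM
  rw [← Subgroup.Normal.quotient_commutative_iff_commutator_le]
  have hnt : (⊤ : Subgroup (G ⧸ M)) ≠ ⊥ := by
    intro h
    apply hM.1
    rw [eq_top_iff]
    intro g _
    have h1 : (QuotientGroup.mk' M g) ∈ (⊤ : Subgroup (G ⧸ M)) := trivial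
    rw [h, Subgroup.mem_bot, ← MonoidHom.mem_ker, QuotientGroup.ker_mk'] at h1
    exact h1
  obtain ⟨x, -, hxZ, hx1⟩ := Cfsg.Agent.S0015.exists_mem_center_of_normal (⊤ : Subgroup (G ⧸ M)) hnt
  have h1 : M ≤ (Subgroup.center (G ⧸ M)).comap (QuotientGroup.mk' M) := by
    intro m hm
    rw [Subgroup.mem_comap]
    have : QuotientGroup.mk' M m = 1 := by
      rw [← MonoidHom.mem_ker, QuotientGroup.ker_mk']; exact hm
    rw [this]; exact Subgroup.one_mem _
  have h2 : (Subgroup.center (G ⧸ M)).comap (QuotientGroup.mk' M) = ⊤ := by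
    by_contra hne
    have h3 := (hM.le_iff.mp h1).resolve_left hne
    obtain ⟨g, rfl⟩ := QuotientGroup.mk'_surjective M x
    have h4 : g ∈ (Subgroup.center (G ⧸ M)).comap (QuotientGroup.mk' M) := hxZ
    rw [h3] at h4
    apply hx1
    rw [← MonoidHom.mem_ker, QuotientGroup.ker_mk']; exact h4
  have h3 : Subgroup.center (G ⧸ M) = ⊤ := by
    rw [eq_top_iff]
    intro q _
    obtain ⟨g, rfl⟩ := QuotientGroup.mk'_surjective M q
    have : g ∈ (Subgroup.center (G ⧸ M)).comap (QuotientGroup.mk' M) := by rw [h2]; trivial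
    exact this
  refine ⟨⟨fun a b => ?_⟩⟩
  have ha : a ∈ Subgroup.center (G ⧸ M) := by rw [h3]; trivial
  exact (Subgroup.mem_center_iff.mp ha b).symm

lemma eq_top_of_sup_commutator_eq_top [Finite G] [Group.IsNilpotent G] (A : Subgroup G)
    (h : A ⊔ commutator G = ⊤) : A = ⊤ := by
  by_contra hne
  obtain ⟨M, hM, hAM⟩ := (eq_top_or_exists_le_coatom A).resolve_left hne
  have h1 : A ⊔ commutator G ≤ M := sup_le hAM (commutator_le_coatom_of_isNilpotent hM)
  rw [h] at h1
  exact hM.1 (top_le_iff.mp h1)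

lemma map_sup_commutator_eq_top {A : Subgroup G} (N : Subgroup G) [N.Normal]
    (h : A ⊔ commutator G = ⊤) :
    A.map (QuotientGroup.mk' N) ⊔ commutator (G ⧸ N) = ⊤ := by
  have h1 : commutator (G ⧸ N) = (commutator G).map (QuotientGroup.mk' N) := by
    rw [commutator_def, commutator_def, Subgroup.map_commutator,
      Subgroup.map_top_of_surjective _ (QuotientGroup.mk'_surjective N)]
  rw [h1, ← Subgroup.map_sup, h, Subgroup.map_top_of_surjective _ (QuotientGroup.mk'_surjective N)]

lemma normal_of_sup_eq_top_of_le_normalizer {A R D : Subgroup G} (h : A ⊔ R = ⊤)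
    (hA : A ≤ Subgroup.normalizer (D : Set G)) (hR : R ≤ Subgroup.normalizer (D : Set G)) :
    D.Normal := by
  rw [← Subgroup.normalizer_eq_top_iff, eq_top_iff, ← h]
  exact sup_le hA hR

lemma isPGroup_zpowers_of_pow_eq_one {p : ℕ} {z : G} {k : ℕ} (hz : z ^ (p ^ k) = 1) :
    IsPGroup p (Subgroup.zpowers z) := by
  rintro ⟨y, hy⟩
  obtain ⟨n, rfl⟩ := Subgroup.mem_zpowers_iff.mp hy
  refine ⟨k, ?_⟩
  apply Subtype.ext
  simp only [Subgroup.coe_pow, Subgroup.coe_one]
  rw [← zpow_natCast, ← zpow_mul, mul_comm, zpow_mul, zpow_natCast, hz, one_zpow]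

theorem isNilpotent_of_factorized_of_sup_commutator.{u} : ∀ (n : ℕ) (G : Type u) [Group G]
    [Finite G], Nat.card G = n → Group.IsSolvable G → ∀ (A B : Subgroup G),
    Group.IsNilpotent A → Group.IsNilpotent B → (∀ g : G, ∃ a ∈ A, ∃ b ∈ B, g = a * b) →
    A ⊔ commutator G = ⊤ → B ⊔ commutator G = ⊤ → Group.IsNilpotent G := by
  intro n
  induction n using Nat.strong_induction_on with
  | _ n ih =>
  intro G _ _ hn hsol A B hA hB hAB hAc hBc
  rcases subsingleton_or_nontrivial G with hsub | hnt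
  · infer_instance
  have hquot : ∀ (N : Subgroup G) [N.Normal], N ≠ ⊥ → Group.IsNilpotent (G ⧸ N) := by
    intro N _ hN
    exact ih (Nat.card (G ⧸ N)) (hn ▸ card_quotient_lt_of_ne_bot N hN) (G ⧸ N) rfl inferInstance
      (A.map (QuotientGroup.mk' N)) (B.map (QuotientGroup.mk' N))
      (isNilpotent_map _ A hA) (isNilpotent_map _ B hB) (factorized_quotient N hAB)
      (map_sup_commutator_eq_top N hAc) (map_sup_commutator_eq_top N hBc)
  obtain ⟨p, R, hp, hRn, hR1, hRp, hRc, -, hmin⟩ := exists_normal_pSubgroup_of_isSolvable (G := G)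
  have : Fact p.Prime := ⟨hp⟩
  have hQnil := hquot R hR1
  have hsupR : ∀ (C : Subgroup G), C ⊔ commutator G = ⊤ → C ⊔ R = ⊤ := by
    intro C hC
    have h1 := eq_top_of_sup_commutator_eq_top _ (map_sup_commutator_eq_top R hC)
    have h2 := Subgroup.comap_map_eq (QuotientGroup.mk' R) C
    rw [h1, Subgroup.comap_top, QuotientGroup.ker_mk'] at h2
    exact h2.symm
  have hAR := hsupR A hAc
  have hBR := hsupR B hBc
  -- `C ⊓ R` is normal
  have hinfn : ∀ (C : Subgroup G), C ⊔ R = ⊤ → (C ⊓ R).Normal := by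
    intro C hC
    apply normal_of_sup_eq_top_of_le_normalizer hC
    · rw [Subgroup.le_normalizer_iff]
      intro a ha x hx
      exact ⟨C.mul_mem (C.mul_mem ha hx.1) (C.inv_mem ha), hRn.conj_mem x hx.2 a⟩
    · rw [Subgroup.le_normalizer_iff]
      intro r hr x hx
      have h1 : r * x = x * r := by
        have := hRc.is_comm.comm ⟨r, hr⟩ ⟨x, hx.2⟩
        exact congrArg Subtype.val this
      rw [h1, mul_assoc, mul_inv_cancel, mul_one]
      exact hx
  have hdone : ∀ (C : Subgroup G), Group.IsNilpotent C → C ⊔ R = ⊤ → R ≤ C →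
      Group.IsNilpotent G := by
    intro C hC hCR hRC
    have h1 : C = ⊤ := by rw [← hCR]; exact (sup_eq_left.mpr hRC).symm
    subst h1
    exact (Group.isNilpotent_congr Subgroup.topEquiv).mp hC
  rcases hmin (A ⊓ R) (hinfn A hAR) inf_le_right with hAR0 | hAR1
  swap
  · exact hdone A hA hAR (inf_eq_right.mp hAR1)
  rcases hmin (B ⊓ R) (hinfn B hBR) inf_le_right with hBR0 | hBR1
  swap
  · exact hdone B hB hBR (inf_eq_right.mp hBR1)
  -- counting: `|R|` divides `|A|`
  have hcA := Cfsg.Agent.Lib.Helper9.card_sup_mul_card_inf A R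
  have hcB := Cfsg.Agent.Lib.Helper9.card_sup_mul_card_inf B R
  rw [hAR, hAR0, Subgroup.card_top, Subgroup.card_bot, mul_one] at hcA
  rw [hBR, hBR0, Subgroup.card_top, Subgroup.card_bot, mul_one] at hcB
  have hcAB := Cfsg.Agent.Lib.Helper50.card_mul_card_eq_card_inf_mul_card_mul A B
  have huniv : ((A : Set G) * (B : Set G)) = Set.univ := by
    apply Set.eq_univ_of_forall
    intro g
    obtain ⟨a, ha, b, hb, hab⟩ := hAB g
    exact ⟨a, ha, b, hb, hab.symm⟩
  rw [huniv, Nat.card_coe_set_eq, Set.ncard_univ, hcB] at hcAB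
  have hRA : Nat.card R ∣ Nat.card A := by
    have hBpos : 0 < Nat.card B := Nat.card_pos
    have h1 : Nat.card A = Nat.card (A ⊓ B : Subgroup G) * Nat.card R := by
      apply Nat.eq_of_mul_eq_mul_right hBpos
      rw [hcAB]; ring
    exact Dvd.intro_left _ h1.symm
  have hpA : p ∣ Nat.card A := by
    obtain ⟨k, hk⟩ := IsPGroup.iff_card.mp hRp
    have hk0 : k ≠ 0 := by
      rintro rfl
      rw [pow_zero] at hk
      exact hR1 (Subgroup.card_eq_one.mp hk)
    exact (dvd_pow_self p hk0).trans (hk ▸ hRA)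
  -- a nontrivial central `p`-element `z` of `A`
  obtain ⟨P⟩ : Nonempty (Sylow p A) := inferInstance
  have hPn : (P : Subgroup A).Normal := inferInstance
  have hP1 : (P : Subgroup A) ≠ ⊥ := by
    intro h
    have h1 := P.card_eq_multiplicity
    rw [h, Subgroup.card_bot] at h1
    have h2 : 0 < (Nat.card A).factorization p :=
      hp.factorization_pos_of_dvd Nat.card_pos.ne' hpA
    have := Nat.one_lt_pow h2.ne' hp.one_lt
    omega
  obtain ⟨x, hxP, hxZ, hx1⟩ := Cfsg.Agent.S0015.exists_mem_center_of_normal (P : Subgroup A) hP1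
  obtain ⟨k, hk⟩ := P.isPGroup' ⟨x, hxP⟩
  set z : G := (x : G) with hz
  have hzA : z ∈ A := x.2
  have hz1 : z ≠ 1 := fun h => hx1 (Subtype.ext h)
  have hzk : z ^ (p ^ k) = 1 := by
    have := congrArg (fun y : (P : Subgroup A) => ((y : A) : G)) hk
    simpa using this
  have hzcomm : ∀ a ∈ A, a * z = z * a := by
    intro a ha
    have := Subgroup.mem_center_iff.mp hxZ ⟨a, ha⟩
    exact congrArg Subtype.val this
  -- a nontrivial element of `R` centralized by `z`
  have hLp : IsPGroup p (Subgroup.zpowers z ⊔ R : Subgroup G) :=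
    IsPGroup.to_sup_of_normal_right (isPGroup_zpowers_of_pow_eq_one hzk) hRp
  set L : Subgroup G := Subgroup.zpowers z ⊔ R with hL
  have hLnil : Group.IsNilpotent L := hLp.isNilpotent
  have hRL : R ≤ L := le_sup_right
  have hzL : z ∈ L := le_sup_left (a := Subgroup.zpowers z) (Subgroup.mem_zpowers z)
  have hRLn : (R.subgroupOf L).Normal := hRn.subgroupOf L
  have hRL1 : R.subgroupOf L ≠ ⊥ := by
    intro h
    apply hR1
    rw [eq_bot_iff]
    intro r hr
    have h1 : (⟨r, hRL hr⟩ : L) ∈ R.subgroupOf L := Subgroup.mem_subgroupOf.mpr hr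
    rw [h, Subgroup.mem_bot] at h1
    exact congrArg Subtype.val h1
  obtain ⟨y, hyR, hyZ, hy1⟩ := Cfsg.Agent.S0015.exists_mem_center_of_normal (R.subgroupOf L) hRL1
  have hyz : (y : G) * z = z * (y : G) := by
    have := Subgroup.mem_center_iff.mp hyZ ⟨z, hzL⟩
    exact (congrArg Subtype.val this).symm
  -- `D = C_R(z)` is normal in `G`
  set D : Subgroup G := R ⊓ Subgroup.centralizer ({z} : Set G) with hD
  have hD1 : D ≠ ⊥ := by
    intro h
    have h1 : (y : G) ∈ D := by
      refine ⟨Subgroup.mem_subgroupOf.mp hyR, ?_⟩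
      show (y : G) ∈ Subgroup.centralizer ({z} : Set G)
      rw [Subgroup.mem_centralizer_iff]
      intro w hw
      rw [Set.mem_singleton_iff] at hw
      subst hw
      exact hyz.symm
    rw [h, Subgroup.mem_bot] at h1
    exact hy1 (Subtype.ext h1)
  have hDn : D.Normal := by
    apply normal_of_sup_eq_top_of_le_normalizer hAR
    · rw [Subgroup.le_normalizer_iff]
      intro a ha d hd
      refine ⟨hRn.conj_mem d hd.1 a, ?_⟩
      show a * d * a⁻¹ ∈ Subgroup.centralizer ({z} : Set G)
      rw [Subgroup.mem_centralizer_iff]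
      intro w hw
      rw [Set.mem_singleton_iff] at hw
      subst hw
      have h1 : z * d = d * z := (Subgroup.mem_centralizer_iff.mp hd.2 z rfl)
      have h2 : a * z = z * a := hzcomm a ha
      have h3 : a⁻¹ * z = z * a⁻¹ := hzcomm a⁻¹ (A.inv_mem ha)
      calc z * (a * d * a⁻¹) = (z * a) * d * a⁻¹ := by group
        _ = a * (z * d) * a⁻¹ := by rw [← h2]; group
        _ = a * d * (z * a⁻¹) := by rw [h1]; group
        _ = a * d * a⁻¹ * z := by rw [← h3]; group
    · rw [Subgroup.le_normalizer_iff]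
      intro r hr d hd
      have h1 : r * d = d * r := by
        have := hRc.is_comm.comm ⟨r, hr⟩ ⟨d, hd.1⟩
        exact congrArg Subtype.val this
      rw [h1, mul_assoc, mul_inv_cancel, mul_one]
      exact hd
  have hDR : D = R := (hmin D hDn inf_le_left).resolve_left hD1
  -- `z` is central in `G`
  have hzc : z ∈ Subgroup.center G := by
    have h1 : A ⊔ R ≤ Subgroup.centralizer ({z} : Set G) := by
      apply sup_le
      · intro a ha
        rw [Subgroup.mem_centralizer_iff]
        intro w hw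
        rw [Set.mem_singleton_iff] at hw
        subst hw
        exact (hzcomm a ha).symm
      · rw [← hDR]; exact inf_le_right
    rw [hAR] at h1
    rw [Subgroup.mem_center_iff]
    intro g
    have := Subgroup.mem_centralizer_iff.mp (h1 (Subgroup.mem_top g)) z rfl
    exact this.symm
  have hZc : Subgroup.zpowers z ≤ Subgroup.center G := by
    rw [Subgroup.zpowers_le]; exact hzc
  have hZn : (Subgroup.zpowers z).Normal := by
    refine ⟨fun w hw g => ?_⟩
    have h1 : g * w = w * g := Subgroup.mem_center_iff.mp (hZc hw) g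
    rw [h1, mul_assoc, mul_inv_cancel, mul_one]
    exact hw
  have hZ1 : Subgroup.zpowers z ≠ ⊥ := by
    rw [Ne, Subgroup.zpowers_eq_bot]; exact hz1
  have hnil := hquot (Subgroup.zpowers z) hZ1
  apply Subgroup.isNilpotent_of_ker_le_center (QuotientGroup.mk' (Subgroup.zpowers z))
  rw [QuotientGroup.ker_mk']; exact hZc

/-- **Kegel.** In a finite solvable group `G = AB` with `A`, `B` nilpotent, not both equal
to `G`, one of the factors lies in a proper normal subgroup (namely `A G'` or `B G'`). -/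
theorem exists_proper_normal_of_factorized_of_isSolvable [Finite G] [hsol : Group.IsSolvable G]
    (A B : Subgroup G) (hA : Group.IsNilpotent A) (hB : Group.IsNilpotent B)
    (hAB : ∀ g : G, ∃ a ∈ A, ∃ b ∈ B, g = a * b) (hproper : A ≠ ⊤ ∨ B ≠ ⊤) :
    ∃ N : Subgroup G, N.Normal ∧ N ≠ ⊤ ∧ (A ≤ N ∨ B ≤ N) := by
  by_cases hAc : A ⊔ commutator G = ⊤
  · by_cases hBc : B ⊔ commutator G = ⊤
    · exfalso
      have hnil : Group.IsNilpotent G :=
        isNilpotent_of_factorized_of_sup_commutator _ G rfl hsol A B hA hB hAB hAc hBc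
      rcases hproper with h | h
      · exact h (eq_top_of_sup_commutator_eq_top A hAc)
      · exact h (eq_top_of_sup_commutator_eq_top B hBc)
    · exact ⟨B ⊔ commutator G, Subgroup.Normal.of_commutator_le _ le_sup_right, hBc,
        Or.inr le_sup_left⟩
  · exact ⟨A ⊔ commutator G, Subgroup.Normal.of_commutator_le _ le_sup_right, hAc,
      Or.inl le_sup_left⟩

end Cfsg.Agent.Lib.Helper1
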