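/-
helper1: S5634-[GL-L2] (helper43's monomial-group project): an element of `Y` which is the
identity outside row `i₀` and has `1` at `(i₀,i₀)` is the identity, provided `Y` contains all
diagonal matrices, no non-trivial elementary transvection, and the field has a unit `≠ 1`.
-/
import Mathlib
import Cfsg.Agent.Lib.Helper43.MonoStar

set_option autoImplicit false

namespace Cfsg.Agent.Lib.Helper1.Mono5634

open Matrix Cfsg.Geo Cfsg.Agent.Lib.Helper93 Cfsg.Agent.Lib.Helper43

variable {ι : Type} [Fintype ι] [DecidableEq ι] {F : Type*} [Field F]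

/-- entries of `elemTv i j hij b * x` -/
theorem elemTv_mul_apply (i j : ι) (hij : i ≠ j) (b : F) (x : GL ι F) (r s : ι) :
    ((elemTv i j hij b * x : GL ι F) : Matrix ι ι F) r s =
      (x : Matrix ι ι F) r s + (if r = i then b * (x : Matrix ι ι F) j s else 0) := by
  rw [Units.val_mul, Matrix.mul_apply]
  simp_rw [elemTv_apply, add_mul, Finset.sum_add_distrib]
  congr 1
  · simp
  · by_cases hr : r = i
    · simp [hr]
    · simp [hr]

/-- [GL-L2] -/
theorem gl_uni_row_eq_one (hμ : ∃ μ : Fˣ, μ ≠ 1) {Y : Subgroup (GL ι F)}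
    (hD : ∀ d : ι → Fˣ, dg d ∈ Y) (hnet : NET Y) (i₀ : ι) {x : GL ι F} (hx : x ∈ Y)
    (hrow : ∀ i j, i ≠ i₀ → (x : Matrix ι ι F) i j = if i = j then 1 else 0)
    (hdiag : (x : Matrix ι ι F) i₀ i₀ = 1) : x = 1 := by
  obtain ⟨μ, hμ1⟩ := hμ
  -- every off-diagonal entry of row `i₀` vanishes
  have hzero : ∀ j, j ≠ i₀ → (x : Matrix ι ι F) i₀ j = 0 := by
    intro j hj
    by_contra hβ
    set β : F := (x : Matrix ι ι F) i₀ j with hβdef
    have hij : i₀ ≠ j := fun h => hj h.symm
    set d : ι → Fˣ := Function.update 1 j μ with hd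
    set b : F := (((μ⁻¹ : Fˣ) : F) - 1) * β with hb
    have hdj : d j = μ := by rw [hd, Function.update_self]
    have hdne : ∀ r, r ≠ j → d r = 1 := by
      intro r hr; rw [hd, Function.update_of_ne hr]; rfl
    have key : dg d * x * dg d⁻¹ = elemTv i₀ j hij b * x := by
      apply Units.ext
      ext r s
      rw [mul_dg_apply, dg_mul_apply, elemTv_mul_apply]
      by_cases hr : r = i₀
      · subst hr
        have hdr : d r = 1 := hdne r hij
        rw [if_pos rfl, hdr, Units.val_one, one_mul, hrow j s hj]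
        by_cases hs : s = j
        · subst hs
          rw [if_pos rfl, mul_one, Pi.inv_apply, hdj, hb]
          ring
        · have hs' : j ≠ s := fun h => hs h.symm
          rw [if_neg hs', mul_zero, add_zero, Pi.inv_apply, hdne s hs, inv_one, Units.val_one,
            mul_one]
      · rw [if_neg hr, add_zero, hrow r s hr]
        by_cases hrs : r = s
        · subst hrs
          rw [if_pos rfl, mul_one, Pi.inv_apply, ← Units.val_mul, mul_inv_cancel, Units.val_one]
        · rw [if_neg hrs, mul_zero, zero_mul]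
    have hmem : elemTv i₀ j hij b ∈ Y := by
      have h1 : dg d * x * dg d⁻¹ ∈ Y := Y.mul_mem (Y.mul_mem (hD d) hx) (hD d⁻¹)
      have h2 : elemTv i₀ j hij b = dg d * x * dg d⁻¹ * x⁻¹ := by
        rw [key, mul_inv_cancel_right]
      rw [h2]
      exact Y.mul_mem h1 (Y.inv_mem hx)
    have hb0 : b = 0 := hnet i₀ j hij b hmem
    rw [hb] at hb0
    rcases mul_eq_zero.1 hb0 with h | h
    · apply hμ1
      have h' : ((μ⁻¹ : Fˣ) : F) = 1 := sub_eq_zero.1 h
      have h'' : (μ⁻¹ : Fˣ) = 1 := Units.ext (by rw [h', Units.val_one])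
      exact inv_eq_one.1 h''
    · exact hβ h
  apply Units.ext
  ext r s
  rw [Units.val_one, Matrix.one_apply]
  by_cases hr : r = i₀
  · subst hr
    by_cases hs : r = s
    · subst hs; rw [if_pos rfl, hdiag]
    · rw [if_neg hs]; exact hzero s (fun h => hs h.symm)
  · exact hrow r s hr

end Cfsg.Agent.Lib.Helper1.Mono5634
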