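/-
helper1: S5634-[GL-L3] (helper43's monomial-group project): an element `h ∈ Y` whose column `i₀`
is a multiple of `e_{i₀}` is monomial, provided the corner section of `Y` at `i₀` is monomial.
-/
import Mathlib
import Cfsg.Agent.Lib.Helper43.MonoStar
import Cfsg.Agent.Lib.Helper1.MonoGLL2

set_option autoImplicit false

namespace Cfsg.Agent.Lib.Helper1.Mono5634

open Matrix Cfsg.Geo Cfsg.Agent.Lib.Helper93 Cfsg.Agent.Lib.Helper43

variable {ι : Type} [Fintype ι] [DecidableEq ι] {F : Type*} [Field F]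

/-- if column `i₀` of `h` is supported at row `i₀`, then so is column `i₀` of `h⁻¹`, and the
corner entries are inverse to each other -/
theorem inv_col_of_col (h : GL ι F) (i₀ : ι)
    (hcol : ∀ t, t ≠ i₀ → (h : Matrix ι ι F) t i₀ = 0) :
    (∀ s, s ≠ i₀ → ((h⁻¹ : GL ι F) : Matrix ι ι F) s i₀ = 0) ∧
      ((h⁻¹ : GL ι F) : Matrix ι ι F) i₀ i₀ * (h : Matrix ι ι F) i₀ i₀ = 1 := by
  have key : ∀ s, ((h⁻¹ : GL ι F) : Matrix ι ι F) s i₀ * (h : Matrix ι ι F) i₀ i₀ =
      if s = i₀ then 1 else 0 := by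
    intro s
    have h1 : ((h⁻¹ * h : GL ι F) : Matrix ι ι F) s i₀ = if s = i₀ then 1 else 0 := by
      rw [inv_mul_cancel, Units.val_one, Matrix.one_apply]
    rw [Units.val_mul, Matrix.mul_apply, Finset.sum_eq_single i₀] at h1
    · exact h1
    · intro t _ ht
      rw [hcol t ht, mul_zero]
    · intro hn; exact absurd (Finset.mem_univ _) hn
  have hcorner := key i₀
  rw [if_pos rfl] at hcorner
  refine ⟨?_, hcorner⟩
  intro s hs
  have h2 := key s
  rw [if_neg hs] at h2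
  rcases mul_eq_zero.1 h2 with h3 | h3
  · exact h3
  · rw [h3, mul_zero] at hcorner
    exact absurd hcorner zero_ne_one

/-- [GL-L3] -/
theorem gl_star_self {k : ℕ} (hμ : ∃ μ : Fˣ, μ ≠ 1) {Y : Subgroup (GL (Fin (k + 1)) F)}
    (hY : GLHyp Y) (i₀ : Fin (k + 1))
    (hsec : ∀ C : GL (Fin k) F, embSA i₀ C ∈ Y → C ∈ Mono (Fin k) F)
    {h : GL (Fin (k + 1)) F} (hh : h ∈ Y)
    (hcol : ∀ a, (h : Matrix (Fin (k + 1)) (Fin (k + 1)) F) (i₀.succAbove a) i₀ = 0) :
    h ∈ Mono (Fin (k + 1)) F := by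
  have hcol' : ∀ t, t ≠ i₀ → (h : Matrix (Fin (k + 1)) (Fin (k + 1)) F) t i₀ = 0 := by
    intro t ht
    rcases Fin.eq_self_or_eq_succAbove i₀ t with h1 | ⟨a, h1⟩
    · exact absurd h1 ht
    · rw [h1]; exact hcol a
  obtain ⟨hinvcol, hcorner⟩ := inv_col_of_col h i₀ hcol'
  set a : F := (h : Matrix (Fin (k + 1)) (Fin (k + 1)) F) i₀ i₀ with ha
  have ha0 : a ≠ 0 := by
    intro h0
    rw [h0, mul_zero] at hcorner
    exact zero_ne_one hcorner
  have hD : ∀ d : Fin (k + 1) → Fˣ, dg d ∈ Y := fun d => hY.mono_le (dg_mem_Mono d)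
  obtain ⟨ε, hε⟩ := hμ
  set d : Fin (k + 1) → Fˣ := Function.update 1 i₀ ε with hd
  have hdi : d i₀ = ε := by rw [hd, Function.update_self]
  have hdne : ∀ r, r ≠ i₀ → d r = 1 := by
    intro r hr; rw [hd, Function.update_of_ne hr]; rfl
  -- entries of `A = d h d⁻¹`
  have hA : ∀ r s : Fin (k + 1), ((dg d * h * dg d⁻¹ : GL (Fin (k + 1)) F) : Matrix (Fin (k + 1)) (Fin (k + 1)) F) r s =
      (d r : F) * (h : Matrix (Fin (k + 1)) (Fin (k + 1)) F) r s * ((d s)⁻¹ : Fˣ) := by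
    intro r s
    rw [mul_dg_apply, dg_mul_apply, Pi.inv_apply]
  -- rows `r ≠ i₀` of `A` are the rows of `h`
  have hArow : ∀ r s : Fin (k + 1), r ≠ i₀ → ((dg d * h * dg d⁻¹ : GL (Fin (k + 1)) F) : Matrix (Fin (k + 1)) (Fin (k + 1)) F) r s =
      (h : Matrix (Fin (k + 1)) (Fin (k + 1)) F) r s := by
    intro r s hr
    rw [hA, hdne r hr, Units.val_one, one_mul]
    by_cases hs : s = i₀
    · rw [hs, hcol' r hr, zero_mul]
    · rw [hdne s hs, inv_one, Units.val_one, mul_one]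
  set x : GL (Fin (k + 1)) F := dg d * h * dg d⁻¹ * h⁻¹ with hx
  have hxY : x ∈ Y := Y.mul_mem (Y.mul_mem (Y.mul_mem (hD d) hh) (hD d⁻¹)) (Y.inv_mem hh)
  have hxrow : ∀ i j : Fin (k + 1), i ≠ i₀ → (x : Matrix (Fin (k + 1)) (Fin (k + 1)) F) i j = if i = j then 1 else 0 := by
    intro i j hi
    rw [hx, Units.val_mul, Matrix.mul_apply]
    have h1 : ((h * h⁻¹ : GL (Fin (k + 1)) F) : Matrix (Fin (k + 1)) (Fin (k + 1)) F) i j = if i = j then 1 else 0 := by
      rw [mul_inv_cancel, Units.val_one, Matrix.one_apply]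
    rw [Units.val_mul, Matrix.mul_apply] at h1
    rw [← h1]
    apply Finset.sum_congr rfl
    intro s _
    rw [hArow i s hi]
  have hxdiag : (x : Matrix (Fin (k + 1)) (Fin (k + 1)) F) i₀ i₀ = 1 := by
    rw [hx, Units.val_mul, Matrix.mul_apply, Finset.sum_eq_single i₀]
    · rw [hA, hdi, ← ha]
      have h2 : (ε : F) * a * ((ε⁻¹ : Fˣ) : F) = a := by
        rw [mul_comm (ε : F) a, mul_assoc, ← Units.val_mul, mul_inv_cancel, Units.val_one, mul_one]
      rw [h2, mul_comm]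
      exact hcorner
    · intro s _ hs
      rw [hinvcol s hs, mul_zero]
    · intro hn; exact absurd (Finset.mem_univ _) hn
  have hx1 : x = 1 := gl_uni_row_eq_one ⟨ε, hε⟩ hD hY.net i₀ hxY hxrow hxdiag
  have hAh : dg d * h * dg d⁻¹ = h := by
    have h3 : dg d * h * dg d⁻¹ = x * h := by rw [hx, inv_mul_cancel_right]
    rw [h3, hx1, one_mul]
  -- row `i₀` of `h` is supported at `i₀`
  have hrow0 : ∀ j, j ≠ i₀ → (h : Matrix (Fin (k + 1)) (Fin (k + 1)) F) i₀ j = 0 := by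
    intro j hj
    have h4 := hA i₀ j
    rw [hAh, hdi, hdne j hj, inv_one, Units.val_one, mul_one] at h4
    have h5 : ((ε : F) - 1) * (h : Matrix (Fin (k + 1)) (Fin (k + 1)) F) i₀ j = 0 := by
      rw [sub_mul, one_mul, ← h4, sub_self]
    rcases mul_eq_zero.1 h5 with h6 | h6
    · exfalso
      apply hε
      apply Units.ext
      rw [Units.val_one]
      exact sub_eq_zero.1 h6
    · exact h6
  -- normalise the corner entry
  set u : Fˣ := Units.mk0 a ha0 with hu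
  set h' : GL (Fin (k + 1)) F := dg1 i₀ u⁻¹ * h with hh'
  have hh'Y : h' ∈ Y := Y.mul_mem (hY.mono_le (dg1_mem_Mono _ _)) hh
  have hentry : ∀ r s : Fin (k + 1), (h' : Matrix (Fin (k + 1)) (Fin (k + 1)) F) r s =
      (if r = i₀ then ((u⁻¹ : Fˣ) : F) else 1) * (h : Matrix (Fin (k + 1)) (Fin (k + 1)) F) r s := by
    intro r s
    rw [hh']
    unfold dg1
    rw [dg_mul_apply]
    by_cases hr : r = i₀
    · rw [if_pos hr, hr, Function.update_self]
    · rw [if_neg hr, Function.update_of_ne hr]; rfl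
  obtain ⟨C, hC⟩ := exists_embSA_eq i₀ h'
    (by
      rw [hentry, if_pos rfl, ← ha]
      have : (u : F) = a := rfl
      rw [← this, ← Units.val_mul, inv_mul_cancel, Units.val_one])
    (by
      intro b
      rw [hentry, hrow0 _ (Fin.succAbove_ne i₀ b), mul_zero])
    (by
      intro b
      rw [hentry, hcol b, mul_zero])
  have hCY : embSA i₀ C ∈ Y := by rw [hC]; exact hh'Y
  have hCm : C ∈ Mono (Fin k) F := hsec C hCY
  have hh'm : h' ∈ Mono (Fin (k + 1)) F := by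
    rw [← hC]; exact (embSA_mem_Mono_iff i₀ C).2 hCm
  have : h = (dg1 i₀ u⁻¹)⁻¹ * h' := by rw [hh', inv_mul_cancel_left]
  rw [this]
  exact (Mono (Fin (k + 1)) F).mul_mem ((Mono (Fin (k + 1)) F).inv_mem (dg1_mem_Mono _ _)) hh'm

end Cfsg.Agent.Lib.Helper1.Mono5634
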