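/-
helper1: S5634-[STAR] (helper43's monomial-group project): if every element of `Y` whose column
`i₀` is supported at row `i₀` is monomial, and `Y` contains the monomial matrices of determinant
one, then `Y` has the column-star property.
-/
import Mathlib
import Cfsg.Agent.Lib.Helper43.MonoStar

set_option autoImplicit false

namespace Cfsg.Agent.Lib.Helper1.Mono5634

open Matrix Cfsg.Geo Cfsg.Agent.Lib.Helper93 Cfsg.Agent.Lib.Helper43

variable {ι : Type} [Fintype ι] [DecidableEq ι] {F : Type*} [Field F]

/-- the signed transposition `pm (swap i j) * dg1 i (-1)` is monomial of determinant one -/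
theorem signedSwap_mem (i j : ι) (hij : i ≠ j) :
    (pm (Equiv.swap i j) * dg1 i (-1) : GL ι F) ∈ Mono ι F ⊓ specialLinear ι F := by
  refine Subgroup.mem_inf.2 ⟨(Mono ι F).mul_mem (pm_mem_Mono _) (dg1_mem_Mono _ _), ?_⟩
  rw [mem_specialLinear_iff, Units.val_mul, Matrix.det_mul, det_pm, Equiv.Perm.sign_swap hij]
  unfold dg1
  rw [det_dg, ← Units.coe_prod, Finset.prod_update_of_mem (Finset.mem_univ i)]
  simp

/-- [STAR] -/
theorem star_of_self {Y : Subgroup (GL ι F)} (hmono : Mono ι F ⊓ specialLinear ι F ≤ Y)
    (hself : ∀ (i₀ : ι) (h : GL ι F), h ∈ Y → (∀ r, r ≠ i₀ → (h : Matrix ι ι F) r i₀ = 0) →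
      h ∈ Mono ι F) : ColStar Y := by
  intro h hh i j hcol
  by_cases hij : i = j
  · subst hij
    exact hself i h hh hcol
  · set π : GL ι F := pm (Equiv.swap i j) * dg1 i (-1) with hπ
    have hπN : π ∈ Mono ι F ⊓ specialLinear ι F := signedSwap_mem i j hij
    have hπY : π ∈ Y := hmono hπN
    have hπh : π * h ∈ Mono ι F := by
      apply hself i (π * h) (Y.mul_mem hπY hh)
      intro r hr
      rw [hπ, mul_assoc, pm_mul_apply]
      unfold dg1
      rw [dg_mul_apply]
      have hne : (Equiv.swap i j)⁻¹ r ≠ j := by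
        intro hcon
        have h1 : r = i := by
          have h2 := congrArg (Equiv.swap i j) hcon
          simpa using h2
        exact hr h1
      rw [hcol _ hne, mul_zero]
    have : h = π⁻¹ * (π * h) := by rw [inv_mul_cancel_left]
    rw [this]
    exact (Mono ι F).mul_mem ((Mono ι F).inv_mem hπN.1) hπh

end Cfsg.Agent.Lib.Helper1.Mono5634
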