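import Mathlib
import Cfsg.Prelude.Def_GeometricClasses
import Cfsg.Agent.Lib.Helper94.OrthBridge
import Cfsg.Agent.Lib.Helper94.OrthSiegel
import Cfsg.Agent.Lib.Helper44.Witt
import Cfsg.Agent.Lib.Helper55.Oe.Defs

/-!
# ASCHOE-[T-FIELDU] (helper1): unitary-type quadratic field `K` on the quadratic space `(F^n, Q)`, `n = 2k`:
`Q` is of plus type iff `k` is even.

Route (no Hermitian form): `W` := a `K`-invariant totally singular subspace of maximal dimension.
(a) every singular vector of `W^⊥` lies in `W` (`W + K v` is `K`-invariant and totally singular);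
(b) `2 ∣ dim W` (`W` is a `K`-space);
(c) `U` totally singular of dimension `k` ⇒ `(U + W)^⊥ ≤ U ∩ W` ⇒ `dim W = k`, so `k` is even;
(d) `k` even and `dim W < k` ⇒ a complement of `W` in `W^⊥` of dimension `≥ 4` is anisotropic: Chevalley–Warning.
Kit (namespace `Cfsg.Agent.Lib.Helper1.OeKit`): `KInv`, `dvd_finrank_of_KInv`, `finrank_orthogonal'`, `le_orthogonal_of_ts`,
`exists_max_KInv_ts`.
-/

set_option autoImplicit false
set_option linter.style.haveILetI false

namespace Cfsg.Agent.Lib.Helper1.OeKit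

open Cfsg Cfsg.Geo Cfsg.Agent.Lib.Helper94
open scoped MatrixGroups Matrix Kronecker

variable {n : ℕ} {F : Type*} [Field F]

/-- `W` is invariant under the subalgebra `K` -/
def KInv (K : Subalgebra F (Matrix (Fin n) (Fin n) F)) (W : Submodule F (Fin n → F)) : Prop :=
  ∀ x ∈ K, ∀ w ∈ W, x *ᵥ w ∈ W

/-- the degree of a field subalgebra divides the dimension of every invariant subspace -/
theorem dvd_finrank_of_KInv (r : ℕ) (K : Subalgebra F (Matrix (Fin n) (Fin n) F))
    (hK : IsFieldSubalgebra r K) (W : Submodule F (Fin n → F)) (hW : KInv K W) :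
    r ∣ Module.finrank F W := by
  classical
  rcases Nat.eq_zero_or_pos n with rfl | hn
  · have : Module.finrank F W = 0 := by
      have h1 : Module.finrank F W ≤ Module.finrank F (Fin 0 → F) := Submodule.finrank_le W
      rw [Module.finrank_fin_fun] at h1
      omega
    rw [this]
    exact dvd_zero r
  haveI : Nonempty (Fin n) := ⟨⟨0, hn⟩⟩
  haveI : Nontrivial (Matrix (Fin n) (Fin n) F) := inferInstance
  have hfield : IsField ↥K :=
    { exists_pair_ne := ⟨0, 1, fun h => zero_ne_one (congrArg Subtype.val h)⟩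
      mul_comm := fun a b => Subtype.ext (hK.comm a.1 a.2 b.1 b.2)
      mul_inv_cancel := fun {a} ha => by
        obtain ⟨y, hyK, hy⟩ := hK.inv a.1 a.2 (fun h => ha (Subtype.ext h))
        exact ⟨⟨y, hyK⟩, Subtype.ext hy⟩ }
  let φ : ↥K →+* Module.End F W :=
    { toFun := fun k => (Matrix.toLin' k.1).restrict (fun w hw => by
        rw [Matrix.toLin'_apply]; exact hW k.1 k.2 w hw)
      map_one' := by
        apply LinearMap.ext
        intro w
        apply Subtype.ext
        simp
      map_mul' := by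
        intro a b
        apply LinearMap.ext
        intro w
        apply Subtype.ext
        simp [Matrix.toLin'_mul]
      map_zero' := by
        apply LinearMap.ext
        intro w
        apply Subtype.ext
        simp
      map_add' := by
        intro a b
        apply LinearMap.ext
        intro w
        apply Subtype.ext
        simp [Matrix.add_mulVec] }
  letI instMod : Module ↥K W := Module.compHom W φ
  haveI hTower : IsScalarTower F ↥K W := ⟨fun c k v => by
    show φ (c • k) v = c • φ k v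
    apply Subtype.ext
    simp [φ, Matrix.smul_mulVec]⟩
  haveI hSRC : StrongRankCondition ↥K := by
    letI instFld : Field ↥K := hfield.toField
    exact (inferInstance : StrongRankCondition ↥K)
  haveI hfree : Module.Free ↥K W := by
    letI instFld : Field ↥K := hfield.toField
    exact @Module.Free.of_divisionRing ↥K W _ _ instMod
  have key := @Module.finrank_mul_finrank F ↥K W _ _ _ _ instMod _ hTower _ hSRC _ hfree
  rw [← hK.finrank_eq]
  exact Dvd.intro _ key

section quad
variable {Q : (Fin n → F) → F} (hQ : IsNondegenerateQuadraticForm Q)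
include hQ

theorem Q_zero : Q 0 = 0 := by
  have := hQ.smul 0 0
  rw [zero_smul] at this
  rw [this]; ring

theorem Q_add (u v : Fin n → F) : Q (u + v) = Q u + Q v + QuadraticMap.polar Q u v := by
  rw [QuadraticMap.polar]; ring

theorem polarBilin_symm (u v : Fin n → F) : polarBilin hQ u v = polarBilin hQ v u := by
  rw [polarBilin_apply, polarBilin_apply, QuadraticMap.polar_comm]

theorem polarBilin_isRefl : (polarBilin hQ).IsRefl := by
  intro u v h
  rw [polarBilin_symm hQ, h]

theorem polarBilin_nondegenerate : (polarBilin hQ).Nondegenerate :=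
  ⟨fun x hx => nondeg_polarBilin hQ x hx,
    fun y hy => nondeg_polarBilin hQ y fun x => by rw [polarBilin_symm hQ]; exact hy x⟩

/-- totally singular subspaces are totally isotropic -/
theorem le_orthogonal_of_ts (U : Submodule F (Fin n → F)) (hU : IsTotallySingularQuad Q U) :
    U ≤ (polarBilin hQ).orthogonal U := by
  intro u hu
  rw [LinearMap.BilinForm.mem_orthogonal_iff]
  intro u' hu'
  show polarBilin hQ u' u = 0
  rw [polarBilin_apply, QuadraticMap.polar, hU _ (U.add_mem hu' hu), hU _ hu', hU _ hu]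
  ring

theorem finrank_orthogonal' (W : Submodule F (Fin n → F)) :
    Module.finrank F ((polarBilin hQ).orthogonal W) = n - Module.finrank F W := by
  rw [LinearMap.BilinForm.finrank_orthogonal (polarBilin_nondegenerate hQ), Module.finrank_fin_fun]

/-- a totally singular subspace has dimension at most `n / 2` -/
theorem two_mul_finrank_le_of_ts (U : Submodule F (Fin n → F)) (hU : IsTotallySingularQuad Q U) :
    2 * Module.finrank F U ≤ n := by
  have h1 := Submodule.finrank_mono (le_orthogonal_of_ts hQ U hU)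
  rw [finrank_orthogonal' hQ] at h1
  have h2 : Module.finrank F U ≤ n := by
    have := Submodule.finrank_le U
    rwa [Module.finrank_fin_fun] at this
  omega

/-- a `K`-invariant totally singular subspace of maximal dimension -/
theorem exists_max_KInv_ts (K : Subalgebra F (Matrix (Fin n) (Fin n) F)) :
    ∃ W : Submodule F (Fin n → F), KInv K W ∧ IsTotallySingularQuad Q W ∧
      ∀ W' : Submodule F (Fin n → F), KInv K W' → IsTotallySingularQuad Q W' →
        Module.finrank F W' ≤ Module.finrank F W := by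
  classical
  let P : ℕ → Prop := fun d => ∃ W : Submodule F (Fin n → F), KInv K W ∧ IsTotallySingularQuad Q W ∧
    Module.finrank F W = d
  have h0 : P 0 := ⟨⊥, fun x _ w hw => by
      rw [Submodule.mem_bot] at hw ⊢
      rw [hw, Matrix.mulVec_zero], fun w hw => by
      rw [Submodule.mem_bot] at hw
      rw [hw]; exact Q_zero hQ, finrank_bot F _⟩
  obtain ⟨W, hW1, hW2, hW3⟩ := Nat.findGreatest_spec (P := P) (Nat.zero_le n) h0
  refine ⟨W, hW1, hW2, fun W' h1 h2 => ?_⟩
  rw [hW3]
  apply Nat.le_findGreatest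
  · have := Submodule.finrank_le W'
    rwa [Module.finrank_fin_fun] at this
  · exact ⟨W', h1, h2, rfl⟩

end quad


/-- a `K`-invariant totally singular subspace `W` of maximal dimension contains every singular vector of `W^⊥` -/
theorem exists_KInv_ts_closed {Q : (Fin n → F) → F} (hQ : IsNondegenerateQuadraticForm Q)
    (K : Subalgebra F (Matrix (Fin n) (Fin n) F))
    (hadj : IsAdjointClosedFor (QuadraticMap.polar Q) K)
    (hsim : ∀ x ∈ K, ∃ c : F, ∀ v : Fin n → F, Q (Matrix.mulVec x v) = c * Q v) :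
    ∃ W : Submodule F (Fin n → F), KInv K W ∧ IsTotallySingularQuad Q W ∧
      ∀ v : Fin n → F, Q v = 0 → v ∈ (polarBilin hQ).orthogonal W → v ∈ W := by
  classical
  obtain ⟨W, hWinv, hWts, hWmax⟩ := exists_max_KInv_ts hQ K
  refine ⟨W, hWinv, hWts, ?_⟩
  intro v hv hvW
  rw [LinearMap.BilinForm.mem_orthogonal_iff] at hvW
  let W' : Submodule F (Fin n → F) :=
    { carrier := {y | ∃ w ∈ W, ∃ x ∈ K, y = w + x *ᵥ v}
      add_mem' := by
        rintro _ _ ⟨w, hw, x, hx, rfl⟩ ⟨w', hw', x', hx', rfl⟩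
        refine ⟨w + w', W.add_mem hw hw', x + x', K.add_mem hx hx', ?_⟩
        rw [Matrix.add_mulVec]; abel
      zero_mem' := ⟨0, W.zero_mem, 0, K.zero_mem, by rw [Matrix.zero_mulVec, add_zero]⟩
      smul_mem' := by
        rintro c _ ⟨w, hw, x, hx, rfl⟩
        refine ⟨c • w, W.smul_mem c hw, c • x, K.smul_mem hx c, ?_⟩
        rw [Matrix.smul_mulVec, smul_add] }
  have hW'inv : KInv K W' := by
    rintro y hy _ ⟨w, hw, x, hx, rfl⟩
    refine ⟨y *ᵥ w, hWinv y hy w hw, y * x, K.mul_mem hy hx, ?_⟩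
    rw [Matrix.mulVec_add, Matrix.mulVec_mulVec]
  have hW'ts : IsTotallySingularQuad Q W' := by
    rintro _ ⟨w, hw, x, hx, rfl⟩
    obtain ⟨c, hc⟩ := hsim x hx
    obtain ⟨x', hx', hxx'⟩ := hadj x hx
    have h1 : QuadraticMap.polar Q w (x *ᵥ v) = 0 := by
      rw [QuadraticMap.polar_comm, hxx' v w, QuadraticMap.polar_comm]
      exact hvW _ (hWinv x' hx' w hw)
    rw [Q_add hQ, hWts w hw, hc v, hv, h1]
    ring
  have hle : W ≤ W' := fun w hw => ⟨w, hw, 0, K.zero_mem, by rw [Matrix.zero_mulVec, add_zero]⟩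
  have heq : W = W' :=
    Submodule.eq_of_le_of_finrank_le hle (hWmax W' hW'inv hW'ts)
  rw [heq]
  exact ⟨0, W.zero_mem, 1, K.one_mem, by rw [Matrix.one_mulVec, zero_add]⟩

/-- **ASCHOE-[T-FIELDU]**, direction plus type ⇒ `k` even (needs neither `hnsa` nor finiteness of `F`) -/
theorem even_of_plus_fieldU {Q : (Fin n → F) → F} (hQ : IsNondegenerateQuadraticForm Q)
    (k : ℕ) (hk : n = 2 * k) (K : Subalgebra F (Matrix (Fin n) (Fin n) F)) (hK : IsFieldSubalgebra 2 K)
    (hadj : IsAdjointClosedFor (QuadraticMap.polar Q) K)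
    (hsim : ∀ x ∈ K, ∃ c : F, ∀ v : Fin n → F, Q (Matrix.mulVec x v) = c * Q v)
    (hplus : IsPlusTypeOn Q ⊤) : Even k := by
  classical
  obtain ⟨U, -, hUts, hUdim⟩ := hplus
  rw [finrank_top, Module.finrank_fin_fun] at hUdim
  have hUk : Module.finrank F U = k := by omega
  obtain ⟨W, hWinv, hWts, ha⟩ := exists_KInv_ts_closed hQ K hadj hsim
  have hUperp : (polarBilin hQ).orthogonal U = U := by
    symm
    apply Submodule.eq_of_le_of_finrank_eq (le_orthogonal_of_ts hQ U hUts)
    rw [finrank_orthogonal' hQ, hUk]; omega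
  have hX : (polarBilin hQ).orthogonal (U ⊔ W) ≤ U ⊓ W := by
    intro m hm
    rw [LinearMap.BilinForm.mem_orthogonal_iff] at hm
    have hmU : m ∈ U := by
      rw [← hUperp, LinearMap.BilinForm.mem_orthogonal_iff]
      exact fun u hu => hm u (Submodule.mem_sup_left hu)
    refine ⟨hmU, ha m (hUts m hmU) ?_⟩
    rw [LinearMap.BilinForm.mem_orthogonal_iff]
    exact fun w hw => hm w (Submodule.mem_sup_right hw)
  have h1 := Submodule.finrank_mono hX
  rw [finrank_orthogonal' hQ] at h1
  have h2 := Submodule.finrank_sup_add_finrank_inf_eq U W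
  have h3 := two_mul_finrank_le_of_ts hQ W hWts
  have h4 : Module.finrank F (U ⊓ W : Submodule F (Fin n → F)) ≤ Module.finrank F W :=
    Submodule.finrank_mono inf_le_right
  have hd : Module.finrank F W = k := by omega
  obtain ⟨j, hj⟩ := dvd_finrank_of_KInv 2 K hK W hWinv
  exact ⟨j, by omega⟩

/-- **ASCHOE-[T-FIELDU]**, direction `k` even ⇒ plus type -/
theorem plus_of_even_fieldU [Finite F] {Q : (Fin n → F) → F} (hQ : IsNondegenerateQuadraticForm Q)
    (k : ℕ) (hk : n = 2 * k) (K : Subalgebra F (Matrix (Fin n) (Fin n) F)) (hK : IsFieldSubalgebra 2 K)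
    (hadj : IsAdjointClosedFor (QuadraticMap.polar Q) K)
    (hsim : ∀ x ∈ K, ∃ c : F, ∀ v : Fin n → F, Q (Matrix.mulVec x v) = c * Q v)
    (hev : Even k) : IsPlusTypeOn Q ⊤ := by
  classical
  obtain ⟨W, hWinv, hWts, ha⟩ := exists_KInv_ts_closed hQ K hadj hsim
  have h3 := two_mul_finrank_le_of_ts hQ W hWts
  obtain ⟨j, hj⟩ := dvd_finrank_of_KInv 2 K hK W hWinv
  obtain ⟨i, hi⟩ := hev
  have hd : Module.finrank F W = k := by
    by_contra hne
    -- `dim W ≤ k - 2`
    have hlt : Module.finrank F W + 2 ≤ k := by omega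
    obtain ⟨C, hC⟩ := Submodule.exists_isCompl W
    obtain ⟨Wp, hWp⟩ : ∃ Wp : Submodule F (Fin n → F), Wp = (polarBilin hQ).orthogonal W := ⟨_, rfl⟩
    have hCdim : Module.finrank F W + Module.finrank F C = n := by
      have := Submodule.finrank_add_eq_of_isCompl hC
      rwa [Module.finrank_fin_fun] at this
    have hWpdim := finrank_orthogonal' hQ W
    rw [← hWp] at hWpdim
    have h5 := Submodule.finrank_sup_add_finrank_inf_eq C Wp
    have h6 : Module.finrank F (C ⊔ Wp : Submodule F (Fin n → F)) ≤ n := by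
      have := Submodule.finrank_le (C ⊔ Wp)
      rwa [Module.finrank_fin_fun] at this
    have hA3 : 3 ≤ Module.finrank F (C ⊓ Wp : Submodule F (Fin n → F)) := by omega
    let QF : QuadraticForm F (Fin n → F) := (quadData_polarBilin hQ).toQF
    obtain ⟨a, ha0, haQ⟩ := Cfsg.Agent.Lib.Helper44.exists_isotropic
      (QF.comp (C ⊓ Wp : Submodule F (Fin n → F)).subtype) hA3
    have haQ' : Q (a : Fin n → F) = 0 := haQ
    have haW : (a : Fin n → F) ∈ W := ha _ haQ' (hWp ▸ a.2.2)
    have : (a : Fin n → F) ∈ W ⊓ C := ⟨haW, a.2.1⟩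
    rw [hC.inf_eq_bot, Submodule.mem_bot] at this
    exact ha0 (Subtype.ext this)
  exact ⟨W, le_top, hWts, by rw [finrank_top, Module.finrank_fin_fun]; omega⟩

end Cfsg.Agent.Lib.Helper1.OeKit

namespace Cfsg.Agent.Lib.Helper55.Oe

open Cfsg Cfsg.Geo
open scoped MatrixGroups Matrix Kronecker

variable {n : ℕ} {F : Type*} [Field F] [Fintype F]

/-- ASCHOE-[T-FIELDU], the direction used by S5847 -/
theorem even_of_isPlusTypeOn_fieldU {Q : (Fin n → F) → F} (hQ : IsNondegenerateQuadraticForm Q)
    (k : ℕ) (hk : n = 2 * k) (K : Subalgebra F (Matrix (Fin n) (Fin n) F)) (hK : IsFieldSubalgebra 2 K)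
    (hadj : IsAdjointClosedFor (QuadraticMap.polar Q) K)
    (hsim : ∀ x ∈ K, ∃ c : F, ∀ v : Fin n → F, Q (Matrix.mulVec x v) = c * Q v)
    (hplus : IsPlusTypeOn Q ⊤) : Even k :=
  Cfsg.Agent.Lib.Helper1.OeKit.even_of_plus_fieldU hQ k hk K hK hadj hsim hplus

/-- ASCHOE-[T-FIELDU] -/
theorem isPlusTypeOn_top_fieldU_iff {Q : (Fin n → F) → F} (hQ : IsNondegenerateQuadraticForm Q)
    (k : ℕ) (hk : n = 2 * k) (K : Subalgebra F (Matrix (Fin n) (Fin n) F)) (hK : IsFieldSubalgebra 2 K)
    (hadj : IsAdjointClosedFor (QuadraticMap.polar Q) K)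
    (hnsa : ¬ IsSelfAdjointFor (QuadraticMap.polar Q) K)
    (hsim : ∀ x ∈ K, ∃ c : F, ∀ v : Fin n → F, Q (Matrix.mulVec x v) = c * Q v) :
    IsPlusTypeOn Q ⊤ ↔ Even k :=
  ⟨Cfsg.Agent.Lib.Helper1.OeKit.even_of_plus_fieldU hQ k hk K hK hadj hsim,
    Cfsg.Agent.Lib.Helper1.OeKit.plus_of_even_fieldU hQ k hk K hK hadj hsim⟩

end Cfsg.Agent.Lib.Helper55.Oe
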