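import Mathlib
import Cfsg.Prelude.Def_GeometricClasses
import Cfsg.Agent.Lib.Helper1.OeTFieldU

/-!
# ASCHOE-[T-FIELD2EVEN] (helper1): characteristic 2, a self-adjoint quadratic field on a quadratic space of dimension `2k`,
`k` odd, is impossible.

(1) `N = {v | B(θ v, v) = 0}` is a `K`-invariant `F`-subspace of codimension `≤ 1` (kernel of the linear functional
`v ↦ √B(θ v, v)`), hence everything: `B(x v, v) = 0` for all `x ∈ K` (`selfAdjoint_alt_of_char_two`).
(2) a `K`-invariant totally isotropic subspace `W` of maximal dimension is Lagrangian, and `2 ∣ dim W`: `4 ∣ n`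
(`four_dvd_of_selfAdjoint_alt`, any characteristic — this is the abstract form of BHRSP-[A-C3TWO]).
-/

set_option autoImplicit false
set_option linter.style.haveILetI false

namespace Cfsg.Agent.Lib.Helper1.OeKit

open Cfsg Cfsg.Geo Cfsg.Agent.Lib.Helper94
open scoped MatrixGroups Matrix Kronecker

variable {n : ℕ} {F : Type*} [Field F]

/-- a field subalgebra of degree 2 has a basis `1, θ` -/
theorem exists_pair_basis (K : Subalgebra F (Matrix (Fin n) (Fin n) F)) (hK : IsFieldSubalgebra 2 K) :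
    ∃ θ ∈ K, ∀ x ∈ K, ∃ a b : F, x = a • (1 : Matrix (Fin n) (Fin n) F) + b • θ := by
  classical
  have hfr : Module.finrank F ↥K = 2 := hK.finrank_eq
  haveI : FiniteDimensional F ↥K := Module.finite_of_finrank_pos (by omega)
  -- some element outside `F · 1`
  have hex : ∃ θ : ↥K, θ ∉ Submodule.span F {(1 : ↥K)} := by
    by_contra hcon
    push Not at hcon
    have htop : (⊤ : Submodule F ↥K) ≤ Submodule.span F {(1 : ↥K)} := fun x _ => hcon x
    have h1 := Submodule.finrank_mono htop
    rw [finrank_top, hfr] at h1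
    have h2 : Module.finrank F (Submodule.span F {(1 : ↥K)}) ≤ 1 := by
      have := finrank_span_le_card (R := F) ({(1 : ↥K)} : Set ↥K)
      simpa using this
    omega
  obtain ⟨θ, hθ⟩ := hex
  refine ⟨θ.1, θ.2, ?_⟩
  have hlt : Submodule.span F {(1 : ↥K)} < Submodule.span F {(1 : ↥K), θ} := by
    refine lt_of_le_of_ne (Submodule.span_mono (by simp)) ?_
    intro heq
    apply hθ
    rw [heq]
    exact Submodule.subset_span (by simp)
  have h1ne : (1 : ↥K) ≠ 0 := by
    intro h
    apply hθ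
    have : θ = θ * 1 := (mul_one θ).symm
    rw [this, h, mul_zero]
    exact Submodule.zero_mem _
  have h3 := Submodule.finrank_lt_finrank_of_lt hlt
  rw [finrank_span_singleton h1ne] at h3
  have h4 : Module.finrank F (Submodule.span F {(1 : ↥K), θ}) ≤ 2 := by
    rw [← hfr]; exact Submodule.finrank_le _
  have htop : Submodule.span F {(1 : ↥K), θ} = ⊤ := by
    apply Submodule.eq_top_of_finrank_eq
    omega
  intro x hx
  have hxm : (⟨x, hx⟩ : ↥K) ∈ Submodule.span F {(1 : ↥K), θ} := by rw [htop]; trivial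
  obtain ⟨a, b, hab⟩ := Submodule.mem_span_pair.mp hxm
  refine ⟨a, b, ?_⟩
  have := congrArg Subtype.val hab
  simpa using this.symm

/-- a subspace of maximal dimension with a property that holds for `⊥` -/
theorem exists_max_finrank (P : Submodule F (Fin n → F) → Prop) (h0 : P ⊥) :
    ∃ W : Submodule F (Fin n → F), P W ∧
      ∀ W' : Submodule F (Fin n → F), P W' → Module.finrank F W' ≤ Module.finrank F W := by
  classical
  let P' : ℕ → Prop := fun d => ∃ W : Submodule F (Fin n → F), P W ∧ Module.finrank F W = d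
  have h0' : P' 0 := ⟨⊥, h0, finrank_bot F _⟩
  obtain ⟨W, hW1, hW3⟩ := Nat.findGreatest_spec (P := P') (Nat.zero_le n) h0'
  refine ⟨W, hW1, fun W' h1 => ?_⟩
  rw [hW3]
  apply Nat.le_findGreatest
  · have := Submodule.finrank_le W'
    rwa [Module.finrank_fin_fun] at this
  · exact ⟨W', h1, rfl⟩

/-- a self-adjoint quadratic field `K` with `B(x v, v) = 0`: the dimension is divisible by four -/
theorem four_dvd_of_selfAdjoint_alt {Q : (Fin n → F) → F} (hQ : IsNondegenerateQuadraticForm Q)
    (K : Subalgebra F (Matrix (Fin n) (Fin n) F)) (hK : IsFieldSubalgebra 2 K)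
    (hsa : IsSelfAdjointFor (QuadraticMap.polar Q) K)
    (halt : ∀ x ∈ K, ∀ v : Fin n → F, QuadraticMap.polar Q (x *ᵥ v) v = 0) : 4 ∣ n := by
  classical
  have hB := hQ.polar_bilinear
  obtain ⟨W, ⟨hWinv, hWti⟩, hWmax⟩ := exists_max_finrank
    (fun W : Submodule F (Fin n → F) => KInv K W ∧ ∀ w ∈ W, ∀ w' ∈ W, QuadraticMap.polar Q w w' = 0)
    ⟨fun x _ w hw => by
      rw [Submodule.mem_bot] at hw ⊢
      rw [hw, Matrix.mulVec_zero], fun w hw w' _ => by
      rw [Submodule.mem_bot] at hw
      rw [hw]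
      have := hB.smul_left 0 0 w'
      rw [zero_smul, zero_mul] at this
      exact this⟩
  have hperp : (polarBilin hQ).orthogonal W ≤ W := by
    intro v hvW
    rw [LinearMap.BilinForm.mem_orthogonal_iff] at hvW
    have hvW' : ∀ w ∈ W, QuadraticMap.polar Q w v = 0 := hvW
    let W' : Submodule F (Fin n → F) :=
      { carrier := {y | ∃ w ∈ W, ∃ x ∈ K, y = w + x *ᵥ v}
        add_mem' := by
          rintro _ _ ⟨w, hw, x, hx, rfl⟩ ⟨w', hw', x', hx', rfl⟩
          refine ⟨w + w', W.add_mem hw hw', x + x', K.add_mem hx hx', ?_⟩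
          rw [Matrix.add_mulVec]; abel
        zero_mem' := ⟨0, W.zero_mem, 0, K.zero_mem, by rw [Matrix.zero_mulVec, add_zero]⟩
        smul_mem' := by
          rintro c _ ⟨w, hw, x, hx, rfl⟩
          refine ⟨c • w, W.smul_mem c hw, c • x, K.smul_mem hx c, ?_⟩
          rw [Matrix.smul_mulVec, smul_add] }
    have hW'inv : KInv K W' := by
      rintro y hy _ ⟨w, hw, x, hx, rfl⟩
      refine ⟨y *ᵥ w, hWinv y hy w hw, y * x, K.mul_mem hy hx, ?_⟩
      rw [Matrix.mulVec_add, Matrix.mulVec_mulVec]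
    have hW'ti : ∀ y ∈ W', ∀ y' ∈ W', QuadraticMap.polar Q y y' = 0 := by
      rintro _ ⟨w, hw, x, hx, rfl⟩ _ ⟨w', hw', x', hx', rfl⟩
      have e1 : QuadraticMap.polar Q w (x' *ᵥ v) = 0 := by
        rw [← hsa x' hx' w v]
        exact hvW' _ (hWinv x' hx' w hw)
      have e2 : QuadraticMap.polar Q (x *ᵥ v) w' = 0 := by
        rw [hsa x hx v w', QuadraticMap.polar_comm]
        exact hvW' _ (hWinv x hx w' hw')
      have e3 : QuadraticMap.polar Q (x *ᵥ v) (x' *ᵥ v) = 0 := by
        rw [← hsa x' hx' (x *ᵥ v) v, Matrix.mulVec_mulVec]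
        exact halt _ (K.mul_mem hx' hx) v
      rw [hB.add_left, hB.add_right, hB.add_right, hWti w hw w' hw', e1, e2, e3]
      ring
    have hle : W ≤ W' := fun w hw => ⟨w, hw, 0, K.zero_mem, by rw [Matrix.zero_mulVec, add_zero]⟩
    have heq : W = W' :=
      Submodule.eq_of_le_of_finrank_le hle (hWmax W' ⟨hW'inv, hW'ti⟩)
    rw [heq]
    exact ⟨0, W.zero_mem, 1, K.one_mem, by rw [Matrix.one_mulVec, zero_add]⟩
  have hle' : W ≤ (polarBilin hQ).orthogonal W := by
    intro w hw
    rw [LinearMap.BilinForm.mem_orthogonal_iff]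
    intro w' hw'
    exact hWti w' hw' w hw
  have heq : (polarBilin hQ).orthogonal W = W := le_antisymm hperp hle'
  have h1 := finrank_orthogonal' hQ W
  rw [heq] at h1
  have h2 : Module.finrank F W ≤ n := by
    have := Submodule.finrank_le W
    rwa [Module.finrank_fin_fun] at this
  obtain ⟨j, hj⟩ := dvd_finrank_of_KInv 2 K hK W hWinv
  exact ⟨j, by omega⟩

/-- characteristic two: for a self-adjoint quadratic field `K`, `B(x v, v) = 0` -/
theorem selfAdjoint_alt_of_char_two [Finite F] {Q : (Fin n → F) → F} (hQ : IsNondegenerateQuadraticForm Q)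
    (h2 : (2 : F) = 0) (k : ℕ) (hk : n = 2 * k)
    (K : Subalgebra F (Matrix (Fin n) (Fin n) F)) (hK : IsFieldSubalgebra 2 K)
    (hsa : IsSelfAdjointFor (QuadraticMap.polar Q) K) :
    ∀ x ∈ K, ∀ v : Fin n → F, QuadraticMap.polar Q (x *ᵥ v) v = 0 := by
  classical
  have hB := hQ.polar_bilinear
  have hdouble : ∀ a : F, a + a = 0 := fun a => by rw [← two_mul, h2, zero_mul]
  -- `B` is alternating
  have hB11 : ∀ v : Fin n → F, QuadraticMap.polar Q v v = 0 := by
    intro v
    have hvv : v + v = 0 := by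
      rw [← two_smul F v, h2, zero_smul]
    rw [QuadraticMap.polar, hvv, Q_zero hQ, zero_sub, sub_eq_add_neg, ← neg_add, hdouble, neg_zero]
  -- additivity and semilinearity of `v ↦ B(x v, v)`
  have hadd : ∀ x ∈ K, ∀ u v : Fin n → F, QuadraticMap.polar Q (x *ᵥ (u + v)) (u + v) =
      QuadraticMap.polar Q (x *ᵥ u) u + QuadraticMap.polar Q (x *ᵥ v) v := by
    intro x hx u v
    have e1 : QuadraticMap.polar Q (x *ᵥ v) u = QuadraticMap.polar Q (x *ᵥ u) v := by
      rw [hsa x hx v u, QuadraticMap.polar_comm]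
    rw [Matrix.mulVec_add, hB.add_left, hB.add_right, hB.add_right, e1]
    linear_combination hdouble (QuadraticMap.polar Q (x *ᵥ u) v)
  have hsmul : ∀ (x : Matrix (Fin n) (Fin n) F) (c : F) (v : Fin n → F),
      QuadraticMap.polar Q (x *ᵥ (c • v)) (c • v) = c ^ 2 * QuadraticMap.polar Q (x *ᵥ v) v := by
    intro x c v
    rw [Matrix.mulVec_smul, hB.smul_left, hB.smul_right]
    ring
  obtain ⟨θ, hθK, hθ⟩ := exists_pair_basis K hK
  -- everything reduces to `θ`
  have hred : ∀ x ∈ K, ∃ b : F, ∀ v : Fin n → F,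
      QuadraticMap.polar Q (x *ᵥ v) v = b * QuadraticMap.polar Q (θ *ᵥ v) v := by
    intro x hx
    obtain ⟨a, b, rfl⟩ := hθ x hx
    refine ⟨b, fun v => ?_⟩
    rw [Matrix.add_mulVec, Matrix.smul_mulVec, Matrix.smul_mulVec, Matrix.one_mulVec, hB.add_left,
      hB.smul_left, hB.smul_left, hB11, mul_zero, zero_add]
  -- the subspace where `B(θ v, v) = 0`
  let N : Submodule F (Fin n → F) :=
    { carrier := {v | QuadraticMap.polar Q (θ *ᵥ v) v = 0}
      add_mem' := by
        intro u v hu hv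
        show QuadraticMap.polar Q (θ *ᵥ (u + v)) (u + v) = 0
        rw [hadd θ hθK, hu, hv, add_zero]
      zero_mem' := by
        show QuadraticMap.polar Q (θ *ᵥ (0 : Fin n → F)) 0 = 0
        have := hsmul θ 0 0
        rw [zero_smul] at this
        rw [this]; ring
      smul_mem' := by
        intro c v hv
        show QuadraticMap.polar Q (θ *ᵥ (c • v)) (c • v) = 0
        rw [hsmul, hv, mul_zero] }
  have hNmem : ∀ v, v ∈ N ↔ QuadraticMap.polar Q (θ *ᵥ v) v = 0 := fun v => Iff.rfl
  have hNinv : KInv K N := by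
    intro y hy v hv
    rw [hNmem] at hv ⊢
    rw [← hsa y hy (θ *ᵥ (y *ᵥ v)) v, Matrix.mulVec_mulVec, Matrix.mulVec_mulVec]
    obtain ⟨b, hb⟩ := hred (y * θ * y) (K.mul_mem (K.mul_mem hy hθK) hy)
    rw [hb v, hv, mul_zero]
  -- `N` is the kernel of a linear functional
  have hinj : Function.Injective (fun a : F => a ^ 2) := by
    intro a b hab
    have h1 : (a - b) ^ 2 = 0 := by
      have : (a - b) ^ 2 = a ^ 2 + b ^ 2 - (a * b + a * b) := by ring
      rw [this, hdouble, sub_zero, show a ^ 2 = b ^ 2 from hab, hdouble]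
    exact sub_eq_zero.mp ((pow_eq_zero_iff (two_ne_zero)).mp h1)
  let e : F ≃ F := Equiv.ofBijective (fun a : F => a ^ 2) ⟨hinj, Finite.injective_iff_surjective.mp hinj⟩
  have he : ∀ a, e a = a ^ 2 := fun a => rfl
  have hesymm : ∀ a, (e.symm a) ^ 2 = a := fun a => by rw [← he, Equiv.apply_symm_apply]
  let ψ : (Fin n → F) →ₗ[F] F :=
    { toFun := fun v => e.symm (QuadraticMap.polar Q (θ *ᵥ v) v)
      map_add' := by
        intro u v
        apply hinj
        show (e.symm (QuadraticMap.polar Q (θ *ᵥ (u + v)) (u + v))) ^ 2 =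
          (e.symm (QuadraticMap.polar Q (θ *ᵥ u) u) + e.symm (QuadraticMap.polar Q (θ *ᵥ v) v)) ^ 2
        rw [hesymm, hadd θ hθK, add_sq, hesymm, hesymm]
        have := hdouble (e.symm (QuadraticMap.polar Q (θ *ᵥ u) u) * e.symm (QuadraticMap.polar Q (θ *ᵥ v) v))
        linear_combination -this
      map_smul' := by
        intro c v
        apply hinj
        show (e.symm (QuadraticMap.polar Q (θ *ᵥ (c • v)) (c • v))) ^ 2 =
          (c • e.symm (QuadraticMap.polar Q (θ *ᵥ v) v)) ^ 2
        rw [hesymm, hsmul, smul_eq_mul, mul_pow, hesymm] }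
  have hker : LinearMap.ker ψ = N := by
    ext v
    rw [LinearMap.mem_ker, hNmem]
    show e.symm (QuadraticMap.polar Q (θ *ᵥ v) v) = 0 ↔ _
    constructor
    · intro h
      have := hesymm (QuadraticMap.polar Q (θ *ᵥ v) v)
      rw [h] at this
      rw [← this]; ring
    · intro h
      rw [h]
      apply hinj
      show (e.symm 0) ^ 2 = (0 : F) ^ 2
      rw [hesymm]; ring
  have hrk := LinearMap.finrank_range_add_finrank_ker ψ
  rw [hker, Module.finrank_fin_fun] at hrk
  have hr1 : Module.finrank F (LinearMap.range ψ) ≤ 1 := by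
    have := Submodule.finrank_le (LinearMap.range ψ)
    rwa [Module.finrank_self] at this
  obtain ⟨j, hj⟩ := dvd_finrank_of_KInv 2 K hK N hNinv
  have hNtop : N = ⊤ := by
    apply Submodule.eq_top_of_finrank_eq
    rw [Module.finrank_fin_fun]
    omega
  intro x hx v
  obtain ⟨b, hb⟩ := hred x hx
  have hv : v ∈ N := by rw [hNtop]; trivial
  rw [hb v, (hNmem v).mp hv, mul_zero]

end Cfsg.Agent.Lib.Helper1.OeKit

namespace Cfsg.Agent.Lib.Helper55.Oe

open Cfsg Cfsg.Geo
open scoped MatrixGroups Matrix Kronecker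

variable {n : ℕ} {F : Type*} [Field F] [Fintype F]

/-- ASCHOE-[T-FIELD2EVEN] (second copy; the official one is helper86's
`Cfsg.Agent.Lib.Helper55.Oe.false_of_selfAdjoint_field_two_char_two` in Lib/Helper86/OeTField2Even.lean;
this one is renamed `_h1` so that both files can be imported together). -/
theorem false_of_selfAdjoint_field_two_char_two_h1 {Q : (Fin n → F) → F} (hQ : IsNondegenerateQuadraticForm Q)
    (h2 : (2 : F) = 0) (k : ℕ) (hk : n = 2 * k) (hodd : Odd k)
    (K : Subalgebra F (Matrix (Fin n) (Fin n) F)) (hK : IsFieldSubalgebra 2 K)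
    (hsa : IsSelfAdjointFor (QuadraticMap.polar Q) K) : False := by
  have halt := Cfsg.Agent.Lib.Helper1.OeKit.selfAdjoint_alt_of_char_two hQ h2 k hk K hK hsa
  obtain ⟨j, hj⟩ := Cfsg.Agent.Lib.Helper1.OeKit.four_dvd_of_selfAdjoint_alt hQ K hK hsa halt
  obtain ⟨i, hi⟩ := hodd
  omega

end Cfsg.Agent.Lib.Helper55.Oe
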