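import Mathlib

/-!
# PF (12.7) = S1540, module [ARITH] (helper1)

The final arithmetic contradiction of helper74's proof of Peterfalvi (12.7).
-/

set_option autoImplicit false

namespace Cfsg.Agent.Lib.Helper1.PF127Arith

/-- `|r k - e| ≥ e - 1` for every integer `k` when `2 e ≤ r + 1`. -/
theorem abs_ge (r e : ℝ) (he : 1 ≤ e) (her : 2 * e ≤ r + 1) (k : ℤ) :
    e - 1 ≤ |r * (k : ℝ) - e| := by
  rcases le_or_gt k 0 with hk | hk
  · have hk' : (k : ℝ) ≤ 0 := by exact_mod_cast hk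
    have hr : 0 ≤ r := by linarith
    have : r * (k : ℝ) ≤ 0 := mul_nonpos_of_nonneg_of_nonpos hr hk'
    rw [abs_of_nonpos (by linarith)]
    linarith
  · have hk' : (1 : ℝ) ≤ (k : ℝ) := by exact_mod_cast hk
    have hr : 0 ≤ r := by linarith
    have : r ≤ r * (k : ℝ) := by nlinarith
    rw [abs_of_nonneg (by linarith)]
    linarith

/-- the last inequality -/
theorem final_ineq (a E t : ℝ) (hE : 3 ≤ E) (ht : t = (E - 1 - a) ^ 2)
    (h : a ^ 2 + 10 * t ≤ E) : False := by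
  have h1 : 10 * (E - 1) ^ 2 ≤ 11 * (a ^ 2 + 10 * t) := by
    rw [ht]
    nlinarith [sq_nonneg (11 * a - 10 * (E - 1))]
  have h2 : 0 ≤ (E - 3) * (10 * E - 1) := mul_nonneg (by linarith) (by linarith)
  nlinarith

/-- **Module [ARITH]** of PF (12.7). -/
theorem arith127 (r e : ℕ) (he3 : 3 ≤ e) (her : 2 * e ≤ r + 1) (n₀ : ℤ) (cF cN cL cH : ℕ)
    (hcH : 0 < cH) (hcL : 0 < cL) (hN : cN = e * cF) (hF : r ^ 2 ≤ cF) (hL : cL ≤ cH * cF)
    (M : ℝ)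
    (hmass : (cH : ℝ) / cL * M ≤ ((e : ℝ) ^ 2 + 2 * e * n₀ - (n₀ : ℝ) ^ 2 * (cF - 1)) / cN)
    (m : ℕ) (hm : 2 * r ≤ m) (s₁ : ℂ) (k : Fin m → ℤ)
    (hbessel : ‖s₁‖ ^ 2 + ∑ j, ‖s₁ - ((e : ℂ) + n₀) + (r : ℂ) * (k j : ℂ)‖ ^ 2 ≤ M) : False := by
  have he3' : (3 : ℝ) ≤ e := by exact_mod_cast he3
  have her' : 2 * (e : ℝ) ≤ r + 1 := by exact_mod_cast her
  have hF' : (r : ℝ) ^ 2 ≤ cF := by exact_mod_cast hF
  have hL' : (cL : ℝ) ≤ cH * cF := by exact_mod_cast hL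
  have hcH' : (0 : ℝ) < cH := by exact_mod_cast hcH
  have hcL' : (0 : ℝ) < cL := by exact_mod_cast hcL
  have hN' : (cN : ℝ) = e * cF := by exact_mod_cast hN
  have hm' : 2 * (r : ℝ) ≤ m := by exact_mod_cast hm
  have hr5 : (5 : ℝ) ≤ r := by linarith
  have hM0 : 0 ≤ M :=
    le_trans (add_nonneg (sq_nonneg _) (Finset.sum_nonneg (fun j _ => sq_nonneg _))) hbessel
  have hcFlow : (2 * (e : ℝ) - 1) ^ 2 ≤ cF := by
    have : (2 * (e : ℝ) - 1) ^ 2 ≤ (r : ℝ) ^ 2 := by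
      apply pow_le_pow_left₀ (by linarith) (by linarith)
    linarith
  have hcF : (0 : ℝ) < cF := by nlinarith
  have hcN : (0 : ℝ) < cN := by rw [hN']; positivity
  -- the numerator is nonnegative
  have hP : 0 ≤ (e : ℝ) ^ 2 + 2 * e * n₀ - (n₀ : ℝ) ^ 2 * (cF - 1) := by
    have h1 : 0 ≤ (cH : ℝ) / cL * M := by positivity
    have h2 := le_trans h1 hmass
    by_contra hneg
    rw [not_le] at hneg
    have := div_neg_of_neg_of_pos hneg hcN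
    linarith
  -- hence `n₀ = 0`
  have hn0 : n₀ = 0 := by
    by_contra hne
    have h0 : 0 < n₀ ^ 2 := lt_of_le_of_ne (sq_nonneg n₀) (Ne.symm (pow_ne_zero 2 hne))
    have h1 : (1 : ℤ) ≤ n₀ ^ 2 := by linarith
    have h1' : (1 : ℝ) ≤ (n₀ : ℝ) ^ 2 := by exact_mod_cast h1
    have h2 : n₀ ≤ n₀ ^ 2 := Int.le_self_sq n₀
    have h2' : (n₀ : ℝ) ≤ (n₀ : ℝ) ^ 2 := by exact_mod_cast h2
    have h3 : 2 * (e : ℝ) * n₀ ≤ 2 * e * (n₀ : ℝ) ^ 2 := by nlinarith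
    have h4 : 4 * (e : ℝ) ^ 2 - 6 * e ≤ cF - 1 - 2 * e := by nlinarith
    have h5 : 0 < 4 * (e : ℝ) ^ 2 - 6 * e := by nlinarith
    have h6 : (4 * (e : ℝ) ^ 2 - 6 * e) * 1 ≤ (cF - 1 - 2 * e) * (n₀ : ℝ) ^ 2 := by
      apply mul_le_mul h4 h1' (by norm_num) (by linarith)
    nlinarith
  subst hn0
  -- `M ≤ e`
  have hMe : M ≤ e := by
    have h1 : (cH : ℝ) / cL * M ≤ (e : ℝ) / cF := by
      calc (cH : ℝ) / cL * M
          ≤ ((e : ℝ) ^ 2 + 2 * e * ((0 : ℤ) : ℝ) - (((0 : ℤ) : ℝ)) ^ 2 * (cF - 1)) / cN := hmass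
        _ = (e : ℝ) / cF := by
            rw [hN']
            have he0 : (e : ℝ) ≠ 0 := by linarith
            field_simp
            push_cast
            ring
    have h2 : (cH : ℝ) * M * cF ≤ e * cL := by
      rw [div_mul_eq_mul_div, div_le_div_iff₀ hcL' hcF] at h1
      linarith
    have h3 : (cH : ℝ) * cF * M ≤ (cH : ℝ) * cF * e := by nlinarith
    exact le_of_mul_le_mul_left h3 (by positivity)
  -- lower bounds
  set u : ℝ := s₁.re with hu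
  have hs1 : u ^ 2 ≤ ‖s₁‖ ^ 2 := by
    have := Complex.abs_re_le_norm s₁
    rw [← sq_abs u]
    exact pow_le_pow_left₀ (abs_nonneg _) this 2
  have hterm : ∀ j, (u - e + r * (k j : ℝ)) ^ 2
      ≤ ‖s₁ - ((e : ℂ) + ((0 : ℤ) : ℂ)) + (r : ℂ) * (k j : ℂ)‖ ^ 2 := by
    intro j
    have h1 := Complex.abs_re_le_norm (s₁ - ((e : ℂ) + ((0 : ℤ) : ℂ)) + (r : ℂ) * (k j : ℂ))
    have h2 : (s₁ - ((e : ℂ) + ((0 : ℤ) : ℂ)) + (r : ℂ) * (k j : ℂ)).re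
        = u - e + r * (k j : ℝ) := by
      simp [hu]
    rw [h2] at h1
    rw [← sq_abs (u - e + r * (k j : ℝ))]
    exact pow_le_pow_left₀ (abs_nonneg _) h1 2
  have hm10 : (10 : ℝ) ≤ m := by linarith
  rcases le_or_gt ((e : ℝ) - 1) |u| with hbig | hsmall
  · -- `|u| ≥ e - 1`
    have h1 : ((e : ℝ) - 1) ^ 2 ≤ u ^ 2 := by
      rw [← sq_abs u]
      exact pow_le_pow_left₀ (by linarith) hbig 2
    have h2 : 0 ≤ ∑ j, ‖s₁ - ((e : ℂ) + ((0 : ℤ) : ℂ)) + (r : ℂ) * (k j : ℂ)‖ ^ 2 :=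
      Finset.sum_nonneg (fun j _ => sq_nonneg _)
    nlinarith
  · -- `|u| < e - 1`
    set t : ℝ := ((e : ℝ) - 1 - |u|) ^ 2 with ht
    have ht0 : 0 ≤ t := sq_nonneg _
    have hj : ∀ j, t ≤ ‖s₁ - ((e : ℂ) + ((0 : ℤ) : ℂ)) + (r : ℂ) * (k j : ℂ)‖ ^ 2 := by
      intro j
      refine le_trans ?_ (hterm j)
      have h1 := abs_ge r e (by linarith) her' (k j)
      have h2 : |(r : ℝ) * (k j : ℝ) - e| - |u| ≤ |u - e + r * (k j : ℝ)| := by
        have := abs_sub_abs_le_abs_sub ((r : ℝ) * (k j : ℝ) - e) (-u)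
        rw [abs_neg] at this
        have e1 : (r : ℝ) * (k j : ℝ) - e - -u = u - e + r * (k j : ℝ) := by ring
        rw [e1] at this
        exact this
      rw [ht, ← sq_abs (u - e + r * (k j : ℝ))]
      apply pow_le_pow_left₀ (by linarith) (by linarith)
    have hsum : (m : ℝ) * t ≤ ∑ j, ‖s₁ - ((e : ℂ) + ((0 : ℤ) : ℂ)) + (r : ℂ) * (k j : ℂ)‖ ^ 2 := by
      have := Finset.card_nsmul_le_sum (Finset.univ : Finset (Fin m))
        (fun j => ‖s₁ - ((e : ℂ) + ((0 : ℤ) : ℂ)) + (r : ℂ) * (k j : ℂ)‖ ^ 2) t (fun j _ => hj j)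
      simpa using this
    have h10 : 10 * t ≤ (m : ℝ) * t := mul_le_mul_of_nonneg_right hm10 ht0
    have ha : u ^ 2 = |u| ^ 2 := (sq_abs u).symm
    apply final_ineq |u| (e : ℝ) t he3' ht
    rw [← ha]
    linarith

end Cfsg.Agent.Lib.Helper1.PF127Arith
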