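import Mathlib

/-!
# PF (12.7) = S1540, module [ARITH2], final form `r ≤ m` (helper1)

Variant of `arith127` with the weaker arithmetic `e ∣ r ^ 2 - 1`, `e + 2 ≤ r`.
-/

set_option autoImplicit false

namespace Cfsg.Agent.Lib.Helper1.PF127Arith3

/-- `|r k - e| ≥ min e (r - e)` for every integer `k` when `e ≤ r`. -/
theorem abs_ge_min (r e : ℝ) (he : 0 ≤ e) (her : e ≤ r) (k : ℤ) :
    min e (r - e) ≤ |r * (k : ℝ) - e| := by
  rcases le_or_gt k 0 with hk | hk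
  · have hk' : (k : ℝ) ≤ 0 := by exact_mod_cast hk
    have hr : 0 ≤ r := by linarith
    have : r * (k : ℝ) ≤ 0 := mul_nonpos_of_nonneg_of_nonpos hr hk'
    rw [abs_of_nonpos (by linarith)]
    exact le_trans (min_le_left _ _) (by linarith)
  · have hk' : (1 : ℝ) ≤ (k : ℝ) := by exact_mod_cast hk
    have hr : 0 ≤ r := by linarith
    have : r ≤ r * (k : ℝ) := by nlinarith
    rw [abs_of_nonneg (by linarith)]
    exact le_trans (min_le_right _ _) (by linarith)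

/-- the quadratic lower bound -/
theorem sum_lower (m : ℕ) (u c : ℝ) (hc : 0 ≤ c) (f : Fin m → ℝ) (hf : ∀ j, c ≤ |f j|)
    (z : Fin m → ℝ) (hz : ∀ j, (u + f j) ^ 2 ≤ z j) :
    (m : ℝ) * c ^ 2 ≤ ((m : ℝ) + 1) * (u ^ 2 + ∑ j, z j) := by
  have hm0 : (0 : ℝ) ≤ m := Nat.cast_nonneg m
  have hz0 : ∀ j, 0 ≤ z j := fun j => le_trans (sq_nonneg _) (hz j)
  have hsum0 : 0 ≤ ∑ j, z j := Finset.sum_nonneg (fun j _ => hz0 j)
  rcases le_or_gt c |u| with hbig | hsmall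
  · have h1 : c ^ 2 ≤ u ^ 2 := by
      rw [← sq_abs u]
      exact pow_le_pow_left₀ hc hbig 2
    nlinarith
  · have hj : ∀ j, (c - |u|) ^ 2 ≤ z j := by
      intro j
      refine le_trans ?_ (hz j)
      have h2 : |f j| - |u| ≤ |u + f j| := by
        have := abs_sub_abs_le_abs_sub (f j) (-u)
        rw [abs_neg] at this
        have e1 : f j - -u = u + f j := by ring
        rw [e1] at this
        exact this
      rw [← sq_abs (u + f j)]
      apply pow_le_pow_left₀ (by linarith) (by linarith [hf j])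
    have hsum : (m : ℝ) * (c - |u|) ^ 2 ≤ ∑ j, z j := by
      have := Finset.card_nsmul_le_sum (Finset.univ : Finset (Fin m)) z ((c - |u|) ^ 2)
        (fun j _ => hj j)
      simpa using this
    have ha : u ^ 2 = |u| ^ 2 := (sq_abs u).symm
    rw [ha]
    nlinarith [sq_nonneg (((m : ℝ) + 1) * |u| - (m : ℝ) * c), abs_nonneg u]

/-- **Module [ARITH2]** of PF (12.7). -/
theorem arith127' (r e : ℕ) (he3 : 3 ≤ e) (hdvd : e ∣ r ^ 2 - 1) (her : e + 2 ≤ r) (n₀ : ℤ)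
    (cF cN cL cH : ℕ)
    (hcH : 0 < cH) (hcL : 0 < cL) (hN : cN = e * cF) (hF : r ^ 2 ≤ cF) (hL : cL ≤ cH * cF)
    (M : ℝ)
    (hmass : (cH : ℝ) / cL * M ≤ ((e : ℝ) ^ 2 + 2 * e * n₀ - (n₀ : ℝ) ^ 2 * (cF - 1)) / cN)
    (m : ℕ) (hm : r ≤ m) (s₁ : ℂ) (k : Fin m → ℤ)
    (hbessel : ‖s₁‖ ^ 2 + ∑ j, ‖s₁ - ((e : ℂ) + n₀) + (r : ℂ) * (k j : ℂ)‖ ^ 2 ≤ M) : False := by
  have he3' : (3 : ℝ) ≤ e := by exact_mod_cast he3
  have her' : (e : ℝ) + 2 ≤ r := by exact_mod_cast her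
  have hF' : (r : ℝ) ^ 2 ≤ cF := by exact_mod_cast hF
  have hL' : (cL : ℝ) ≤ cH * cF := by exact_mod_cast hL
  have hcH' : (0 : ℝ) < cH := by exact_mod_cast hcH
  have hcL' : (0 : ℝ) < cL := by exact_mod_cast hcL
  have hN' : (cN : ℝ) = e * cF := by exact_mod_cast hN
  have hM0 : 0 ≤ M :=
    le_trans (add_nonneg (sq_nonneg _) (Finset.sum_nonneg (fun j _ => sq_nonneg _))) hbessel
  have hcFlow : ((e : ℝ) + 2) ^ 2 ≤ cF := by
    have : ((e : ℝ) + 2) ^ 2 ≤ (r : ℝ) ^ 2 := by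
      apply pow_le_pow_left₀ (by linarith) her'
    linarith
  have hcF : (0 : ℝ) < cF := by nlinarith
  have hcN : (0 : ℝ) < cN := by rw [hN']; positivity
  have hP : 0 ≤ (e : ℝ) ^ 2 + 2 * e * n₀ - (n₀ : ℝ) ^ 2 * (cF - 1) := by
    have h1 : 0 ≤ (cH : ℝ) / cL * M := by positivity
    have h2 := le_trans h1 hmass
    by_contra hneg
    rw [not_le] at hneg
    have := div_neg_of_neg_of_pos hneg hcN
    linarith
  have hn0 : n₀ = 0 := by
    by_contra hne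
    have h0 : 0 < n₀ ^ 2 := lt_of_le_of_ne (sq_nonneg n₀) (Ne.symm (pow_ne_zero 2 hne))
    have h1 : (1 : ℤ) ≤ n₀ ^ 2 := by linarith
    have h1' : (1 : ℝ) ≤ (n₀ : ℝ) ^ 2 := by exact_mod_cast h1
    have h2 : n₀ ≤ n₀ ^ 2 := Int.le_self_sq n₀
    have h2' : (n₀ : ℝ) ≤ (n₀ : ℝ) ^ 2 := by exact_mod_cast h2
    have h3 : 2 * (e : ℝ) * n₀ ≤ 2 * e * (n₀ : ℝ) ^ 2 := by nlinarith
    have h4 : (e : ℝ) ^ 2 + 2 * e + 3 ≤ cF - 1 - 2 * e := by nlinarith
    have h5 : 0 < (e : ℝ) ^ 2 + 2 * e + 3 := by positivity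
    have h6 : ((e : ℝ) ^ 2 + 2 * e + 3) * 1 ≤ (cF - 1 - 2 * e) * (n₀ : ℝ) ^ 2 := by
      apply mul_le_mul h4 h1' (by norm_num) (by linarith)
    nlinarith
  subst hn0
  have hMe : M ≤ e := by
    have h1 : (cH : ℝ) / cL * M ≤ (e : ℝ) / cF := by
      calc (cH : ℝ) / cL * M
          ≤ ((e : ℝ) ^ 2 + 2 * e * ((0 : ℤ) : ℝ) - (((0 : ℤ) : ℝ)) ^ 2 * (cF - 1)) / cN := hmass
        _ = (e : ℝ) / cF := by
            rw [hN']
            have he0 : (e : ℝ) ≠ 0 := by linarith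
            field_simp
            push_cast
            ring
    have h2 : (cH : ℝ) * M * cF ≤ e * cL := by
      rw [div_mul_eq_mul_div, div_le_div_iff₀ hcL' hcF] at h1
      linarith
    have h3 : (cH : ℝ) * cF * M ≤ (cH : ℝ) * cF * e := by nlinarith
    exact le_of_mul_le_mul_left h3 (by positivity)
  -- the quadratic lower bound
  set u : ℝ := s₁.re with hu
  have hs1 : u ^ 2 ≤ ‖s₁‖ ^ 2 := by
    have := Complex.abs_re_le_norm s₁
    rw [← sq_abs u]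
    exact pow_le_pow_left₀ (abs_nonneg _) this 2
  have hterm : ∀ j, (u + ((r : ℝ) * (k j : ℝ) - e)) ^ 2
      ≤ ‖s₁ - ((e : ℂ) + ((0 : ℤ) : ℂ)) + (r : ℂ) * (k j : ℂ)‖ ^ 2 := by
    intro j
    have h1 := Complex.abs_re_le_norm (s₁ - ((e : ℂ) + ((0 : ℤ) : ℂ)) + (r : ℂ) * (k j : ℂ))
    have h2 : (s₁ - ((e : ℂ) + ((0 : ℤ) : ℂ)) + (r : ℂ) * (k j : ℂ)).re
        = u + ((r : ℝ) * (k j : ℝ) - e) := by
      simp [hu]
      ring
    rw [h2] at h1
    rw [← sq_abs (u + ((r : ℝ) * (k j : ℝ) - e))]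
    exact pow_le_pow_left₀ (abs_nonneg _) h1 2
  set c : ℝ := min (e : ℝ) ((r : ℝ) - e) with hc
  have hc0 : 0 ≤ c := le_min (by linarith) (by linarith)
  have hkey := sum_lower m u c hc0 (fun j => (r : ℝ) * (k j : ℝ) - e)
    (fun j => abs_ge_min r e (by linarith) (by linarith) (k j))
    (fun j => ‖s₁ - ((e : ℂ) + ((0 : ℤ) : ℂ)) + (r : ℂ) * (k j : ℂ)‖ ^ 2) hterm
  have hm0 : (0 : ℝ) ≤ m := Nat.cast_nonneg m
  have hfin : (m : ℝ) * c ^ 2 ≤ ((m : ℝ) + 1) * e := by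
    refine le_trans hkey ?_
    apply mul_le_mul_of_nonneg_left _ (by linarith)
    linarith
  -- back to natural numbers
  obtain ⟨d, hd⟩ : ∃ d, r = e + d := ⟨r - e, by omega⟩
  have hd2 : 2 ≤ d := by omega
  have hcnat : c = ((min e d : ℕ) : ℝ) := by
    rw [hc, hd]
    push_cast
    congr 1
    ring
  rw [hcnat] at hfin
  have hfinN : m * (min e d) ^ 2 ≤ (m + 1) * e := by exact_mod_cast hfin
  rcases le_total e d with hed | hde
  · rw [min_eq_left hed] at hfinN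
    -- m e² ≤ (m+1) e
    have h1 : m * e ≤ m + 1 := by
      have : (m * e) * e ≤ (m + 1) * e := by nlinarith
      exact Nat.le_of_mul_le_mul_right this (by omega)
    have h2 : m * 3 ≤ m * e := Nat.mul_le_mul_left m he3
    omega
  · rw [min_eq_right hde] at hfinN
    -- m d² ≤ (m+1) e, m > e
    have hme : e < m := by omega
    have hd2e : d ^ 2 ≤ e := by
      by_contra hlt
      rw [not_le] at hlt
      have h1 : m * (e + 1) ≤ m * d ^ 2 := Nat.mul_le_mul_left m hlt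
      nlinarith
    -- e ∣ d² - 1
    have hdvd2 : e ∣ d ^ 2 - 1 := by
      have h1 : r ^ 2 - 1 = e * (e + 2 * d) + (d ^ 2 - 1) := by
        rw [hd]
        have : 1 ≤ d ^ 2 := Nat.one_le_pow _ _ (by omega)
        have h2 : (e + d) ^ 2 = e * (e + 2 * d) + d ^ 2 := by ring
        omega
      rw [h1] at hdvd
      exact (Nat.dvd_add_right (Dvd.intro _ rfl)).mp hdvd
    have hd4 : 4 ≤ d ^ 2 := by nlinarith
    have hle : e ≤ d ^ 2 - 1 := Nat.le_of_dvd (by omega) hdvd2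
    omega

end Cfsg.Agent.Lib.Helper1.PF127Arith3
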