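import Mathlib
import Cfsg.Agent.Lib.Helper74.PF127Defs
import Cfsg.Agent.Lib.Helper4.PFTypes
import Cfsg.Agent.Lib.Helper75.Clifford
import Cfsg.Agent.Lib.Helper80.CharBasic

/-!
PF (12.7) h124, MODULE [CONST] (helper74 #3512): a class function of `L` with equal multiplicities
on the constituents of each `Ind θ` (`θ ≠ 1` irreducible of the normal subgroup `H`, the `Ind θ`
multiplicity free with constituents of equal degree) is constant on the cosets `yH`, `y ∉ H`.
-/

set_option autoImplicit false

namespace Cfsg.Agent.Lib.Helper1.PF127H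

open Cfsg Cfsg.Agent.Lib.Helper4.PF Cfsg.Agent.Lib.Helper74.PF127
open scoped ComplexConjugate

theorem classInner_finset_sum_right {G : Type*} [Group G] [Fintype G] {ι : Type*} (s : Finset ι)
    (f : G → ℂ) (ψ : ι → G → ℂ) :
    classInner f (∑ i ∈ s, ψ i) = ∑ i ∈ s, classInner f (ψ i) := by
  classical
  induction s using Finset.induction_on with
  | empty => simp [classInner]
  | insert a s ha ih =>
    rw [Finset.sum_insert ha, Finset.sum_insert ha, Helper78.classInner_add_right, ih]

/-- An induced function vanishes off a normal subgroup. -/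
theorem indFun_eq_zero_of_not_mem {L : Type*} [Group L] [Fintype L] (H : Subgroup L) [hH : H.Normal]
    (θ : H → ℂ) {l : L} (hl : l ∉ H) : indFun H θ l = 0 := by
  unfold indFun
  have h0 : ∀ x : L, extendByZero H θ (x⁻¹ * l * x) = 0 := by
    intro x
    apply Helper75.extendByZero_of_not_mem
    intro hmem
    apply hl
    have := hH.conj_mem _ hmem x
    simpa [mul_assoc] using this
  simp only [h0, Finset.sum_const_zero, mul_zero]

/-- If the trivial character of `H ⊴ L` is a constituent of `χ|_H` then `H ≤ ker χ`. -/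
theorem apply_eq_apply_one_of_trivial_constituent {L : Type*} [Group L] [Fintype L]
    (H : Subgroup L) [H.Normal] [Fintype H] (χ : L → ℂ) (hχ : IsIrrCharacter L χ)
    (h : classInner (fun n : H => χ n) (fun _ => 1) ≠ 0) (n : L) (hn : n ∈ H) :
    χ n = χ 1 := by
  classical
  have htriv : IsIrrCharacter H (fun _ => 1) := Helper78.isIrrCharacter_one
  have hcl := Helper75.clifford_finset H hχ htriv h
  have horb : ∀ φ ∈ Helper75.conjOrbit H (fun _ : H => (1 : ℂ)), (φ : H → ℂ) = fun _ => 1 := by
    intro φ hφ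
    obtain ⟨g, hg⟩ := (Helper75.mem_conjOrbit H).mp hφ
    rw [← hg]
    rfl
  have h1 : ∀ m : H, χ m = classInner (fun n : H => χ n) (fun _ => 1) *
      ((Helper75.conjOrbit H (fun _ : H => (1 : ℂ))).card : ℂ) := by
    intro m
    have h2 := congrFun hcl m
    simp only [Pi.smul_apply, Finset.sum_apply, smul_eq_mul] at h2
    rw [h2]
    congr 1
    rw [Finset.sum_congr rfl (fun φ hφ => congrFun (horb φ hφ) m)]
    simp
  have h3 := h1 ⟨n, hn⟩
  have h4 := h1 1
  show χ ((⟨n, hn⟩ : H) : L) = _
  rw [h3, ← h4]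
  rfl

theorem const_on_cosets {L : Type*} [Group L] [Fintype L] (H : Subgroup L) [H.Normal] [Fintype H]
    (hmf : ∀ θ : H → ℂ, IsIrrCharacter H θ → θ ≠ (fun _ => 1) → ∀ χ : L → ℂ, IsIrrCharacter L χ →
      classInner (indFun H θ) χ = 0 ∨ classInner (indFun H θ) χ = 1)
    (hdeg : ∀ θ : H → ℂ, IsIrrCharacter H θ → θ ≠ (fun _ => 1) → ∀ χ χ' : L → ℂ,
      IsIrrCharacter L χ → IsIrrCharacter L χ' →
      classInner (indFun H θ) χ = 1 → classInner (indFun H θ) χ' = 1 → χ 1 = χ' 1)
    (f : L → ℂ) (hf : IsClassFunction L f)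
    (heq : ∀ θ : H → ℂ, IsIrrCharacter H θ → θ ≠ (fun _ => 1) → ∀ χ χ' : L → ℂ,
      IsIrrCharacter L χ → IsIrrCharacter L χ' →
      classInner (indFun H θ) χ = 1 → classInner (indFun H θ) χ' = 1 →
      classInner f χ = classInner f χ')
    (y h : L) (hy : y ∉ H) (hh : h ∈ H) : f (y * h) = f y := by
  classical
  have hyh : y * h ∉ H := fun hmem => hy (by simpa using H.mul_mem hmem (H.inv_mem hh))
  have hidx : (H.index : ℂ) ≠ 0 := by
    have : H.index ≠ 0 := Subgroup.index_ne_zero_of_finite
    exact_mod_cast this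
  -- the correction term
  set g : L → ℂ := (H.index : ℂ)⁻¹ •
    ∑ θ : IrrCharacter H, classInner f (indFun H (θ : H → ℂ)) • indFun H (θ : H → ℂ) with hg
  have hg0 : ∀ l : L, l ∉ H → g l = 0 := by
    intro l hl
    rw [hg, Pi.smul_apply, Finset.sum_apply]
    have : ∀ θ : IrrCharacter H,
        (classInner f (indFun H (θ : H → ℂ)) • indFun H (θ : H → ℂ)) l = 0 := by
      intro θ
      rw [Pi.smul_apply, indFun_eq_zero_of_not_mem H _ hl, smul_zero]
    simp only [this, Finset.sum_const_zero, smul_zero]
  have hgcl : IsClassFunction L g := by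
    rw [hg]
    apply Helper78.isClassFunction_smul
    apply Helper78.isClassFunction_sum
    intro θ _
    exact Helper78.isClassFunction_smul _ (Helper75.isClassFunction_indFun H _)
  -- coefficients of `g` on the characters without trivial constituent on `H`
  have hcoef : ∀ χ : IrrCharacter L,
      classInner (fun n : H => (χ : L → ℂ) n) (fun _ : H => (1 : ℂ)) = 0 →
      classInner g (χ : L → ℂ) = classInner f (χ : L → ℂ) := by
    intro χ hχ0
    have hχcl : IsClassFunction L (χ : L → ℂ) := Helper78.isClassFunction_irr χ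
    have hχ1 : (χ : L → ℂ) 1 ≠ 0 := Helper78.IsIrrCharacter.apply_one_ne_zero χ.2
    -- the multiplicities are `0` or `1`, and `0` for the trivial character
    have hc : ∀ θ : IrrCharacter H, classInner (indFun H (θ : H → ℂ)) (χ : L → ℂ) = 0 ∨
        (classInner (indFun H (θ : H → ℂ)) (χ : L → ℂ) = 1 ∧ (θ : H → ℂ) ≠ fun _ => 1) := by
      intro θ
      by_cases hθ1 : (θ : H → ℂ) = fun _ => 1
      · left
        rw [Helper75.frobenius_reciprocity H _ hχcl, hθ1, ← Helper78.classInner_conj_symm, hχ0,
          map_zero]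
      · rcases hmf θ θ.2 hθ1 χ χ.2 with h0 | h1
        · exact Or.inl h0
        · exact Or.inr ⟨h1, hθ1⟩
    -- key formula for `θ` with multiplicity one
    have hkey : ∀ θ : IrrCharacter H, (θ : H → ℂ) ≠ (fun _ => 1) →
        classInner (indFun H (θ : H → ℂ)) (χ : L → ℂ) = 1 →
        classInner f (indFun H (θ : H → ℂ)) =
          classInner f (χ : L → ℂ) * ((H.index : ℂ) * (θ : H → ℂ) 1 / (χ : L → ℂ) 1) := by
      intro θ hθ1 hθχ
      have hexp := Helper78.classFunction_eq_sum_irr (Helper75.isClassFunction_indFun H (θ : H → ℂ))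
      have hcc : ∀ χ' : IrrCharacter L,
          classInner (indFun H (θ : H → ℂ)) (χ' : L → ℂ) = 0 ∨
          classInner (indFun H (θ : H → ℂ)) (χ' : L → ℂ) = 1 := fun χ' => hmf θ θ.2 hθ1 χ' χ'.2
      -- (i)
      have h1 : classInner f (indFun H (θ : H → ℂ)) = classInner f (χ : L → ℂ) *
          ∑ χ' : IrrCharacter L, classInner (indFun H (θ : H → ℂ)) (χ' : L → ℂ) := by
        conv_lhs => rw [hexp]
        rw [classInner_finset_sum_right, Finset.mul_sum]
        apply Finset.sum_congr rfl
        intro χ' _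
        rw [Helper78.classInner_smul_right]
        rcases hcc χ' with h0 | h1
        · rw [h0]; simp
        · rw [h1, map_one, one_mul, mul_one]
          exact heq θ θ.2 hθ1 χ' χ χ'.2 χ.2 h1 hθχ
      -- (ii)
      have h2 : (H.index : ℂ) * (θ : H → ℂ) 1 = (χ : L → ℂ) 1 *
          ∑ χ' : IrrCharacter L, classInner (indFun H (θ : H → ℂ)) (χ' : L → ℂ) := by
        rw [← Helper75.indFun_one H (θ : H → ℂ)]
        have := congrFun hexp 1
        rw [this, Finset.sum_apply, Finset.mul_sum]
        apply Finset.sum_congr rfl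
        intro χ' _
        rw [Pi.smul_apply, smul_eq_mul]
        rcases hcc χ' with h0 | h1
        · rw [h0]; simp
        · rw [h1, one_mul, mul_one]
          exact hdeg θ θ.2 hθ1 χ' χ χ'.2 χ.2 h1 hθχ
      rw [h1, h2]
      field_simp
    -- uniform formula
    have hterm : ∀ θ : IrrCharacter H,
        classInner f (indFun H (θ : H → ℂ)) * classInner (indFun H (θ : H → ℂ)) (χ : L → ℂ) =
          classInner f (χ : L → ℂ) * ((H.index : ℂ) * (θ : H → ℂ) 1 / (χ : L → ℂ) 1) *
            classInner (indFun H (θ : H → ℂ)) (χ : L → ℂ) := by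
      intro θ
      rcases hc θ with h0 | ⟨h1, hθ1⟩
      · rw [h0, mul_zero, mul_zero]
      · rw [hkey θ hθ1 h1]
    -- the degree of `χ`
    have hdegχ : (χ : L → ℂ) 1 = ∑ θ : IrrCharacter H,
        classInner (indFun H (θ : H → ℂ)) (χ : L → ℂ) * (θ : H → ℂ) 1 := by
      have hres : IsCharacter H (fun n : H => (χ : L → ℂ) n) :=
        Helper75.isCharacter_res H (Helper78.IsIrrCharacter.isCharacter χ.2)
      have h1 := congrFun (Helper78.IsCharacter.eq_sum_irr hres) 1
      rw [Finset.sum_apply] at h1
      have h2 : (χ : L → ℂ) ((1 : H) : L) = (χ : L → ℂ) 1 := rfl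
      rw [← h2, h1]
      apply Finset.sum_congr rfl
      intro θ _
      rw [Pi.smul_apply, smul_eq_mul]
      congr 1
      rw [Helper75.frobenius_reciprocity H _ hχcl, ← Helper78.classInner_conj_symm,
        ← Helper75.frobenius_reciprocity H _ hχcl]
      rcases hc θ with h0 | ⟨h1, _⟩
      · rw [h0, map_zero]
      · rw [h1, map_one]
    rw [hg, Helper78.classInner_smul_left, Helper78.classInner_sum_left]
    simp only [Helper78.classInner_smul_left]
    rw [Finset.sum_congr rfl (fun θ _ => hterm θ)]
    have hsum : ∑ θ : IrrCharacter H,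
        classInner f (χ : L → ℂ) * ((H.index : ℂ) * (θ : H → ℂ) 1 / (χ : L → ℂ) 1) *
          classInner (indFun H (θ : H → ℂ)) (χ : L → ℂ) =
        classInner f (χ : L → ℂ) * (H.index : ℂ) / (χ : L → ℂ) 1 *
          ∑ θ : IrrCharacter H,
            classInner (indFun H (θ : H → ℂ)) (χ : L → ℂ) * (θ : H → ℂ) 1 := by
      rw [Finset.mul_sum]
      apply Finset.sum_congr rfl
      intro θ _
      ring
    rw [hsum, ← hdegχ]
    field_simp
  -- the difference
  set d : L → ℂ := f - g with hd
  have hdcl : IsClassFunction L d := Helper78.isClassFunction_sub hf hgcl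
  have hdexp := Helper78.classFunction_eq_sum_irr hdcl
  have hdconst : d (y * h) = d y := by
    rw [hdexp, Finset.sum_apply, Finset.sum_apply]
    apply Finset.sum_congr rfl
    intro χ _
    rw [Pi.smul_apply, Pi.smul_apply]
    by_cases hχ0 : classInner (fun n : H => (χ : L → ℂ) n) (fun _ : H => (1 : ℂ)) = 0
    · have : classInner d (χ : L → ℂ) = 0 := by
        rw [hd, sub_eq_add_neg, Helper78.classInner_add_left, ← neg_one_smul ℂ g,
          Helper78.classInner_smul_left, hcoef χ hχ0]
        ring
      rw [this, zero_smul, zero_smul]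
    · congr 1
      have hchar : IsCharacter L (χ : L → ℂ) := Helper78.IsIrrCharacter.isCharacter χ.2
      have hker : h ∈ Helper80.charKer (χ : L → ℂ) hchar := by
        rw [Helper80.mem_charKer]
        exact apply_eq_apply_one_of_trivial_constituent H χ χ.2 hχ0 h hh
      exact Helper80.char_mul_of_mem_charKer' hchar hker y
  have e1 : f (y * h) = d (y * h) + g (y * h) := by rw [hd]; simp
  have e2 : f y = d y + g y := by rw [hd]; simp
  rw [e1, e2, hdconst, hg0 _ hyh, hg0 _ hy]

end Cfsg.Agent.Lib.Helper1.PF127H
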