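import Mathlib
import Cfsg.Agent.Lib.Helper74.PF127Defs
import Cfsg.Agent.Lib.Helper4.PFTypes
import Cfsg.Agent.Lib.Helper75.Clifford
import Cfsg.Agent.Lib.Helper81.CosetTransfer
import Cfsg.Agent.S0868

/-!
PF (12.7) h124, MODULE [GAMMA] (helper74 #3512): facts on the irreducible characters of `L`
above a nontrivial irreducible character `θ` of the normal Hall subgroup `H`.
-/

set_option autoImplicit false

namespace Cfsg.Agent.Lib.Helper1.PF127H

open Cfsg Cfsg.Agent.Lib.Helper4.PF Cfsg.Agent.Lib.Helper74.PF127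
open scoped ComplexConjugate

/-- `⟨Ind θ, χ⟩ = 1` gives `⟨χ|_H, θ⟩ = 1`. -/
theorem classInner_res_eq_one {L : Type*} [Group L] [Fintype L] (H : Subgroup L) [Fintype H]
    (θ : H → ℂ) (χ : L → ℂ) (hχ : IsIrrCharacter L χ)
    (hχθ : classInner (indFun H θ) χ = 1) :
    classInner (fun n : H => χ n) θ = 1 := by
  have hcl : IsClassFunction L χ :=
    Helper78.IsCharacter.isClassFunction (Helper78.IsIrrCharacter.isCharacter hχ)
  have h1 := Helper75.frobenius_reciprocity H θ hcl
  rw [hχθ] at h1
  rw [← Helper78.classInner_conj_symm, ← h1, map_one]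

/-- The conjugates of a nontrivial function are different from the constant function `1`. -/
theorem conjFun_ne_one {L : Type*} [Group L] (H : Subgroup L) [H.Normal]
    (θ : H → ℂ) (hθ1 : θ ≠ fun _ => 1) (g : L) : Helper75.conjFun H g θ ≠ fun _ => 1 := by
  intro h
  apply hθ1
  have h2 := Helper75.conjFun_inv_conjFun H g θ
  rw [h] at h2
  rw [← h2]
  funext n
  rw [Helper75.conjFun_apply]

/-- A character above a nontrivial `θ` has no trivial constituent on `H`. -/
theorem classInner_res_one_eq_zero {L : Type*} [Group L] [Fintype L] (H : Subgroup L) [H.Normal]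
    [Fintype H] (θ : H → ℂ) (hθ : IsIrrCharacter H θ) (hθ1 : θ ≠ fun _ => 1)
    (χ : L → ℂ) (hχ : IsIrrCharacter L χ) (hχθ : classInner (indFun H θ) χ = 1) :
    classInner (fun n : H => χ n) (fun _ : H => (1 : ℂ)) = 0 := by
  have h1 := classInner_res_eq_one H θ χ hχ hχθ
  apply Helper75.clifford_orthogonal H hχ hθ Helper78.isIrrCharacter_one
  · rw [h1]; exact one_ne_zero
  · intro g
    exact conjFun_ne_one H θ hθ1 g

/-- Coset sums of a character without trivial constituent on `H` vanish. -/
theorem sum_coset_eq_zero {L : Type*} [Group L] [Fintype L] (H : Subgroup L) [H.Normal]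
    [Fintype H] (χ : L → ℂ) (hχ : IsIrrCharacter L χ)
    (h0 : classInner (fun n : H => χ n) (fun _ : H => (1 : ℂ)) = 0) (g : L) :
    ∑ n : H, χ ((n : L) * g) = 0 := by
  have h1 : IsIrrCharacter L (fun _ : L => (1 : ℂ)) := Helper78.isIrrCharacter_one
  have h1H : IsIrrCharacter H (fun n : H => (fun _ : L => (1 : ℂ)) n) :=
    Helper78.isIrrCharacter_one
  have key := (Cfsg.Agent.S0868.result H (fun _ : L => (1 : ℂ)) h1 h1H χ hχ _ rfl).2.1 h0
  have h2 := congrFun key g
  simp only [map_one, mul_one, Pi.zero_apply] at h2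
  have hne : (Nat.card H : ℂ)⁻¹ ≠ 0 := by
    apply inv_ne_zero
    have : Nat.card H ≠ 0 := Nat.card_pos.ne'
    exact_mod_cast this
  exact (mul_eq_zero.mp h2).resolve_left hne

theorem irr_above_facts {L : Type*} [Group L] [Fintype L] (H : Subgroup L) [H.Normal] [Fintype H]
    (hcop : (Nat.card H).Coprime H.index)
    (θ : H → ℂ) (hθ : IsIrrCharacter H θ) (hθ1 : θ ≠ fun _ => 1)
    (χ : L → ℂ) (hχ : IsIrrCharacter L χ) (hχθ : classInner (indFun H θ) χ = 1) :
    (∀ g : L, (Nat.card H).Coprime (orderOf g) →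
      ∑ᶠ c ∈ {c : L | c ∈ H ∧ c * g = g * c}, χ (g * c) = 0) ∧
    (∀ y : L, y ∉ H → (∀ k ∈ H, k * y = y * k → k = 1) → χ y = 0) ∧
    (∀ χ' : L → ℂ, IsIrrCharacter L χ' → classInner (indFun H θ) χ' = 1 →
      ∀ h : L, h ∈ H → χ h = χ' h) := by
  classical
  have hcl : IsClassFunction L χ :=
    Helper78.IsCharacter.isClassFunction (Helper78.IsIrrCharacter.isCharacter hχ)
  have h0 := classInner_res_one_eq_zero H θ hθ hθ1 χ hχ hχθ
  have hsum := sum_coset_eq_zero H χ hχ h0
  -- (a)
  have ha : ∀ g : L, (Nat.card H).Coprime (orderOf g) →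
      ∑ᶠ c ∈ {c : L | c ∈ H ∧ c * g = g * c}, χ (g * c) = 0 := by
    intro g hg
    let C : Subgroup L := H ⊓ Subgroup.centralizer {g}
    have hCmem : ∀ c : L, c ∈ C ↔ c ∈ H ∧ c * g = g * c := by
      intro c
      rw [Subgroup.mem_inf, Subgroup.mem_centralizer_singleton_iff]
    have key := Helper81.card_mul_sum_coset_eq H g hg C inf_le_left
      (fun c hc => ((hCmem c).mp hc).2) (fun c hc hcg => (hCmem c).mpr ⟨hc, hcg⟩) χ hcl
    rw [hsum g, mul_zero] at key
    have hne : (Nat.card H : ℂ) ≠ 0 := by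
      have : Nat.card H ≠ 0 := Nat.card_pos.ne'
      exact_mod_cast this
    have hCsum : ∑ c : C, χ ((c : L) * g) = 0 :=
      (mul_eq_zero.mp key.symm).resolve_left hne
    have hset : {c : L | c ∈ H ∧ c * g = g * c} = (C : Set L) := by
      ext c
      exact (hCmem c).symm
    rw [hset]
    rw [← finsum_set_coe_eq_finsum_mem (f := fun c : L => χ (g * c)) (C : Set L)]
    have hfs : ∑ᶠ j : ((C : Set L) : Type _), χ (g * (j : L)) = ∑ c : C, χ (g * (c : L)) :=
      finsum_eq_sum_of_fintype (fun c : C => χ (g * (c : L)))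
    rw [hfs]
    rw [← hCsum]
    apply Finset.sum_congr rfl
    intro c _
    rw [((hCmem c).mp c.2).2]
  refine ⟨ha, ?_, ?_⟩
  · -- (b)
    intro y hy hfix
    have hcopy : (Nat.card H).Coprime (orderOf y) := by
      by_contra hnc
      obtain ⟨p, hp, hpH, hpy⟩ := Nat.Prime.not_coprime_iff_dvd.mp hnc
      have hy0 : orderOf y ≠ 0 := (orderOf_pos y).ne'
      set z : L := y ^ (orderOf y / p) with hz
      have hzord : orderOf z = p := orderOf_pow_orderOf_div hy0 hpy
      have hzy : z * y = y * z := by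
        rw [hz, ← pow_succ, ← pow_succ']
      have hzH : z ∈ H := by
        rw [← QuotientGroup.eq_one_iff]
        have h1 : orderOf (QuotientGroup.mk z : L ⧸ H) ∣ p := by
          rw [← hzord]
          exact orderOf_map_dvd (QuotientGroup.mk' H) z
        have h2 : orderOf (QuotientGroup.mk z : L ⧸ H) ∣ H.index := by
          rw [Subgroup.index_eq_card]
          exact orderOf_dvd_natCard _
        have h3 : Nat.Coprime p H.index := Nat.Coprime.coprime_dvd_left hpH hcop
        have h4 := Nat.dvd_gcd h1 h2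
        rw [h3] at h4
        exact orderOf_eq_one_iff.mp (Nat.dvd_one.mp h4)
      have hz1 := hfix z hzH hzy
      rw [hz1, orderOf_one] at hzord
      exact hp.one_lt.ne hzord
    have h1 := ha y hcopy
    have hset : {c : L | c ∈ H ∧ c * y = y * c} = {1} := by
      ext c
      simp only [Set.mem_ofPred_eq, Set.mem_singleton_iff]
      constructor
      · rintro ⟨h1, h2⟩; exact hfix c h1 h2
      · rintro rfl; exact ⟨H.one_mem, by simp⟩
    rw [hset, finsum_mem_singleton, mul_one] at h1
    exact h1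
  · -- (c)
    intro χ' hχ' hχ'θ h hh
    have e1 := classInner_res_eq_one H θ χ hχ hχθ
    have e2 := classInner_res_eq_one H θ χ' hχ' hχ'θ
    have c1 := Helper75.clifford_finset H hχ hθ (by rw [e1]; exact one_ne_zero)
    have c2 := Helper75.clifford_finset H hχ' hθ (by rw [e2]; exact one_ne_zero)
    rw [e1] at c1
    rw [e2] at c2
    have := congrFun (c1.trans c2.symm) ⟨h, hh⟩
    exact this

end Cfsg.Agent.Lib.Helper1.PF127H
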