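import Mathlib
import Cfsg.Agent.Lib.Helper24.PFCycCtx
import Cfsg.Agent.Lib.Helper25.PFCycEta
import Cfsg.Agent.Lib.Helper51.PFCycMuInd
import Cfsg.Agent.Lib.Helper75.GaloisPow
import Cfsg.Agent.Lib.Helper78.CharMore
import Cfsg.Agent.Lib.Helper1.PF127Const
import Cfsg.Agent.S1501

/-!
# Peterfalvi section 10, M-side, MODULE [PAR] (helper24 #4017)

`⟨Φ, η_{φ⁻¹}⟩ = ⟨Φ, η_φ⟩` for `Φ = τ_M(μ_0 - ζ)` and `φ` trivial on `W₂`: a Galois automorphism `σ`
acting as `m ↦ m^k` on the characters of `M` with `k ≡ 1 (mod |M'|)`, `k ≡ -1 (mod |W₁|)` fixes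
`μ_0 - ζ` (which vanishes off `M'`), hence fixes `Φ`, and sends `η_φ` to `η_{φ⁻¹}`.
-/

set_option autoImplicit false

namespace Cfsg.Agent.Lib.Helper1.PFCycPar

open Cfsg Cfsg.Agent.Lib.Helper4.PF Cfsg.Agent.Lib.Helper74.PF127 Cfsg.Agent.Lib.Helper24.PFCyc

universe u

/-- The Dade map commutes with field automorphisms (pointwise). -/
theorem dadeIsometry_galois {G : Type u} [Group G] (A : Set G) (L : Subgroup G)
    (H : G → Subgroup G) (σ : ℂ ≃+* ℂ) (α : ↥L → ℂ) (g : G) :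
    dadeIsometry A L H (fun m => σ (α m)) g = σ (dadeIsometry A L H α g) := by
  unfold dadeIsometry
  split_ifs with h
  · rfl
  · simp

variable {G : Type u} [Group G] [Fintype G] {M W₁ U W₂ : Subgroup G} [Fintype M]
  {mu : WChar W₁ W₂ → (↥M → ℂ)} {dl : WChar W₁ W₂ → ℂ} {η : WChar W₁ W₂ → (G → ℂ)}
  {τ₁ : (↥M → ℂ) → (G → ℂ)} {ζ : ↥M → ℂ}

omit [Fintype G] in
/-- members of `calS M` vanish off `M'` -/
theorem calS_vanish (ζ' : ↥M → ℂ) (hζ' : ζ' ∈ calS M) (m : ↥M) (hm : (m : G) ∉ ⁅M, M⁆) :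
    ζ' m = 0 := by
  obtain ⟨θ, -, -, -, rfl⟩ := hζ'
  have := Cfsg.Agent.Lib.Helper51.PFCyc.KM_normal M
  exact Cfsg.Agent.Lib.Helper1.PF127H.indFun_eq_zero_of_not_mem (KM M) θ
    (fun h => hm (Subgroup.mem_subgroupOf.mp h))

/-- `μ_0` is a character of `M` -/
theorem muSum_isCharacter (h : MCtx M W₁ U W₂ mu dl η τ₁ ζ) (ψ : WChar W₁ W₂) :
    IsCharacter ↥M (muSum mu ψ) := by
  unfold muSum
  apply Cfsg.Agent.Lib.Helper78.isCharacter_finset_sum
  intro φ _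
  exact Cfsg.Agent.Lib.Helper78.IsIrrCharacter.isCharacter (h.md.irr _)

/-- `μ_ψ` vanishes off `M'` -/
theorem muSum_vanish (hf : MFacts M W₁ W₂ mu dl η) (ψ : WChar W₁ W₂) (m : ↥M)
    (hm : (m : G) ∉ ⁅M, M⁆) : muSum mu ψ m = 0 := by
  rw [(hf.mu_ind ψ).2]
  have := Cfsg.Agent.Lib.Helper51.PFCyc.KM_normal M
  exact Cfsg.Agent.Lib.Helper1.PF127H.indFun_eq_zero_of_not_mem (KM M) _
    (fun h => hm (Subgroup.mem_subgroupOf.mp h))

/-- `μ_0 (1) = |W₁|` -/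
theorem muSum_one_one (h : MCtx M W₁ U W₂ mu dl η τ₁ ζ) (hf : MFacts M W₁ W₂ mu dl η) :
    muSum mu 1 1 = (Nat.card W₁ : ℂ) := by
  unfold muSum
  rw [Finset.sum_apply]
  have h1 : ∀ φ ∈ trivSet W₁ W₂ W₂, mu (φ * 1) 1 = (1 : ℂ) := by
    intro φ hφ
    have hφ1 : φ * 1 = φ := mul_one φ
    rw [hφ1]
    obtain ⟨-, f, hf1, -, -⟩ := hf.mu_phi φ (mem_trivSet.mp hφ)
    rw [hf1]
    simp
  rw [Finset.sum_congr rfl h1, Finset.sum_const, Cfsg.Agent.Lib.Helper51.PFCyc.card_trivSet_W₂ h.hW]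
  simp

omit [Fintype G] in
/-- `φ^q = 1` for `φ` trivial on `W₂` -/
theorem pow_card_eq_one_of_trivOn (hW : IsSelfNormalizingCyclic W₁ W₂) (φ : WChar W₁ W₂)
    (hφ : TrivOn W₂ φ) (w : ↥(W₁ ⊔ W₂)) : (φ w) ^ Nat.card W₁ = 1 := by
  obtain ⟨a, ha, b, hb, hab⟩ := Cfsg.Agent.Lib.Helper50.PFCyc.mem_sup_of_comm hW.2.2.2.1 w.2
  have hw : w = ⟨a, Subgroup.mem_sup_left ha⟩ * ⟨b, Subgroup.mem_sup_right hb⟩ :=
    Subtype.ext hab
  rw [hw, map_mul, hφ ⟨b, Subgroup.mem_sup_right hb⟩ hb, mul_one, ← map_pow]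
  have h1 : (⟨a, Subgroup.mem_sup_left ha⟩ : ↥(W₁ ⊔ W₂)) ^ Nat.card W₁ = 1 := by
    apply Subtype.ext
    rw [Subgroup.coe_pow, Subgroup.coe_one]
    have : (⟨a, ha⟩ : ↥W₁) ^ Nat.card W₁ = 1 := pow_card_eq_one'
    exact congrArg Subtype.val this
  rw [h1, map_one]

/-- MODULE [PAR] -/
theorem phi_coeff_inv (h : MCtx M W₁ U W₂ mu dl η τ₁ ζ) (hf : MFacts M W₁ W₂ mu dl η)
    (φ : WChar W₁ W₂) (hφ : TrivOn W₂ φ) :
    classInner (tauM M (muSum mu 1 - ζ)) (η φ⁻¹) =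
      classInner (tauM M (muSum mu 1 - ζ)) (η φ) := by
  classical
  set q := Nat.card W₁ with hq
  set c := Nat.card ↥(⁅M, M⁆ : Subgroup G) with hc
  have hqpos : 0 < q := Nat.card_pos
  have hcpos : 0 < c := Nat.card_pos
  have hcardM : Nat.card ↥M = c * q := Cfsg.Agent.Lib.Helper23.card_of_isComplIn h.hP.W₁_compl
  have hcop : c.Coprime q := by
    have h2 := Cfsg.Agent.Lib.Helper23.card_mul_relIndex_of_le h.hP.W₁_compl.2.1
    have h3 : W₁.relIndex M = c := by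
      apply Nat.eq_of_mul_eq_mul_left hqpos
      rw [h2, hcardM, mul_comm]
    have := h.hP.W₁_hall
    rw [h3] at this
    exact this.symm
  -- the exponent `k`
  obtain ⟨k, hk1, hk2⟩ := Nat.chineseRemainder hcop 1 (q - 1)
  have hkc : k.Coprime c := by
    have := hk1.gcd_eq
    rw [Nat.Coprime, this]
    simp
  have hkq : k.Coprime q := by
    have := hk2.gcd_eq
    rw [Nat.Coprime, this]
    obtain ⟨r, hr⟩ : ∃ r, q = r + 1 := ⟨q - 1, (Nat.sub_add_cancel hqpos).symm⟩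
    rw [hr]
    simp
  have hkM : k.Coprime (Nat.card ↥M) := by
    rw [hcardM]
    exact Nat.Coprime.mul_right hkc hkq
  obtain ⟨σ, hσ1, hσ2⟩ := Cfsg.Agent.Lib.Helper75.exists_ringEquiv_character_pow
    (G := ↥M) k hkM
  -- `σ` fixes `α = μ_0 - ζ`
  have hζchar : IsCharacter ↥M ζ := Cfsg.Agent.Lib.Helper78.IsIrrCharacter.isCharacter h.hζirr
  have hμchar : IsCharacter ↥M (muSum mu 1) := muSum_isCharacter h 1
  have hpowK : ∀ m : ↥M, (m : G) ∈ ⁅M, M⁆ → m ^ k = m := by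
    intro m hm
    have h1 : orderOf m ∣ c := by
      rw [← Subgroup.orderOf_coe]
      have := Subgroup.orderOf_dvd_natCard (⁅M, M⁆ : Subgroup G) hm
      exact this
    have h2 : k ≡ 1 [MOD orderOf m] := hk1.of_dvd h1
    have := (pow_eq_pow_iff_modEq (x := m)).mpr h2
    rw [this, pow_one]
  have hα : ∀ m : ↥M, σ ((muSum mu 1 - ζ) m) = (muSum mu 1 - ζ) m := by
    intro m
    by_cases hm : (m : G) ∈ ⁅M, M⁆
    · rw [Pi.sub_apply, map_sub, hσ2 _ hμchar, hσ2 _ hζchar, hpowK m hm]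
    · rw [Pi.sub_apply, muSum_vanish hf 1 m hm, calS_vanish ζ h.hζ m hm]
      simp
  -- `σ` fixes `Φ`
  have hΦσ : ∀ g : G, σ (tauM M (muSum mu 1 - ζ) g) = tauM M (muSum mu 1 - ζ) g := by
    intro g
    rw [← dadeIsometry_galois]
    congr 1
    funext m
    exact hα m
  -- `Φ` is a generalized character
  have hΦgen : IsGeneralizedCharacter G (tauM M (muSum mu 1 - ζ)) := by
    apply Cfsg.Agent.S1501.result (litA0 M) M (supportR M) h.hD
    · exact ⟨muSum mu 1, ζ, hμchar, hζchar, rfl⟩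
    · intro x hx
      have hx' : (x : G) ∉ litA M := fun h' => hx (Set.mem_union_left _ h')
      rw [h.hA] at hx'
      by_cases hm : (x : G) ∈ ⁅M, M⁆
      · have hx1 : (x : G) = 1 := by
          by_contra hne
          exact hx' ⟨hm, hne⟩
        have : x = 1 := Subtype.ext hx1
        rw [this, Pi.sub_apply, muSum_one_one h hf, h.hζ1, sub_self]
      · rw [Pi.sub_apply, muSum_vanish hf 1 x hm, calS_vanish ζ h.hζ x hm, sub_self]
  -- `galChar σ φ = φ⁻¹`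
  have hgal : galChar σ φ = φ⁻¹ := by
    apply MonoidHom.ext
    intro w
    apply Units.ext
    rw [galChar_apply]
    have hpq : ((φ w : ℂˣ) : ℂ) ^ q = 1 := by
      have := pow_card_eq_one_of_trivOn h.hW φ hφ w
      rw [← Units.val_pow_eq_pow_val, this, Units.val_one]
    have hpM : ((φ w : ℂˣ) : ℂ) ^ Nat.card ↥M = 1 := by
      rw [hcardM, mul_comm, pow_mul, hpq, one_pow]
    rw [hσ1 _ hpM]
    have hk : ((φ w : ℂˣ) : ℂ) ^ k = ((φ w : ℂˣ) : ℂ) ^ (q - 1) := by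
      have h1 : k % q = (q - 1) % q := hk2
      rw [← Nat.div_add_mod k q, pow_add, pow_mul, hpq, one_pow, one_mul, h1,
        Nat.mod_eq_of_lt (Nat.sub_lt hqpos Nat.one_pos)]
    rw [hk, MonoidHom.inv_apply, Units.val_inv_eq_inv_val]
    have hne : ((φ w : ℂˣ) : ℂ) ≠ 0 := Units.ne_zero _
    apply mul_right_cancel₀ hne
    rw [← pow_succ, Nat.sub_add_cancel hqpos, hpq, inv_mul_cancel₀ hne]
  have hWodd : Odd (Nat.card ↥(W₁ ⊔ W₂)) := by
    have hle : W₁ ⊔ W₂ ≤ M := by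
      apply sup_le h.hP.W₁_compl.2.1
      exact fun x hx => h.hP.W₁_compl.1
        (Subgroup.commutator_le_self _ ((h.hP.W₂_le hx).2))
    have hdvd : Nat.card ↥(W₁ ⊔ W₂) ∣ Nat.card ↥M := Subgroup.card_dvd_of_le hle
    exact Odd.of_dvd_nat h.hodd hdvd
  have hinv := Cfsg.Agent.Lib.Helper25.PFCyc.eta_inv h.hW hWodd η h.hη φ
  have hgalη := Cfsg.Agent.Lib.Helper25.PFCyc.eta_galChar h.hW hWodd η h.hη σ φ
  rw [hgal] at hgalη
  -- the two formulas
  obtain ⟨n, hn⟩ := Cfsg.Agent.Lib.Helper25.PFCyc.eta_inner_int η h.hη _ hΦgen φ⁻¹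
  have ha : classInner (tauM M (muSum mu 1 - ζ)) (η φ⁻¹) =
      (Nat.card G : ℂ)⁻¹ * ∑ g : G, tauM M (muSum mu 1 - ζ) g * η φ g := by
    unfold classInner
    congr 1
    apply Finset.sum_congr rfl
    intro g _
    rw [hinv]
    simp
  have hb : classInner (tauM M (muSum mu 1 - ζ)) (η φ) =
      σ ((Nat.card G : ℂ)⁻¹ * ∑ g : G, tauM M (muSum mu 1 - ζ) g * η φ g) := by
    unfold classInner
    rw [map_mul, map_inv₀, map_natCast, map_sum]
    congr 1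
    apply Finset.sum_congr rfl
    intro g _
    rw [map_mul, hΦσ g]
    congr 1
    have h1 := congrFun hinv g
    have h2 := congrFun hgalη g
    rw [← h2, h1]
  rw [hb, ← ha, hn]
  simp

end Cfsg.Agent.Lib.Helper1.PFCycPar
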