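import Mathlib
import Cfsg.Agent.Lib.Helper64.PFElevenDefs
import Cfsg.Agent.Lib.Helper25.PFCycEta
import Cfsg.Agent.Lib.Helper25.Dual2
import Cfsg.Agent.Lib.Helper51.PFCycMuInd
import Cfsg.Agent.Lib.Helper75.GaloisPow

/-!
# Peterfalvi section 11 end game, MODULE [GAL-B] (helper64 #4162)

Galois transitivity on the non-trivial characters of `W/W₂` (resp. `W/W₁`) when `|W₁|` (resp.
`|W₂|`) is prime, and Galois equivariance of `muSum`, `etaSum`.
-/

set_option autoImplicit false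

namespace Cfsg.Agent.Lib.Helper1.PF11GalB

open Cfsg Cfsg.Agent.Lib.Helper24.PFCyc Cfsg.Agent.Lib.Helper4.PF Cfsg.Agent.Lib.Helper64.PF11

universe u

variable {G : Type u} [Group G]

/-- the group of the linear characters of `W` trivial on `X` -/
def trivSubgroup (W₁ W₂ X : Subgroup G) : Subgroup (WChar W₁ W₂) where
  carrier := {ω | TrivOn X ω}
  one_mem' := trivOn_one X
  mul_mem' := fun h h' => h.mul h'
  inv_mem' := fun h => h.inv

theorem card_trivSubgroup [Finite G] (W₁ W₂ X : Subgroup G) :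
    Nat.card ↥(trivSubgroup W₁ W₂ X) = (trivSet W₁ W₂ X).card := by
  classical
  have : Fintype (WChar W₁ W₂) := Fintype.ofFinite _
  rw [Nat.card_eq_fintype_card]
  apply Fintype.card_of_subtype
  intro ω
  rw [mem_trivSet]
  rfl

theorem galChar_mul {W₁ W₂ : Subgroup G} (σ : ℂ ≃+* ℂ) (ω ω' : WChar W₁ W₂) :
    galChar σ (ω * ω') = galChar σ ω * galChar σ ω' := by
  apply MonoidHom.ext
  intro w
  apply Units.ext
  rw [galChar_apply, MonoidHom.mul_apply, MonoidHom.mul_apply, Units.val_mul, Units.val_mul,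
    map_mul, galChar_apply, galChar_apply]

theorem galChar_symm_right {W₁ W₂ : Subgroup G} (σ : ℂ ≃+* ℂ) (ω : WChar W₁ W₂) :
    galChar σ (galChar σ.symm ω) = ω := by
  apply MonoidHom.ext
  intro w
  apply Units.ext
  rw [galChar_apply, galChar_apply, RingEquiv.apply_symm_apply]

theorem galChar_symm_left {W₁ W₂ : Subgroup G} (σ : ℂ ≃+* ℂ) (ω : WChar W₁ W₂) :
    galChar σ.symm (galChar σ ω) = ω := by
  apply MonoidHom.ext
  intro w
  apply Units.ext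
  rw [galChar_apply, galChar_apply, RingEquiv.symm_apply_apply]

/-- Galois transitivity on the non-trivial members of a group of characters of prime order. -/
theorem exists_galChar_eq_of_prime_card [Finite G] {W₁ W₂ : Subgroup G} (X : Subgroup G) (r : ℕ)
    (hr : r.Prime) (hcard : (trivSet W₁ W₂ X).card = r) (φ φ' : WChar W₁ W₂) (hφ : TrivOn X φ)
    (hφ' : TrivOn X φ') (hφ1 : φ ≠ 1) (hφ'1 : φ' ≠ 1) :
    ∃ σ : ℂ ≃+* ℂ, galChar σ φ = φ' := by
  have hD : Nat.card ↥(trivSubgroup W₁ W₂ X) = r := by rw [card_trivSubgroup, hcard]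
  have : Fact r.Prime := ⟨hr⟩
  set x : ↥(trivSubgroup W₁ W₂ X) := ⟨φ, hφ⟩ with hxdef
  set y : ↥(trivSubgroup W₁ W₂ X) := ⟨φ', hφ'⟩ with hydef
  have hx : x ≠ 1 := fun h => hφ1 (congrArg Subtype.val h)
  have htop := zpowers_eq_top_of_prime_card hD hx
  have hy : y ∈ Subgroup.zpowers x := by
    rw [htop]
    trivial
  obtain ⟨k, hk⟩ := Subgroup.mem_zpowers_iff.mp hy
  have hmod := zpow_mod_natCard x k
  rw [hD] at hmod
  have hrpos : (0 : ℤ) < (r : ℤ) := by exact_mod_cast hr.pos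
  have hnonneg : 0 ≤ k % (r : ℤ) := Int.emod_nonneg _ hrpos.ne'
  obtain ⟨n, hn⟩ := Int.eq_ofNat_of_zero_le hnonneg
  have hxn : x ^ n = y := by
    rw [← zpow_natCast, ← hn, hmod, hk]
  have hnlt : n < r := by
    have := Int.emod_lt_of_pos k hrpos
    omega
  have hn0 : n ≠ 0 := by
    rintro rfl
    rw [pow_zero] at hxn
    exact hφ'1 (congrArg Subtype.val hxn.symm)
  have hcop : n.Coprime r := (Nat.coprime_of_lt_prime hn0 hnlt hr).symm
  obtain ⟨σ, hσ⟩ := Cfsg.Agent.Lib.Helper75.exists_ringEquiv_pow r hr.pos n hcop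
  refine ⟨σ, ?_⟩
  have hφn : φ ^ n = φ' := by
    have := congrArg Subtype.val hxn
    rwa [Subgroup.coe_pow] at this
  have hxr : x ^ r = 1 := by
    rw [← hD]
    exact pow_card_eq_one'
  have hφr : φ ^ r = 1 := by
    have := congrArg Subtype.val hxr
    rwa [Subgroup.coe_pow] at this
  apply MonoidHom.ext
  intro w
  apply Units.ext
  have h1 : ((φ w : ℂˣ) : ℂ) ^ r = 1 := by
    have := congrArg (fun f : WChar W₁ W₂ => ((f w : ℂˣ) : ℂ)) hφr
    simpa [MonoidHom.pow_apply] using this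
  rw [galChar_apply, hσ _ h1, ← hφn, MonoidHom.pow_apply, Units.val_pow_eq_pow_val]

variable [Fintype G] {M W₁ U W₂ : Subgroup G} [Fintype M]
  {mu : WChar W₁ W₂ → (↥M → ℂ)} {dl : WChar W₁ W₂ → ℂ} {η : WChar W₁ W₂ → (G → ℂ)}
  {d : ℕ} {δ : ℂ} {n : ℤ}

omit [Fintype G] in
/-- the number of `ψ` trivial on `W₁` is `|W₂|` -/
theorem card_trivSet_W₁ [Finite G] (hW : IsSelfNormalizingCyclic W₁ W₂) :
    (trivSet W₁ W₂ W₁).card = Nat.card W₂ := by
  classical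
  have : Fintype ↥(W₁ ⊔ W₂) := Fintype.ofFinite _
  have hcyc : IsCyclic ↥(W₁ ⊔ W₂) := hW.2.2.2.2.1
  have hc : ∀ a b : ↥(W₁ ⊔ W₂), a * b = b * a := by
    intro a b
    obtain ⟨g, hg⟩ := hcyc.exists_generator
    obtain ⟨i, rfl⟩ := Subgroup.mem_zpowers_iff.mp (hg a)
    obtain ⟨j, rfl⟩ := Subgroup.mem_zpowers_iff.mp (hg b)
    rw [← zpow_add, ← zpow_add, add_comm]
  have h1 : trivSet W₁ W₂ W₁ =
      Cfsg.Agent.Lib.Helper25.dualOf (W₁.subgroupOf (W₁ ⊔ W₂)) := by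
    ext ω
    rw [mem_trivSet, Cfsg.Agent.Lib.Helper25.mem_dualOf]
    constructor
    · intro h n hn
      exact h n (Subgroup.mem_subgroupOf.mp hn)
    · intro h w hw
      exact h w (Subgroup.mem_subgroupOf.mpr hw)
  have h2 := Cfsg.Agent.Lib.Helper25.card_dualOf_mul hc (W₁.subgroupOf (W₁ ⊔ W₂))
  have h3 : Nat.card ↥(W₁.subgroupOf (W₁ ⊔ W₂)) = Nat.card W₁ :=
    Nat.card_congr (Subgroup.subgroupOfEquivOfLe le_sup_left).toEquiv
  rw [h3, Cfsg.Agent.Lib.Helper51.PFCyc.card_W hW, ← h1, mul_comm (Nat.card ↥W₁)] at h2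
  have hpos : 0 < Nat.card W₁ := Nat.card_pos
  exact Nat.eq_of_mul_eq_mul_right hpos h2

/-- MODULE [GAL-B] (1) -/
theorem exists_galChar_eq_left (hW : IsSelfNormalizingCyclic W₁ W₂) (hq : (Nat.card W₁).Prime)
    (φ φ' : WChar W₁ W₂) (hφ : TrivOn W₂ φ) (hφ' : TrivOn W₂ φ') (hφ1 : φ ≠ 1) (hφ'1 : φ' ≠ 1) :
    ∃ σ : ℂ ≃+* ℂ, galChar σ φ = φ' :=
  exists_galChar_eq_of_prime_card W₂ _ hq (Cfsg.Agent.Lib.Helper51.PFCyc.card_trivSet_W₂ hW)
    φ φ' hφ hφ' hφ1 hφ'1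

/-- MODULE [GAL-B] (2) -/
theorem exists_galChar_eq_right (hW : IsSelfNormalizingCyclic W₁ W₂) (hp : (Nat.card W₂).Prime)
    (ψ ψ' : WChar W₁ W₂) (hψ : TrivOn W₁ ψ) (hψ' : TrivOn W₁ ψ') (hψ1 : ψ ≠ 1) (hψ'1 : ψ' ≠ 1) :
    ∃ σ : ℂ ≃+* ℂ, galChar σ ψ = ψ' :=
  exists_galChar_eq_of_prime_card W₁ _ hp (card_trivSet_W₁ hW) ψ ψ' hψ hψ' hψ1 hψ'1

omit [Fintype G] in
/-- Galois equivariance of a sum over the characters trivial on `Y`. -/
theorem sum_trivSet_gal [Finite G] {X : Type*} (Y : Subgroup G) (f : WChar W₁ W₂ → (X → ℂ))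
    (σ : ℂ ≃+* ℂ) (hf : ∀ ω, f (galChar σ ω) = fun x => σ (f ω x)) (ω : WChar W₁ W₂) :
    ∑ φ ∈ trivSet W₁ W₂ Y, f (φ * galChar σ ω) =
      fun x => σ ((∑ φ ∈ trivSet W₁ W₂ Y, f (φ * ω)) x) := by
  funext x
  rw [Finset.sum_apply, Finset.sum_apply, map_sum]
  apply Finset.sum_nbij' (fun φ => galChar σ.symm φ) (fun φ => galChar σ φ)
  · intro φ hφ
    exact mem_trivSet.mpr ((mem_trivSet.mp hφ).galChar σ.symm)
  · intro φ hφ
    exact mem_trivSet.mpr ((mem_trivSet.mp hφ).galChar σ)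
  · intro φ _
    exact galChar_symm_right σ φ
  · intro φ _
    exact galChar_symm_left σ φ
  · intro φ _
    have h1 : φ * galChar σ ω = galChar σ (galChar σ.symm φ * ω) := by
      rw [galChar_mul, galChar_symm_right]
    rw [h1, hf]

/-- MODULE [GAL-B] (3) -/
theorem muSum_gal (F : Frame M W₁ U W₂ mu dl η d δ n) (σ : ℂ ≃+* ℂ) (ω : WChar W₁ W₂) :
    muSum mu (galChar σ ω) = fun m => σ (muSum mu ω m) := by
  unfold muSum
  exact sum_trivSet_gal W₂ mu σ (fun ω => (F.mu_gal σ ω).1) ω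

/-- MODULE [GAL-B] (4) -/
theorem etaSum_gal (F : Frame M W₁ U W₂ mu dl η d δ n) (σ : ℂ ≃+* ℂ) (ω : WChar W₁ W₂) :
    etaSum η (galChar σ ω) = fun g => σ (etaSum η ω g) := by
  unfold etaSum
  have hWodd : Odd (Nat.card ↥(W₁ ⊔ W₂)) :=
    Odd.of_dvd_nat F.hodd (Subgroup.card_subgroup_dvd_card _)
  exact sum_trivSet_gal W₂ η σ
    (fun ω => Cfsg.Agent.Lib.Helper25.PFCyc.eta_galChar F.hP.selfNormalizing hWodd η F.hη σ ω) ω

end Cfsg.Agent.Lib.Helper1.PF11GalB
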