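import Mathlib
import Cfsg.Agent.Lib.Helper64.PFElevenStruct
import Cfsg.Agent.Lib.Helper16.PFNineDI
import Cfsg.Agent.Lib.Helper16.PFNineNB
import Cfsg.Agent.Lib.Helper58.PFNineGA
import Cfsg.Agent.Lib.Helper62.PFNineG3b
import Cfsg.Agent.Lib.Helper1.PFElevenGalB
import Cfsg.Agent.Lib.Helper23.TypeP

/-!
# Peterfalvi section 11 end game, MODULE [D-EQ] (helper64 sheet #2)

`d = |U : U'| = |M' : M''|` for `M` of Type III or IV with non-coherent `calS M`.

* `coreC_bot_normal` : in the sec.9 context with `H₀ = ⊥`, `C = C_U(H)` is normal in `L`.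
* `eq_one_of_W1Inv_of_ker` : a `W₁`-invariant irreducible character of `K` with `H` in its kernel is
  the principal character.
* `deg_of_W1Inv` : a `W₁`-invariant non-principal irreducible character of `K` has degree `|U : C|`
  (when `H` is a chief factor).
* `d_eq` : the module statement.
-/

set_option autoImplicit false

namespace Cfsg.Agent.Lib.Helper1.PF11D

open Cfsg Cfsg.Agent.Lib.Helper24.PFCyc Cfsg.Agent.Lib.Helper4.PF Cfsg.Agent.Lib.Helper58.PF9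

universe u

section Abstract

variable {L : Type u} [Group L] [Fintype L] {K H U W₁ W₂ : Subgroup L} {p q : ℕ}

omit [Fintype L] in
theorem le_normalizer_of_conj_mem (X C : Subgroup L)
    (h : ∀ g ∈ X, ∀ n ∈ C, g * n * g⁻¹ ∈ C) : X ≤ Subgroup.normalizer (C : Set L) := by
  intro g hg
  rw [Subgroup.mem_normalizer_iff]
  intro n
  constructor
  · exact h g hg n
  · intro hn
    have := h g⁻¹ (X.inv_mem hg) _ hn
    have e : g⁻¹ * (g * n * g⁻¹) * g⁻¹⁻¹ = n := by group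
    rwa [e] at this

omit [Fintype L] in
/-- With `H₀ = ⊥` the subgroup `C = C_U(H)` is normal in `L = H U W₁`. -/
theorem coreC_bot_normal (c : Ctx K H U W₁ W₂ ⊥ p q) : (coreC U H ⊥).Normal := by
  have hHn := c.H_normal
  have hbn : (⊥ : Subgroup L).Normal := c.H₀_normal
  have hmem : ∀ x : L, x ∈ coreC U H ⊥ ↔ x ∈ U ∧ ∀ h ∈ H, x * h * x⁻¹ * h⁻¹ = 1 := by
    intro x
    rw [mem_coreC_of_normal]
    simp only [Subgroup.mem_bot]
  -- elements normalizing `U` normalize `C`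
  have hU' : ∀ g : L, g ∈ Subgroup.normalizer (U : Set L) → ∀ n ∈ coreC U H ⊥,
      g * n * g⁻¹ ∈ coreC U H ⊥ := by
    intro g hg n hn
    rw [hmem] at hn ⊢
    refine ⟨(Subgroup.mem_normalizer_iff.mp hg n).mp hn.1, ?_⟩
    intro h hh
    have h1 : g⁻¹ * h * g⁻¹⁻¹ ∈ H := hHn.conj_mem h hh g⁻¹
    have h2 := hn.2 _ h1
    have e : g * n * g⁻¹ * h * (g * n * g⁻¹)⁻¹ * h⁻¹ =
        g * (n * (g⁻¹ * h * g⁻¹⁻¹) * n⁻¹ * (g⁻¹ * h * g⁻¹⁻¹)⁻¹) * g⁻¹ := by group
    rw [e, h2]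
    group
  have h1 : H ≤ Subgroup.normalizer ((coreC U H ⊥ : Subgroup L) : Set L) := by
    apply le_normalizer_of_conj_mem
    intro g hg n hn
    have h2 := ((hmem n).mp hn).2 g hg
    have e : g * n * g⁻¹ = (n * g * n⁻¹ * g⁻¹)⁻¹ * n := by group
    rw [e, h2, inv_one, one_mul]
    exact hn
  have h2 : U ≤ Subgroup.normalizer ((coreC U H ⊥ : Subgroup L) : Set L) := by
    apply le_normalizer_of_conj_mem
    intro g hg n hn
    exact hU' g (Subgroup.le_normalizer hg) n hn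
  have h3 : W₁ ≤ Subgroup.normalizer ((coreC U H ⊥ : Subgroup L) : Set L) := by
    apply le_normalizer_of_conj_mem
    intro g hg n hn
    exact hU' g (c.W₁_norm_U hg) n hn
  have h4 : (⊤ : Subgroup L) ≤ Subgroup.normalizer ((coreC U H ⊥ : Subgroup L) : Set L) := by
    rw [← c.KW_sup, ← c.HU_sup]
    exact sup_le (sup_le h1 h2) h3
  exact Subgroup.normalizer_eq_top_iff.mp (top_le_iff.mp h4)

/-- A `W₁`-invariant irreducible character of `K` with `H` in its kernel is principal. -/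
theorem eq_one_of_W1Inv_of_ker {H₀ : Subgroup L} (c : Ctx K H U W₁ W₂ H₀ p q) {θ : ↥K → ℂ}
    (h1 : IsIrrCharacter ↥K θ) (h2 : ∀ a : ↥K, (a : L) ∈ H → θ a = θ 1)
    (h3 : IsW1Inv K W₁ c.K_normal θ) : θ = fun _ => 1 := by
  have := c.K_normal
  have := c.H_normal
  have hHK : H ≤ K := by rw [← c.HU_sup]; exact le_sup_left
  have hH := Cfsg.Agent.Lib.Helper62.PF9G3.invQuot_range K H W₁
  have hone : IsIrrCharacter ↥K (fun _ : ↥K => (1 : ℂ)) :=
    Cfsg.Agent.Lib.Helper78.isIrrCharacter_one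
  have m1 : θ ∈ Set.range (Cfsg.Agent.Lib.Helper62.PF9G3.invQuotPull K H W₁) := by
    rw [hH]; exact ⟨h1, h2, h3⟩
  have m2 : (fun _ : ↥K => (1 : ℂ)) ∈
      Set.range (Cfsg.Agent.Lib.Helper62.PF9G3.invQuotPull K H W₁) := by
    rw [hH]; exact ⟨hone, fun _ _ => rfl, fun _ _ => rfl⟩
  obtain ⟨t, rfl⟩ := m1
  obtain ⟨t', ht'⟩ := m2
  rw [← ht', Cfsg.Agent.Lib.Helper62.PF9G3.ctx_invIrrQuot_subsingleton c H hHK c.W₂_le t t']

omit [Fintype L] in
theorem Xset_mono [Fintype L] {N N' : Subgroup L} (h : N' ≤ N) : Xset K H N ⊆ Xset K H N' := by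
  rintro θ ⟨h1, h2, h3⟩
  exact ⟨h1, fun a ha => h2 a (h ha), h3⟩

/-- A `W₁`-invariant non-principal irreducible character of `K` has degree `|U : C|`. -/
theorem deg_of_W1Inv (c : Ctx K H U W₁ W₂ ⊥ p q)
    (hchief : ∀ N : Subgroup L, N.Normal → N ≤ H → N = ⊥ ∨ N = H)
    {θ : ↥K → ℂ} (hθ : IsIrrCharacter ↥K θ) (hinv : IsW1Inv K W₁ c.K_normal θ)
    (hne : θ ≠ fun _ => 1) : θ 1 = (((coreC U H ⊥).relIndex U : ℕ) : ℂ) := by
  classical
  have hCn : (coreC U H ⊥).Normal := coreC_bot_normal c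
  have hUK : U ≤ K := by rw [← c.HU_sup]; exact le_sup_right
  have hCK : coreC U H ⊥ ≤ K := (coreC_le U H ⊥).trans hUK
  have hCH : coreC U H ⊥ ⊓ H = ⊥ := by
    apply le_antisymm _ bot_le
    calc coreC U H ⊥ ⊓ H ≤ U ⊓ H := inf_le_inf_right H (coreC_le U H ⊥)
      _ = ⊥ := by rw [inf_comm]; exact c.HU_inf
  -- `θ ∈ X(1)`
  have hθX : θ ∈ Xset K H ⊥ := by
    refine ⟨hθ, ?_, ?_⟩
    · intro a ha
      rw [Subgroup.mem_bot] at ha
      have : a = 1 := Subtype.ext ha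
      rw [this]
    · by_contra hcon
      push Not at hcon
      exact hne (eq_one_of_W1Inv_of_ker c hθ (fun a ha => hcon a ha) hinv)
  -- the two counts
  have hn0 := Cfsg.Agent.Lib.Helper62.PF9G3.ncard_W1Inv_Xset c ⊥ c.H₀_normal bot_le
    (by rw [bot_inf_eq])
  have hn1 := Cfsg.Agent.Lib.Helper62.PF9G3.ncard_W1Inv_Xset c (coreC U H ⊥) hCn hCK hCH
  have hsub : {θ : ↥K → ℂ | θ ∈ Xset K H (coreC U H ⊥) ∧ IsW1Inv K W₁ c.K_normal θ} ⊆
      {θ : ↥K → ℂ | θ ∈ Xset K H ⊥ ∧ IsW1Inv K W₁ c.K_normal θ} := by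
    rintro φ ⟨h1, h2⟩
    exact ⟨Xset_mono bot_le h1, h2⟩
  have hp1 : 0 < p - 1 := by have := c.p_prime.two_le; omega
  have hfin : {θ : ↥K → ℂ | θ ∈ Xset K H ⊥ ∧ IsW1Inv K W₁ c.K_normal θ}.Finite := by
    apply Set.finite_of_ncard_pos
    rw [hn0]; exact hp1
  have heq := Set.eq_of_subset_of_ncard_le hsub (by rw [hn0, hn1]) hfin
  have hθC : θ ∈ Xset K H (coreC U H ⊥) := by
    have : θ ∈ {θ : ↥K → ℂ | θ ∈ Xset K H ⊥ ∧ IsW1Inv K W₁ c.K_normal θ} := ⟨hθX, hinv⟩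
    rw [← heq] at this
    exact this.1
  -- the dichotomy
  have hchief' : ∀ N : Subgroup L, N.Normal → (⊥ : Subgroup L) ≤ N → N ≤ H → N = ⊥ ∨ N = H :=
    fun N hN _ hNH => hchief N hN hNH
  rcases Cfsg.Agent.Lib.Helper16.PFNineDI.galois_or_axis c hchief' with hG | ⟨H₁, hA⟩
  · refine (galois_core_theta c hG (θ := θ) ?_).1
    apply Xset_mono _ hθC
    rw [bot_sup_eq]
    exact Subgroup.commutator_le_self _
  · refine (Cfsg.Agent.Lib.Helper16.PFNineNB.axis_reducible_member c hA (θ := θ) ?_ hinv).1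
    apply Xset_mono _ hθC
    rw [bot_sup_eq]

end Abstract

variable {G : Type u} [Group G] [Fintype G] {M W₁ U W₂ : Subgroup G} [Fintype M]
  {mu : WChar W₁ W₂ → (↥M → ℂ)} {dl : WChar W₁ W₂ → ℂ} {η : WChar W₁ W₂ → (G → ℂ)}
  {d : ℕ} {δ : ℂ} {n : ℤ}

open Cfsg.Agent.Lib.Helper64.PF11 in
/-- MODULE [D-EQ] -/
theorem d_eq (F : Frame M W₁ U W₂ mu dl η d δ n) (S : Struct34 M W₁ U W₂)
    (c : Ctx34 M W₁ U W₂)
    (hC : coreC (U.subgroupOf M) ((fittingHallOf M).subgroupOf M) ⊥ = (⁅U, U⁆).subgroupOf M)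
    (hchief : ∀ N : Subgroup ↥M, N.Normal → N ≤ (fittingHallOf M).subgroupOf M →
      N = ⊥ ∨ N = (fittingHallOf M).subgroupOf M) :
    d = (⁅U, U⁆).relIndex U ∧
      (⁅⁅M, M⁆, ⁅M, M⁆⁆).relIndex ⁅M, M⁆ = (⁅U, U⁆).relIndex U := by
  have hM'M : (⁅M, M⁆ : Subgroup G) ≤ M := Subgroup.commutator_le_self M
  have hUM : U ≤ M := F.hP.U_compl.2.1.trans hM'M
  have hHM : fittingHallOf M ≤ M := F.hP.U_compl.1.trans hM'M
  have hU'U : (⁅U, U⁆ : Subgroup G) ≤ U := Subgroup.commutator_le_self U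
  have hrel : ((⁅U, U⁆).subgroupOf M).relIndex (U.subgroupOf M) = (⁅U, U⁆).relIndex U :=
    Subgroup.relIndex_subgroupOf hUM
  constructor
  · -- the degree
    have hW := F.hP.selfNormalizing
    have hcard := Cfsg.Agent.Lib.Helper1.PF11GalB.card_trivSet_W₁ hW
    have h2 : 1 < (trivSet W₁ W₂ W₁).card := by
      rw [hcard]; exact F.hp.one_lt
    obtain ⟨ψ, hψmem, hψ1⟩ := Finset.exists_mem_ne h2 1
    have hψ : TrivOn W₁ ψ := mem_trivSet.mp hψmem
    set θ : ↥(derK M) → ℂ := fun k => mu ψ (k : ↥M) with hθdef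
    have hθirr : IsIrrCharacter ↥(derK M) θ := (F.mu_ind ψ).1
    have hθ1 : θ 1 = (d : ℂ) := F.deg_psi ψ hψ hψ1
    have hcl : IsClassFunction ↥M (mu ψ) :=
      Cfsg.Agent.Lib.Helper78.isClassFunction_irr ⟨mu ψ, F.md.irr ψ⟩
    have hinv : IsW1Inv (derK M) (W₁.subgroupOf M) c.K_normal θ := by
      intro x _
      funext k
      exact hcl (k : ↥M) x
    have hq2 : 2 ≤ Nat.card W₁ := F.hq.two_le
    have hne : θ ≠ fun _ => 1 := by
      intro h
      have h3 := congrFun h 1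
      rw [hθ1] at h3
      have h4 : d = 1 := by exact_mod_cast h3
      have := F.hdq
      omega
    have hdeg := deg_of_W1Inv c hchief hθirr hinv hne
    rw [hθ1, hC, hrel] at hdeg
    exact_mod_cast hdeg
  · -- the index
    have hHn : ((fittingHallOf M).subgroupOf M).Normal := c.H_normal
    have e1 : (⁅⁅M, M⁆, ⁅M, M⁆⁆).relIndex ⁅M, M⁆ =
        ((⁅⁅M, M⁆, ⁅M, M⁆⁆).subgroupOf M).relIndex ((⁅M, M⁆ : Subgroup G).subgroupOf M) :=
      (Subgroup.relIndex_subgroupOf hM'M).symm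
    have e2 : (⁅⁅M, M⁆, ⁅M, M⁆⁆).subgroupOf M =
        (fittingHallOf M).subgroupOf M ⊔ (⁅U, U⁆).subgroupOf M := by
      rw [S.hK2, S.hCU, Subgroup.subgroupOf_sup hHM (hU'U.trans hUM)]
    have e3 : (⁅M, M⁆ : Subgroup G).subgroupOf M =
        (fittingHallOf M).subgroupOf M ⊔ U.subgroupOf M := c.HU_sup.symm
    have hU'L : (⁅U, U⁆).subgroupOf M ≤ U.subgroupOf M := by
      intro x hx
      exact Subgroup.mem_subgroupOf.mpr (hU'U (Subgroup.mem_subgroupOf.mp hx))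
    have hdisj : (fittingHallOf M).subgroupOf M ⊓ U.subgroupOf M = ⊥ := c.HU_inf
    have hdisj' : (fittingHallOf M).subgroupOf M ⊓ (⁅U, U⁆).subgroupOf M = ⊥ := by
      rw [eq_bot_iff, ← hdisj]
      exact inf_le_inf_left _ hU'L
    have f1 : ((fittingHallOf M).subgroupOf M).relIndex
        ((fittingHallOf M).subgroupOf M ⊔ U.subgroupOf M) = Nat.card ↥(U.subgroupOf M) := by
      rw [Subgroup.relIndex_sup_left, ← Subgroup.inf_relIndex_right, hdisj,
        Subgroup.relIndex_bot_left]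
    have f2 : ((fittingHallOf M).subgroupOf M).relIndex
        ((fittingHallOf M).subgroupOf M ⊔ (⁅U, U⁆).subgroupOf M) =
          Nat.card ↥((⁅U, U⁆).subgroupOf M) := by
      rw [Subgroup.relIndex_sup_left, ← Subgroup.inf_relIndex_right, hdisj',
        Subgroup.relIndex_bot_left]
    have f3 := Subgroup.relIndex_mul_relIndex ((fittingHallOf M).subgroupOf M)
      ((fittingHallOf M).subgroupOf M ⊔ (⁅U, U⁆).subgroupOf M)
      ((fittingHallOf M).subgroupOf M ⊔ U.subgroupOf M) le_sup_left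
      (sup_le_sup_left hU'L _)
    rw [f1, f2] at f3
    have f4 := Cfsg.Agent.Lib.Helper23.card_mul_relIndex_of_le hU'L
    rw [hrel] at f4
    rw [e1, e2, e3]
    have hpos : 0 < Nat.card ↥((⁅U, U⁆).subgroupOf M) := Nat.card_pos
    apply Nat.eq_of_mul_eq_mul_left hpos
    rw [f3, f4]

end Cfsg.Agent.Lib.Helper1.PF11D
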