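import Mathlib
import Cfsg.Agent.Lib.Helper64.PFElevenDefs
import Cfsg.Agent.Lib.Helper1.PFCycPar
import Cfsg.Agent.Lib.Helper26.IrrFactsInst
import Cfsg.Agent.Lib.Helper25.DadeExp6
import Cfsg.Agent.Lib.Helper51.PFCycMuInd
import Cfsg.Agent.Lib.Helper78.CharMore
import Cfsg.Agent.S1501

/-!
# Peterfalvi section 11 end game, MODULE [F7] (helper64 #4162)

`R := τ(μ_ψ - δ 1 - n ζ) + δ (1 - η_ψ)` is a generalized character with
`q R = d Θ - (τ(d μ₀ - μ^ψ) + δ η^ψ) - (d - δ)(Θ - τ(μ₀ - ζ))`.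
-/

set_option autoImplicit false

namespace Cfsg.Agent.Lib.Helper1.PF11F7

open Cfsg Cfsg.Agent.Lib.Helper24.PFCyc Cfsg.Agent.Lib.Helper4.PF Cfsg.Agent.Lib.Helper64.PF11

universe u

/-- The Dade map as a `ℂ`-linear map on all functions. -/
noncomputable def dadeLin {G : Type u} [Group G] (A : Set G) (L : Subgroup G)
    (H : G → Subgroup G) : (↥L → ℂ) →ₗ[ℂ] (G → ℂ) where
  toFun := dadeIsometry A L H
  map_add' := by
    intro α β
    funext g
    unfold dadeIsometry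
    simp only [Pi.add_apply]
    split_ifs <;> simp
  map_smul' := by
    intro c α
    funext g
    unfold dadeIsometry
    simp only [Pi.smul_apply, RingHom.id_apply]
    split_ifs <;> simp

theorem dadeLin_apply {G : Type u} [Group G] (A : Set G) (L : Subgroup G)
    (H : G → Subgroup G) (α : ↥L → ℂ) : dadeLin A L H α = dadeIsometry A L H α := rfl

variable {G : Type u} [Group G] [Fintype G] {M W₁ U W₂ : Subgroup G} [Fintype M]
  {mu : WChar W₁ W₂ → (↥M → ℂ)} {dl : WChar W₁ W₂ → ℂ} {η : WChar W₁ W₂ → (G → ℂ)}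
  {d : ℕ} {δ : ℂ} {n : ℤ}

/-- members of `calS M` are characters -/
theorem calS_isCharacter (F : Frame M W₁ U W₂ mu dl η d δ n) (ζ : ↥M → ℂ)
    (hζ : ζ ∈ Cfsg.Agent.Lib.Helper64.PF11.calS M) : IsCharacter ↥M ζ := by
  rcases F.calS_cases ζ hζ with h | ⟨ψ, -, -, rfl⟩
  · exact Cfsg.Agent.Lib.Helper78.IsIrrCharacter.isCharacter h.1
  · unfold muSum
    apply Cfsg.Agent.Lib.Helper78.isCharacter_finset_sum
    intro φ _
    exact Cfsg.Agent.Lib.Helper78.IsIrrCharacter.isCharacter (F.md.irr _)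

/-- the sum of the rectangle identities over all `φ` trivial on `W₂` -/
theorem tau_rect_sum (F : Frame M W₁ U W₂ mu dl η d δ n) (ψ : WChar W₁ W₂)
    (hψ : TrivOn W₁ ψ) (hψ1 : ψ ≠ 1) :
    Cfsg.Agent.Lib.Helper64.PF11.tauM M
        ((Nat.card W₁ : ℂ) • (fun _ => (1 : ℂ)) - muSum mu 1
          - ((Nat.card W₁ : ℂ) * δ) • mu ψ + δ • muSum mu ψ) =
      (Nat.card W₁ : ℂ) • (fun _ => (1 : ℂ)) - etaSum η 1 - (Nat.card W₁ : ℂ) • η ψ
        + etaSum η ψ := by
  classical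
  set T := trivSet W₁ W₂ W₂ with hT
  have hTcard : T.card = Nat.card W₁ :=
    Cfsg.Agent.Lib.Helper51.PFCyc.card_trivSet_W₂ F.hP.selfNormalizing
  have hrect : ∀ φ ∈ T,
      dadeLin (litA0 M) M (supportR M)
        ((fun _ => (1 : ℂ)) - mu φ - δ • mu ψ + δ • mu (φ * ψ)) =
        fun g => 1 - η φ g - η ψ g + η (φ * ψ) g := by
    intro φ hφ
    by_cases hφ1 : φ = 1
    · subst hφ1
      have e1 : (1 : WChar W₁ W₂) * ψ = ψ := one_mul ψ
      have h0 : ((fun _ => (1 : ℂ)) - mu 1 - δ • mu ψ + δ • mu (1 * ψ) : ↥M → ℂ) = 0 := by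
        rw [e1, F.mu_one]
        funext m
        simp
      rw [h0, map_zero, e1, F.hη.map_one]
      funext g
      simp
    · exact F.rect φ ψ (mem_trivSet.mp hφ) hψ hφ1 hψ1
  have hsum : ((Nat.card W₁ : ℂ) • (fun _ => (1 : ℂ)) - muSum mu 1
      - ((Nat.card W₁ : ℂ) * δ) • mu ψ + δ • muSum mu ψ : ↥M → ℂ) =
      ∑ φ ∈ T, ((fun _ => (1 : ℂ)) - mu φ - δ • mu ψ + δ • mu (φ * ψ)) := by
    funext m
    unfold muSum
    have e2 : ∀ c : WChar W₁ W₂, c * 1 = c := fun c => mul_one c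
    simp only [Pi.add_apply, Pi.sub_apply, Pi.smul_apply, Finset.sum_apply, smul_eq_mul,
      Finset.sum_add_distrib, Finset.sum_sub_distrib, Finset.sum_const, ← hT, hTcard,
      ← Finset.mul_sum, nsmul_eq_mul, mul_one, e2]
    ring
  show dadeLin (litA0 M) M (supportR M) _ = _
  rw [hsum, map_sum, Finset.sum_congr rfl hrect]
  funext g
  unfold etaSum
  have e2 : ∀ c : WChar W₁ W₂, c * 1 = c := fun c => mul_one c
  simp only [Pi.add_apply, Pi.sub_apply, Pi.smul_apply, Finset.sum_apply, smul_eq_mul,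
    Finset.sum_add_distrib, Finset.sum_sub_distrib, Finset.sum_const, ← hT, hTcard,
    nsmul_eq_mul, mul_one, e2]

/-- MODULE [F7] -/
theorem f7 (F : Frame M W₁ U W₂ mu dl η d δ n)
    (ζ : ↥M → ℂ) (hζ : ζ ∈ Cfsg.Agent.Lib.Helper64.PF11.calS M)
    (hζ1 : ζ 1 = (Nat.card W₁ : ℂ))
    (ψ : WChar W₁ W₂) (hψ : TrivOn W₁ ψ) (hψ1 : ψ ≠ 1) :
    ∃ R : G → ℂ, IsGeneralizedCharacter G R ∧
      (Nat.card W₁ : ℂ) • R = (d : ℂ) • etaSum η 1
        - (Cfsg.Agent.Lib.Helper64.PF11.tauM M ((d : ℂ) • muSum mu 1 - muSum mu ψ)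
            + δ • etaSum η ψ)
        - ((d : ℂ) - δ) •
            (etaSum η 1 - Cfsg.Agent.Lib.Helper64.PF11.tauM M (muSum mu 1 - ζ)) := by
  classical
  have IF := Cfsg.Agent.Lib.Helper26.irrFacts ↥M
  have IG := Cfsg.Agent.Lib.Helper26.irrFacts G
  have hδ2 : δ * δ = 1 := by
    rcases F.hδ with h | h <;> rw [h] <;> ring
  have hζchar : IsCharacter ↥M ζ := calS_isCharacter F ζ hζ
  have hone : IsGeneralizedCharacter ↥M (fun _ => (1 : ℂ)) :=
    Cfsg.Agent.Lib.Helper26.isGeneralizedCharacter_of_isCharacter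
      (Cfsg.Agent.Lib.Helper78.IsIrrCharacter.isCharacter Cfsg.Agent.Lib.Helper78.isIrrCharacter_one)
  have honeG : IsGeneralizedCharacter G (fun _ => (1 : ℂ)) :=
    Cfsg.Agent.Lib.Helper26.isGeneralizedCharacter_of_isCharacter
      (Cfsg.Agent.Lib.Helper78.IsIrrCharacter.isCharacter Cfsg.Agent.Lib.Helper78.isIrrCharacter_one)
  have hδsmul : ∀ {X : Type u} [Group X] [Fintype X] (f : X → ℂ),
      IsGeneralizedCharacter X f → IsGeneralizedCharacter X (δ • f) := by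
    intro X _ _ f hf
    rcases F.hδ with h | h
    · rw [h, one_smul]
      exact hf
    · rw [h, neg_one_smul]
      exact Cfsg.Agent.Lib.Helper26.gen_neg hf
  -- the function `α`
  set α : ↥M → ℂ := mu ψ - δ • (fun _ => (1 : ℂ)) - (n : ℂ) • ζ with hα
  have hαgen : IsGeneralizedCharacter ↥M α := by
    apply IF.gen_sub
    · apply IF.gen_sub
      · exact Cfsg.Agent.Lib.Helper26.isGeneralizedCharacter_of_isCharacter
          (Cfsg.Agent.Lib.Helper78.IsIrrCharacter.isCharacter (F.md.irr ψ))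
      · exact hδsmul _ hone
    · rw [Int.cast_smul_eq_zsmul]
      exact IF.gen_zsmul n (Cfsg.Agent.Lib.Helper26.isGeneralizedCharacter_of_isCharacter hζchar)
  have hαcf : IsClassFunction ↥M α := Cfsg.Agent.Lib.Helper25.dgen_isClassFunction hαgen
  have hα1 : α 1 = 0 := by
    rw [hα]
    simp only [Pi.sub_apply, Pi.smul_apply, smul_eq_mul, mul_one]
    rw [F.deg_psi ψ hψ hψ1, hζ1, ← F.hdn]
    ring
  have hαvan : ∀ x : ↥M, (x : G) ∉ litA0 M → α x = 0 := by
    intro x hx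
    by_cases hxK : (x : G) ∈ ⁅M, M⁆
    · have hx1 : (x : G) = 1 := by
        by_contra hne
        apply hx
        apply Set.mem_union_left
        rw [F.hA]
        exact ⟨hxK, hne⟩
      have : x = 1 := Subtype.ext hx1
      rw [this, hα1]
    · obtain ⟨y, hy, hyW, hyW₂⟩ := F.cover (x : G) x.2 hxK
      have hyW₁ : y * (x : G) * y⁻¹ ∈ W₁ := by
        by_contra hnot
        apply hx
        have := (F.hA0 _ hyW hnot hyW₂ y⁻¹ (M.inv_mem hy)).1
        have e : y⁻¹ * (y * (x : G) * y⁻¹) * y⁻¹⁻¹ = (x : G) := by group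
        rwa [e] at this
      set w : ↥M := ⟨y, hy⟩ * x * ⟨y, hy⟩⁻¹ with hw
      have hwval : (w : G) = y * (x : G) * y⁻¹ := rfl
      have hαw : α x = α w := (hαcf x ⟨y, hy⟩).symm
      rw [hαw, hα]
      simp only [Pi.sub_apply, Pi.smul_apply, smul_eq_mul, mul_one]
      have h1 := F.md.val ψ w (by rw [hwval]; exact hyW) (by rw [hwval]; exact hyW₂)
      rw [h1, F.dl_psi ψ hψ hψ1, hψ ⟨(w : G), by rw [hwval]; exact hyW⟩ (by rw [hwval]; exact hyW₁)]
      have hwK : (w : G) ∉ ⁅M, M⁆ := by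
        intro hmem
        have : (w : G) ∈ (⁅M, M⁆ : Subgroup G) ⊓ W₁ := ⟨hmem, by rw [hwval]; exact hyW₁⟩
        rw [F.hP.W₁_compl.2.2.1, Subgroup.mem_bot] at this
        apply hyW₂
        rw [← hwval, this]
        exact W₂.one_mem
      rw [Cfsg.Agent.Lib.Helper1.PFCycPar.calS_vanish ζ hζ w hwK]
      simp
  have hταgen : IsGeneralizedCharacter G (Cfsg.Agent.Lib.Helper64.PF11.tauM M α) :=
    Cfsg.Agent.S1501.result (litA0 M) M (supportR M) F.hD α hαgen hαvan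
  have hηψ : IsGeneralizedCharacter G (η ψ) := by
    rcases F.hη.irr_or_neg ψ with h | h
    · exact Cfsg.Agent.Lib.Helper26.isGeneralizedCharacter_of_isCharacter
        (Cfsg.Agent.Lib.Helper78.IsIrrCharacter.isCharacter h)
    · have := Cfsg.Agent.Lib.Helper26.gen_neg
        (Cfsg.Agent.Lib.Helper26.isGeneralizedCharacter_of_isCharacter
          (Cfsg.Agent.Lib.Helper78.IsIrrCharacter.isCharacter h))
      rwa [neg_neg] at this
  refine ⟨Cfsg.Agent.Lib.Helper64.PF11.tauM M α + δ • ((fun _ => (1 : ℂ)) - η ψ),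
    IG.gen_add hταgen (hδsmul _ (IG.gen_sub honeG hηψ)), ?_⟩
  -- the function identity on `M`
  have hid : (Nat.card W₁ : ℂ) • α =
      -δ • ((Nat.card W₁ : ℂ) • (fun _ => (1 : ℂ)) - muSum mu 1
          - ((Nat.card W₁ : ℂ) * δ) • mu ψ + δ • muSum mu ψ)
        - ((d : ℂ) • muSum mu 1 - muSum mu ψ) + ((d : ℂ) - δ) • (muSum mu 1 - ζ) := by
    funext m
    rw [hα]
    simp only [Pi.add_apply, Pi.sub_apply, Pi.smul_apply, smul_eq_mul, mul_one]
    have hdn := F.hdn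
    linear_combination (-((Nat.card W₁ : ℂ) * mu ψ m - muSum mu ψ m)) * hδ2 + ζ m * hdn
  have hlin : ∀ (a S X Y : ↥M → ℂ),
      (Nat.card W₁ : ℂ) • a = -δ • S - X + ((d : ℂ) - δ) • Y →
      (Nat.card W₁ : ℂ) • dadeIsometry (litA0 M) M (supportR M) a =
        -δ • dadeIsometry (litA0 M) M (supportR M) S - dadeIsometry (litA0 M) M (supportR M) X
          + ((d : ℂ) - δ) • dadeIsometry (litA0 M) M (supportR M) Y := by
    intro a S X Y h
    have := congrArg (dadeLin (litA0 M) M (supportR M)) h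
    simpa only [map_add, map_sub, map_smul, dadeLin_apply] using this
  have hτid := hlin _ _ _ _ hid
  have hrect := tau_rect_sum F ψ hψ hψ1
  change dadeIsometry (litA0 M) M (supportR M) _ = _ at hrect
  rw [hrect] at hτid
  funext g
  have hg := congrFun hτid g
  simp only [Pi.add_apply, Pi.sub_apply, Pi.smul_apply, smul_eq_mul, mul_one]
    at hg ⊢
  linear_combination hg

end Cfsg.Agent.Lib.Helper1.PF11F7
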