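import Mathlib
import Cfsg.Agent.Lib.Helper64.PFElevenStruct
import Cfsg.Agent.Lib.Helper77.Linear
import Cfsg.Agent.Lib.Helper75.IndNormal
import Cfsg.Agent.Lib.Helper51.PFCycMuInd
import Cfsg.Agent.Lib.Helper26.IrrFacts
import Cfsg.Agent.Lib.Helper74.SibleySetup
import Cfsg.Agent.Lib.Helper23.TypeP

/-!
# Peterfalvi section 11 end game, MODULE [X-COUNT] (helper64 sheet #2)

`X := {Ind_K^M λ : 1 ≠ λ linear character of K = M'}` is a finite subset of `calS M` of members of
degree `q = |W₁|` with `|K : K'| ≤ q |X| + 1`.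

* `index_commutator_subgroupOf` : `|K : K'|` for `K = A.subgroupOf B` is `⁅A,A⁆.relIndex A`.
* `exists_X_abstract` : the abstract count for `L = K W`, `K ⊴ L`.
* `exists_X` : the module statement.
-/

set_option autoImplicit false

namespace Cfsg.Agent.Lib.Helper1.PF11X

open Cfsg Cfsg.Agent.Lib.Helper24.PFCyc Cfsg.Agent.Lib.Helper4.PF Cfsg.Agent.Lib.Helper58.PF9

universe u

/-- `|K : K'|` for `K = A.subgroupOf B` (`A ≤ B`) is `|A : A'|`. -/
theorem index_commutator_subgroupOf {G : Type*} [Group G] [Finite G] (A B : Subgroup G)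
    (hAB : A ≤ B) : (commutator ↥(A.subgroupOf B)).index = (⁅A, A⁆).relIndex A := by
  have h1 : Nat.card ↥(A.subgroupOf B) = Nat.card ↥A :=
    Nat.card_congr (Subgroup.subgroupOfEquivOfLe hAB).toEquiv
  have h2 : Nat.card ↥(commutator ↥(A.subgroupOf B)) = Nat.card ↥(⁅A, A⁆ : Subgroup G) := by
    have e1 : ((commutator ↥(A.subgroupOf B)).map (A.subgroupOf B).subtype).map B.subtype =
        ⁅A, A⁆ := by
      rw [commutator_def, Subgroup.map_commutator, ← MonoidHom.range_eq_map,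
        Subgroup.range_subtype, Subgroup.map_commutator, Subgroup.map_subgroupOf_eq_of_le hAB]
    rw [← e1, Subgroup.card_map_of_injective B.subtype_injective,
      Subgroup.card_map_of_injective (A.subgroupOf B).subtype_injective]
  have h3 := Subgroup.index_mul_card (commutator ↥(A.subgroupOf B))
  have h4 := Cfsg.Agent.Lib.Helper23.card_mul_relIndex_of_le
    (Subgroup.commutator_le_self A : ⁅A, A⁆ ≤ A)
  rw [h1, h2] at h3
  have hpos : 0 < Nat.card ↥(⁅A, A⁆ : Subgroup G) := Nat.card_pos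
  apply Nat.eq_of_mul_eq_mul_right hpos
  rw [h3, mul_comm, h4]

section Abstract

variable {L : Type u} [Group L] [Fintype L]

open Classical in
/-- The abstract count: `L = K W`, `K ⊴ L`. -/
theorem exists_X_abstract (K W : Subgroup L) [hK : K.Normal]
    (hKW : ∀ x : L, ∃ k ∈ K, ∃ w ∈ W, x = k * w) :
    ∃ X : Finset (L → ℂ), (∀ ζ ∈ X, ζ ∈ inducedIrrAbove K ⊥ ∧ ζ 1 = (K.index : ℂ)) ∧
      (commutator ↥K).index ≤ Nat.card ↥W * X.card + 1 := by
  let Lin := {χ : IrrCharacter ↥K // (χ : ↥K → ℂ) 1 = 1}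
  have : Fintype Lin := Fintype.ofFinite Lin
  let f : Lin → (L → ℂ) := fun χ => indFun K (χ.1 : ↥K → ℂ)
  let S : Finset Lin := Finset.univ.filter (fun χ => (χ.1 : ↥K → ℂ) ≠ fun _ => 1)
  refine ⟨S.image f, ?_, ?_⟩
  · intro ζ hζ
    obtain ⟨χ, hχS, rfl⟩ := Finset.mem_image.mp hζ
    have hne : (χ.1 : ↥K → ℂ) ≠ fun _ => 1 := (Finset.mem_filter.mp hχS).2
    refine ⟨(Cfsg.Agent.Lib.Helper74.mem_inducedIrrAbove_bot_iff K).mpr
      ⟨(χ.1 : ↥K → ℂ), χ.1.2, hne, rfl⟩, ?_⟩
    show indFun K (χ.1 : ↥K → ℂ) 1 = (K.index : ℂ)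
    rw [Cfsg.Agent.Lib.Helper75.indFun_one, χ.2, mul_one]
  · -- the count
    have hcard : Fintype.card Lin = (commutator ↥K).index := by
      rw [← Nat.card_eq_fintype_card]
      exact Cfsg.Agent.Lib.Helper77.card_linear_characters
    have hsplit : Fintype.card Lin = S.card +
        (Finset.univ.filter (fun χ : Lin => ¬ (χ.1 : ↥K → ℂ) ≠ fun _ => 1)).card := by
      rw [← Finset.card_univ]
      exact (Finset.card_filter_add_card_filter_not _).symm
    have hone : (Finset.univ.filter (fun χ : Lin => ¬ (χ.1 : ↥K → ℂ) ≠ fun _ => 1)).card ≤ 1 := by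
      rw [Finset.card_le_one]
      intro a ha b hb
      have h1 := (Finset.mem_filter.mp ha).2
      have h2 := (Finset.mem_filter.mp hb).2
      rw [not_not] at h1 h2
      apply Subtype.ext
      apply Subtype.ext
      rw [h1, h2]
    have hfib : S.card ≤ Nat.card ↥W * (S.image f).card := by
      apply Finset.card_le_mul_card_image
      intro a ha
      obtain ⟨χ₀, -, rfl⟩ := Finset.mem_image.mp ha
      -- the fibre of `f χ₀`
      let v : Lin → (↥K → ℂ) := fun χ => (χ.1 : ↥K → ℂ)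
      have hv : Function.Injective v := by
        intro a b hab
        apply Subtype.ext
        apply Subtype.ext
        exact hab
      have hsub : (S.filter (fun χ => f χ = f χ₀)).image v ⊆
          (Finset.univ : Finset ↥W).image
            (fun w : ↥W => Cfsg.Agent.Lib.Helper75.conjFun K (w : L) (χ₀.1 : ↥K → ℂ)) := by
        intro θ hθ
        obtain ⟨χ, hχ, rfl⟩ := Finset.mem_image.mp hθ
        have hfeq : f χ = f χ₀ := (Finset.mem_filter.mp hχ).2
        -- some conjugate of `χ₀` is `χ`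
        have hex : ∃ x : L, Cfsg.Agent.Lib.Helper75.conjFun K x (χ₀.1 : ↥K → ℂ) =
            (χ.1 : ↥K → ℂ) := by
          by_contra hno
          push Not at hno
          have h0 := Cfsg.Agent.Lib.Helper75.classInner_indFun_indFun_eq_zero K χ₀.1.2 χ.1.2 hno
          have h1 : classInner (f χ) (f χ) = 0 := by
            nth_rewrite 2 [hfeq]
            exact h0
          have h2 := Cfsg.Agent.Lib.Helper26.classInner_self_eq_zero h1
          have h3 : f χ 1 = (K.index : ℂ) := by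
            show indFun K (χ.1 : ↥K → ℂ) 1 = (K.index : ℂ)
            rw [Cfsg.Agent.Lib.Helper75.indFun_one, χ.2, mul_one]
          rw [h2] at h3
          have hidx : (K.index : ℂ) ≠ 0 := by
            have : K.index ≠ 0 := Subgroup.index_ne_zero_of_finite
            exact_mod_cast this
          exact hidx h3.symm
        obtain ⟨x, hx⟩ := hex
        obtain ⟨k, hk, w, hw, rfl⟩ := hKW x
        rw [Cfsg.Agent.Lib.Helper75.conjFun_mul] at hx
        have hcl : IsClassFunction ↥K (χ₀.1 : ↥K → ℂ) :=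
          Cfsg.Agent.Lib.Helper78.isClassFunction_irr χ₀.1
        have hk' := Cfsg.Agent.Lib.Helper75.conjFun_of_mem K hcl ⟨k, hk⟩
        rw [hk'] at hx
        exact Finset.mem_image.mpr ⟨⟨w, hw⟩, Finset.mem_univ _, hx⟩
      calc (S.filter (fun χ => f χ = f χ₀)).card
          = ((S.filter (fun χ => f χ = f χ₀)).image v).card :=
            (Finset.card_image_of_injective _ hv).symm
        _ ≤ ((Finset.univ : Finset ↥W).image
            (fun w : ↥W => Cfsg.Agent.Lib.Helper75.conjFun K (w : L) (χ₀.1 : ↥K → ℂ))).card :=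
            Finset.card_le_card hsub
        _ ≤ (Finset.univ : Finset ↥W).card := Finset.card_image_le
        _ = Nat.card ↥W := by rw [Finset.card_univ, Nat.card_eq_fintype_card]
    rw [← hcard, hsplit]
    omega

end Abstract

variable {G : Type u} [Group G] [Fintype G] {M W₁ U W₂ : Subgroup G} [Fintype M]
  {mu : WChar W₁ W₂ → (↥M → ℂ)} {dl : WChar W₁ W₂ → ℂ} {η : WChar W₁ W₂ → (G → ℂ)}
  {d : ℕ} {δ : ℂ} {n : ℤ}

/-- MODULE [X-COUNT] -/
theorem exists_X (F : Cfsg.Agent.Lib.Helper64.PF11.Frame M W₁ U W₂ mu dl η d δ n) :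
    ∃ X : Finset (↥M → ℂ), (∀ ζ ∈ X, ζ ∈ Cfsg.Agent.Lib.Helper64.PF11.calS M ∧
        ζ 1 = (Nat.card W₁ : ℂ)) ∧
      (⁅⁅M, M⁆, ⁅M, M⁆⁆).relIndex ⁅M, M⁆ ≤ Nat.card W₁ * X.card + 1 := by
  have hKn : (Cfsg.Agent.Lib.Helper64.PF11.derK M).Normal :=
    Cfsg.Agent.Lib.Helper51.PFCyc.KM_normal M
  have hcompl := F.hP.W₁_compl
  have hKW : ∀ x : ↥M, ∃ k ∈ Cfsg.Agent.Lib.Helper64.PF11.derK M,
      ∃ w ∈ W₁.subgroupOf M, x = k * w := by
    intro x
    obtain ⟨a, ha, b, hb, hab⟩ := hcompl.2.2.2 (x : G) x.2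
    refine ⟨⟨a, hcompl.1 ha⟩, ?_, ⟨b, hcompl.2.1 hb⟩, ?_, ?_⟩
    · exact Subgroup.mem_subgroupOf.mpr ha
    · exact Subgroup.mem_subgroupOf.mpr hb
    · exact Subtype.ext hab
  obtain ⟨X, hX1, hX2⟩ := exists_X_abstract (Cfsg.Agent.Lib.Helper64.PF11.derK M)
    (W₁.subgroupOf M) hKW
  have hidx : (Cfsg.Agent.Lib.Helper64.PF11.derK M).index = Nat.card W₁ :=
    Cfsg.Agent.Lib.Helper51.PFCyc.KM_index F.hP
  have hW : Nat.card ↥(W₁.subgroupOf M) = Nat.card ↥W₁ :=
    Nat.card_congr (Subgroup.subgroupOfEquivOfLe hcompl.2.1).toEquiv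
  refine ⟨X, ?_, ?_⟩
  · intro ζ hζ
    obtain ⟨h1, h2⟩ := hX1 ζ hζ
    refine ⟨h1, ?_⟩
    rw [h2, hidx]
  · have h3 := index_commutator_subgroupOf (⁅M, M⁆ : Subgroup G) M
      (Subgroup.commutator_le_self M)
    rw [← h3, ← hW]
    exact hX2

end Cfsg.Agent.Lib.Helper1.PF11X
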