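import Mathlib
import Cfsg.Agent.Lib.Helper75.QBaer.Defs

/-!
# S4125-[LASTABS] (helper1): a group with a self-centralizing normal abelian `q`-subgroup of
`q'`-index all of whose elements have `p`-power class size is solvable (given Theorem X).
-/

set_option autoImplicit false

namespace Cfsg.Agent.Lib.Helper1.QBaer

open Cfsg.Agent.Lib.Helper75.QBaer

universe u

/-- generic form: `f : Γ →* MulAut V` with solvable kernel, whose image has order prime to `q` and
`p`-power orbits on the `q`-group `V` -/
theorem solvable_of_hom_mulAut {Γ V : Type u} [Group Γ] [Finite Γ] [CommGroup V] [Finite V]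
    (q p : ℕ) (hq : q.Prime) (hp : p.Prime) (hpq : p ≠ q)
    (hX : ∀ {X V : Type u} [Group X] [Finite X] [CommGroup V] [Finite V]
      [MulDistribMulAction X V] (q p : ℕ), q.Prime → p.Prime → p ≠ q → IsPGroup q V →
      (Nat.card X).Coprime q → OrbPow p X V → SolvMod X V)
    (f : Γ →* MulAut V) (hV : IsPGroup q V) (hker : Group.IsSolvable f.ker)
    (hcop : (Nat.card f.range).Coprime q)
    (horb : ∀ v : V, ∃ k : ℕ,
      ((MulAction.stabilizer f.range v).comap f.rangeRestrict).index = p ^ k) :
    Group.IsSolvable Γ := by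
  have hsurj : Function.Surjective f.rangeRestrict := f.rangeRestrict_surjective
  haveI : Finite f.range := Finite.of_surjective _ hsurj
  have horbY : OrbPow p f.range V := by
    intro v
    obtain ⟨k, hk⟩ := horb v
    refine ⟨k, ?_⟩
    rw [Subgroup.index_comap_of_surjective _ hsurj] at hk
    rw [← hk, MulAction.index_stabilizer, Nat.card_coe_set_eq]
  obtain ⟨n, hn⟩ := hX q p hq hp hpq hV hcop horbY
  haveI hYs : Group.IsSolvable f.range := by
    rw [Group.isSolvable_def]
    refine ⟨n, ?_⟩
    rw [eq_bot_iff]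
    intro y hy
    rw [Subgroup.mem_bot]
    apply Subtype.ext
    ext v
    exact hn y hy v
  haveI := hker
  refine Group.isSolvable_of_ker_le_range f.ker.subtype f.rangeRestrict ?_
  rw [MonoidHom.ker_rangeRestrict, Subgroup.range_subtype]

/-- S4125-[LASTABS], with Theorem X as a hypothesis -/
theorem solvable_of_normal_abelian_sylow_of {Γ : Type u} [Group Γ] [Finite Γ] (q p : ℕ)
    (hq : q.Prime) (hp : p.Prime) (hpq : p ≠ q)
    (hX : ∀ {X V : Type u} [Group X] [Finite X] [CommGroup V] [Finite V]
      [MulDistribMulAction X V] (q p : ℕ), q.Prime → p.Prime → p ≠ q → IsPGroup q V →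
      (Nat.card X).Coprime q → OrbPow p X V → SolvMod X V)
    (A : Subgroup Γ) [A.Normal]
    (hAc : IsMulCommutative A) (hAq : IsPGroup q A) (hAi : A.index.Coprime q)
    (hcent : Subgroup.centralizer (A : Set Γ) ≤ A)
    (hcl : ∀ v ∈ A, ∃ k : ℕ, (Subgroup.centralizer ({v} : Set Γ)).index = p ^ k) :
    Group.IsSolvable Γ := by
  letI : CommGroup ↥A := { (inferInstance : Group ↥A) with mul_comm := fun a b => mul_comm' a b }
  set f : Γ →* MulAut ↥A := MulAut.conjNormal with hf
  -- the kernel of `f` is `A`
  have hkerle : f.ker ≤ A := by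
    intro g hg
    apply hcent
    rw [Subgroup.mem_centralizer_iff]
    intro a ha
    rw [MonoidHom.mem_ker] at hg
    have h1 : (f g) ⟨a, ha⟩ = ⟨a, ha⟩ := by rw [hg]; rfl
    have h2 : ((f g) ⟨a, ha⟩ : Γ) = g * a * g⁻¹ := MulAut.conjNormal_apply g ⟨a, ha⟩
    rw [h1] at h2
    have h3 : a = g * a * g⁻¹ := h2
    calc a * g = g * a * g⁻¹ * g := by rw [← h3]
      _ = g * a := by group
  have hlek : A ≤ f.ker := by
    intro a ha
    rw [MonoidHom.mem_ker]
    ext b
    rw [MulAut.conjNormal_apply]
    have : (⟨a, ha⟩ : ↥A) * b = b * ⟨a, ha⟩ := mul_comm' _ _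
    have h2 : a * (b : Γ) = (b : Γ) * a := congrArg Subtype.val this
    show a * (b : Γ) * a⁻¹ = ((1 : MulAut ↥A) b : Γ)
    rw [h2]; simp
  have hkerA : f.ker = A := le_antisymm hkerle hlek
  apply solvable_of_hom_mulAut q p hq hp hpq hX f hAq
  · -- the kernel is solvable
    have : Group.IsSolvable ↥A := Group.isSolvable_of_comm (fun a b => mul_comm' a b)
    rw [hkerA]; exact this
  · rw [← Subgroup.index_ker, hkerA]; exact hAi
  · intro v
    obtain ⟨k, hk⟩ := hcl (v : Γ) v.2
    refine ⟨k, ?_⟩
    rw [← hk]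
    congr 1
    ext g
    rw [Subgroup.mem_comap, MulAction.mem_stabilizer_iff, Subgroup.mem_centralizer_iff]
    have hact : (f.rangeRestrict g) • v = (f g) v := rfl
    rw [hact]
    constructor
    · intro h z hz
      rw [Set.mem_singleton_iff] at hz
      subst hz
      have h2 : ((f g) v : Γ) = g * v * g⁻¹ := MulAut.conjNormal_apply g v
      rw [h] at h2
      calc (v : Γ) * g = g * v * g⁻¹ * g := by rw [← h2]
        _ = g * v := by group
    · intro h
      apply Subtype.ext
      rw [MulAut.conjNormal_apply]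
      have := h (v : Γ) rfl
      rw [← this]; group

end Cfsg.Agent.Lib.Helper1.QBaer
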