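import Mathlib
import Cfsg.Prelude.Def_Solvable
import Cfsg.Prelude.Def_CaseTheorems
import Cfsg.Agent.Lib.Helper75.QBaer.Defs
import Cfsg.Agent.Lib.Helper76.PCore
import Cfsg.Agent.Lib.Helper1.QBaerLastAbs

/-!
# S4125-[LASTQ] (helper1): `G ⧸ O_{q'}(G)` is solvable when all `q`-elements have `p`-power class
size (`p ≠ q`); with the statements of [PNQ] and [THMX] as hypotheses.
-/

set_option autoImplicit false

namespace Cfsg.Agent.Lib.Helper1.QBaer

open Cfsg Cfsg.Agent.Lib.Helper75.QBaer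

universe u

/-- S4125-[LASTQ], with [PNQ] (for one Sylow `q`-subgroup) and [THMX] as hypotheses -/
theorem solvable_quotient_pPrimeCore_of {G : Type u} [Group G] [Finite G] (q p : ℕ)
    [Fact q.Prime] [Fact p.Prime] (hpq : p ≠ q)
    (hX : ∀ {X V : Type u} [Group X] [Finite X] [CommGroup V] [Finite V]
      [MulDistribMulAction X V] (q p : ℕ), q.Prime → p.Prime → p ≠ q → IsPGroup q V →
      (Nat.card X).Coprime q → OrbPow p X V → SolvMod X V)
    (Q : Sylow q G)
    (hPNQ : IsMulCommutative (Q : Subgroup G) ∧ (Cfsg.pCore p G ⊔ (Q : Subgroup G)).Normal)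
    (h : ∀ x : G, (∃ k : ℕ, orderOf x = q ^ k) →
      ∃ a : ℕ, (Subgroup.centralizer ({x} : Set G)).index = p ^ a) :
    Group.IsSolvable (G ⧸ Cfsg.pPrimeCore q G) := by
  have hq : q.Prime := Fact.out
  have hp : p.Prime := Fact.out
  obtain ⟨hQc, hQn⟩ := hPNQ
  set K := Cfsg.pPrimeCore q G with hK
  set π := QuotientGroup.mk' K with hπ
  have hsurj : Function.Surjective π := QuotientGroup.mk'_surjective K
  -- `O_p(G) ≤ K`
  have hpK : Cfsg.pCore p G ≤ K := by
    apply Cfsg.Agent.Lib.Helper76.le_pPrimeCore q _ inferInstance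
    obtain ⟨k, hk⟩ := IsPGroup.iff_card.mp (Cfsg.Agent.Lib.Helper76.pCore_isPGroup (G := G) p)
    rw [hk]
    exact Nat.Coprime.pow_left k ((Nat.coprime_primes hp hq).mpr hpq)
  -- `K ⊔ Q` is normal
  have hKQ : (K ⊔ (Q : Subgroup G)).Normal := by
    have e : K ⊔ (Q : Subgroup G) = K ⊔ (Cfsg.pCore p G ⊔ (Q : Subgroup G)) := by
      rw [← sup_assoc, sup_eq_left.mpr hpK]
    rw [e]
    haveI := hQn
    exact Subgroup.sup_normal _ _
  -- the image of `Q`
  set A : Subgroup (G ⧸ K) := (Q : Subgroup G).map π with hA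
  have hAmap : A = (K ⊔ (Q : Subgroup G)).map π := by
    rw [Subgroup.map_sup]
    have : K.map π = ⊥ := by
      rw [eq_bot_iff]
      rintro _ ⟨k, hk, rfl⟩
      rw [Subgroup.mem_bot]
      exact (QuotientGroup.eq_one_iff k).mpr hk
    rw [this, bot_sup_eq]
  haveI hAn : A.Normal := by
    rw [hAmap]; exact hKQ.map π hsurj
  haveI := hQc
  have hAc : IsMulCommutative A := Subgroup.map_isMulCommutative _ π
  have hAq : IsPGroup q A := IsPGroup.map Q.2 π
  have hAi : A.index.Coprime q := by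
    have h1 : A.index ∣ (Q : Subgroup G).index := Subgroup.index_map_dvd _ hsurj
    have h2 : ¬ q ∣ (Q : Subgroup G).index := Q.not_dvd_index
    have h3 : ((Q : Subgroup G).index).Coprime q :=
      ((Nat.Prime.coprime_iff_not_dvd hq).mpr h2).symm
    exact Nat.Coprime.coprime_dvd_left h1 h3
  -- the centralizer of `A`
  have hcent : Subgroup.centralizer (A : Set (G ⧸ K)) ≤ A := by
    apply Cfsg.Agent.Lib.Helper76.le_of_central_coprime_relIndex q
      (fun N hN hc => Cfsg.Agent.Lib.Helper76.quotient_pPrimeCore_core_trivial q N hN hc)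
      (Subgroup.centralizer (A : Set (G ⧸ K))) A Subgroup.normal_centralizer
      (Subgroup.le_centralizer_iff_isMulCommutative.mpr hAc) hAn hAq
    · intro b hb a ha
      exact (Subgroup.mem_centralizer_iff.mp ha b hb).symm
    · have h1 := Subgroup.relIndex_mul_index
        (Subgroup.le_centralizer_iff_isMulCommutative.mpr hAc)
      exact Nat.Coprime.coprime_dvd_left (Dvd.intro _ h1) hAi
  -- class sizes
  have hcl : ∀ v ∈ A, ∃ k : ℕ, (Subgroup.centralizer ({v} : Set (G ⧸ K))).index = p ^ k := by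
    rintro _ ⟨x, hx, rfl⟩
    have hxo : ∃ k : ℕ, orderOf x = q ^ k := by
      obtain ⟨k, hk⟩ := Q.2 ⟨x, hx⟩
      have h1 : x ^ q ^ k = 1 := congrArg Subtype.val hk
      obtain ⟨j, -, hj⟩ := (Nat.dvd_prime_pow hq).mp (orderOf_dvd_of_pow_eq_one h1)
      exact ⟨j, hj⟩
    obtain ⟨a, ha⟩ := h x hxo
    have h1 : (Subgroup.centralizer ({x} : Set G)).map π ≤
        Subgroup.centralizer ({π x} : Set (G ⧸ K)) := by
      have := Subgroup.map_centralizer_le_centralizer_image ({x} : Set G) π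
      rwa [Set.image_singleton] at this
    have h2 : (Subgroup.centralizer ({π x} : Set (G ⧸ K))).index ∣ p ^ a := by
      rw [← ha]
      exact (Subgroup.index_dvd_of_le h1).trans (Subgroup.index_map_dvd _ hsurj)
    obtain ⟨j, -, hj⟩ := (Nat.dvd_prime_pow hp).mp h2
    exact ⟨j, hj⟩
  exact solvable_of_normal_abelian_sylow_of q p hq hp hpq hX A hAc hAq hAi hcent hcl

end Cfsg.Agent.Lib.Helper1.QBaer
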