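import Mathlib
import Cfsg.Agent.Lib.Helper75.QBaer.Defs

/-!
# S4125-[SUBQ] (helper1): actions on an invariant subgroup and on the quotient
-/

set_option autoImplicit false

namespace Cfsg.Agent.Lib.Helper1.QBaer

open Cfsg.Agent.Lib.Helper75.QBaer

section defs

variable {X V : Type*} [Group X] [CommGroup V] [MulDistribMulAction X V]

/-- the action on an invariant subgroup -/
@[reducible] def subAction (W : Subgroup V) (hW : ∀ g : X, ∀ w ∈ W, g • w ∈ W) :
    MulDistribMulAction X W where
  smul g w := ⟨g • (w : V), hW g w w.2⟩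
  one_smul w := Subtype.ext (one_smul X (w : V))
  mul_smul g h w := Subtype.ext (mul_smul g h (w : V))
  smul_mul g w w' := Subtype.ext (smul_mul' g (w : V) (w' : V))
  smul_one g := Subtype.ext (smul_one g)

theorem coe_smul (W : Subgroup V) (hW : ∀ g : X, ∀ w ∈ W, g • w ∈ W) (g : X) (w : W) :
    letI := subAction W hW
    ((g • w : W) : V) = g • (w : V) := rfl

/-- the map induced by `g` on the quotient by an invariant subgroup -/
def quotMap (W : Subgroup V) (hW : ∀ g : X, ∀ w ∈ W, g • w ∈ W) (g : X) : V ⧸ W →* V ⧸ W :=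
  QuotientGroup.map W W (MulDistribMulAction.toMonoidHom V g)
    (fun w hw => Subgroup.mem_comap.mpr (hW g w hw))

theorem quotMap_mk (W : Subgroup V) (hW : ∀ g : X, ∀ w ∈ W, g • w ∈ W) (g : X) (v : V) :
    quotMap W hW g (v : V ⧸ W) = ((g • v : V) : V ⧸ W) := rfl

/-- the action on the quotient by an invariant subgroup -/
@[reducible] def quotAction (W : Subgroup V) (hW : ∀ g : X, ∀ w ∈ W, g • w ∈ W) :
    MulDistribMulAction X (V ⧸ W) where
  smul g := quotMap W hW g
  one_smul := by
    intro b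
    induction b using QuotientGroup.induction_on with
    | H v =>
      show quotMap W hW 1 (v : V ⧸ W) = _
      rw [quotMap_mk, one_smul]
  mul_smul := by
    intro g h b
    induction b using QuotientGroup.induction_on with
    | H v =>
      show quotMap W hW (g * h) (v : V ⧸ W) = quotMap W hW g (quotMap W hW h (v : V ⧸ W))
      rw [quotMap_mk, quotMap_mk, quotMap_mk, mul_smul]
  smul_mul := by
    intro g a b
    exact map_mul (quotMap W hW g) a b
  smul_one := by
    intro g
    exact map_one (quotMap W hW g)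

theorem smul_mk (W : Subgroup V) (hW : ∀ g : X, ∀ w ∈ W, g • w ∈ W) (g : X) (v : V) :
    letI := quotAction W hW
    g • (v : V ⧸ W) = ((g • v : V) : V ⧸ W) := rfl

end defs

section orb

variable {X A B : Type*} [Group X] [CommGroup A] [CommGroup B] [MulDistribMulAction X A]
  [MulDistribMulAction X B]

/-- transfer of the orbit hypothesis along inclusions of stabilizers -/
theorem orbPow_of_stabilizer_le {p : ℕ} (hp : p.Prime) (h : OrbPow p X A)
    (hAB : ∀ b : B, ∃ a : A, MulAction.stabilizer X a ≤ MulAction.stabilizer X b) :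
    OrbPow p X B := by
  intro b
  obtain ⟨a, ha⟩ := hAB b
  obtain ⟨k, hk⟩ := index_stabilizer_of_orbPow h a
  have hdvd : (MulAction.stabilizer X b).index ∣ p ^ k := by
    rw [← hk]; exact Subgroup.index_dvd_of_le ha
  obtain ⟨j, -, hj⟩ := (Nat.dvd_prime_pow hp).mp hdvd
  refine ⟨j, ?_⟩
  rw [← hj, MulAction.index_stabilizer, Nat.card_coe_set_eq]

end orb

section main

variable {X V : Type*} [Group X] [CommGroup V] [MulDistribMulAction X V]

theorem orbPow_sub {p : ℕ} (hp : p.Prime) (h : OrbPow p X V) (W : Subgroup V)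
    (hW : ∀ g : X, ∀ w ∈ W, g • w ∈ W) :
    @OrbPow p X W _ _ (subAction W hW) := by
  letI := subAction W hW
  apply orbPow_of_stabilizer_le hp h
  intro w
  refine ⟨(w : V), ?_⟩
  intro g hg
  rw [MulAction.mem_stabilizer_iff] at hg ⊢
  exact Subtype.ext hg

theorem orbPow_quot {p : ℕ} (hp : p.Prime) (h : OrbPow p X V) (W : Subgroup V)
    (hW : ∀ g : X, ∀ w ∈ W, g • w ∈ W) :
    @OrbPow p X (V ⧸ W) _ _ (quotAction W hW) := by
  letI := quotAction W hW
  apply orbPow_of_stabilizer_le hp h
  intro b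
  obtain ⟨v, rfl⟩ := QuotientGroup.mk_surjective b
  refine ⟨v, ?_⟩
  intro g hg
  rw [MulAction.mem_stabilizer_iff] at hg ⊢
  show ((g • v : V) : V ⧸ W) = _
  rw [hg]

/-- an element acting trivially on `W` and on `V ⧸ W`, of order prime to `q`, acts trivially on
the `q`-group `V` -/
theorem smul_eq_of_sub_quot {q : ℕ} (hV : IsPGroup q V) [Finite X]
    (hX : (Nat.card X).Coprime q) (W : Subgroup V) (g : X)
    (hsub : ∀ w ∈ W, g • w = w) (hquot : ∀ v : V, v⁻¹ * g • v ∈ W) (v : V) : g • v = v := by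
  set w := v⁻¹ * g • v with hw
  have hgv : g • v = v * w := by rw [hw]; group
  have hpow : ∀ k : ℕ, g ^ k • v = v * w ^ k := by
    intro k
    induction k with
    | zero => simp
    | succ k ih =>
      rw [pow_succ', mul_smul, ih, smul_mul', smul_pow', hsub w (hquot v), hgv, pow_succ]
      group
  have h1 := hpow (orderOf g)
  rw [pow_orderOf_eq_one, one_smul] at h1
  have h2 : w ^ orderOf g = 1 := by
    have : v * w ^ orderOf g = v * 1 := by rw [mul_one]; exact h1.symm
    exact mul_left_cancel this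
  obtain ⟨j, hj⟩ := hV w
  have h3 : orderOf w ∣ orderOf g := orderOf_dvd_of_pow_eq_one h2
  have h4 : orderOf w ∣ q ^ j := orderOf_dvd_of_pow_eq_one hj
  have h5 : orderOf g ∣ Nat.card X := orderOf_dvd_natCard g
  have hcop : (orderOf g).Coprime (q ^ j) :=
    Nat.Coprime.pow_right _ (Nat.Coprime.coprime_dvd_left h5 hX)
  have h6 : orderOf w = 1 := Nat.eq_one_of_dvd_coprimes hcop h3 h4
  rw [orderOf_eq_one_iff] at h6
  rw [hgv, h6, mul_one]

theorem solvMod_of_sub_quot {q : ℕ} (hq : q.Prime) (hV : IsPGroup q V) [Finite X]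
    (hX : (Nat.card X).Coprime q) (W : Subgroup V) (hW : ∀ g : X, ∀ w ∈ W, g • w ∈ W)
    (h1 : @SolvMod X W _ _ (subAction W hW)) (h2 : @SolvMod X (V ⧸ W) _ _ (quotAction W hW)) :
    SolvMod X V := by
  obtain ⟨n₁, hn₁⟩ := h1
  obtain ⟨n₂, hn₂⟩ := h2
  refine ⟨max n₁ n₂, ?_⟩
  intro g hg v
  have hg1 : g ∈ derivedSeries X n₁ := derivedSeries_antitone X (le_max_left n₁ n₂) hg
  have hg2 : g ∈ derivedSeries X n₂ := derivedSeries_antitone X (le_max_right n₁ n₂) hg
  apply smul_eq_of_sub_quot hV hX W g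
  · intro w hw
    have := hn₁ g hg1 ⟨w, hw⟩
    exact congrArg Subtype.val this
  · intro v
    have := hn₂ g hg2 (v : V ⧸ W)
    have h3 : ((g • v : V) : V ⧸ W) = (v : V ⧸ W) := this
    rw [← QuotientGroup.eq]
    exact h3.symm

end main

end Cfsg.Agent.Lib.Helper1.QBaer
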