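import Mathlib
import Cfsg.Agent.Lib.Helper75.QBaer.Defs
import Cfsg.Agent.Lib.Helper1.QBaerSubQ

/-!
# S4125-[RED] (helper1): reduction of "Theorem X" (p = 2) to the core case
-/

set_option autoImplicit false

namespace Cfsg.Agent.Lib.Helper1.QBaer

open Cfsg.Agent.Lib.Helper75.QBaer

universe u

/-- a proper subgroup of a finite group has smaller order -/
theorem card_lt_of_ne_top {X : Type*} [Group X] [Finite X] (N : Subgroup X) (h : N ≠ ⊤) :
    Nat.card N < Nat.card X := by
  have h1 := N.card_mul_index
  have h2 : N.index ≠ 1 := fun h' => h (Subgroup.index_eq_one.mp h')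
  have h3 : N.index ≠ 0 := Subgroup.index_ne_zero_of_finite
  have h4 : 0 < Nat.card N := Nat.card_pos
  have h5 : 2 ≤ N.index := by omega
  nlinarith

/-- a nontrivial subgroup of a finite group has smaller index than the order -/
theorem index_lt_of_ne_bot {X : Type*} [Group X] [Finite X] (N : Subgroup X) (h : N ≠ ⊥) :
    N.index < Nat.card X := by
  have h1 := N.card_mul_index
  have h2 : Nat.card N ≠ 1 := fun h' => h (Subgroup.eq_bot_of_card_eq N h')
  have h3 : N.index ≠ 0 := Subgroup.index_ne_zero_of_finite
  have h4 : 0 < Nat.card N := Nat.card_pos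
  have h5 : 2 ≤ Nat.card N := by omega
  have h6 : 1 ≤ N.index := by omega
  calc N.index < 2 * N.index := by omega
    _ ≤ Nat.card N * N.index := Nat.mul_le_mul_right _ h5
    _ = Nat.card X := h1

/-- the derived series of `X` lies, one step later, in the image of the derived series of the
commutator subgroup -/
theorem derivedSeries_succ_le_map {X : Type*} [Group X] (n : ℕ) :
    derivedSeries X (n + 1) ≤
      (derivedSeries ↥(commutator X) n).map (commutator X).subtype := by
  induction n with
  | zero =>
    rw [derivedSeries_zero, ← MonoidHom.range_eq_map, Subgroup.range_subtype]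
    rw [derivedSeries_one]
  | succ n ih =>
    have e1 : derivedSeries X (n + 1 + 1) = ⁅derivedSeries X (n + 1), derivedSeries X (n + 1)⁆ :=
      derivedSeries_succ X (n + 1)
    have e2 : derivedSeries ↥(commutator X) (n + 1) =
        ⁅derivedSeries ↥(commutator X) n, derivedSeries ↥(commutator X) n⁆ :=
      derivedSeries_succ _ n
    rw [e1, e2, Subgroup.map_commutator]
    exact Subgroup.commutator_mono ih ih

/-- the induction -/
theorem solvMod_two_aux (q : ℕ) (hq : q.Prime) (hq2 : q ≠ 2)
    (hcore : ∀ (X V : Type u) [Group X] [Finite X] [CommGroup V] [Finite V]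
      [MulDistribMulAction X V], CoreHyp q X V → ∀ g : X, g = 1) :
    ∀ (n : ℕ) (X V : Type u) [Group X] [Finite X] [CommGroup V] [Finite V]
      [MulDistribMulAction X V], Nat.card V + Nat.card X = n → IsPGroup q V →
      (Nat.card X).Coprime q → OrbPow 2 X V → SolvMod X V := by
  intro n
  induction n using Nat.strong_induction_on with
  | _ n ih =>
  intro X V _ _ _ _ _ hn hV hX horb
  rcases Classical.em (∀ W : Subgroup V, (∀ g : X, ∀ w ∈ W, g • w ∈ W) → W = ⊥ ∨ W = ⊤) with
    hirr | hirr
  swap
  · -- (1) a proper invariant subgroup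
    push Not at hirr
    obtain ⟨W, hW, hWbot, hWtop⟩ := hirr
    have hlt1 : Nat.card W < Nat.card V := card_lt_of_ne_top W hWtop
    have hlt2 : Nat.card (V ⧸ W) < Nat.card V := by
      rw [← Subgroup.index_eq_card]; exact index_lt_of_ne_bot W hWbot
    have hVq : IsPGroup q (V ⧸ W) := hV.to_quotient W
    have s1 : @SolvMod X W _ _ (subAction W hW) := by
      letI := subAction W hW
      exact ih (Nat.card W + Nat.card X) (by omega) X W rfl (hV.to_subgroup W) hX
        (orbPow_sub Nat.prime_two horb W hW)
    have s2 : @SolvMod X (V ⧸ W) _ _ (quotAction W hW) := by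
      letI := quotAction W hW
      exact ih (Nat.card (V ⧸ W) + Nat.card X) (by omega) X (V ⧸ W) rfl hVq hX
        (orbPow_quot Nat.prime_two horb W hW)
    exact solvMod_of_sub_quot hq hV hX W hW s1 s2
  rcases Classical.em (∀ g : X, (∀ v : V, g • v = v) → g = 1) with hfaith | hfaith
  swap
  · -- (2) not faithful: pass to the image in `MulAut V`
    push Not at hfaith
    obtain ⟨g₀, hg₀, hg₀1⟩ := hfaith
    set φ : X →* MulAut V := MulDistribMulAction.toMulAut X V with hφ
    have hφv : ∀ (g : X) (v : V), (φ g) v = g • v := fun g v => rfl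
    have hsurj : Function.Surjective φ.rangeRestrict := φ.rangeRestrict_surjective
    have hker : φ.rangeRestrict.ker ≠ ⊥ := by
      intro hbot
      apply hg₀1
      have : g₀ ∈ φ.rangeRestrict.ker := by
        rw [MonoidHom.mem_ker]
        apply Subtype.ext
        show φ g₀ = 1
        ext v
        rw [hφv, hg₀ v]; rfl
      rw [hbot, Subgroup.mem_bot] at this
      exact this
    have hcardY : Nat.card φ.range < Nat.card X := by
      have h1 := Subgroup.card_eq_card_quotient_mul_card_subgroup φ.rangeRestrict.ker
      have h2 : Nat.card (X ⧸ φ.rangeRestrict.ker) = Nat.card φ.range :=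
        Nat.card_congr (QuotientGroup.quotientKerEquivOfSurjective _ hsurj).toEquiv
      have h3 : Nat.card φ.rangeRestrict.ker ≠ 1 :=
        fun h' => hker (Subgroup.eq_bot_of_card_eq _ h')
      have h4 : 0 < Nat.card φ.rangeRestrict.ker := Nat.card_pos
      have h5 : 0 < Nat.card φ.range := Nat.card_pos
      rw [h2] at h1
      have h6 : 2 ≤ Nat.card φ.rangeRestrict.ker := by omega
      nlinarith
    have hdvd : Nat.card φ.range ∣ Nat.card X := Subgroup.card_dvd_of_surjective _ hsurj
    have hYX : (Nat.card φ.range).Coprime q := Nat.Coprime.coprime_dvd_left hdvd hX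
    have hact : ∀ (g : X) (v : V), (φ.rangeRestrict g) • v = g • v := fun g v => rfl
    have horbY : OrbPow 2 φ.range V := by
      intro v
      obtain ⟨k, hk⟩ := horb v
      refine ⟨k, ?_⟩
      have hset : MulAction.orbit φ.range v = MulAction.orbit X v := by
        ext w
        simp only [MulAction.mem_orbit_iff]
        constructor
        · rintro ⟨y, rfl⟩
          obtain ⟨g, rfl⟩ := hsurj y
          exact ⟨g, (hact g v).symm⟩
        · rintro ⟨g, rfl⟩
          exact ⟨φ.rangeRestrict g, hact g v⟩
      rw [hset, hk]
    obtain ⟨m, hm⟩ := ih (Nat.card V + Nat.card φ.range) (by omega) φ.range V rfl hV hYX horbY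
    refine ⟨m, ?_⟩
    intro g hg v
    rw [← hact g v]
    apply hm
    exact map_derivedSeries_le_derivedSeries φ.rangeRestrict m (Subgroup.mem_map_of_mem _ hg)
  rcases Classical.em (commutator X = ⊤) with hperf | hperf
  swap
  · -- (3) not perfect: pass to the commutator subgroup
    have hlt : Nat.card (commutator X) < Nat.card X := card_lt_of_ne_top _ hperf
    have hcop : (Nat.card (commutator X)).Coprime q :=
      Nat.Coprime.coprime_dvd_left (Subgroup.card_subgroup_dvd_card _) hX
    have horbN : OrbPow 2 (commutator X) V := orbPow_of_normal Nat.prime_two horb (commutator X)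
    obtain ⟨m, hm⟩ := ih (Nat.card V + Nat.card (commutator X)) (by omega) (commutator X) V rfl hV
      hcop horbN
    refine ⟨m + 1, ?_⟩
    intro g hg v
    obtain ⟨g', hg', rfl⟩ := derivedSeries_succ_le_map m hg
    exact hm g' hg' v
  · -- (4) the core case
    have hc : CoreHyp q X V := ⟨hq, hq2, hV, hX, hfaith, horb, hirr, hperf⟩
    have hsub := hcore X V hc
    refine ⟨0, ?_⟩
    intro g _ v
    rw [hsub g, one_smul]

/-- S4125-[RED], with the core case as a hypothesis (stated as `∀ g, g = 1` rather than
`Subsingleton X`, which as a local hypothesis would be picked up by instance search) -/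
theorem solvMod_two_of {X V : Type u} [Group X] [Finite X] [CommGroup V] [Finite V]
    [MulDistribMulAction X V] (q : ℕ) (hq : q.Prime) (hq2 : q ≠ 2)
    (hcore : ∀ (X V : Type u) [Group X] [Finite X] [CommGroup V] [Finite V]
      [MulDistribMulAction X V], CoreHyp q X V → ∀ g : X, g = 1)
    (hV : IsPGroup q V)
    (hX : (Nat.card X).Coprime q) (horb : OrbPow 2 X V) : SolvMod X V :=
  solvMod_two_aux q hq hq2 hcore _ X V rfl hV hX horb

/-- S4125-[RED], with the core case as a hypothesis in the `Subsingleton` form of the sheet -/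
theorem solvMod_two_of' {X V : Type u} [Group X] [Finite X] [CommGroup V] [Finite V]
    [MulDistribMulAction X V] (q : ℕ) (hq : q.Prime) (hq2 : q ≠ 2)
    (hcore : ∀ (X V : Type u) [Group X] [Finite X] [CommGroup V] [Finite V]
      [MulDistribMulAction X V], CoreHyp q X V → Subsingleton X)
    (hV : IsPGroup q V)
    (hX : (Nat.card X).Coprime q) (horb : OrbPow 2 X V) : SolvMod X V :=
  solvMod_two_of q hq hq2
    (fun X V _ _ _ _ _ h g => @Subsingleton.elim _ (hcore X V h) g 1) hV hX horb

end Cfsg.Agent.Lib.Helper1.QBaer
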