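import Mathlib
import Cfsg.Prelude.Def_OddOrderLocal
import Cfsg.Agent.S0123
import Cfsg.Agent.Lib.Helper24.MetaOfHP

/-!
# S3888 module [R2-T2] (helper1): Huppert III.11.4

An odd `p`-group `G` with `|G : ℧₁(G)| ≤ p ^ 2` is metacyclic.
-/

set_option autoImplicit false

open scoped commutatorElement

namespace Cfsg.Agent.Lib.Helper1.R2T2

universe u

/-- the subgroup generated by the `p`-th powers -/
def agemo (p : ℕ) (G : Type*) [Group G] : Subgroup G :=
  Subgroup.closure {y : G | ∃ g : G, y = g ^ p}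

theorem agemo_quotient_index_le {G : Type*} [Group G] [Finite G] (p : ℕ) (N : Subgroup G)
    [N.Normal] : (agemo p (G ⧸ N)).index ≤ (agemo p G).index := by
  have h1 : (agemo p G).map (QuotientGroup.mk' N) ≤ agemo p (G ⧸ N) := by
    unfold agemo
    rw [MonoidHom.map_closure, Subgroup.closure_le]
    rintro _ ⟨y, ⟨g, rfl⟩, rfl⟩
    apply Subgroup.subset_closure
    exact ⟨QuotientGroup.mk' N g, by rw [map_pow]⟩
  have h2 := Subgroup.index_dvd_of_le h1
  have h3 := Subgroup.index_map_dvd (agemo p G) (QuotientGroup.mk'_surjective N)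
  exact Nat.le_of_dvd (Nat.pos_of_ne_zero Subgroup.index_ne_zero_of_finite) (h2.trans h3)

/-- the class-two case, via helper24's `metacyclic_of_commutator_le_central` -/
theorem metacyclic_of_class_two {G : Type u} [Group G] [Finite G] {p : ℕ} [hp : Fact p.Prime]
    (hp2 : p ≠ 2) (hG : IsPGroup p G) (h : (agemo p G).index ≤ p ^ 2)
    (N₀ : Subgroup G) (hN₀c : N₀ ≤ Subgroup.center G) (hN₀card : Nat.card N₀ = p)
    (hder : commutator G ≤ N₀) : Cfsg.IsMetacyclic G := by
  have hN₀exp : ∀ n ∈ N₀, n ^ p = 1 := by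
    intro n hn
    have h1 : (⟨n, hn⟩ : N₀) ^ Nat.card N₀ = 1 := pow_card_eq_one'
    rw [hN₀card] at h1
    exact congrArg Subtype.val h1
  have hcl2 : ⁅commutator G, (⊤ : Subgroup G)⁆ = ⊥ := by
    rw [Subgroup.commutator_eq_bot_iff_le_centralizer, Subgroup.coe_top, Subgroup.centralizer_univ]
    exact hder.trans hN₀c
  have hderΩ : commutator G ≤ Subgroup.closure {x : G | x ^ p = 1} := by
    intro x hx
    exact Subgroup.subset_closure (hN₀exp x (hder hx))
  have hmul : ∀ x y : G, (x * y) ^ p = x ^ p * y ^ p :=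
    Cfsg.Agent.S0123.result hG (Or.inl ⟨hp2, hcl2⟩) hderΩ
  let φ : G →* G :=
    { toFun := fun x => x ^ p
      map_one' := one_pow p
      map_mul' := hmul }
  have hrange : φ.range = agemo p G := by
    unfold agemo
    apply le_antisymm
    · rintro _ ⟨g, rfl⟩
      exact Subgroup.subset_closure ⟨g, rfl⟩
    · rw [Subgroup.closure_le]
      rintro y ⟨g, rfl⟩
      exact ⟨g, rfl⟩
  have hker : Nat.card φ.ker = φ.range.index := by
    have e1 := φ.ker.card_mul_index
    rw [Subgroup.index_ker] at e1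
    have e2 := φ.range.card_mul_index
    have hpos : 0 < Nat.card φ.range := Nat.card_pos
    have : Nat.card φ.range * Nat.card φ.ker = Nat.card φ.range * φ.range.index := by
      rw [e2, mul_comm, e1]
    exact Nat.eq_of_mul_eq_mul_left hpos this
  apply Cfsg.Agent.Lib.Helper24.metacyclic_of_commutator_le_central hp2 hG ?_ N₀ hN₀c hN₀card hder
  intro W hW
  calc Nat.card W ≤ Nat.card φ.ker :=
        Subgroup.card_le_of_le (fun w hw => MonoidHom.mem_ker.mpr (hW w hw))
    _ = φ.range.index := hker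
    _ ≤ p ^ 2 := by rw [hrange]; exact h

/-- a generating set whose pairwise commutators lie in a normal subgroup `C`: `G' ≤ C` -/
theorem commutator_le_of_generators {G : Type*} [Group G] (S : Set G)
    (hS : Subgroup.closure S = ⊤) (C : Subgroup G) [C.Normal]
    (h : ∀ s ∈ S, ∀ t ∈ S, ⁅s, t⁆ ∈ C) : commutator G ≤ C := by
  have hmem : ∀ x y : G, ⁅x, y⁆ ∈ C ↔
      (QuotientGroup.mk' C x) * (QuotientGroup.mk' C y) = (QuotientGroup.mk' C y) * (QuotientGroup.mk' C x) := by
    intro x y
    rw [← commutatorElement_eq_one_iff_mul_comm, ← map_commutatorElement, QuotientGroup.mk'_apply,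
      QuotientGroup.eq_one_iff]
  have step1 : ∀ s ∈ S, ∀ g : G, ⁅s, g⁆ ∈ C := by
    intro s hs g
    have hg : g ∈ Subgroup.closure S := by rw [hS]; exact Subgroup.mem_top g
    induction hg using Subgroup.closure_induction with
    | mem t ht => exact h s hs t ht
    | one => simp
    | mul x y _ _ hx hy =>
      rw [hmem] at hx hy ⊢
      rw [map_mul, ← mul_assoc, hx, mul_assoc, hy, mul_assoc]
    | inv x _ hx =>
      rw [hmem] at hx ⊢
      rw [map_inv]
      exact (Commute.inv_right hx)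
  have step2 : ∀ g k : G, ⁅g, k⁆ ∈ C := by
    intro g k
    have hg : g ∈ Subgroup.closure S := by rw [hS]; exact Subgroup.mem_top g
    induction hg using Subgroup.closure_induction with
    | mem t ht => exact step1 t ht k
    | one => simp
    | mul x y _ _ hx hy =>
      rw [hmem] at hx hy ⊢
      rw [map_mul, mul_assoc, hy, ← mul_assoc, hx, mul_assoc]
    | inv x _ hx =>
      rw [hmem] at hx ⊢
      rw [map_inv]
      exact (Commute.inv_left hx)
  rw [commutator_def, Subgroup.commutator_le]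
  intro g _ k _
  exact step2 g k


theorem metacyclic_aux (p : ℕ) [hp : Fact p.Prime] (hp2 : p ≠ 2) :
    ∀ n : ℕ, ∀ (G : Type u) [Group G] [Finite G], Nat.card G = n → IsPGroup p G →
      (agemo p G).index ≤ p ^ 2 → Cfsg.IsMetacyclic G := by
  intro n
  induction n using Nat.strong_induction_on with
  | _ n ih =>
  intro G _ _ hcard hG h
  by_cases hsub : Subsingleton G
  · exact ⟨⊥, inferInstance, inferInstance, isCyclic_of_subsingleton⟩
  rw [not_subsingleton_iff_nontrivial] at hsub
  by_cases hab : commutator G = ⊥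
  · -- abelian case
    obtain ⟨z, -, hzc, hzo⟩ := Cfsg.Agent.Lib.Helper24.exists_central_orderOf_eq_prime hG
      (⊤ : Subgroup G) top_ne_bot
    refine metacyclic_of_class_two hp2 hG h (Subgroup.zpowers z)
      (Subgroup.zpowers_le.mpr hzc) ?_ ?_
    · rw [Nat.card_zpowers, hzo]
    · rw [hab]; exact bot_le
  -- nonabelian case
  obtain ⟨z, hzG', hzc, hzo⟩ := Cfsg.Agent.Lib.Helper24.exists_central_orderOf_eq_prime hG
    (commutator G) hab
  set N : Subgroup G := Subgroup.zpowers z with hN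
  have hNcen : N ≤ Subgroup.center G := Subgroup.zpowers_le.mpr hzc
  have hNcard : Nat.card N = p := by rw [hN, Nat.card_zpowers, hzo]
  have hNn : N.Normal := Cfsg.Agent.Lib.Helper24.normal_of_le_center' N hNcen
  have hlt : Nat.card (G ⧸ N) < n := by
    have e := Subgroup.card_eq_card_quotient_mul_card_subgroup N
    rw [hcard, hNcard] at e
    have hpos : 0 < Nat.card (G ⧸ N) := Nat.card_pos
    have h2 := hp.out.two_le
    nlinarith
  obtain ⟨Kbar, hKn, hKc, hQc⟩ := ih (Nat.card (G ⧸ N)) hlt (G ⧸ N) rfl (hG.to_quotient N)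
    (le_trans (agemo_quotient_index_le p N) h)
  set K : Subgroup G := Kbar.comap (QuotientGroup.mk' N) with hK
  have hKnorm : K.Normal := Subgroup.Normal.comap hKn _
  have hNK : N ≤ K := by
    intro x hx
    show QuotientGroup.mk' N x ∈ Kbar
    rw [QuotientGroup.mk'_apply, (QuotientGroup.eq_one_iff x).mpr hx]
    exact one_mem _
  -- `G ⧸ K` is cyclic
  have hGK : IsCyclic (G ⧸ K) := by
    let f : G ⧸ N →* G ⧸ K := QuotientGroup.map N K (MonoidHom.id G) (fun x hx => hNK hx)
    have hf : Function.Surjective f := by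
      intro y
      obtain ⟨g, rfl⟩ := QuotientGroup.mk'_surjective K y
      exact ⟨QuotientGroup.mk' N g, rfl⟩
    have hker : Kbar ≤ f.ker := by
      intro y hy
      obtain ⟨g, rfl⟩ := QuotientGroup.mk'_surjective N y
      rw [MonoidHom.mem_ker]
      show (QuotientGroup.mk' K g) = 1
      rw [QuotientGroup.mk'_apply, QuotientGroup.eq_one_iff]
      exact hy
    let g' : (G ⧸ N) ⧸ Kbar →* G ⧸ K := QuotientGroup.lift Kbar f hker
    have hg' : Function.Surjective g' := by
      intro y
      obtain ⟨x, rfl⟩ := hf y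
      exact ⟨QuotientGroup.mk' Kbar x, rfl⟩
    exact isCyclic_of_surjective g' hg'
  -- generators
  obtain ⟨abar, habar⟩ := hKc.exists_generator
  obtain ⟨a, ha⟩ := QuotientGroup.mk'_surjective N (abar : G ⧸ N)
  have haK : a ∈ K := by
    show QuotientGroup.mk' N a ∈ Kbar
    rw [ha]; exact abar.2
  have hdecK : ∀ x ∈ K, ∃ i : ℤ, ∃ m ∈ N, x = a ^ i * m := by
    intro x hx
    obtain ⟨i, hi⟩ := Subgroup.mem_zpowers_iff.mp (habar ⟨QuotientGroup.mk' N x, hx⟩)
    have h1 : (QuotientGroup.mk' N (a ^ i)) = QuotientGroup.mk' N x := by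
      rw [map_zpow, ha]
      have := congrArg Subtype.val hi
      simpa using this
    refine ⟨i, (a ^ i)⁻¹ * x, ?_, by group⟩
    rw [QuotientGroup.mk'_apply, QuotientGroup.mk'_apply, QuotientGroup.eq] at h1
    exact h1
  obtain ⟨bbar, hbbar⟩ := hGK.exists_generator
  obtain ⟨b, hb⟩ := QuotientGroup.mk'_surjective K bbar
  have hdecG : ∀ g : G, ∃ j : ℤ, ∃ x ∈ K, g = b ^ j * x := by
    intro g
    obtain ⟨j, hj⟩ := Subgroup.mem_zpowers_iff.mp (hbbar (QuotientGroup.mk' K g))
    have h1 : (QuotientGroup.mk' K (b ^ j)) = QuotientGroup.mk' K g := by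
      rw [map_zpow, hb]; exact hj
    refine ⟨j, (b ^ j)⁻¹ * g, ?_, by group⟩
    rw [QuotientGroup.mk'_apply, QuotientGroup.mk'_apply, QuotientGroup.eq] at h1
    exact h1
  by_cases hNA : N ≤ Subgroup.zpowers a
  · -- `K` is cyclic
    have hKeq : K = Subgroup.zpowers a := by
      apply le_antisymm
      · intro x hx
        obtain ⟨i, m, hm, rfl⟩ := hdecK x hx
        exact Subgroup.mul_mem _ (Subgroup.zpow_mem_zpowers a i) (hNA hm)
      · exact Subgroup.zpowers_le.mpr haK
    have hKcyc : IsCyclic K := by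
      rw [hKeq]; infer_instance
    exact ⟨K, hKnorm, hKcyc, hGK⟩
  -- now `N ⊓ ⟨a⟩ = 1`
  have hNexp : ∀ m ∈ N, m ^ p = 1 := by
    intro m hm
    have h1 : (⟨m, hm⟩ : N) ^ Nat.card N = 1 := pow_card_eq_one'
    rw [hNcard] at h1
    exact congrArg Subtype.val h1
  have hNcomm : ∀ m ∈ N, ∀ g : G, Commute m g := by
    intro m hm g
    exact (Subgroup.mem_center_iff.mp (hNcen hm) g).symm
  have hKcomm : ∀ x ∈ K, ∀ y ∈ K, Commute x y := by
    intro x hx y hy
    obtain ⟨i, m, hm, rfl⟩ := hdecK x hx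
    obtain ⟨j, m', hm', rfl⟩ := hdecK y hy
    apply Commute.mul_left
    · apply Commute.mul_right
      · exact Commute.zpow_zpow_self a i j
      · exact (hNcomm m' hm' _).symm
    · exact hNcomm m hm _
  -- the commutator map
  have hconjK : ∀ x ∈ K, b * x * b⁻¹ ∈ K := fun x hx => hKnorm.conj_mem x hx b
  have hconjK' : ∀ x ∈ K, b⁻¹ * x * b ∈ K := by
    intro x hx
    have := hKnorm.conj_mem x hx b⁻¹
    simpa using this
  have hκK : ∀ x ∈ K, ⁅x, b⁆ ∈ K := by
    intro x hx
    have e : ⁅x, b⁆ = x * (b * x⁻¹ * b⁻¹) := by rw [commutatorElement_def]; group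
    rw [e]
    exact K.mul_mem hx (hconjK _ (K.inv_mem hx))
  let κ : K →* G :=
    { toFun := fun x => ⁅(x : G), b⁆
      map_one' := by simp
      map_mul' := by
        intro x y
        have hx' : b * (x : G)⁻¹ * b⁻¹ ∈ K := hconjK _ (K.inv_mem x.2)
        have hy' : b * (y : G)⁻¹ * b⁻¹ ∈ K := hconjK _ (K.inv_mem y.2)
        have e1 : ⁅((x * y : K) : G), b⁆
            = (x : G) * ((y : G) * (b * (y : G)⁻¹ * b⁻¹)) * (b * (x : G)⁻¹ * b⁻¹) := by
          rw [commutatorElement_def, Subgroup.coe_mul]; group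
        have e2 : ⁅(x : G), b⁆ * ⁅(y : G), b⁆
            = (x : G) * (b * (x : G)⁻¹ * b⁻¹) * ((y : G) * (b * (y : G)⁻¹ * b⁻¹)) := by
          rw [commutatorElement_def, commutatorElement_def]; group
        show ⁅((x * y : K) : G), b⁆ = ⁅(x : G), b⁆ * ⁅(y : G), b⁆
        rw [e1, e2]
        calc (x : G) * ((y : G) * (b * (y : G)⁻¹ * b⁻¹)) * (b * (x : G)⁻¹ * b⁻¹)
            = (x : G) * (((y : G) * (b * (y : G)⁻¹ * b⁻¹)) * (b * (x : G)⁻¹ * b⁻¹)) :=
              mul_assoc _ _ _
          _ = (x : G) * ((b * (x : G)⁻¹ * b⁻¹) * ((y : G) * (b * (y : G)⁻¹ * b⁻¹))) := by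
              rw [(hKcomm _ (K.mul_mem y.2 hy') _ hx').eq]
          _ = (x : G) * (b * (x : G)⁻¹ * b⁻¹) * ((y : G) * (b * (y : G)⁻¹ * b⁻¹)) :=
              (mul_assoc _ _ _).symm }
  have hκapp : ∀ x : K, κ x = ⁅(x : G), b⁆ := fun x => rfl
  set c : G := ⁅a, b⁆ with hc
  have hcK : c ∈ K := hκK a haK
  have hκC : ∀ x ∈ K, ⁅x, b⁆ ∈ Subgroup.zpowers c := by
    intro x hx
    obtain ⟨i, m, hm, hxe⟩ := hdecK x hx
    have e : (⟨x, hx⟩ : K) = (⟨a, haK⟩ : K) ^ i * ⟨m, hNK hm⟩ := by
      apply Subtype.ext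
      simp [hxe]
    have e2 : ⁅x, b⁆ = κ ⟨x, hx⟩ := rfl
    rw [e2, e, map_mul, map_zpow, hκapp, hκapp]
    have : ⁅m, b⁆ = 1 := by
      rw [commutatorElement_eq_one_iff_mul_comm]
      exact (hNcomm m hm b).eq
    show ⁅a, b⁆ ^ i * ⁅m, b⁆ ∈ Subgroup.zpowers c
    rw [this, mul_one]
    exact Subgroup.zpow_mem_zpowers c i
  set C : Subgroup G := Subgroup.zpowers c with hC
  have hCK : C ≤ K := Subgroup.zpowers_le.mpr hcK
  have hconj_b : ∀ y ∈ C, b * y * b⁻¹ ∈ C ∧ b⁻¹ * y * b ∈ C := by
    intro y hy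
    obtain ⟨i, rfl⟩ := Subgroup.mem_zpowers_iff.mp hy
    constructor
    · have e : b * c ^ i * b⁻¹ = (⁅b * a * b⁻¹, b⁆) ^ i := by
        rw [← conj_zpow]
        congr 1
        rw [hc, commutatorElement_def, commutatorElement_def]; group
      rw [e]
      exact C.zpow_mem (hκC _ (hconjK a haK)) i
    · have e : b⁻¹ * c ^ i * b = (⁅b⁻¹ * a * b, b⁆) ^ i := by
        have := conj_zpow (a := b⁻¹) (b := c) (i := i)
        rw [inv_inv] at this
        rw [← this]
        congr 1
        rw [hc, commutatorElement_def, commutatorElement_def]; group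
      rw [e]
      exact C.zpow_mem (hκC _ (hconjK' a haK)) i
  let S : Subgroup G :=
    { carrier := {g | ∀ y ∈ C, g * y * g⁻¹ ∈ C ∧ g⁻¹ * y * g ∈ C}
      one_mem' := by
        intro y hy
        simpa using hy
      mul_mem' := by
        intro g k hg hk y hy
        constructor
        · have := (hg _ (hk y hy).1).1
          have e : g * k * y * (g * k)⁻¹ = g * (k * y * k⁻¹) * g⁻¹ := by group
          rw [e]; exact this
        · have := (hk _ (hg y hy).2).2
          have e : (g * k)⁻¹ * y * (g * k) = k⁻¹ * (g⁻¹ * y * g) * k := by group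
          rw [e]; exact this
      inv_mem' := by
        intro g hg y hy
        constructor
        · have := (hg y hy).2
          simpa using this
        · have := (hg y hy).1
          simpa using this }
  have hbS : b ∈ S := hconj_b
  have hKS : K ≤ S := by
    intro x hx y hy
    have h1 : Commute x y := hKcomm x hx y (hCK hy)
    constructor
    · have e : x * y * x⁻¹ = y := by rw [h1.eq]; group
      rw [e]; exact hy
    · have e : x⁻¹ * y * x = y := by rw [mul_assoc, ← h1.eq]; group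
      rw [e]; exact hy
  have hStop : ∀ g : G, g ∈ S := by
    intro g
    obtain ⟨j, x, hx, rfl⟩ := hdecG g
    exact S.mul_mem (S.zpow_mem hbS j) (hKS hx)
  have hCn : C.Normal := ⟨fun y hy g => (hStop g y hy).1⟩
  have hG'C : commutator G ≤ C := by
    apply commutator_le_of_generators ({b} ∪ (K : Set G))
    · rw [eq_top_iff]
      intro g _
      obtain ⟨j, x, hx, rfl⟩ := hdecG g
      apply Subgroup.mul_mem
      · exact Subgroup.zpow_mem _
          (Subgroup.subset_closure (Set.mem_union_left _ (Set.mem_singleton b))) j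
      · exact Subgroup.subset_closure (Set.mem_union_right _ hx)
    · intro s hs t ht
      rcases hs with hs | hs <;> rcases ht with ht | ht
      · rw [Set.mem_singleton_iff] at hs ht
        rw [hs, ht, commutatorElement_self]
        exact one_mem _
      · rw [Set.mem_singleton_iff] at hs
        rw [hs, ← commutatorElement_inv]
        exact C.inv_mem (hκC t ht)
      · rw [Set.mem_singleton_iff] at ht
        rw [ht]
        exact hκC s hs
      · rw [commutatorElement_eq_one_iff_mul_comm.mpr (hKcomm s hs t ht).eq]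
        exact one_mem _
  have hzC : z ∈ C := hG'C hzG'
  -- `c ^ p ∈ ⟨a⟩`
  have hcp : c ^ p ∈ Subgroup.zpowers a := by
    obtain ⟨j, m, hm, hce⟩ := hdecK c hcK
    rw [hce, (hNcomm m hm (a ^ j)).symm.mul_pow, hNexp m hm, mul_one]
    exact Subgroup.pow_mem _ (Subgroup.zpow_mem_zpowers a j) p
  rw [hC, ← mem_powers_iff_mem_zpowers] at hzC
  obtain ⟨i, hi⟩ := hzC
  have hi' : c ^ i = z := hi
  have hpi : ¬ p ∣ i := by
    rintro ⟨i', rfl⟩
    apply hNA
    rw [hN, Subgroup.zpowers_le, ← hi', pow_mul]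
    exact Subgroup.pow_mem _ hcp i'
  have hCN : C = N := by
    obtain ⟨e, he⟩ := (hG c)
    obtain ⟨e', -, he'⟩ := (Nat.dvd_prime_pow hp.out).mp (orderOf_dvd_of_pow_eq_one he)
    have hcop : Nat.Coprime (orderOf c) i := by
      rw [he']
      apply Nat.Coprime.pow_left
      exact (Nat.Prime.coprime_iff_not_dvd hp.out).mpr hpi
    have hord : orderOf z = orderOf c := by
      rw [← hi']; exact Nat.Coprime.orderOf_pow hcop
    symm
    apply Subgroup.eq_of_le_of_card_ge
    · rw [hN, hC, Subgroup.zpowers_le, ← hi']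
      exact Subgroup.pow_mem _ (Subgroup.mem_zpowers c) i
    · rw [hN, hC, Nat.card_zpowers, Nat.card_zpowers, hord]
  rw [hCN] at hG'C
  exact metacyclic_of_class_two hp2 hG h N hNcen hNcard hG'C

/-- **Module [R2-T2]** (Huppert III.11.4). -/
theorem isMetacyclic_of_index_pow_le {G : Type u} [Group G] [Finite G] {p : ℕ} [Fact p.Prime]
    (hp2 : p ≠ 2) (hG : IsPGroup p G)
    (h : (Subgroup.closure {y : G | ∃ g : G, y = g ^ p}).index ≤ p ^ 2) : Cfsg.IsMetacyclic G :=
  metacyclic_aux p hp2 (Nat.card G) G rfl hG h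

end Cfsg.Agent.Lib.Helper1.R2T2
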