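import Mathlib
import Cfsg.Prelude.Def_Solvable
import Cfsg.Agent.S0034
import Cfsg.Agent.S0035

/-!
# S3999-[CTYPE] (helper1, hedge): in a Frobenius group the elements of order `m > 1`, `m` prime to
the index of the complement, are distributed over the `|G : C|` conjugates of `C`.
-/

set_option autoImplicit false

namespace Cfsg.Agent.Lib.Helper1.S3999

open Cfsg
open scoped Pointwise

theorem mem_conj_smul_iff {G : Type*} [Group G] (C : Subgroup G) (x g : G) :
    g ∈ MulAut.conj x • C ↔ x⁻¹ * g * x ∈ C := by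
  rw [Subgroup.mem_pointwise_smul_iff_inv_smul_mem]
  simp [MulAut.smul_def]

theorem orderOf_conj_eq {G : Type*} [Group G] (x c : G) : orderOf (x * c * x⁻¹) = orderOf c := by
  have := MulEquiv.orderOf_eq (MulAut.conj x) c
  simpa using this

/-- [CTYPE] -/
theorem frob_card_orderOf {G : Type*} [Group G] [Finite G] (C : Subgroup G)
    (hC : Cfsg.IsFrobeniusComplement C) (m : ℕ) (hm : 1 < m) (hcop : m.Coprime C.index) :
    Nat.card {g : G // orderOf g = m} = C.index * Nat.card {c : C // orderOf c = m} := by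
  classical
  obtain ⟨N, hN, hNn, hNc⟩ := Cfsg.Agent.S0035.result C hC
  have hcardN : Nat.card N = C.index := by
    have h1 := (Cfsg.Agent.S0034.result C hC).1
    rw [← hN] at h1
    exact h1
  -- an element of order `m` lies in a conjugate of `C`
  have hex : ∀ g : G, orderOf g = m → ∃ x : G, x⁻¹ * g * x ∈ C := by
    intro g hg
    by_contra hcon
    push Not at hcon
    have hgK : g ∈ Cfsg.frobeniusKernel C := by
      right
      intro x hx
      exact hcon x ((mem_conj_smul_iff C x g).mp hx)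
    rw [← hN] at hgK
    have hdvd : orderOf g ∣ Nat.card N := Subgroup.orderOf_dvd_natCard N hgK
    rw [hcardN, hg] at hdvd
    have := Nat.Coprime.eq_one_of_dvd hcop hdvd
    omega
  -- the map
  let f : (G ⧸ C) × {c : C // orderOf c = m} → {g : G // orderOf g = m} := fun p =>
    ⟨p.1.out * (p.2.1 : G) * p.1.out⁻¹, by
      rw [orderOf_conj_eq, Subgroup.orderOf_coe]; exact p.2.2⟩
  have hinj : Function.Injective f := by
    rintro ⟨q₁, ⟨c₁, h₁⟩⟩ ⟨q₂, ⟨c₂, h₂⟩⟩ h
    simp only [f, Subtype.mk.injEq] at h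
    -- `y⁻¹ x ∈ C`
    obtain ⟨x, hx⟩ : ∃ x : G, x = q₁.out := ⟨_, rfl⟩
    obtain ⟨y, hy⟩ : ∃ y : G, y = q₂.out := ⟨_, rfl⟩
    rw [← hx, ← hy] at h
    have hc1 : (c₁ : G) ≠ 1 := by
      intro h1
      have : orderOf (c₁ : G) = 1 := by rw [h1]; exact orderOf_one
      rw [Subgroup.orderOf_coe, h₁] at this
      omega
    have hmem : y⁻¹ * x ∈ C := by
      by_contra hnot
      have hbot := hC.2.2 (y⁻¹ * x) hnot
      have h2 : (c₂ : G) ∈ C ⊓ (MulAut.conj (y⁻¹ * x) • C) := by
        rw [Subgroup.mem_inf]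
        refine ⟨c₂.2, ?_⟩
        rw [mem_conj_smul_iff]
        have : (y⁻¹ * x)⁻¹ * (c₂ : G) * (y⁻¹ * x) = (c₁ : G) := by
          have h3 : (c₂ : G) = y⁻¹ * (x * (c₁ : G) * x⁻¹) * y := by rw [h]; group
          rw [h3]; group
        rw [this]; exact c₁.2
      rw [hbot, Subgroup.mem_bot] at h2
      apply hc1
      have h3 : (c₁ : G) = x⁻¹ * (y * (c₂ : G) * y⁻¹) * x := by rw [← h]; group
      rw [h3, h2]; group
    have hq : q₁ = q₂ := by
      have e1 : (x : G ⧸ C) = q₁ := by rw [hx]; exact Quotient.out_eq' q₁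
      have e2 : (y : G ⧸ C) = q₂ := by rw [hy]; exact Quotient.out_eq' q₂
      rw [← e1, ← e2]
      exact (QuotientGroup.eq.mpr hmem).symm
    have hxy : x = y := by rw [hx, hy, hq]
    subst hq
    subst hxy
    have hcc : (c₁ : G) = (c₂ : G) := by
      have h3 : (c₁ : G) = x⁻¹ * (x * (c₁ : G) * x⁻¹) * x := by group
      rw [h3, h]; group
    have hcc' : c₁ = c₂ := Subtype.ext hcc
    subst hcc'
    rfl
  have hsurj : Function.Surjective f := by
    rintro ⟨g, hg⟩
    obtain ⟨x, hx⟩ := hex g hg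
    -- representative of `xC`
    set x' := (x : G ⧸ C).out with hx'
    have hrel : x'⁻¹ * x ∈ C := by
      have : ((x' : G) : G ⧸ C) = (x : G ⧸ C) := Quotient.out_eq' _
      exact QuotientGroup.eq.mp this
    set c₀ : G := x'⁻¹ * x with hc₀
    have hcmem : c₀ * (x⁻¹ * g * x) * c₀⁻¹ ∈ C := C.mul_mem (C.mul_mem hrel hx) (C.inv_mem hrel)
    have hceq : c₀ * (x⁻¹ * g * x) * c₀⁻¹ = x'⁻¹ * g * x' := by rw [hc₀]; group
    rw [hceq] at hcmem
    have hord : orderOf (⟨x'⁻¹ * g * x', hcmem⟩ : C) = m := by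
      rw [← Subgroup.orderOf_coe]
      show orderOf (x'⁻¹ * g * x') = m
      have := orderOf_conj_eq x'⁻¹ g
      rw [inv_inv] at this
      rw [this, hg]
    refine ⟨⟨(x : G ⧸ C), ⟨⟨x'⁻¹ * g * x', hcmem⟩, hord⟩⟩, ?_⟩
    simp only [f]
    apply Subtype.ext
    show x' * (x'⁻¹ * g * x') * x'⁻¹ = g
    group
  have := Nat.card_congr (Equiv.ofBijective f ⟨hinj, hsurj⟩)
  rw [← this, Nat.card_prod, Subgroup.index_eq_card]

end Cfsg.Agent.Lib.Helper1.S3999
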