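import Mathlib
import Cfsg.Agent.Lib.Helper67.S3Defs
import Cfsg.Agent.Lib.Helper2.ShultG
import Cfsg.Agent.Lib.Helper1.Fitting
import Cfsg.Agent.S0044

/-!
# Module ALPHA of the `S₃` fixed-point-free theorem (S4305, helper67's plan)

If `f` has no nonzero fixed vector on `V`, then `Q` is abelian.
-/

set_option autoImplicit false
set_option linter.unusedSectionVars false

namespace Cfsg.Agent.Lib.Helper1.S3Alpha

open Cfsg Cfsg.Agent.Lib.Helper67.S3

variable {𝔸 Q V : Type*} [Group 𝔸] [Group Q] [Finite Q] [AddCommGroup V] [Finite V] {p : ℕ}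
  [Fact p.Prime] [Module (ZMod p) V] {f h : 𝔸} {ψ : 𝔸 →* MulAut Q}
  {ρ : Representation (ZMod p) Q V} {σ : Representation (ZMod p) 𝔸 V}

theorem orderOf_f (c : Ctx f h ψ ρ σ) : orderOf f = 3 := by
  have : Fact (Nat.Prime 3) := ⟨Nat.prime_three⟩
  exact orderOf_eq_prime c.rel.f3 c.rel.f_ne

theorem psi_f_cube (c : Ctx f h ψ ρ σ) (x : Q) : ψ f (ψ f (ψ f x)) = x := by
  have : ψ (f ^ 3) x = x := by rw [c.rel.f3, map_one]; rfl
  rw [pow_succ, pow_two, map_mul, map_mul] at this
  exact this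

/-- A prime dividing the order of a nontrivial subgroup of `Q` is not `2` or `3`. -/
theorem prime_ne_of_pgroup (c : Ctx f h ψ ρ σ) (P : Subgroup Q) (q : ℕ) [hq : Fact q.Prime]
    (hP : IsPGroup q P) (hne : P ≠ ⊥) : q ≠ 2 ∧ q ≠ 3 := by
  have hdvd : q ∣ Nat.card Q := by
    rcases hP.card_eq_or_dvd with h1 | h1
    · exact absurd (Subgroup.card_eq_one.mp h1) hne
    · exact h1.trans (Subgroup.card_subgroup_dvd_card P)
  have hcop : Nat.Coprime q 6 := Nat.Coprime.coprime_dvd_left hdvd c.q6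
  constructor
  · rintro rfl; revert hcop; decide
  · rintro rfl; revert hcop; decide

/-- Shult's theorem for `⟨f⟩` acting on an invariant `q`-subgroup (`q ≠ p`) when `f` has no nonzero
fixed vector. -/
theorem shult_f' (c : Ctx f h ψ ρ σ) (hVf : ∀ v, σ f v = v → v = 0) (P : Subgroup Q) (q : ℕ)
    [hq : Fact q.Prime] (hqp : q ≠ p) (hP : IsPGroup q P) (hPf : ∀ x ∈ P, ψ f x ∈ P) :
    ∀ x ∈ P, ψ f x = x := by
  classical
  by_cases hbot : P = ⊥
  · intro x hx
    rw [hbot, Subgroup.mem_bot] at hx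
    rw [hx, map_one]
  obtain ⟨hq2, hq3⟩ := prime_ne_of_pgroup c P q hP hbot
  -- the subgroup of `𝔸` stabilizing `P`
  let S : Subgroup 𝔸 :=
    { carrier := {a | ∀ x, x ∈ P ↔ ψ a x ∈ P}
      one_mem' := fun x => by rw [map_one]; rfl
      mul_mem' := fun {a b} ha hb x => by
        rw [map_mul]
        exact (hb x).trans (ha _)
      inv_mem' := fun {a} ha x => by
        have := ha (ψ a⁻¹ x)
        rw [this]
        have e : ψ a (ψ a⁻¹ x) = x := by
          rw [map_inv, MulAut.apply_inv_self]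
        rw [e] }
  have hfS : f ∈ S := by
    intro x
    refine ⟨hPf x, fun hx => ?_⟩
    have := hPf _ (hPf _ hx)
    rwa [psi_f_cube c] at this
  have hzS : Subgroup.zpowers f ≤ S := (Subgroup.zpowers_le).mpr hfS
  let H := ↥(Subgroup.zpowers f)
  have hinv : ∀ a : H, ∀ x ∈ P, (ψ.comp (Subgroup.zpowers f).subtype) a x ∈ P :=
    fun a x hx => (hzS a.2 x).mp hx
  have hH : Nat.card H = 3 := by
    show Nat.card ↥(Subgroup.zpowers f) = 3
    rw [Nat.card_zpowers, orderOf_f c]
  have : Finite H := Nat.finite_of_card_ne_zero (by rw [hH]; norm_num)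
  have : Fact (Nat.Prime 3) := ⟨Nat.prime_three⟩
  have hp6 := c.p6
  have hp3 : p ≠ 3 := by rintro rfl; revert hp6; decide
  have hqk : ((q : ℕ) : ZMod p) ≠ 0 := by
    rw [Ne, ZMod.natCast_eq_zero_iff]
    intro hd
    exact hqp ((Nat.prime_dvd_prime_iff_eq Fact.out hq.out).mp hd).symm
  have hrk : ((3 : ℕ) : ZMod p) ≠ 0 := by
    rw [Ne, ZMod.natCast_eq_zero_iff]
    intro hd
    exact hp3 ((Nat.prime_dvd_prime_iff_eq Fact.out Nat.prime_three).mp hd)
  have key := Cfsg.Agent.Lib.Helper2.ShultG.faithful (k := ZMod p) (H := H) (V := V) (q := q)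
    (r := 3) (P := ↥P) hP hH hq3
    (Cfsg.Agent.Lib.Helper2.FrobFree.restrictAut (ψ.comp (Subgroup.zpowers f).subtype) P hinv)
    (ρ.comp P.subtype) (σ.comp (Subgroup.zpowers f).subtype)
    (fun a g v => c.compat a g v)
    (fun a b hab => by
      have h1 : ρ (a : Q) = ρ (b : Q) := hab
      have h2 : ρ ((a : Q) * (b : Q)⁻¹) = 1 := by
        rw [map_mul, h1, ← map_mul, mul_inv_cancel, map_one]
      have h3 := c.faithful _ h2
      exact Subtype.ext (mul_inv_eq_one.mp h3))
    hqk hrk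
    (fun v hv => hVf v (hv ⟨f, Subgroup.mem_zpowers f⟩))
  rcases key with key | ⟨h2, -⟩
  · intro x hx
    exact congrArg Subtype.val (key ⟨f, Subgroup.mem_zpowers f⟩ ⟨x, hx⟩)
  · exact absurd h2 hq2

/-- **Module ALPHA.** -/
theorem comm_of_fixf_eq_bot (c : Ctx f h ψ ρ σ) [Group.IsSolvable Q] (hOp : HOp p Q)
    (hVf : ∀ v, σ f v = v → v = 0) : ∀ x y : Q, x * y = y * x := by
  classical
  -- Step 1: `f` centralizes the Fitting subgroup
  have hF : ∀ x ∈ fittingSubgroup Q, ψ f x = x := by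
    have hle : fittingSubgroup Q ≤ MonoidHom.eqLocus (ψ f).toMonoidHom (MonoidHom.id Q) := by
      rw [Cfsg.Agent.Lib.Helper1.fittingSubgroup_eq_iSup_pCore]
      refine iSup_le fun q => ?_
      have : Fact (q : ℕ).Prime := ⟨q.2⟩
      by_cases hqp : (q : ℕ) = p
      · have : pCore (q : ℕ) Q = ⊥ := by
          apply hOp _ (Cfsg.Agent.Lib.Helper1.pCore_normal _)
          rw [← hqp]
          exact Cfsg.Agent.Lib.Helper1.pCore_isPGroup _
        rw [this]; exact bot_le
      · intro x hx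
        have hinvP : ∀ y ∈ pCore (q : ℕ) Q, ψ f y ∈ pCore (q : ℕ) Q := by
          intro y hy
          have hc : (pCore (q : ℕ) Q).Characteristic := inferInstance
          exact (Subgroup.characteristic_iff_le_comap.mp hc (ψ f)) hy
        exact shult_f' c hVf (pCore (q : ℕ) Q) q hqp
          (Cfsg.Agent.Lib.Helper1.pCore_isPGroup _) hinvP x hx
    intro x hx
    exact hle hx
  have hFn : (fittingSubgroup Q).Normal := Cfsg.Agent.Lib.Helper1.fittingSubgroup_normal
  -- Step 2: `f` acts trivially on `Q`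
  have hf1 : ∀ g : Q, ψ f g = g := by
    intro g
    obtain ⟨cc, hcc⟩ : ∃ cc : Q, cc = g⁻¹ * ψ f g := ⟨_, rfl⟩
    have hccC : cc ∈ Subgroup.centralizer (fittingSubgroup Q : Set Q) := by
      rw [Subgroup.mem_centralizer_iff]
      intro x hx
      have hx' : x ∈ fittingSubgroup Q := hx
      have h1 : g * x * g⁻¹ ∈ fittingSubgroup Q := hFn.conj_mem x hx' g
      have h2 := hF _ h1
      rw [map_mul, map_mul, map_inv, hF x hx'] at h2
      -- h2 : ψ f g * x * (ψ f g)⁻¹ = g * x * g⁻¹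
      rw [hcc]
      have h3 : ψ f g * x = g * x * g⁻¹ * ψ f g := by
        rw [← h2, inv_mul_cancel_right]
      calc x * (g⁻¹ * ψ f g) = g⁻¹ * (g * x * g⁻¹ * ψ f g) := by group
        _ = g⁻¹ * (ψ f g * x) := by rw [h3]
        _ = g⁻¹ * ψ f g * x := by group
    have hccF : ψ f cc = cc := hF cc (Cfsg.Agent.S0044.result hccC)
    have e1 : ψ f g = g * cc := by rw [hcc, mul_inv_cancel_left]
    have e3 : g * cc ^ 3 = g := by
      have := psi_f_cube c g
      simp only [e1, map_mul, hccF] at this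
      rw [pow_succ, pow_two, ← mul_assoc, ← mul_assoc]
      exact this
    have hc3 : cc ^ 3 = 1 := mul_left_cancel (a := g) (e3.trans (mul_one g).symm)
    have hord : orderOf cc ∣ 3 := orderOf_dvd_of_pow_eq_one hc3
    have hord' : orderOf cc ∣ Nat.card Q := orderOf_dvd_natCard cc
    have hcop : Nat.Coprime (Nat.card Q) 3 := Nat.Coprime.coprime_dvd_right (by norm_num) c.q6
    have h1 : orderOf cc = 1 := Nat.eq_one_of_dvd_coprimes hcop hord' hord
    rw [orderOf_eq_one_iff] at h1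
    rw [e1, h1, mul_one]
  -- Step 3: `h` is a fixed-point-free involution
  have hfpf : MonoidHom.FixedPointFree (ψ h) := fun q hq => c.fixQ q (hf1 q) hq
  have hinvol : Function.Involutive (ψ h) := by
    intro q
    have : ψ (h ^ 2) q = q := by rw [c.rel.h2, map_one]; rfl
    rwa [pow_two, map_mul] at this
  intro x y
  exact hfpf.commute_all_of_involutive hinvol x y

end Cfsg.Agent.Lib.Helper1.S3Alpha
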