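import Mathlib

/-!
# A coprime-action lemma via the norm map

If `L` acts (by conjugation) on the normal abelian subgroup `S` of exponent `s` prime to `|L|`, and
`K` is a normal subgroup containing `L` and `C_S(L)`, then `S ≤ K`.
-/

set_option autoImplicit false

namespace Cfsg.Agent.Lib.Helper1.S3W

open scoped BigOperators

theorem le_of_centralizer_le {G : Type*} [Group G] (S L K : Subgroup G) [Finite L]
    (hSn : S.Normal) (hKn : K.Normal) (hcomm : ∀ x ∈ S, ∀ y ∈ S, x * y = y * x) (s : ℕ)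
    (hexp : ∀ x ∈ S, x ^ s = 1) (hcop : Nat.Coprime (Nat.card L) s) (hLK : L ≤ K)
    (hC : ∀ x ∈ S, (∀ l ∈ L, l * x = x * l) → x ∈ K) : S ≤ K := by
  classical
  have := Fintype.ofFinite ↥L
  let _ : CommGroup ↥S :=
    { (inferInstance : Group ↥S) with
      mul_comm := fun a b => Subtype.ext (hcomm a a.2 b b.2) }
  intro x hx
  let x' : ↥S := ⟨x, hx⟩
  let N : ↥S := ∏ l : ↥L, MulAut.conjNormal (l : G) x'
  -- Step A: `N ∈ K`
  have hNK : (N : G) ∈ K := by
    apply hC _ N.2
    intro l' hl'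
    have h1 : MulAut.conjNormal (l' : G) N = N := by
      show MulAut.conjNormal (l' : G) (∏ l : ↥L, MulAut.conjNormal (l : G) x') = _
      rw [map_prod]
      have : ∀ l : ↥L, MulAut.conjNormal (l' : G) (MulAut.conjNormal (l : G) x') =
          MulAut.conjNormal (((⟨l', hl'⟩ : ↥L) * l : ↥L) : G) x' := by
        intro l
        rw [Subgroup.coe_mul, map_mul]; rfl
      simp_rw [this]
      exact Fintype.prod_bijective (fun l : ↥L => (⟨l', hl'⟩ : ↥L) * l)
        (Group.mulLeft_bijective _) _ _ (fun l => rfl)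
    have h2 := congrArg Subtype.val h1
    rw [MulAut.conjNormal_apply] at h2
    exact mul_inv_eq_iff_eq_mul.mp h2
  -- Step B: the quotient
  let π : ↥S →* ↥S ⧸ (K.subgroupOf S) := QuotientGroup.mk' _
  have hπ : ∀ l : ↥L, π (MulAut.conjNormal (l : G) x') = π x' := by
    intro l
    show (QuotientGroup.mk (MulAut.conjNormal (l : G) x') : ↥S ⧸ (K.subgroupOf S)) =
      QuotientGroup.mk x'
    rw [QuotientGroup.eq, Subgroup.mem_subgroupOf]
    show ((MulAut.conjNormal (l : G) x')⁻¹ * x' : ↥S).1 ∈ K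
    rw [Subgroup.coe_mul, Subgroup.coe_inv, MulAut.conjNormal_apply]
    have hl : (l : G) ∈ K := hLK l.2
    have h1 : x⁻¹ * (l : G)⁻¹ * x ∈ K := by
      have := hKn.conj_mem _ (K.inv_mem hl) x⁻¹
      rwa [inv_inv] at this
    have : ((l : G) * x * (l : G)⁻¹)⁻¹ * x = (l : G) * (x⁻¹ * (l : G)⁻¹ * x) := by group
    rw [this]
    exact K.mul_mem hl h1
  have hπN : π N = π x' ^ Nat.card ↥L := by
    show π (∏ l : ↥L, MulAut.conjNormal (l : G) x') = _
    rw [map_prod]
    simp_rw [hπ]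
    rw [Finset.prod_const, Finset.card_univ, Nat.card_eq_fintype_card]
  have hπN1 : π N = 1 := by
    show (QuotientGroup.mk N : ↥S ⧸ (K.subgroupOf S)) = 1
    rw [QuotientGroup.eq_one_iff, Subgroup.mem_subgroupOf]
    exact hNK
  have hs : π x' ^ s = 1 := by
    rw [← map_pow]
    have : x' ^ s = 1 := Subtype.ext (by rw [Subgroup.coe_pow]; exact hexp x hx)
    rw [this, map_one]
  have hn : π x' ^ Nat.card ↥L = 1 := by rw [← hπN, hπN1]
  have h1 : orderOf (π x') = 1 :=
    Nat.eq_one_of_dvd_coprimes hcop (orderOf_dvd_of_pow_eq_one hn) (orderOf_dvd_of_pow_eq_one hs)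
  rw [orderOf_eq_one_iff] at h1
  have h2 : (QuotientGroup.mk x' : ↥S ⧸ (K.subgroupOf S)) = 1 := h1
  rw [QuotientGroup.eq_one_iff, Subgroup.mem_subgroupOf] at h2
  exact h2

end Cfsg.Agent.Lib.Helper1.S3W
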