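import Mathlib
import Cfsg.Agent.Lib.Helper67.S3Defs
import Cfsg.Agent.Lib.Helper1.S3Alpha

/-!
# Module W of the `S₃` fixed-point-free theorem (S4305): basic facts

Relations in `𝔸 = ⟨f, h⟩`, the subgroups `L_k = {y ∈ T | k(y) = y⁻¹}` and `S_k = C_S(L_k)`,
fixed vectors.
-/

set_option autoImplicit false
set_option linter.unusedSectionVars false

namespace Cfsg.Agent.Lib.Helper1.S3W

open Cfsg.Agent.Lib.Helper67.S3

universe uA uQ uV

variable {𝔸 : Type uA} {Q : Type uQ} {V : Type uV} [Group 𝔸] [Group Q] [AddCommGroup V] {p : ℕ}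
  [Module (ZMod p) V] {f h : 𝔸} {ψ : 𝔸 →* MulAut Q}
  {ρ : Representation (ZMod p) Q V} {σ : Representation (ZMod p) 𝔸 V}

section Relations

variable (r : Rel f h)
include r

theorem ff : f * f = f⁻¹ := by
  have := r.f3
  rw [pow_succ, pow_two] at this
  exact eq_inv_of_mul_eq_one_left this

theorem fifi : f⁻¹ * f⁻¹ = f := by rw [← mul_inv_rev, ff r, inv_inv]

theorem hh : h * h = 1 := by
  have := r.h2
  rwa [pow_two] at this

theorem hinv : h⁻¹ = h := inv_eq_of_mul_eq_one_left (hh r)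

theorem r1 : f * (f * h * f⁻¹) * f⁻¹ = f⁻¹ * h * f := by
  rw [show f * (f * h * f⁻¹) * f⁻¹ = (f * f) * h * (f⁻¹ * f⁻¹) by group, ff r, fifi r]

omit r in
theorem r2 : f * (f⁻¹ * h * f) * f⁻¹ = h := by group

theorem r4 : h * (f * h * f⁻¹) * h⁻¹ = f⁻¹ * h * f := by
  rw [show h * (f * h * f⁻¹) * h⁻¹ = (h * f * h⁻¹) * h * (h * f * h⁻¹)⁻¹ by group, r.hf, inv_inv]

theorem r5 : h * (f⁻¹ * h * f) * h⁻¹ = f * h * f⁻¹ := by
  rw [show h * (f⁻¹ * h * f) * h⁻¹ = (h * f * h⁻¹)⁻¹ * h * (h * f * h⁻¹) by group, r.hf, inv_inv]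

omit r in
theorem r3 : h * h * h⁻¹ = h := by group

theorem r6 : f⁻¹ * (f⁻¹ * h * f) * f⁻¹⁻¹ = f * h * f⁻¹ := by
  rw [show f⁻¹ * (f⁻¹ * h * f) * f⁻¹⁻¹ = (f⁻¹ * f⁻¹) * h * (f * f) by group, ff r, fifi r]

omit r in
theorem r7 : f⁻¹ * (f * h * f⁻¹) * f⁻¹⁻¹ = h := by group

omit r in
theorem r8 : f⁻¹ * h * f⁻¹⁻¹ = f⁻¹ * h * f := by rw [inv_inv]

theorem h2_eq : f * h * f⁻¹ = f * f * h := by
  have h1 : h * f⁻¹ = f * h := by
    have := r.hf
    have h2 : h * f⁻¹ * h⁻¹ = f := by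
      rw [show h * f⁻¹ * h⁻¹ = (h * f * h⁻¹)⁻¹ by group, this, inv_inv]
    exact mul_inv_eq_iff_eq_mul.mp h2
  rw [mul_assoc, h1, mul_assoc]

theorem h3_eq : f⁻¹ * h * f = f * h := by
  have h1 : h * f = f⁻¹ * h := mul_inv_eq_iff_eq_mul.mp r.hf
  rw [mul_assoc, h1, ← mul_assoc, fifi r]

theorem h2h2 : (f * h * f⁻¹) * (f * h * f⁻¹) = 1 := by
  rw [show (f * h * f⁻¹) * (f * h * f⁻¹) = f * (h * h) * f⁻¹ by group, hh r]; group

theorem h3h3 : (f⁻¹ * h * f) * (f⁻¹ * h * f) = 1 := by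
  rw [show (f⁻¹ * h * f) * (f⁻¹ * h * f) = f⁻¹ * (h * h) * f by group, hh r]; group

end Relations

/-! ### The action of `ψ` -/

theorem psi_invol {k : 𝔸} (hk : k * k = 1) (x : Q) : ψ k (ψ k x) = x := by
  have : ψ (k * k) x = x := by rw [hk, map_one]; rfl
  rwa [map_mul] at this

theorem psi_inv_apply (a : 𝔸) (x : Q) : ψ a⁻¹ (ψ a x) = x := by
  rw [map_inv, MulAut.inv_apply_self]

theorem psi_apply_inv (a : 𝔸) (x : Q) : ψ a (ψ a⁻¹ x) = x := by
  rw [map_inv, MulAut.apply_inv_self]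

theorem psi_conj (a k : 𝔸) (x : Q) : ψ (a * k * a⁻¹) (ψ a x) = ψ a (ψ k x) := by
  rw [map_mul, map_mul]
  show ψ a (ψ k (ψ a⁻¹ (ψ a x))) = _
  rw [psi_inv_apply]

theorem sigma_inv_apply (a : 𝔸) (v : V) : σ a⁻¹ (σ a v) = v := by
  rw [← Module.End.mul_apply, ← map_mul, inv_mul_cancel, map_one]; rfl

theorem sigma_apply_inv (a : 𝔸) (v : V) : σ a (σ a⁻¹ v) = v := by
  rw [← Module.End.mul_apply, ← map_mul, mul_inv_cancel, map_one]; rfl

theorem rho_inv_apply (a : Q) (v : V) : ρ a⁻¹ (ρ a v) = v := by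
  rw [← Module.End.mul_apply, ← map_mul, inv_mul_cancel, map_one]; rfl

theorem rho_apply_inv (a : Q) (v : V) : ρ a (ρ a⁻¹ v) = v := by
  rw [← Module.End.mul_apply, ← map_mul, mul_inv_cancel, map_one]; rfl

/-- Invariance under `f` and `h` implies invariance under `𝔸`. -/
theorem invQ_of_gen (r : Rel f h) (K : Subgroup Q) (hf : ∀ x ∈ K, ψ f x ∈ K)
    (hh' : ∀ x ∈ K, ψ h x ∈ K) : InvQ ψ K := by
  let S : Subgroup 𝔸 :=
    { carrier := {a | ∀ x, x ∈ K ↔ ψ a x ∈ K}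
      one_mem' := fun x => by rw [map_one]; rfl
      mul_mem' := fun {a b} ha hb x => by
        rw [map_mul]
        exact (hb x).trans (ha _)
      inv_mem' := fun {a} ha x => by
        have := ha (ψ a⁻¹ x)
        rw [this, psi_apply_inv] }
  have hfS : f ∈ S := by
    intro x
    refine ⟨hf x, fun hx => ?_⟩
    have h1 := hf _ (hf _ hx)
    have h2 : ψ f (ψ f (ψ f x)) = x := by
      have : ψ (f ^ 3) x = x := by rw [r.f3, map_one]; rfl
      rw [pow_succ, pow_two, map_mul, map_mul] at this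
      exact this
    rwa [h2] at h1
  have hhS : h ∈ S := by
    intro x
    refine ⟨hh' x, fun hx => ?_⟩
    have h1 := hh' _ hx
    rwa [psi_invol (hh r)] at h1
  have htop : S = ⊤ := by
    rw [eq_top_iff, ← r.gen, Subgroup.closure_le]
    rintro a (rfl | rfl)
    · exact hfS
    · exact hhS
  intro a x hx
  have : a ∈ S := by rw [htop]; trivial
  exact (this x).mp hx

/-! ### Fixed vectors -/

theorem CV_anti {K K' : Subgroup Q} (hle : K ≤ K') : CV ρ K' ≤ CV ρ K :=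
  fun _ hw x hx => hw x (hle hx)

theorem mem_CV_sup {K₁ K₂ : Subgroup Q} {w : V} (h1 : w ∈ CV ρ K₁) (h2 : w ∈ CV ρ K₂) :
    w ∈ CV ρ (K₁ ⊔ K₂) := by
  let St : Subgroup Q :=
    { carrier := {q | ρ q w = w}
      one_mem' := by show ρ 1 w = w; rw [map_one]; rfl
      mul_mem' := fun {a b} ha hb => by
        show ρ (a * b) w = w
        rw [map_mul, Module.End.mul_apply, show ρ b w = w from hb, show ρ a w = w from ha]
      inv_mem' := fun {a} ha => by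
        show ρ a⁻¹ w = w
        have h3 : ρ a w = w := ha
        conv_lhs => rw [← h3]
        exact rho_inv_apply a w }
  have : K₁ ⊔ K₂ ≤ St := sup_le (fun x hx => h1 x hx) (fun x hx => h2 x hx)
  exact fun x hx => this hx

theorem rho_mem_CV_of_normal {K : Subgroup Q} [hK : K.Normal] {w : V} (hw : w ∈ CV ρ K) (q : Q) :
    ρ q w ∈ CV ρ K := by
  intro x hx
  have h1 : q⁻¹ * x * q ∈ K := by
    have := hK.conj_mem x hx q⁻¹
    rwa [inv_inv] at this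
  have h2 : x * q = q * (q⁻¹ * x * q) := by group
  rw [← Module.End.mul_apply, ← map_mul, h2, map_mul, Module.End.mul_apply, hw _ h1]

theorem sigma_mem_CV (compat : ∀ (a : 𝔸) (q : Q) (v : V), σ a (ρ q v) = ρ (ψ a q) (σ a v))
    {K K' : Subgroup Q} (a : 𝔸) (hK : ∀ x ∈ K', ψ a⁻¹ x ∈ K) {w : V} (hw : w ∈ CV ρ K) :
    σ a w ∈ CV ρ K' := by
  intro x hx
  have h1 := compat a (ψ a⁻¹ x) w
  rw [psi_apply_inv, hw _ (hK x hx)] at h1
  exact h1.symm

end Cfsg.Agent.Lib.Helper1.S3W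

namespace Cfsg.Agent.Lib.Helper1.S3W

open Cfsg.Agent.Lib.Helper67.S3

universe uA uQ uV

variable {𝔸 : Type uA} {Q : Type uQ} {V : Type uV} [Group 𝔸] [Group Q] [AddCommGroup V] {p : ℕ}
  [Module (ZMod p) V] {f h : 𝔸} {ψ : 𝔸 →* MulAut Q}
  {ρ : Representation (ZMod p) Q V} {σ : Representation (ZMod p) 𝔸 V}
  {S T : Subgroup Q} {s t : ℕ}

/-- `L_k`: the elements of `T` inverted by `k`. -/
def Lk (st : Struct ψ p S T s t) (k : 𝔸) : Subgroup Q where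
  carrier := {y | y ∈ T ∧ ψ k y = y⁻¹}
  one_mem' := ⟨T.one_mem, by rw [map_one, inv_one]⟩
  mul_mem' := fun {a b} ha hb => ⟨T.mul_mem ha.1 hb.1, by
    rw [map_mul, ha.2, hb.2, mul_inv_rev, st.T_comm _ (T.inv_mem ha.1) _ (T.inv_mem hb.1)]⟩
  inv_mem' := fun {a} ha => ⟨T.inv_mem ha.1, by rw [map_inv, ha.2]⟩

theorem mem_Lk (st : Struct ψ p S T s t) {k : 𝔸} {y : Q} :
    y ∈ Lk st k ↔ y ∈ T ∧ ψ k y = y⁻¹ := Iff.rfl

theorem Lk_le (st : Struct ψ p S T s t) (k : 𝔸) : Lk st k ≤ T := fun _ hy => hy.1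

/-- `S_k = C_S(L_k)`. -/
def Sk (st : Struct ψ p S T s t) (k : 𝔸) : Subgroup Q :=
  S ⊓ Subgroup.centralizer (Lk st k : Set Q)

theorem mem_Sk (st : Struct ψ p S T s t) {k : 𝔸} {x : Q} :
    x ∈ Sk st k ↔ x ∈ S ∧ ∀ y ∈ Lk st k, y * x = x * y := by
  rw [Sk, Subgroup.mem_inf, Subgroup.mem_centralizer_iff]
  rfl

theorem Sk_le (st : Struct ψ p S T s t) (k : 𝔸) : Sk st k ≤ S := inf_le_left

theorem map_Lk (st : Struct ψ p S T s t) (a k : 𝔸) {y : Q} (hy : y ∈ Lk st k) :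
    ψ a y ∈ Lk st (a * k * a⁻¹) :=
  ⟨st.T_inv a y hy.1, by rw [psi_conj, hy.2, map_inv]⟩

theorem map_Sk (st : Struct ψ p S T s t) (a k : 𝔸) {x : Q} (hx : x ∈ Sk st k) :
    ψ a x ∈ Sk st (a * k * a⁻¹) := by
  rw [mem_Sk] at hx ⊢
  refine ⟨st.S_inv a x hx.1, fun y hy => ?_⟩
  have h1 : ψ a⁻¹ y ∈ Lk st k := by
    have := map_Lk st a⁻¹ _ hy
    rwa [show a⁻¹ * (a * k * a⁻¹) * a⁻¹⁻¹ = k by group] at this
  have h2 := hx.2 _ h1
  have h3 := congrArg (ψ a) h2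
  rwa [map_mul, map_mul, psi_apply_inv] at h3

/-- Every element of `Q` is a product `x * y` with `x ∈ S`, `y ∈ T`. -/
theorem exists_mul (st : Struct ψ p S T s t) (g : Q) : ∃ x ∈ S, ∃ y ∈ T, g = x * y := by
  have : S.Normal := st.S_normal
  have h1 : g ∈ ((S ⊔ T : Subgroup Q) : Set Q) := by rw [st.sup]; trivial
  rw [Subgroup.normal_mul] at h1
  obtain ⟨x, hx, y, hy, rfl⟩ := h1
  exact ⟨x, hx, y, hy, rfl⟩

theorem Sk_normal (st : Struct ψ p S T s t) (k : 𝔸) : (Sk st k).Normal := by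
  have hSn : S.Normal := st.S_normal
  constructor
  intro n hn g
  obtain ⟨x, hx, y, hy, rfl⟩ := exists_mul st g
  rw [mem_Sk] at hn
  -- conjugation by `y ∈ T`
  have h1 : y * n * y⁻¹ ∈ Sk st k := by
    rw [mem_Sk]
    refine ⟨hSn.conj_mem n hn.1 y, fun l hl => ?_⟩
    have hc : l * y = y * l := st.T_comm l hl.1 y hy
    have hc' : y⁻¹ * l = l * y⁻¹ := by
      rw [inv_mul_eq_iff_eq_mul, ← mul_assoc, ← hc, mul_inv_cancel_right]
    calc l * (y * n * y⁻¹) = (l * y) * n * y⁻¹ := by group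
      _ = y * (l * n) * y⁻¹ := by rw [hc]; group
      _ = y * (n * l) * y⁻¹ := by rw [hn.2 l hl]
      _ = y * n * (l * y⁻¹) := by group
      _ = y * n * (y⁻¹ * l) := by rw [hc']
      _ = y * n * y⁻¹ * l := by group
  have h2 : x * y * n * (x * y)⁻¹ = x * (y * n * y⁻¹) * x⁻¹ := by group
  rw [h2]
  have h3 : x * (y * n * y⁻¹) * x⁻¹ = y * n * y⁻¹ := by
    rw [st.S_comm x hx _ (Sk_le st k h1), mul_inv_cancel_right]
  rw [h3]
  exact h1

end Cfsg.Agent.Lib.Helper1.S3W
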