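import Mathlib
import Cfsg.Agent.Lib.Helper1.S3WBase

/-!
# Module W of S4305: the structure of `T` and the directness of `S₁ S₂ S₃`
-/

set_option autoImplicit false
set_option linter.unusedSectionVars false

namespace Cfsg.Agent.Lib.Helper1.S3W

open Cfsg.Agent.Lib.Helper67.S3 Cfsg.Agent.Lib.Helper1.S3Alpha

universe uA uQ uV

variable {𝔸 : Type uA} {Q : Type uQ} {V : Type uV} [Group 𝔸] [Group Q] [Finite Q]
  [AddCommGroup V] [Finite V] {p : ℕ} [Fact p.Prime]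
  [Module (ZMod p) V] {f h : 𝔸} {ψ : 𝔸 →* MulAut Q}
  {ρ : Representation (ZMod p) Q V} {σ : Representation (ZMod p) 𝔸 V}
  {S T : Subgroup Q} {s t : ℕ}

section TFacts

variable (c : Ctx f h ψ ρ σ) (st : Struct ψ p S T s t) (hTf : ∀ y ∈ T, ψ f y = y → y = 1)
include c st hTf

/-- `y f(y) f²(y) = 1` on `T`. -/
theorem T_norm {y : Q} (hy : y ∈ T) : y * ψ f y * ψ f (ψ f y) = 1 := by
  have h1 : ψ f y ∈ T := st.T_inv f y hy
  have h2 : ψ f (ψ f y) ∈ T := st.T_inv f _ h1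
  apply hTf _ (T.mul_mem (T.mul_mem hy h1) h2)
  rw [map_mul, map_mul, psi_f_cube c]
  rw [st.T_comm _ (T.mul_mem h1 h2) y hy, mul_assoc]

/-- The three involutions multiply to `1` on `T`. -/
theorem T_three {y : Q} (hy : y ∈ T) :
    ψ h y * ψ (f * h * f⁻¹) y * ψ (f⁻¹ * h * f) y = 1 := by
  have hz : ψ h y ∈ T := st.T_inv h y hy
  have h1 := T_norm c st hTf hz
  rw [h2_eq c.rel, h3_eq c.rel, map_mul, map_mul, map_mul]
  show ψ h y * ψ f (ψ f (ψ h y)) * ψ f (ψ h y) = 1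
  rw [mul_assoc, st.T_comm _ (st.T_inv f _ (st.T_inv f _ hz)) _ (st.T_inv f _ hz), ← mul_assoc]
  exact h1

omit c hTf in
/-- `y k(y)⁻¹ ∈ L_k` for an involution `k`. -/
theorem mul_inv_mem_Lk {k : 𝔸} (hk : k * k = 1) {y : Q} (hy : y ∈ T) :
    y * (ψ k y)⁻¹ ∈ Lk st k := by
  have h1 : ψ k y ∈ T := st.T_inv k y hy
  refine ⟨T.mul_mem hy (T.inv_mem h1), ?_⟩
  rw [map_mul, map_inv, psi_invol hk, mul_inv_rev, inv_inv]

/-- `y³` is a product of elements of `L₁`, `L₂`, `L₃`. -/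
theorem T_cube {y : Q} (hy : y ∈ T) :
    y ^ 3 = (y * (ψ h y)⁻¹) * (y * (ψ (f * h * f⁻¹) y)⁻¹) * (y * (ψ (f⁻¹ * h * f) y)⁻¹) := by
  have h1 : ψ h y ∈ T := st.T_inv h y hy
  have h2 : ψ (f * h * f⁻¹) y ∈ T := st.T_inv _ y hy
  have h3 : ψ (f⁻¹ * h * f) y ∈ T := st.T_inv _ y hy
  have e := T_three c st hTf hy
  -- work in the commutative group `T`
  let _ : CommGroup ↥T :=
    { (inferInstance : Group ↥T) with
      mul_comm := fun a b => Subtype.ext (st.T_comm a a.2 b b.2) }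
  have e' : (⟨ψ h y, h1⟩ : ↥T) * ⟨ψ (f * h * f⁻¹) y, h2⟩ * ⟨ψ (f⁻¹ * h * f) y, h3⟩ = 1 :=
    Subtype.ext e
  have key : (⟨y, hy⟩ : ↥T) ^ 3 = (⟨y, hy⟩ * (⟨ψ h y, h1⟩ : ↥T)⁻¹) *
      (⟨y, hy⟩ * (⟨ψ (f * h * f⁻¹) y, h2⟩ : ↥T)⁻¹) *
      (⟨y, hy⟩ * (⟨ψ (f⁻¹ * h * f) y, h3⟩ : ↥T)⁻¹) := by
    have : (⟨ψ (f⁻¹ * h * f) y, h3⟩ : ↥T) =
        ((⟨ψ h y, h1⟩ : ↥T) * ⟨ψ (f * h * f⁻¹) y, h2⟩)⁻¹ := eq_inv_of_mul_eq_one_right e'
    rw [this]
    generalize (⟨y, hy⟩ : ↥T) = a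
    generalize (⟨ψ h y, h1⟩ : ↥T) = b
    generalize (⟨ψ (f * h * f⁻¹) y, h2⟩ : ↥T) = d
    rw [pow_succ, pow_two, inv_inv]
    calc a * a * a = a * a * a * (b * d * (b⁻¹ * d⁻¹)) := by
          rw [mul_comm b d, mul_assoc d b, mul_inv_cancel_left, mul_inv_cancel, mul_one]
      _ = a * b⁻¹ * (a * d⁻¹) * (a * (b * d)) := by
          simp only [mul_comm, mul_left_comm, mul_assoc]
  exact congrArg Subtype.val key

/-- An element commuting with `L₁`, `L₂`, `L₃` commutes with `T`. -/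
theorem comm_T_of_comm_L {x : Q} (h1 : ∀ y ∈ Lk st h, y * x = x * y)
    (h2 : ∀ y ∈ Lk st (f * h * f⁻¹), y * x = x * y)
    (h3 : ∀ y ∈ Lk st (f⁻¹ * h * f), y * x = x * y) : ∀ y ∈ T, y * x = x * y := by
  intro y hy
  have hcube : y ^ 3 * x = x * y ^ 3 := by
    rw [T_cube c st hTf hy]
    have e1 := h1 _ (mul_inv_mem_Lk st (hh c.rel) hy)
    have e2 := h2 _ (mul_inv_mem_Lk st (h2h2 c.rel) hy)
    have e3 := h3 _ (mul_inv_mem_Lk st (h3h3 c.rel) hy)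
    generalize y * (ψ h y)⁻¹ = a at e1 ⊢
    generalize y * (ψ (f * h * f⁻¹) y)⁻¹ = b at e2 ⊢
    generalize y * (ψ (f⁻¹ * h * f) y)⁻¹ = d at e3 ⊢
    rw [mul_assoc, e3, ← mul_assoc, mul_assoc a, e2, ← mul_assoc, e1]
    group
  have hcop : Nat.Coprime 3 (orderOf y) := by
    have hcq : Nat.Coprime (Nat.card Q) 3 :=
      Nat.Coprime.coprime_dvd_right (by norm_num) c.q6
    exact (Nat.Coprime.coprime_dvd_left (orderOf_dvd_natCard y) hcq).symm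
  obtain ⟨m, hm⟩ := exists_pow_eq_self_of_coprime hcop
  have : Commute (y ^ 3) x := hcube
  have h4 : Commute ((y ^ 3) ^ m) x := this.pow_left m
  rw [hm] at h4
  exact h4

/-- An element commuting with `L_{fkf⁻¹}` and `L_{f²kf⁻²}` commutes with `L_k`. -/
theorem comm_Lk_of_comm {k : 𝔸} {x : Q}
    (h2 : ∀ y ∈ Lk st (f * k * f⁻¹), y * x = x * y)
    (h3 : ∀ y ∈ Lk st (f * (f * k * f⁻¹) * f⁻¹), y * x = x * y) :
    ∀ y ∈ Lk st k, y * x = x * y := by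
  intro y hy
  have e := T_norm c st hTf hy.1
  have e2 := h2 _ (map_Lk st f k hy)
  have e3 := h3 _ (map_Lk st f _ (map_Lk st f k hy))
  have hy' : y = (ψ f y * ψ f (ψ f y))⁻¹ := by
    rw [mul_assoc] at e
    exact eq_inv_of_mul_eq_one_left e
  have hc : Commute (ψ f y * ψ f (ψ f y)) x := by
    have c2 : Commute (ψ f y) x := e2
    have c3 : Commute (ψ f (ψ f y)) x := e3
    exact c2.mul_left c3
  have := hc.inv_left
  rw [← hy'] at this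
  exact this

/-- An element of `S` commuting with two of the `L_i` is trivial. -/
theorem eq_one_of_comm_12 {x : Q} (hx : x ∈ S) (h1 : ∀ y ∈ Lk st h, y * x = x * y)
    (h2 : ∀ y ∈ Lk st (f * h * f⁻¹), y * x = x * y) : x = 1 := by
  apply st.cST x hx
  apply comm_T_of_comm_L c st hTf h1 h2
  -- `k = h₃`: `f h₃ f⁻¹ = h`, `f h f⁻¹ = h₂`
  apply comm_Lk_of_comm c st hTf (k := f⁻¹ * h * f)
  · rw [r2]; exact h1
  · rw [r2]; exact h2

theorem eq_one_of_comm_23 {x : Q} (hx : x ∈ S)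
    (h2 : ∀ y ∈ Lk st (f * h * f⁻¹), y * x = x * y)
    (h3 : ∀ y ∈ Lk st (f⁻¹ * h * f), y * x = x * y) : x = 1 := by
  apply st.cST x hx
  refine comm_T_of_comm_L c st hTf ?_ h2 h3
  apply comm_Lk_of_comm c st hTf (k := h)
  · exact h2
  · rw [r1 c.rel]; exact h3

theorem eq_one_of_comm_13 {x : Q} (hx : x ∈ S) (h1 : ∀ y ∈ Lk st h, y * x = x * y)
    (h3 : ∀ y ∈ Lk st (f⁻¹ * h * f), y * x = x * y) : x = 1 := by
  apply st.cST x hx
  refine comm_T_of_comm_L c st hTf h1 ?_ h3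
  apply comm_Lk_of_comm c st hTf (k := f * h * f⁻¹)
  · rw [r1 c.rel]; exact h3
  · rw [r1 c.rel, r2]; exact h1

/-- Directness of the product `S₁ S₂ S₃`. -/
theorem direct_S {x1 x2 x3 : Q} (h1 : x1 ∈ Sk st h) (h2 : x2 ∈ Sk st (f * h * f⁻¹))
    (h3 : x3 ∈ Sk st (f⁻¹ * h * f)) (e : x1 * x2 * x3 = 1) : x1 = 1 := by
  have hn2 := Sk_normal st (f * h * f⁻¹)
  have hn3 := Sk_normal st (f⁻¹ * h * f)
  have hSn : S.Normal := st.S_normal
  have m1 := (mem_Sk st).mp h1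
  have m2 := (mem_Sk st).mp h2
  have m3 := (mem_Sk st).mp h3
  have key : ∀ l ∈ Lk st h, l * x2 * l⁻¹ * x2⁻¹ = 1 ∧ l * x3 * l⁻¹ * x3⁻¹ = 1 := by
    intro l hl
    have hc2 : l * x2 * l⁻¹ * x2⁻¹ ∈ Sk st (f * h * f⁻¹) :=
      (Sk st _).mul_mem (hn2.conj_mem x2 h2 l) ((Sk st _).inv_mem h2)
    have hc3 : l * x3 * l⁻¹ * x3⁻¹ ∈ Sk st (f⁻¹ * h * f) :=
      (Sk st _).mul_mem (hn3.conj_mem x3 h3 l) ((Sk st _).inv_mem h3)
    have hprod : (l * x2 * l⁻¹ * x2⁻¹) * (l * x3 * l⁻¹ * x3⁻¹) = 1 := by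
      have hl1 : Commute l x1 := m1.2 l hl
      have e23 : x2 * x3 = x1⁻¹ := by
        rw [mul_assoc] at e
        exact eq_inv_of_mul_eq_one_right e
      have e32 : x3 * x2 = x1⁻¹ := by rw [st.S_comm x3 m3.1 x2 m2.1, e23]
      have hcomm : x2⁻¹ * (l * x3 * l⁻¹) = (l * x3 * l⁻¹) * x2⁻¹ :=
        st.S_comm _ (S.inv_mem m2.1) _ (hSn.conj_mem x3 m3.1 l)
      have hl2 : l * x1⁻¹ = x1⁻¹ * l := hl1.inv_right
      calc (l * x2 * l⁻¹ * x2⁻¹) * (l * x3 * l⁻¹ * x3⁻¹)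
          = l * x2 * l⁻¹ * (x2⁻¹ * (l * x3 * l⁻¹)) * x3⁻¹ := by group
        _ = l * x2 * l⁻¹ * ((l * x3 * l⁻¹) * x2⁻¹) * x3⁻¹ := by rw [hcomm]
        _ = l * (x2 * x3) * l⁻¹ * (x3 * x2)⁻¹ := by group
        _ = l * x1⁻¹ * l⁻¹ * x1⁻¹⁻¹ := by rw [e23, e32]
        _ = 1 := by rw [hl2]; group
    have e2 : l * x2 * l⁻¹ * x2⁻¹ = (l * x3 * l⁻¹ * x3⁻¹)⁻¹ := eq_inv_of_mul_eq_one_left hprod
    have hc2' : l * x2 * l⁻¹ * x2⁻¹ ∈ Sk st (f⁻¹ * h * f) := by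
      rw [e2]; exact (Sk st _).inv_mem hc3
    have hone : l * x2 * l⁻¹ * x2⁻¹ = 1 :=
      eq_one_of_comm_23 c st hTf (Sk_le st _ hc2) ((mem_Sk st).mp hc2).2 ((mem_Sk st).mp hc2').2
    refine ⟨hone, ?_⟩
    rw [hone] at hprod
    rwa [one_mul] at hprod
  have hx2 : x2 = 1 := by
    apply eq_one_of_comm_12 c st hTf m2.1 _ m2.2
    intro l hl
    have := (key l hl).1
    rw [mul_inv_eq_one] at this
    exact mul_inv_eq_iff_eq_mul.mp this
  have hx3 : x3 = 1 := by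
    apply eq_one_of_comm_13 c st hTf m3.1 _ m3.2
    intro l hl
    have := (key l hl).2
    rw [mul_inv_eq_one] at this
    exact mul_inv_eq_iff_eq_mul.mp this
  rw [hx2, hx3, mul_one, mul_one] at e
  exact e

omit st hTf in
theorem hf_eq : h * f = f * f * h := by
  have h1 : h * f = f⁻¹ * h := mul_inv_eq_iff_eq_mul.mp c.rel.hf
  rw [h1, ff c.rel]

omit st hTf in
theorem hff_eq : h * (f * f) = f * h := by
  rw [← mul_assoc, hf_eq c, mul_assoc, hf_eq c, ← mul_assoc, ← mul_assoc]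
  have : f * f * f = 1 := by
    have := c.rel.f3
    rwa [pow_succ, pow_two] at this
  rw [this, one_mul]

omit st hTf in
theorem psi_h_f (x : Q) : ψ h (ψ f x) = ψ f (ψ f (ψ h x)) := by
  have : ψ (h * f) x = ψ (f * f * h) x := by rw [hf_eq c]
  rwa [map_mul, map_mul, map_mul] at this

omit st hTf in
theorem psi_h_ff (x : Q) : ψ h (ψ f (ψ f x)) = ψ f (ψ h x) := by
  have : ψ (h * (f * f)) x = ψ (f * h) x := by rw [hff_eq c]
  rwa [map_mul, map_mul, map_mul] at this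

omit st hTf in
theorem sigma_h_f (v : V) : σ h (σ f v) = σ f (σ f (σ h v)) := by
  have : σ (h * f) v = σ (f * f * h) v := by rw [hf_eq c]
  rwa [map_mul, map_mul, map_mul] at this

omit st hTf in
theorem sigma_h_ff (v : V) : σ h (σ f (σ f v)) = σ f (σ h v) := by
  have : σ (h * (f * f)) v = σ (f * h) v := by rw [hff_eq c]
  rwa [map_mul, map_mul, map_mul] at this

omit st hTf in
theorem sigma_f_cube (v : V) : σ f (σ f (σ f v)) = v := by
  have : σ (f ^ 3) v = v := by rw [c.rel.f3, map_one]; rfl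
  rw [pow_succ, pow_two, map_mul, map_mul] at this
  exact this

omit st hTf in
/-- An `h`-fixed vector whose `f`-trace vanishes... the `f`-trace of an `h`-fixed vector is
`𝔸`-fixed, hence zero. -/
theorem trace_eq_zero {w : V} (hw : σ h w = w) : w + σ f w + σ f (σ f w) = 0 := by
  apply c.fixV
  · rw [map_add, map_add, sigma_f_cube c]; abel
  · rw [map_add, map_add, sigma_h_f c, sigma_h_ff c, hw]; abel

/-- `h` acts fixed-point-freely on `S₁`. -/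
theorem fpf_h_S1 {x : Q} (hx : x ∈ Sk st h) (hfix : ψ h x = x) : x = 1 := by
  have hxS : x ∈ S := Sk_le st _ hx
  have h1 : ψ f x ∈ S := st.S_inv f x hxS
  have h2 : ψ f (ψ f x) ∈ S := st.S_inv f _ h1
  have hN : x * ψ f x * ψ f (ψ f x) = 1 := by
    apply c.fixQ
    · rw [map_mul, map_mul, psi_f_cube c,
        st.S_comm _ (S.mul_mem h1 h2) x hxS, mul_assoc]
    · rw [map_mul, map_mul, psi_h_f c, psi_h_ff c, hfix, mul_assoc, st.S_comm _ h2 _ h1,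
        ← mul_assoc]
  have m2 : ψ f x ∈ Sk st (f * h * f⁻¹) := map_Sk st f h hx
  have m3 : ψ f (ψ f x) ∈ Sk st (f⁻¹ * h * f) := by
    have := map_Sk st f _ m2
    rwa [r1 c.rel] at this
  exact direct_S c st hTf hx m2 m3 hN

end TFacts

end Cfsg.Agent.Lib.Helper1.S3W
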