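import Mathlib
import Cfsg.Agent.Lib.Helper1.S3WT
import Cfsg.Agent.Lib.Helper1.S3WNorm

/-!
# Module W of S4305: the module side
-/

set_option autoImplicit false
set_option linter.unusedSectionVars false

namespace Cfsg.Agent.Lib.Helper1.S3W

open Cfsg.Agent.Lib.Helper67.S3 Cfsg.Agent.Lib.Helper1.S3Alpha

universe uA uQ uV

variable {𝔸 : Type uA} {Q : Type uQ} {V : Type uV} [Group 𝔸] [Group Q] [Finite Q]
  [AddCommGroup V] [Finite V] {p : ℕ} [Fact p.Prime]
  [Module (ZMod p) V] {f h : 𝔸} {ψ : 𝔸 →* MulAut Q}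
  {ρ : Representation (ZMod p) Q V} {σ : Representation (ZMod p) 𝔸 V}
  {S T : Subgroup Q} {s t : ℕ}

/-- The stabilizer of a vector. -/
def stab (ρ : Representation (ZMod p) Q V) (w : V) : Subgroup Q where
  carrier := {q | ρ q w = w}
  one_mem' := by show ρ 1 w = w; rw [map_one]; rfl
  mul_mem' := fun {a b} ha hb => by
    show ρ (a * b) w = w
    rw [map_mul, Module.End.mul_apply, show ρ b w = w from hb, show ρ a w = w from ha]
  inv_mem' := fun {a} ha => by
    show ρ a⁻¹ w = w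
    have h3 : ρ a w = w := ha
    conv_lhs => rw [← h3]
    exact rho_inv_apply a w

theorem mem_stab {w : V} {q : Q} : q ∈ stab ρ w ↔ ρ q w = w := Iff.rfl

/-- The kernel of the action on a submodule. -/
def kerOn (ρ : Representation (ZMod p) Q V) (W : Submodule (ZMod p) V) : Subgroup Q where
  carrier := {q | ∀ w ∈ W, ρ q w = w}
  one_mem' := fun w _ => (stab ρ w).one_mem
  mul_mem' := fun ha hb w hw => (stab ρ w).mul_mem (ha w hw) (hb w hw)
  inv_mem' := fun ha w hw => (stab ρ w).inv_mem (ha w hw)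

theorem mem_kerOn {W : Submodule (ZMod p) V} {q : Q} :
    q ∈ kerOn ρ W ↔ ∀ w ∈ W, ρ q w = w := Iff.rfl

theorem kerOn_normal {W : Submodule (ZMod p) V} (hW : ∀ (q : Q), ∀ w ∈ W, ρ q w ∈ W) :
    (kerOn ρ W).Normal := by
  constructor
  intro n hn g w hw
  rw [map_mul, map_mul, Module.End.mul_apply, Module.End.mul_apply,
    hn _ (hW g⁻¹ w hw), rho_apply_inv]

section Main

variable (c : Ctx f h ψ ρ σ) (st : Struct ψ p S T s t) (hTf : ∀ y ∈ T, ψ f y = y → y = 1)

include c st in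
theorem sigma_CV_Sk (a k : 𝔸) {w : V} (hw : w ∈ CV ρ (Sk st k)) :
    σ a w ∈ CV ρ (Sk st (a * k * a⁻¹)) := by
  apply sigma_mem_CV c.compat a _ hw
  intro x hx
  have := map_Sk st a⁻¹ _ hx
  rwa [show a⁻¹ * (a * k * a⁻¹) * a⁻¹⁻¹ = k by group] at this

include st in
theorem isPGroup_S : IsPGroup s ↥S := fun g => ⟨1, by
  rw [pow_one]; exact Subtype.ext (by rw [Subgroup.coe_pow]; exact st.S_exp g g.2)⟩

include st in
theorem isPGroup_T : IsPGroup t ↥T := fun g => ⟨1, by
  rw [pow_one]; exact Subtype.ext (by rw [Subgroup.coe_pow]; exact st.T_exp g g.2)⟩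

/-- The hypotheses taken from the other modules of the plan, specialized. -/
structure Hyps (c : Ctx f h ψ ρ σ) : Prop where
  t1w : ∀ (N : Subgroup Q) (W : Submodule (ZMod p) V), (∀ x ∈ N, ψ h x ∈ N) →
    (∀ w ∈ W, σ h w ∈ W) → (∀ x ∈ N, ∀ w ∈ W, ρ x w ∈ W) → Group.IsNilpotent N →
    (∀ x ∈ N, ψ h x = x → x = 1) → (∀ w ∈ W, (∀ x ∈ N, ρ x w = w) → w = 0) →
    Nat.card W = Nat.card ↥(W ⊓ FixL (σ h)) ^ 2
  cv : ∀ (N : Subgroup Q), N.Normal → InvQ ψ N → N ≠ ⊥ → CV ρ N = ⊥
  asv : Nat.card ↥(FixL (σ h)) ^ 2 * Nat.card ↥(FixL (σ f)) = Nat.card V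
  alpha : (∀ v, σ f v = v → v = 0) → ∀ x y : Q, x * y = y * x

variable (hyp : Hyps c) (hS1 : Sk st h ≠ ⊥)

include st in
theorem S1_nilpotent : Group.IsNilpotent ↥(Sk st h) := by
  have : Fact s.Prime := ⟨st.hs⟩
  have hP : IsPGroup s ↥(Sk st h) := fun g => ⟨1, by
    rw [pow_one]
    exact Subtype.ext (by rw [Subgroup.coe_pow]; exact st.S_exp g (Sk_le st _ g.2))⟩
  exact hP.isNilpotent

include c st in
theorem psi_h_S1 : ∀ x ∈ Sk st h, ψ h x ∈ Sk st h := by
  intro x hx
  have := map_Sk st h h hx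
  rwa [r3] at this

include c st hyp hS1 in
/-- A vector fixed by `S₁`, `S₂`, `S₃` is zero. -/
theorem eq_zero_of_fixed_123 {w : V} (h1 : w ∈ CV ρ (Sk st h))
    (h2 : w ∈ CV ρ (Sk st (f * h * f⁻¹))) (h3 : w ∈ CV ρ (Sk st (f⁻¹ * h * f))) : w = 0 := by
  have n1 := Sk_normal st h
  have n2 := Sk_normal st (f * h * f⁻¹)
  have n3 := Sk_normal st (f⁻¹ * h * f)
  set N3 := Sk st h ⊔ (Sk st (f * h * f⁻¹) ⊔ Sk st (f⁻¹ * h * f)) with hN3
  have hn : N3.Normal := inferInstance
  have l1 : Sk st h ≤ N3 := le_sup_left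
  have l2 : Sk st (f * h * f⁻¹) ≤ N3 := le_sup_of_le_right le_sup_left
  have l3 : Sk st (f⁻¹ * h * f) ≤ N3 := le_sup_of_le_right le_sup_right
  have hinv : InvQ ψ N3 := by
    apply invQ_of_gen c.rel
    · intro x hx
      have : N3 ≤ N3.comap (ψ f).toMonoidHom := by
        refine sup_le ?_ (sup_le ?_ ?_)
        · intro y hy
          exact l2 (map_Sk st f h hy)
        · intro y hy
          have := map_Sk st f _ hy
          rw [r1 c.rel] at this
          exact l3 this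
        · intro y hy
          have := map_Sk st f _ hy
          rw [r2] at this
          exact l1 this
      exact this hx
    · intro x hx
      have : N3 ≤ N3.comap (ψ h).toMonoidHom := by
        refine sup_le ?_ (sup_le ?_ ?_)
        · intro y hy
          exact l1 (psi_h_S1 c st y hy)
        · intro y hy
          have := map_Sk st h _ hy
          rw [r4 c.rel] at this
          exact l3 this
        · intro y hy
          have := map_Sk st h _ hy
          rw [r5 c.rel] at this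
          exact l2 this
      exact this hx
  have hne : N3 ≠ ⊥ := by
    intro hb
    apply hS1
    rw [eq_bot_iff, ← hb]
    exact l1
  have hbot := hyp.cv N3 hn hinv hne
  have : w ∈ CV ρ N3 := mem_CV_sup h1 (mem_CV_sup h2 h3)
  rw [hbot, Submodule.mem_bot] at this
  exact this

include c st hTf hyp in
/-- (iv): `C_V(S₁) ≠ 0`. -/
theorem CV_S1_ne_bot : CV ρ (Sk st h) ≠ ⊥ := by
  intro hbot
  have h1 := hyp.t1w (Sk st h) ⊤ (psi_h_S1 c st) (fun _ _ => trivial) (fun _ _ _ _ => trivial)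
    (S1_nilpotent st) (fun x hx hfix => fpf_h_S1 c st hTf hx hfix)
    (fun w _ hw => by
      have : w ∈ CV ρ (Sk st h) := hw
      rwa [hbot, Submodule.mem_bot] at this)
  rw [top_inf_eq] at h1
  have h2 : Nat.card ↥(⊤ : Submodule (ZMod p) V) = Nat.card V :=
    Nat.card_congr Submodule.topEquiv.toEquiv
  rw [h2] at h1
  have h3 := hyp.asv
  rw [← h1] at h3
  have hVpos : 0 < Nat.card V := Nat.card_pos
  have h4 : Nat.card ↥(FixL (σ f)) = 1 := by
    have : Nat.card V * Nat.card ↥(FixL (σ f)) = Nat.card V * 1 := by rw [h3, mul_one]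
    exact Nat.eq_of_mul_eq_mul_left hVpos this
  have hVf : ∀ v, σ f v = v → v = 0 := by
    intro v hv
    have hsub : Subsingleton ↥(FixL (σ f)) := (Nat.card_eq_one_iff_unique.mp h4).1
    have := hsub.elim ⟨v, hv⟩ 0
    exact congrArg Subtype.val this
  have hab := hyp.alpha hVf
  obtain ⟨x, hx1⟩ := (Subgroup.ne_bot_iff_exists_ne_one (H := S)).mp st.S_ne
  exact hx1 (Subtype.ext (st.cST x x.2 (fun y _ => hab y x)))

include c st hTf hyp hS1 in
/-- (v): `C_V(S₂S₃) = 0`. -/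
theorem Y1_eq_bot : CV ρ (Sk st (f * h * f⁻¹) ⊔ Sk st (f⁻¹ * h * f)) = ⊥ := by
  by_contra hne
  have n2 := Sk_normal st (f * h * f⁻¹)
  have n3 := Sk_normal st (f⁻¹ * h * f)
  set K := Sk st (f * h * f⁻¹) ⊔ Sk st (f⁻¹ * h * f) with hK
  have hKn : K.Normal := inferInstance
  set W := CV ρ K with hW
  have hKh : ∀ x ∈ K, ψ h⁻¹ x ∈ K := by
    rw [hinv c.rel]
    have : K ≤ K.comap (ψ h).toMonoidHom := by
      refine sup_le ?_ ?_
      · intro y hy
        have := map_Sk st h _ hy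
        rw [r4 c.rel] at this
        exact (le_sup_right : _ ≤ K) this
      · intro y hy
        have := map_Sk st h _ hy
        rw [r5 c.rel] at this
        exact (le_sup_left : _ ≤ K) this
    exact fun x hx => this hx
  have h1 := hyp.t1w (Sk st h) W (psi_h_S1 c st)
    (fun w hw => sigma_mem_CV c.compat h hKh hw)
    (fun x _ w hw => rho_mem_CV_of_normal hw x)
    (S1_nilpotent st) (fun x hx hfix => fpf_h_S1 c st hTf hx hfix)
    (fun w hw hfix => eq_zero_of_fixed_123 c st hyp hS1 hfix (CV_anti le_sup_left hw)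
      (CV_anti le_sup_right hw))
  -- a nonzero `h`-fixed vector in `W`
  have hex : ∃ w ∈ W, σ h w = w ∧ w ≠ 0 := by
    by_contra hno
    push Not at hno
    have hb : W ⊓ FixL (σ h) = ⊥ := by
      rw [Submodule.eq_bot_iff]
      intro w hw
      exact hno w hw.1 hw.2
    rw [hb] at h1
    have : Nat.card ↥(⊥ : Submodule (ZMod p) V) = 1 := Nat.card_unique
    rw [this, one_pow] at h1
    apply hne
    rw [Submodule.eq_bot_iff]
    intro w hw
    have hsub : Subsingleton ↥W := (Nat.card_eq_one_iff_unique.mp h1).1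
    exact congrArg Subtype.val (hsub.elim ⟨w, hw⟩ 0)
  obtain ⟨w, hwW, hwh, hw0⟩ := hex
  have hw2 : w ∈ CV ρ (Sk st (f * h * f⁻¹)) := CV_anti le_sup_left hwW
  have hw3 : w ∈ CV ρ (Sk st (f⁻¹ * h * f)) := CV_anti le_sup_right hwW
  have e := trace_eq_zero c hwh
  have a3 : σ f w ∈ CV ρ (Sk st (f⁻¹ * h * f)) := by
    have := sigma_CV_Sk c st f _ hw2
    rwa [r1 c.rel] at this
  have a1 : σ f w ∈ CV ρ (Sk st h) := by
    have := sigma_CV_Sk c st f _ hw3
    rwa [r2] at this
  have b1 : σ f (σ f w) ∈ CV ρ (Sk st h) := by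
    have := sigma_CV_Sk c st f _ a3
    rwa [r2] at this
  apply hw0
  apply eq_zero_of_fixed_123 c st hyp hS1 _ hw2 hw3
  intro x hx
  have e' := congrArg (ρ x) e
  rw [map_add, map_add, a1 x hx, b1 x hx, map_zero, ← e] at e'
  exact add_right_cancel (add_right_cancel e')

include c st hTf hyp hS1 in
theorem zero_of_23 {w : V} (h2 : w ∈ CV ρ (Sk st (f * h * f⁻¹)))
    (h3 : w ∈ CV ρ (Sk st (f⁻¹ * h * f))) : w = 0 := by
  have := mem_CV_sup h2 h3
  rwa [Y1_eq_bot c st hTf hyp hS1, Submodule.mem_bot] at this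

include c st hTf hyp hS1 in
theorem zero_of_12 {w : V} (h1 : w ∈ CV ρ (Sk st h))
    (h2 : w ∈ CV ρ (Sk st (f * h * f⁻¹))) : w = 0 := by
  have a2 : σ f w ∈ CV ρ (Sk st (f * h * f⁻¹)) := sigma_CV_Sk c st f _ h1
  have a3 : σ f w ∈ CV ρ (Sk st (f⁻¹ * h * f)) := by
    have := sigma_CV_Sk c st f _ h2
    rwa [r1 c.rel] at this
  have := zero_of_23 c st hTf hyp hS1 a2 a3
  have h4 := sigma_inv_apply (σ := σ) f w
  rw [this, map_zero] at h4
  exact h4.symm

include c st hTf hyp hS1 in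
/-- `h` has no nonzero fixed vector on `A₁ = C_V(S₁)`. -/
theorem no_fix_A1 {w : V} (h1 : w ∈ CV ρ (Sk st h)) (hw : σ h w = w) : w = 0 := by
  have n2 := Sk_normal st (f * h * f⁻¹)
  have n3 := Sk_normal st (f⁻¹ * h * f)
  have e := trace_eq_zero c hw
  have a2 : σ f w ∈ CV ρ (Sk st (f * h * f⁻¹)) := sigma_CV_Sk c st f _ h1
  have b3 : σ f (σ f w) ∈ CV ρ (Sk st (f⁻¹ * h * f)) := by
    have := sigma_CV_Sk c st f _ a2
    rwa [r1 c.rel] at this
  have a1 : σ f w ∈ CV ρ (Sk st h) := by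
    intro x hx
    have e' := congrArg (ρ x) e
    rw [map_add, map_add, h1 x hx, map_zero, ← e] at e'
    -- e' : w + ρ x a + ρ x b = w + a + b
    have hu : ρ x (σ f w) - σ f w = -(ρ x (σ f (σ f w)) - σ f (σ f w)) := by
      have h5 : ρ x (σ f w) + ρ x (σ f (σ f w)) = σ f w + σ f (σ f w) := by
        rw [add_assoc, add_assoc] at e'
        exact add_left_cancel e'
      rw [neg_sub, sub_eq_sub_iff_add_eq_add]
      rw [h5]; abel
    have hu2 : ρ x (σ f w) - σ f w ∈ CV ρ (Sk st (f * h * f⁻¹)) :=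
      Submodule.sub_mem _ (rho_mem_CV_of_normal a2 x) a2
    have hu3 : ρ x (σ f w) - σ f w ∈ CV ρ (Sk st (f⁻¹ * h * f)) := by
      rw [hu]
      exact Submodule.neg_mem _ (Submodule.sub_mem _ (rho_mem_CV_of_normal b3 x) b3)
    have := zero_of_23 c st hTf hyp hS1 hu2 hu3
    exact sub_eq_zero.mp this
  have := zero_of_12 c st hTf hyp hS1 a1 a2
  have h4 := sigma_inv_apply (σ := σ) f w
  rw [this, map_zero] at h4
  exact h4.symm

include c st hTf hyp hS1 in
/-- `h` acts as `-1` on `A₁`. -/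
theorem neg_on_A1 {w : V} (h1 : w ∈ CV ρ (Sk st h)) : σ h w = -w := by
  have a1 : σ h w ∈ CV ρ (Sk st h) := by
    have := sigma_CV_Sk c st h _ h1
    rwa [r3] at this
  have hfix : σ h (w + σ h w) = w + σ h w := by
    rw [map_add]
    have : σ h (σ h w) = w := by
      have : σ (h * h) w = w := by rw [hh c.rel, map_one]; rfl
      rwa [map_mul] at this
    rw [this, add_comm]
  have := no_fix_A1 c st hTf hyp hS1 (Submodule.add_mem _ h1 a1) hfix
  exact (neg_eq_of_add_eq_zero_right this).symm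

include c st hTf hyp hS1 in
/-- `L₁` acts trivially on `A₁`. -/
theorem L1_trivial {y : Q} (hy : y ∈ Lk st h) {w : V} (h1 : w ∈ CV ρ (Sk st h)) :
    ρ y w = w := by
  have n1 := Sk_normal st h
  have a1 : ρ y w ∈ CV ρ (Sk st h) := rho_mem_CV_of_normal h1 y
  have e1 := neg_on_A1 c st hTf hyp hS1 a1
  have e2 := c.compat h y w
  rw [e1, neg_on_A1 c st hTf hyp hS1 h1, hy.2, map_neg, neg_inj] at e2
  -- e2 : ρ y w = ρ y⁻¹ w
  have e3 : y * y ∈ stab ρ w := by
    show ρ (y * y) w = w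
    rw [map_mul, Module.End.mul_apply, e2, rho_apply_inv]
  have hcop : Nat.Coprime 2 (orderOf y) := by
    have hcq : Nat.Coprime (Nat.card Q) 2 :=
      Nat.Coprime.coprime_dvd_right (by norm_num) c.q6
    exact (Nat.Coprime.coprime_dvd_left (orderOf_dvd_natCard y) hcq).symm
  obtain ⟨m, hm⟩ := exists_pow_eq_self_of_coprime hcop
  have : (y ^ 2) ^ m ∈ stab ρ w := by
    rw [pow_two]
    exact (stab ρ w).pow_mem e3 m
  rw [hm] at this
  exact this

include c st hTf hyp hS1 in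
/-- (vi): the final contradiction. -/
theorem final_false : False := by
  have n1 := Sk_normal st h
  have hSn : S.Normal := st.S_normal
  set W := CV ρ (Sk st h) with hW
  have hKn : (kerOn ρ W).Normal := kerOn_normal (fun q w hw => rho_mem_CV_of_normal hw q)
  have hcop : Nat.Coprime (Nat.card ↥(Lk st h)) s := by
    have : Fact t.Prime := ⟨st.ht⟩
    have hP : IsPGroup t ↥(Lk st h) := fun g => ⟨1, by
      rw [pow_one]
      exact Subtype.ext (by rw [Subgroup.coe_pow]; exact st.T_exp g (Lk_le st _ g.2))⟩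
    obtain ⟨n, hn⟩ := IsPGroup.iff_card.mp hP
    rw [hn]
    exact Nat.Coprime.pow_left n ((Nat.coprime_primes st.ht st.hs).mpr (Ne.symm st.hst))
  have hle : S ≤ kerOn ρ W := by
    apply le_of_centralizer_le S (Lk st h) (kerOn ρ W) hSn hKn st.S_comm s st.S_exp hcop
    · intro y hy w hw
      exact L1_trivial c st hTf hyp hS1 hy hw
    · intro x hx hcomm w hw
      have : x ∈ Sk st h := (mem_Sk st).mpr ⟨hx, hcomm⟩
      exact hw x this
  have hWS : W ≤ CV ρ S := fun w hw x hx => hle hx w hw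
  have hbot : CV ρ S = ⊥ := hyp.cv S hSn st.S_inv st.S_ne
  apply CV_S1_ne_bot c st hTf hyp
  rw [eq_bot_iff, ← hbot]
  exact hWS

end Main

end Cfsg.Agent.Lib.Helper1.S3W
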