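import Mathlib
import Cfsg.Agent.Lib.Helper1.S3WV
import Cfsg.Agent.Lib.Helper2.FrobCount

/-!
# Module W of S4305: step (i), `S₁ ≠ 1`
-/

set_option autoImplicit false
set_option linter.unusedSectionVars false

namespace Cfsg.Agent.Lib.Helper1.S3W

open Cfsg.Agent.Lib.Helper67.S3 Cfsg.Agent.Lib.Helper1.S3Alpha

universe uA uQ uV

variable {𝔸 : Type uA} {Q : Type uQ} {V : Type uV} [Group 𝔸] [Group Q] [Finite Q]
  [AddCommGroup V] [Finite V] {p : ℕ} [Fact p.Prime]
  [Module (ZMod p) V] {f h : 𝔸} {ψ : 𝔸 →* MulAut Q}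
  {ρ : Representation (ZMod p) Q V} {σ : Representation (ZMod p) 𝔸 V}
  {S T : Subgroup Q} {s t : ℕ}

omit [Finite Q] in
/-- A point fixed by `a` is fixed by `⟨a⟩`. -/
theorem fix_zpowers {a : 𝔸} {x : Q} (hx : ψ a x = x) : ∀ b ∈ Subgroup.zpowers a, ψ b x = x := by
  let St : Subgroup 𝔸 :=
    { carrier := {b | ψ b x = x}
      one_mem' := by show ψ 1 x = x; rw [map_one]; rfl
      mul_mem' := fun {b b'} hb hb' => by
        show ψ (b * b') x = x
        rw [map_mul]
        show ψ b (ψ b' x) = x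
        rw [show ψ b' x = x from hb', show ψ b x = x from hb]
      inv_mem' := fun {b} hb => by
        show ψ b⁻¹ x = x
        have h1 : ψ b x = x := hb
        conv_lhs => rw [← h1]
        exact psi_inv_apply b x }
  have : Subgroup.zpowers a ≤ St := Subgroup.zpowers_le.mpr hx
  exact fun b hb => this hb

/-- An `a`-invariant subgroup is `⟨a⟩`-invariant. -/
theorem inv_zpowers {a : 𝔸} (K : Subgroup Q) (hK : ∀ x ∈ K, ψ a x ∈ K) :
    ∀ b ∈ Subgroup.zpowers a, ∀ x ∈ K, ψ b x ∈ K := by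
  have hmap : K.map (ψ a).toMonoidHom = K := by
    apply Subgroup.eq_of_le_of_card_ge
    · rintro _ ⟨x, hx, rfl⟩
      exact hK x hx
    · rw [Subgroup.card_map_of_injective (f := (ψ a).toMonoidHom) (ψ a).injective]
  let St : Subgroup 𝔸 :=
    { carrier := {b | ∀ x, x ∈ K ↔ ψ b x ∈ K}
      one_mem' := fun x => by rw [map_one]; rfl
      mul_mem' := fun {a b} ha hb x => by
        rw [map_mul]
        exact (hb x).trans (ha _)
      inv_mem' := fun {a} ha x => by
        have := ha (ψ a⁻¹ x)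
        rw [this, psi_apply_inv] }
  have haS : a ∈ St := by
    intro x
    refine ⟨hK x, fun hx => ?_⟩
    have : ψ a x ∈ K.map (ψ a).toMonoidHom := by rw [hmap]; exact hx
    obtain ⟨y, hy, hyx⟩ := this
    have : y = x := (ψ a).injective hyx
    rwa [← this]
  have : Subgroup.zpowers a ≤ St := Subgroup.zpowers_le.mpr haS
  exact fun b hb x hx => (this hb x).mp hx

/-- The counting lemma, in the form needed. -/
theorem card_S_eq_pow (st : Struct ψ p S T s t) (a : 𝔸) (r : ℕ) [hr : Fact r.Prime]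
    (ha : orderOf a = r) (L : Subgroup Q) (hLT : L ≤ T) (hLinv : ∀ y ∈ L, ψ a y ∈ L)
    (hfpf : ∀ y ∈ L, ψ a y = y → y = 1)
    (hfix : ∀ x ∈ S, (∀ l ∈ L, l * x = x * l) → x = 1) :
    Nat.card ↥S = Nat.card {v : ↥S // ψ a (v : Q) = (v : Q)} ^ r := by
  classical
  have hSn : S.Normal := st.S_normal
  have : Fact s.Prime := ⟨st.hs⟩
  have : Fact t.Prime := ⟨st.ht⟩
  let H := ↥(Subgroup.zpowers a)
  have hHcard : Nat.card H = r := by
    show Nat.card ↥(Subgroup.zpowers a) = r
    rw [Nat.card_zpowers, ha]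
  have : Finite H := Nat.finite_of_card_ne_zero (by rw [hHcard]; exact hr.out.ne_zero)
  have hLP : IsPGroup t ↥L := fun g => ⟨1, by
    rw [pow_one]
    exact Subtype.ext (by rw [Subgroup.coe_pow]; exact st.T_exp g (hLT g.2))⟩
  have : Group.IsNilpotent ↥L := hLP.isNilpotent
  let _ : CommGroup ↥S :=
    { (inferInstance : Group ↥S) with
      mul_comm := fun a b => Subtype.ext (st.S_comm a a.2 b b.2) }
  have hLinv' : ∀ b : H, ∀ y ∈ L, (ψ.comp (Subgroup.zpowers a).subtype) b y ∈ L :=
    fun b y hy => inv_zpowers L hLinv b b.2 y hy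
  have hSinv' : ∀ b : H, ∀ y ∈ S, (ψ.comp (Subgroup.zpowers a).subtype) b y ∈ S :=
    fun b y hy => st.S_inv b y hy
  let φ := Cfsg.Agent.Lib.Helper2.FrobFree.restrictAut
    (ψ.comp (Subgroup.zpowers a).subtype) L hLinv'
  let αH := Cfsg.Agent.Lib.Helper2.FrobFree.restrictAut
    (ψ.comp (Subgroup.zpowers a).subtype) S hSinv'
  let αF : ↥L →* MulAut ↥S := (MulAut.conjNormal (H := S)).comp L.subtype
  have hfpf' : ∀ b : H, b ≠ 1 → ∀ y : ↥L, φ b y = y → y = 1 := by
    intro b hb y hy
    have htop := zpowers_eq_top_of_prime_card hHcard hb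
    let St : Subgroup H :=
      { carrier := {b | φ b y = y}
        one_mem' := by show φ 1 y = y; rw [map_one]; rfl
        mul_mem' := fun {b b'} hb hb' => by
          show φ (b * b') y = y
          rw [map_mul]
          show φ b (φ b' y) = y
          rw [show φ b' y = y from hb', show φ b y = y from hb]
        inv_mem' := fun {b} hb => by
          show φ b⁻¹ y = y
          have h1 : φ b y = y := hb
          rw [map_inv]
          conv_lhs => rw [← h1]
          exact MulAut.inv_apply_self _ _ _ }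
    have hle : Subgroup.zpowers b ≤ St := Subgroup.zpowers_le.mpr hy
    rw [htop] at hle
    have ha' : (⟨a, Subgroup.mem_zpowers a⟩ : H) ∈ St := hle trivial
    have h2 : φ ⟨a, Subgroup.mem_zpowers a⟩ y = y := ha'
    have h3 := congrArg Subtype.val h2
    exact Subtype.ext (hfpf y y.2 h3)
  have key := Cfsg.Agent.Lib.Helper2.FrobCount.card_eq_card_fixed_pow_of_fpf (F := ↥L) (H := H)
    (V := ↥S) s
    (fun v => Subtype.ext (by rw [Subgroup.coe_pow]; exact st.S_exp v v.2)) φ hfpf' αF αH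
    (fun b l v => Subtype.ext (by
      show ψ (b : 𝔸) ((l : Q) * (v : Q) * (l : Q)⁻¹) =
        ψ (b : 𝔸) (l : Q) * ψ (b : 𝔸) (v : Q) * (ψ (b : 𝔸) (l : Q))⁻¹
      rw [map_mul, map_mul, map_inv]))
    (fun v hv => Subtype.ext (hfix v v.2 (fun l hl => by
      have h1 := congrArg Subtype.val (hv ⟨l, hl⟩)
      have h2 : l * (v : Q) * l⁻¹ = (v : Q) := h1
      exact mul_inv_eq_iff_eq_mul.mp h2)))
  rw [hHcard] at key
  rw [key]
  congr 1
  apply Nat.card_congr
  refine Equiv.subtypeEquivRight (fun v => ⟨fun hv => ?_, fun hv b => ?_⟩)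
  · exact congrArg Subtype.val (hv ⟨a, Subgroup.mem_zpowers a⟩)
  · exact Subtype.ext (fix_zpowers hv b b.2)

end Cfsg.Agent.Lib.Helper1.S3W

namespace Cfsg.Agent.Lib.Helper1.S3W

open Cfsg.Agent.Lib.Helper67.S3 Cfsg.Agent.Lib.Helper1.S3Alpha

universe uA uQ uV

variable {𝔸 : Type uA} {Q : Type uQ} {V : Type uV} [Group 𝔸] [Group Q] [Finite Q]
  [AddCommGroup V] [Finite V] {p : ℕ} [Fact p.Prime]
  [Module (ZMod p) V] {f h : 𝔸} {ψ : 𝔸 →* MulAut Q}
  {ρ : Representation (ZMod p) Q V} {σ : Representation (ZMod p) 𝔸 V}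
  {S T : Subgroup Q} {s t : ℕ}

/-- The statement of module AS, for modules in the universe of `Q`. -/
def ASStatement.{u} : Prop :=
  ∀ (M : Type u) [AddCommGroup M] [Finite M], (Nat.card M).Coprime 6 → ∀ (F H : M →+ M),
    (∀ v, F (F (F v)) = v) → (∀ v, H (H v) = v) → (∀ v, H (F (H v)) = F (F v)) →
    (∀ v, F v = v → H v = v → v = 0) →
    Nat.card {v : M // H v = v} ^ 2 * Nat.card {v : M // F v = v} = Nat.card M

/-- Module AS applied to `S`. -/
theorem asS_of (c : Ctx f h ψ ρ σ) (st : Struct ψ p S T s t) (hAS : ASStatement.{uQ}) :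
    Nat.card {v : ↥S // ψ h (v : Q) = (v : Q)} ^ 2 *
      Nat.card {v : ↥S // ψ f (v : Q) = (v : Q)} = Nat.card ↥S := by
  classical
  let _ : CommGroup ↥S :=
    { (inferInstance : Group ↥S) with
      mul_comm := fun a b => Subtype.ext (st.S_comm a a.2 b b.2) }
  let resS : 𝔸 → (↥S →* ↥S) := fun a =>
    { toFun := fun x => ⟨ψ a x, st.S_inv a x x.2⟩
      map_one' := Subtype.ext (map_one _)
      map_mul' := fun x y => Subtype.ext (map_mul _ _ _) }
  have hcard : Nat.card (Additive ↥S) = Nat.card ↥S := Nat.card_congr Additive.toMul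
  have hcop : (Nat.card (Additive ↥S)).Coprime 6 := by
    rw [hcard]
    exact Nat.Coprime.coprime_dvd_left (Subgroup.card_subgroup_dvd_card S) c.q6
  have key := hAS (Additive ↥S) hcop (MonoidHom.toAdditive (resS f))
    (MonoidHom.toAdditive (resS h))
    (fun v => congrArg Additive.ofMul
      (Subtype.ext (psi_f_cube c (Additive.toMul v : ↥S)) : resS f (resS f (resS f
        (Additive.toMul v))) = Additive.toMul v))
    (fun v => congrArg Additive.ofMul
      (Subtype.ext (psi_invol (ψ := ψ) (hh c.rel) ((Additive.toMul v : ↥S) : Q)) : resS h (resS h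
        (Additive.toMul v)) = Additive.toMul v))
    (fun v => congrArg Additive.ofMul
      (Subtype.ext (by
        show ψ h (ψ f (ψ h ((Additive.toMul v : ↥S) : Q))) = ψ f (ψ f ((Additive.toMul v : ↥S) : Q))
        rw [psi_h_f c, psi_invol (hh c.rel)]) : resS h (resS f (resS h
        (Additive.toMul v))) = resS f (resS f (Additive.toMul v))))
    (fun v hf hh' => by
      have h1 : ψ f ((Additive.toMul v : ↥S) : Q) = ((Additive.toMul v : ↥S) : Q) :=
        congrArg (fun w : Additive ↥S => ((Additive.toMul w : ↥S) : Q)) hf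
      have h2 : ψ h ((Additive.toMul v : ↥S) : Q) = ((Additive.toMul v : ↥S) : Q) :=
        congrArg (fun w : Additive ↥S => ((Additive.toMul w : ↥S) : Q)) hh'
      have h3 := c.fixQ _ h1 h2
      exact congrArg Additive.ofMul (Subtype.ext h3 : (Additive.toMul v : ↥S) = 1))
  rw [hcard] at key
  rw [← key]
  have e1 : Nat.card {v : ↥S // ψ h (v : Q) = (v : Q)} =
      Nat.card {v : Additive ↥S // (MonoidHom.toAdditive (resS h)) v = v} := by
    apply Nat.card_congr
    refine Equiv.subtypeEquiv Additive.ofMul (fun v => ⟨fun hv => ?_, fun hv => ?_⟩)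
    · exact congrArg Additive.ofMul (Subtype.ext hv : resS h v = v)
    · exact congrArg (fun w : Additive ↥S => ((Additive.toMul w : ↥S) : Q)) hv
  have e2 : Nat.card {v : ↥S // ψ f (v : Q) = (v : Q)} =
      Nat.card {v : Additive ↥S // (MonoidHom.toAdditive (resS f)) v = v} := by
    apply Nat.card_congr
    refine Equiv.subtypeEquiv Additive.ofMul (fun v => ⟨fun hv => ?_, fun hv => ?_⟩)
    · exact congrArg Additive.ofMul (Subtype.ext hv : resS f v = v)
    · exact congrArg (fun w : Additive ↥S => ((Additive.toMul w : ↥S) : Q)) hv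
  rw [e1, e2]

/-- (i): `S₁ ≠ 1`. -/
theorem S1_ne_bot (c : Ctx f h ψ ρ σ) (st : Struct ψ p S T s t)
    (hTf : ∀ y ∈ T, ψ f y = y → y = 1)
    (hASS : Nat.card {v : ↥S // ψ h (v : Q) = (v : Q)} ^ 2 *
      Nat.card {v : ↥S // ψ f (v : Q) = (v : Q)} = Nat.card ↥S) : Sk st h ≠ ⊥ := by
  intro hbot
  have ho2 : orderOf h = 2 := orderOf_eq_prime c.rel.h2 c.rel.h_ne
  have : Fact (Nat.Prime 3) := ⟨Nat.prime_three⟩
  have e1 := card_S_eq_pow st h 2 ho2 (Lk st h) (Lk_le st h)
    (fun y hy => by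
      have := map_Lk st h h hy
      rwa [r3] at this)
    (fun y hy hfix => by
      have h1 : y = y⁻¹ := by rw [← hy.2, hfix]
      have h2 : y ^ 2 = 1 := by
        rw [pow_two]
        nth_rewrite 2 [h1]
        exact mul_inv_cancel y
      have hcq : Nat.Coprime (Nat.card Q) 2 :=
        Nat.Coprime.coprime_dvd_right (by norm_num) c.q6
      have h3 : orderOf y = 1 :=
        Nat.eq_one_of_dvd_coprimes hcq (orderOf_dvd_natCard y) (orderOf_dvd_of_pow_eq_one h2)
      exact orderOf_eq_one_iff.mp h3)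
    (fun x hx hcomm => by
      have : x ∈ Sk st h := (mem_Sk st).mpr ⟨hx, hcomm⟩
      rwa [hbot, Subgroup.mem_bot] at this)
  have e2 := card_S_eq_pow st f 3 (orderOf_f c) T le_rfl (st.T_inv f) hTf st.cST
  set n := Nat.card ↥S with hn
  set a := Nat.card {v : ↥S // ψ h (v : Q) = (v : Q)} with ha
  set b := Nat.card {v : ↥S // ψ f (v : Q) = (v : Q)} with hb
  have hnpos : 0 < n := Nat.card_pos
  rw [← e1] at hASS
  have hb1 : b = 1 := by
    have : n * b = n * 1 := by rw [hASS, mul_one]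
    exact Nat.eq_of_mul_eq_mul_left hnpos this
  rw [hb1, one_pow] at e2
  apply st.S_ne
  exact Subgroup.card_eq_one.mp e2

/-- **Module W**, modulo the statements of the other modules. -/
theorem struct_W_false_of (c : Ctx f h ψ ρ σ) (st : Struct ψ p S T s t)
    (hTf : ∀ y ∈ T, ψ f y = y → y = 1) (hyp : Hyps c) (hAS : ASStatement.{uQ}) : False :=
  final_false c st hTf hyp (S1_ne_bot c st hTf (asS_of c st hAS))

end Cfsg.Agent.Lib.Helper1.S3W
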