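import Mathlib
import Cfsg.Agent.Lib.Helper1.S3WOne
import Cfsg.Agent.Lib.Helper67.S3Tools
import Cfsg.Agent.Lib.Helper40.ShultAS
import Cfsg.Agent.Lib.Helper33.S3CardAS

/-!
# Module W of S4305 (helper67's plan), assembled

`struct_W_false_of_C` is module W with the statement of module C (`CV_eq_bot`) as an explicit
hypothesis; everything else is unconditional.
-/

set_option autoImplicit false

namespace Cfsg.Agent.Lib.Helper1.S3W

open Cfsg.Agent.Lib.Helper67.S3

variable {𝔸 Q V : Type*} [Group 𝔸] [Group Q] [Finite Q] [AddCommGroup V] [Finite V] {p : ℕ}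
  [Fact p.Prime] [Module (ZMod p) V] {f h : 𝔸} {ψ : 𝔸 →* MulAut Q}
  {ρ : Representation (ZMod p) Q V} {σ : Representation (ZMod p) 𝔸 V}

/-- **Module W**, given the statement of module C as the hypothesis `hC`. -/
theorem struct_W_false_of_C (c : Ctx f h ψ ρ σ) [Group.IsSolvable Q] (hOp : HOp p Q)
    (hC : ∀ (N : Subgroup Q), N.Normal → InvQ ψ N → N ≠ ⊥ → CV ρ N = ⊥)
    {S T : Subgroup Q} {s t : ℕ} (st : Struct ψ p S T s t)
    (hTf : ∀ y ∈ T, ψ f y = y → y = 1) : False := by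
  have ho2 : orderOf h = 2 := orderOf_eq_prime c.rel.h2 c.rel.h_ne
  have hyp : Hyps c :=
    { t1w := fun N W hN hWσ hWρ hnil hfpf hfix =>
        card_pow_of_fpf_prime c.compat h 2 Nat.prime_two ho2 N W hN hWσ hWρ hnil hfpf hfix
      cv := hC
      asv := Cfsg.Agent.Lib.Helper33.S3CardAS.card_AS c
      alpha := fun hVf => Cfsg.Agent.Lib.Helper1.S3Alpha.comm_of_fixf_eq_bot c hOp hVf }
  exact struct_W_false_of c st hTf hyp
    (fun M _ _ hM F H hF3 hH2 hHF hfix => Cfsg.Agent.Lib.Helper40.card_fix_AS hM F H hF3 hH2 hHF hfix)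

end Cfsg.Agent.Lib.Helper1.S3W
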