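import Mathlib
import Cfsg.Agent.Lib.Helper1.S3W
import Cfsg.Agent.Lib.Helper67.S3C

/-!
# Module W of S4305 (helper67's plan), final form

`struct_W_false` : module W with module C (`Helper67.S3.CV_eq_bot`) plugged in.
-/

set_option autoImplicit false

namespace Cfsg.Agent.Lib.Helper1.S3WFinal

open Cfsg.Agent.Lib.Helper67.S3

variable {𝔸 Q V : Type*} [Group 𝔸] [Group Q] [Finite Q] [AddCommGroup V] [Finite V] {p : ℕ}
  [Fact p.Prime] [Module (ZMod p) V] {f h : 𝔸} {ψ : 𝔸 →* MulAut Q}
  {ρ : Representation (ZMod p) Q V} {σ : Representation (ZMod p) 𝔸 V}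

/-- **Module W** (helper67's plan #2335 for S4305): the structure `Struct ψ p S T s t` with `f`
fixed-point-free on `T` is impossible. -/
theorem struct_W_false (c : Ctx f h ψ ρ σ) [Group.IsSolvable Q] (hOp : HOp p Q) (h3 : H3 ρ σ)
    {S T : Subgroup Q} {s t : ℕ} (st : Struct ψ p S T s t)
    (hTf : ∀ y ∈ T, ψ f y = y → y = 1) : False :=
  Cfsg.Agent.Lib.Helper1.S3W.struct_W_false_of_C c hOp
    (fun N hN hinv hne => by
      have : N.Normal := hN
      exact CV_eq_bot c hOp h3 N hinv hne)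
    st hTf

end Cfsg.Agent.Lib.Helper1.S3WFinal
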