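import Mathlib
import Cfsg.Agent.S0633
import Cfsg.Agent.Lib.Helper63.WreathSec2
import Cfsg.Agent.Lib.Helper63.FrattMod
import Cfsg.Agent.Lib.Helper1.PCore
import Cfsg.Agent.Lib.Helper76.PCore

/-!
# Class two Sylow subgroups, `p ≥ 5`

Hall–Higman's Theorem B (S0633) implies: in a `p`-soluble group `Γ` with `O_{p'}(Γ) = 1`, `p ≥ 5`,
a Sylow `p`-subgroup of class at most two is normal (it acts quadratically on the Frattini quotient
of `O_p(Γ)`).
-/

set_option autoImplicit false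
set_option linter.unusedSectionVars false
set_option linter.unusedVariables false
set_option linter.style.haveILetI false

namespace Cfsg.Agent.Lib.Helper1.SchmidtKernel

open Cfsg Cfsg.Agent.Lib.Helper63 Cfsg.Agent.Lib.Helper63.WreathSec2 Cfsg.Agent.Lib.Helper70
open scoped commutatorElement

universe u

theorem sylow_le_pCore_of_class_two {Γ : Type u} [Group Γ] [Finite Γ] {p : ℕ} [hp : Fact p.Prime]
    (hp5 : 5 ≤ p) (hsol : IsPSolvable p Γ)
    (hcoreN : ∀ N : Subgroup Γ, N.Normal → (Nat.card N).Coprime p → N = ⊥)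
    (S : Sylow p Γ)
    (hcc : ∀ x ∈ (S : Subgroup Γ), ∀ y ∈ (S : Subgroup Γ), ∀ z ∈ (S : Subgroup Γ),
      ⁅x, y⁆ * z = z * ⁅x, y⁆) :
    (S : Subgroup Γ) ≤ pCore p Γ := by
  classical
  by_contra hle
  obtain ⟨g, hgS, hgP₁⟩ := SetLike.not_le_iff_exists.mp hle
  have hpp : p.Prime := hp.out
  have hP₁n : (pCore p Γ).Normal := inferInstance
  have hP₁p : IsPGroup p (pCore p Γ) := Cfsg.Agent.Lib.Helper1.pCore_isPGroup p
  have hRS : pCore p Γ ≤ (S : Subgroup Γ) := Cfsg.Agent.Lib.Helper1.pCore_le_sylow p S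
  have hcent : Subgroup.centralizer (pCore p Γ : Set Γ) ≤ pCore p Γ :=
    Cfsg.Agent.Lib.Helper76.centralizer_pCore_le p hsol hcoreN
  have htriv : trivOnFrattiniQuot (pCore p Γ) ≤ pCore p Γ :=
    trivOnFrattiniQuot_le (pCore p Γ) hP₁p hcent
      (fun N hN hNp => Cfsg.Agent.Lib.Helper1.le_pCore hN hNp)
  obtain ⟨M, instM, ρ, π, D⟩ := exists_frattData (pCore p Γ) hP₁p
  haveI : Module (ZMod p) M := AddCommGroup.zmodModule D.exp
  haveI : Finite M := Finite.of_surjective π D.surj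
  set r : Γ →* (M ≃ₗ[ZMod p] M) := linRep ρ with hr
  have hr_apply : ∀ g m, r g m = ((ρ g : (AddMonoid.End M)ˣ) : AddMonoid.End M) m :=
    fun g m => rfl
  have hker1 : ∀ g, r g = 1 → g ∈ pCore p Γ := by
    intro g hg
    apply htriv
    apply D.mem_trivOnFrattiniQuot
    apply Units.ext
    apply AddMonoidHom.ext
    intro m
    have := congrArg (fun f : M ≃ₗ[ZMod p] M => f m) hg
    exact this
  have hker2 : ∀ g ∈ pCore p Γ, r g = 1 := by
    intro g hg
    have h1 := D.eq_one_of_mem (le_trivOnFrattiniQuot (pCore p Γ) hP₁p hg)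
    apply LinearEquiv.ext
    intro m
    rw [hr_apply, h1]
    rfl
  set x : M ≃ₗ[ZMod p] M := r g with hx
  have hx1 : x ≠ 1 := fun h => hgP₁ (hker1 g h)
  -- the order of `x`
  obtain ⟨k, hk⟩ := S.isPGroup' ⟨g, hgS⟩
  have hgk : g ^ (p ^ k) = 1 := by simpa using congrArg Subtype.val hk
  have hxpk : x ^ (p ^ k) = 1 := by rw [hx, ← map_pow, hgk, map_one]
  obtain ⟨n, hnk, hn⟩ := (Nat.dvd_prime_pow hpp).mp (orderOf_dvd_of_pow_eq_one hxpk)
  have hn1 : 1 ≤ n := by
    rcases Nat.eq_zero_or_pos n with rfl | h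
    · rw [pow_zero, orderOf_eq_one_iff] at hn
      exact absurd hn hx1
    · exact h
  haveI : Finite r.range := Finite.of_surjective r.rangeRestrict r.rangeRestrict_surjective
  have hsolH : IsPSolvable p ↥r.range :=
    Cfsg.Agent.Lib.Helper76.IsPSolvable_of_surjective p r.rangeRestrict
      r.rangeRestrict_surjective hsol
  have hOpH : pCore p ↥r.range = ⊥ := by
    rw [eq_bot_iff]
    apply sSup_le
    rintro N ⟨hNn, hNp⟩
    intro y hy
    obtain ⟨g', hg'⟩ := r.rangeRestrict_surjective y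
    have hcomap_n : (N.comap r.rangeRestrict).Normal := hNn.comap _
    have hcomap_p : IsPGroup p (N.comap r.rangeRestrict) := by
      apply hNp.comap_of_ker_isPGroup
      apply hP₁p.to_le
      intro k hk
      apply hker1
      have := (MonoidHom.mem_ker).mp hk
      exact congrArg Subtype.val this
    have h3 := Cfsg.Agent.Lib.Helper1.le_pCore hcomap_n hcomap_p
    have hg'P : g' ∈ pCore p Γ := h3 (by
      show r.rangeRestrict g' ∈ N
      rw [hg']; exact hy)
    rw [Subgroup.mem_bot, ← hg']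
    apply Subtype.ext
    exact hker2 g' hg'P
  haveI : Nontrivial M := by
    by_contra hnt
    have : Subsingleton M := not_nontrivial_iff_subsingleton.mp hnt
    exact hx1 (LinearEquiv.ext fun m => Subsingleton.elim _ _)
  set T : Module.End (ZMod p) M := (x : Module.End (ZMod p) M) with hT
  have hTπ : ∀ v : ↥(pCore p Γ), T (π v) = π ⟨g * v * g⁻¹, hP₁n.conj_mem v v.2 g⟩ :=
    fun v => D.act g v
  -- quadratic action
  have hT2 : (T - 1) ^ 2 = 0 := by
    apply LinearMap.ext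
    intro m
    obtain ⟨v, rfl⟩ := D.surj m
    -- `c = v⁻¹ (g v g⁻¹)`
    have hcP : (v : Γ)⁻¹ * (g * v * g⁻¹) ∈ pCore p Γ :=
      (pCore p Γ).mul_mem ((pCore p Γ).inv_mem v.2) (hP₁n.conj_mem v v.2 g)
    have h1 : T (π v) = π v + π ⟨(v : Γ)⁻¹ * (g * v * g⁻¹), hcP⟩ := by
      rw [hTπ, ← D.add]
      congr 1
      apply Subtype.ext
      show g * v * g⁻¹ = (v : Γ) * ((v : Γ)⁻¹ * (g * v * g⁻¹))
      group
    have h2 : T (π ⟨(v : Γ)⁻¹ * (g * v * g⁻¹), hcP⟩) = π ⟨(v : Γ)⁻¹ * (g * v * g⁻¹), hcP⟩ := by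
      rw [hTπ]
      congr 1
      apply Subtype.ext
      show g * ((v : Γ)⁻¹ * (g * v * g⁻¹)) * g⁻¹ = (v : Γ)⁻¹ * (g * v * g⁻¹)
      have e : (v : Γ)⁻¹ * (g * v * g⁻¹) = ⁅(v : Γ)⁻¹, g⁆ := by
        rw [commutatorElement_def]; group
      rw [e, ← hcc _ (inv_mem (hRS v.2)) _ hgS g hgS, mul_inv_cancel_right]
    have h3 : (T - 1) (π v) = π ⟨(v : Γ)⁻¹ * (g * v * g⁻¹), hcP⟩ := by
      rw [LinearMap.sub_apply, h1, Module.End.one_apply, add_sub_cancel_left]
    rw [pow_two, Module.End.mul_apply, h3, LinearMap.sub_apply, h2, Module.End.one_apply,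
      sub_self, LinearMap.zero_apply]
  have hint : IsIntegral (ZMod p) T := Algebra.IsIntegral.isIntegral T
  have haev : ∀ k : ℕ, Polynomial.aeval T ((Polynomial.X - Polynomial.C 1 : Polynomial (ZMod p)) ^ k)
      = (T - 1) ^ k := by
    intro k
    simp
  have hdvd' : minpoly (ZMod p) T ∣ (Polynomial.X - Polynomial.C 1) ^ 2 := by
    apply minpoly.dvd
    rw [haev, hT2]
  obtain ⟨r', hr'2, hassoc⟩ := (dvd_prime_pow (Polynomial.prime_X_sub_C 1) 2).mp hdvd'
  have hX : (Polynomial.X - 1 : Polynomial (ZMod p)) = Polynomial.X - Polynomial.C 1 := by simp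
  have hmin : minpoly (ZMod p) T = (Polynomial.X - 1) ^ r' := by
    rw [hX]
    exact Polynomial.eq_of_monic_of_associated (minpoly.monic hint)
      ((Polynomial.monic_X_sub_C 1).pow r') hassoc
  have hB := Cfsg.Agent.S0633.result r.range hsolH hOpH x ⟨g, rfl⟩ n hn r' hmin
  have hpn : p ≤ p ^ n := by
    calc p = p ^ 1 := (pow_one p).symm
      _ ≤ p ^ n := Nat.pow_le_pow_right hpp.pos hn1
  rcases hB with hB | ⟨n₀, q, m, h1, h2, hq, hm1, hpq, -, hle'⟩
  · omega
  · have h3 : p ≤ p ^ n₀ := by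
      calc p = p ^ 1 := (pow_one p).symm
        _ ≤ p ^ n₀ := Nat.pow_le_pow_right hpp.pos h1
    have h4 : 1 ≤ p ^ (n - n₀) := Nat.one_le_pow _ _ hpp.pos
    have h5 : 4 ≤ p ^ n₀ - 1 := by omega
    have h6 : 4 ≤ p ^ (n - n₀) * (p ^ n₀ - 1) := by nlinarith
    omega

end Cfsg.Agent.Lib.Helper1.SchmidtKernel
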