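import Mathlib
import Cfsg.Agent.S0012

/-!
# Schmidt kernels

`SK p H` packages the first-order properties of the normal Sylow `p`-subgroup of a minimal
non-nilpotent group (a nonabelian "Schmidt kernel"): class two, central `p`-th powers, center
of exponent `p`, the Camina property, and a low-prime extra property.  We prove that a `p`-group
with an automorphism of prime order `q ≠ p` fixing pointwise each proper invariant subgroup is
abelian or satisfies `SK p`.
-/

set_option autoImplicit false
set_option linter.unusedSectionVars false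
set_option linter.style.haveILetI false

namespace Cfsg.Agent.Lib.Helper1.SchmidtKernel

open scoped commutatorElement

/-- First-order description of a nonabelian Schmidt kernel. -/
structure SK (p : ℕ) (H : Type*) [Group H] : Prop where
  cc : ∀ x y z : H, ⁅x, y⁆ * z = z * ⁅x, y⁆
  pc : ∀ x z : H, x ^ p * z = z * x ^ p
  zp : ∀ z : H, (∀ g : H, z * g = g * z) → z ^ p = 1
  cam : ∀ x : H, (¬ ∀ g : H, x * g = g * x) → ∀ z : H, (∀ g : H, z * g = g * z) →
    ∃ g : H, ⁅x, g⁆ = z
  ex : (p = 2 ∨ p = 3) → (∃ c : H, ∀ z : H, (∀ g : H, z * g = g * z) → ∃ k : ℕ, z = c ^ k) →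
    ∀ w : H, (¬ ∀ g : H, w * g = g * w) → w ^ p = 1 →
      ∃ a b : H, a * w = w * a ∧ b * w = w * b ∧ a * b ≠ b * a

theorem SK.of_equiv {p : ℕ} {H K : Type*} [Group H] [Group K] (e : H ≃* K) (h : SK p H) :
    SK p K where
  cc x y z := by
    apply e.symm.injective
    simp only [map_mul, map_commutatorElement]
    exact h.cc _ _ _
  pc x z := by
    apply e.symm.injective
    simp only [map_mul, map_pow]
    exact h.pc _ _
  zp z hz := by
    apply e.symm.injective
    rw [map_pow, map_one]
    apply h.zp
    intro g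
    have := hz (e g)
    apply e.injective
    simpa using this
  cam x hx z hz := by
    obtain ⟨g, hg⟩ := h.cam (e.symm x) (fun hc => hx (fun g => by
        have := hc (e.symm g)
        apply e.symm.injective
        simpa using this)) (e.symm z) (fun g => by
        have := hz (e g)
        apply e.injective
        simpa using this)
    refine ⟨e g, ?_⟩
    apply e.symm.injective
    simpa [map_commutatorElement] using hg
  ex hp hc w hw hwp := by
    obtain ⟨c, hc⟩ := hc
    obtain ⟨a, b, ha, hb, hab⟩ := h.ex hp ⟨e.symm c, fun z hz => by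
        obtain ⟨k, hk⟩ := hc (e z) (fun g => by
          have := hz (e.symm g)
          apply e.symm.injective
          simpa using this)
        refine ⟨k, ?_⟩
        apply e.injective
        simpa using hk⟩ (e.symm w) (fun hc' => hw (fun g => by
        have := hc' (e.symm g)
        apply e.symm.injective
        simpa using this)) (by rw [← map_pow, hwp, map_one])
    refine ⟨e a, e b, ?_, ?_, ?_⟩
    · apply e.symm.injective
      simpa using ha
    · apply e.symm.injective
      simpa using hb
    · intro h'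
      apply hab
      apply e.injective
      simpa using h'

section ClassTwo

variable {H : Type*} [Group H] (hcc : ∀ x y z : H, ⁅x, y⁆ * z = z * ⁅x, y⁆)
include hcc

theorem comm_mul_right (x g h : H) : ⁅x, g * h⁆ = ⁅x, g⁆ * ⁅x, h⁆ := by
  have h1 : ⁅x, g * h⁆ = ⁅x, g⁆ * (g * ⁅x, h⁆ * g⁻¹) := by
    simp only [commutatorElement_def]; group
  rw [h1, ← hcc x h g, mul_inv_cancel_right]

theorem comm_mul_left (g h x : H) : ⁅g * h, x⁆ = ⁅g, x⁆ * ⁅h, x⁆ := by
  have h1 : ⁅g * h, x⁆ = g * ⁅h, x⁆ * g⁻¹ * ⁅g, x⁆ := by
    simp only [commutatorElement_def]; group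
  rw [h1, ← hcc h x g, mul_inv_cancel_right, hcc]

/-- `g ↦ ⁅x, g⁆` as a homomorphism, in a group whose commutators are central. -/
def commHom (x : H) : H →* H where
  toFun g := ⁅x, g⁆
  map_one' := commutatorElement_one_right x
  map_mul' := comm_mul_right hcc x

theorem commHom_apply (x g : H) : commHom hcc x g = ⁅x, g⁆ := rfl

theorem comm_pow_left (a b : H) (n : ℕ) : ⁅a ^ n, b⁆ = ⁅a, b⁆ ^ n := by
  induction n with
  | zero => simp
  | succ n ih => rw [pow_succ, comm_mul_left hcc, ih, pow_succ]

theorem comm_pow_right (a b : H) (n : ℕ) : ⁅a, b ^ n⁆ = ⁅a, b⁆ ^ n := by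
  induction n with
  | zero => simp
  | succ n ih => rw [pow_succ, comm_mul_right hcc, ih, pow_succ]

theorem mem_ker_commHom (x g : H) : g ∈ (commHom hcc x).ker ↔ x * g = g * x := by
  rw [MonoidHom.mem_ker, commHom_apply, commutatorElement_eq_one_iff_mul_comm]

end ClassTwo

/-- A `p`-group `H` with an automorphism `α` of prime order `q ≠ p` fixing pointwise every proper
`α`-invariant subgroup. -/
structure AutData (p : ℕ) (H : Type*) [Group H] (α : MulAut H) (q : ℕ) : Prop where
  pgrp : IsPGroup p H
  qprime : q.Prime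
  qne : q ≠ p
  inv : ∀ K : Subgroup H, K ≠ ⊤ → (∀ k ∈ K, α k ∈ K) → ∀ k ∈ K, α k = k
  ne_one : α ≠ 1
  pow_q : α ^ q = 1

namespace AutData

variable {H : Type*} [Group H] {p : ℕ} [hp : Fact p.Prime] {α : MulAut H} {q : ℕ}

omit hp in
theorem pow_apply_eq (g k : H) (hk : α k = k) (hg : α g = g * k) (n : ℕ) :
    (α ^ n) g = g * k ^ n := by
  induction n with
  | zero => simp
  | succ n ih =>
    rw [pow_succ', MulAut.mul_apply, ih, map_mul, map_pow, hg, hk, mul_assoc, ← pow_succ']

theorem coprime_trick (D : AutData p H α q) (g : H) (h : α (g⁻¹ * α g) = g⁻¹ * α g) :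
    α g = g := by
  have hg : α g = g * (g⁻¹ * α g) := by group
  have h1 := pow_apply_eq g (g⁻¹ * α g) h hg q
  rw [D.pow_q, MulAut.one_apply] at h1
  have hkq : (g⁻¹ * α g) ^ q = 1 := by
    have : g * (g⁻¹ * α g) ^ q = g * 1 := by rw [mul_one]; exact h1.symm
    exact mul_left_cancel this
  obtain ⟨m, hm⟩ := D.pgrp (g⁻¹ * α g)
  have ho1 : orderOf (g⁻¹ * α g) ∣ q := orderOf_dvd_of_pow_eq_one hkq
  have ho2 : orderOf (g⁻¹ * α g) ∣ p ^ m := orderOf_dvd_of_pow_eq_one hm
  have hcop : Nat.Coprime q (p ^ m) :=
    Nat.Coprime.pow_right m ((Nat.coprime_primes D.qprime hp.out).mpr D.qne)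
  have h2 : orderOf (g⁻¹ * α g) = 1 := Nat.eq_one_of_dvd_coprimes hcop ho1 ho2
  rw [orderOf_eq_one_iff] at h2
  rw [hg, h2, mul_one]

omit hp in
theorem fixed_of_char (D : AutData p H α q) (K : Subgroup H) [hK : K.Characteristic]
    (hne : K ≠ ⊤) : ∀ k ∈ K, α k = k := by
  apply D.inv K hne
  intro k hk
  have := hK.fixed α
  rw [← this] at hk
  exact hk

omit hp in
theorem nontrivial (D : AutData p H α q) : Nontrivial H := by
  by_contra h
  rw [not_nontrivial_iff_subsingleton] at h
  apply D.ne_one
  ext x
  exact Subsingleton.elim _ _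

theorem frattini_ne_top [Finite H] (D : AutData p H α q) : frattini H ≠ ⊤ := by
  haveI := D.nontrivial
  rcases eq_top_or_exists_le_coatom (⊥ : Subgroup H) with h | ⟨M, hM, -⟩
  · exact absurd h bot_ne_top
  · intro h
    have := frattini_le_coatom hM
    rw [h, top_le_iff] at this
    exact hM.1 this

theorem frattini_fixed [Finite H] (D : AutData p H α q) : ∀ k ∈ frattini H, α k = k :=
  haveI := frattini_characteristic (G := H)
  D.fixed_of_char (frattini H) D.frattini_ne_top

theorem comm_fixed [Finite H] (D : AutData p H α q) (a b : H) : α ⁅a, b⁆ = ⁅a, b⁆ := by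
  apply D.frattini_fixed
  apply (Cfsg.Agent.S0012.result p D.pgrp).1
  rw [commutator_def]
  exact Subgroup.commutator_mem_commutator (Subgroup.mem_top a) (Subgroup.mem_top b)

theorem ppow_fixed [Finite H] (D : AutData p H α q) (a : H) : α (a ^ p) = a ^ p :=
  D.frattini_fixed _ ((Cfsg.Agent.S0012.result p D.pgrp).2 a)

theorem gens_top [Finite H] (D : AutData p H α q) :
    Subgroup.closure {k : H | ∃ g : H, k = g⁻¹ * α g} = ⊤ := by
  by_contra hne
  have hinv : ∀ k ∈ Subgroup.closure {k : H | ∃ g : H, k = g⁻¹ * α g},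
      α k ∈ Subgroup.closure {k : H | ∃ g : H, k = g⁻¹ * α g} := by
    intro k hk
    have hle : Subgroup.closure {k : H | ∃ g : H, k = g⁻¹ * α g} ≤
        (Subgroup.closure {k : H | ∃ g : H, k = g⁻¹ * α g}).comap α.toMonoidHom := by
      rw [Subgroup.closure_le]
      rintro k ⟨g, rfl⟩
      apply Subgroup.subset_closure
      exact ⟨α g, by simp⟩
    exact hle hk
  have hfix := D.inv _ hne hinv
  apply D.ne_one
  ext g
  rw [MulAut.one_apply]
  apply D.coprime_trick
  apply hfix
  exact Subgroup.subset_closure ⟨g, rfl⟩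

theorem fixed_central [Finite H] (D : AutData p H α q) (c : H) (hc : α c = c) (g : H) :
    c * g = g * c := by
  have hcen : Subgroup.closure {k : H | ∃ g : H, k = g⁻¹ * α g} ≤
      Subgroup.centralizer {c} := by
    rw [Subgroup.closure_le]
    rintro k ⟨g, rfl⟩
    rw [SetLike.mem_coe, Subgroup.mem_centralizer_singleton_iff]
    -- `g c g⁻¹` is fixed
    have h1 : α (g * c * g⁻¹) = g * c * g⁻¹ := by
      have e : g * c * g⁻¹ = ⁅g, c⁆ * c := by rw [commutatorElement_def]; group
      rw [e, map_mul, D.comm_fixed, hc]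
    rw [map_mul, map_mul, hc, map_inv] at h1
    have h2 : g⁻¹ * (α g * c * (α g)⁻¹) * α g = g⁻¹ * (g * c * g⁻¹) * α g := by rw [h1]
    calc g⁻¹ * α g * c = g⁻¹ * (α g * c * (α g)⁻¹) * α g := by group
      _ = g⁻¹ * (g * c * g⁻¹) * α g := h2
      _ = c * (g⁻¹ * α g) := by group
  rw [D.gens_top] at hcen
  have := hcen (Subgroup.mem_top g)
  rw [Subgroup.mem_centralizer_singleton_iff] at this
  exact this.symm

theorem cc [Finite H] (D : AutData p H α q) (x y z : H) : ⁅x, y⁆ * z = z * ⁅x, y⁆ :=
  D.fixed_central _ (D.comm_fixed x y) z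

theorem pc [Finite H] (D : AutData p H α q) (x z : H) : x ^ p * z = z * x ^ p :=
  D.fixed_central _ (D.ppow_fixed x) z

theorem central_fixed [Finite H] (D : AutData p H α q) (hna : ¬ ∀ a b : H, a * b = b * a)
    (z : H) (hz : ∀ g : H, z * g = g * z) : α z = z := by
  have hne : Subgroup.center H ≠ ⊤ := by
    intro h
    apply hna
    intro a b
    have : a ∈ Subgroup.center H := by rw [h]; trivial
    exact ((Subgroup.mem_center_iff.mp this) b).symm
  apply D.fixed_of_char (Subgroup.center H) hne
  rw [Subgroup.mem_center_iff]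
  intro g
  exact (hz g).symm

theorem central_mem_commutator [Finite H] (D : AutData p H α q)
    (hna : ¬ ∀ a b : H, a * b = b * a) (z : H) (hz : ∀ g : H, z * g = g * z) :
    z ∈ commutator H := by
  rw [← Abelianization.ker_of, MonoidHom.mem_ker]
  set f : Abelianization H →* Abelianization H := Abelianization.map α.toMonoidHom with hf
  set ψ : Abelianization H →* Abelianization H := f / MonoidHom.id _ with hψd
  have hψ : ∀ g : H, ψ (Abelianization.of g) = Abelianization.of (g⁻¹ * α g) := by
    intro g
    rw [hψd, MonoidHom.div_apply, hf, Abelianization.map_of, MonoidHom.id_apply, map_mul, map_inv,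
      div_eq_inv_mul]
    rfl
  have hofs : Function.Surjective (Abelianization.of : H → Abelianization H) :=
    QuotientGroup.mk_surjective
  haveI : Finite (Abelianization H) := Finite.of_surjective _ hofs
  have hsurj : Function.Surjective ψ := by
    rw [← MonoidHom.range_eq_top]
    have h1 : Subgroup.closure {k : H | ∃ g : H, k = g⁻¹ * α g} ≤
        ψ.range.comap Abelianization.of := by
      rw [Subgroup.closure_le]
      rintro k ⟨g, rfl⟩
      exact ⟨Abelianization.of g, hψ g⟩
    rw [D.gens_top] at h1
    rw [eq_top_iff]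
    intro x _
    obtain ⟨g, rfl⟩ := hofs x
    exact h1 (Subgroup.mem_top g)
  have hinj : Function.Injective ψ := Finite.injective_iff_surjective.mpr hsurj
  apply hinj
  rw [hψ, map_one, D.central_fixed hna z hz, inv_mul_cancel, map_one]

theorem zp [Finite H] (D : AutData p H α q) (hna : ¬ ∀ a b : H, a * b = b * a)
    (z : H) (hz : ∀ g : H, z * g = g * z) : z ^ p = 1 := by
  -- the subgroup of central elements of exponent `p`
  let E : Subgroup H :=
    { carrier := {x | (∀ g : H, x * g = g * x) ∧ x ^ p = 1}
      one_mem' := ⟨fun g => by simp, one_pow p⟩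
      mul_mem' := by
        rintro a b ⟨ha, hap⟩ ⟨hb, hbp⟩
        refine ⟨fun g => by rw [mul_assoc, hb g, ← mul_assoc, ha g, mul_assoc], ?_⟩
        rw [(show Commute a b from ha b).mul_pow, hap, hbp, one_mul]
      inv_mem' := by
        rintro a ⟨ha, hap⟩
        refine ⟨fun g => ?_, by rw [inv_pow, hap, inv_one]⟩
        have := ha g
        calc a⁻¹ * g = a⁻¹ * (g * a) * a⁻¹ := by group
          _ = a⁻¹ * (a * g) * a⁻¹ := by rw [this]
          _ = g * a⁻¹ := by group }
  have hle : commutator H ≤ E := by
    rw [commutator_eq_closure, Subgroup.closure_le]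
    rintro c ⟨a, b, rfl⟩
    refine ⟨fun g => D.cc a b g, ?_⟩
    rw [← comm_pow_left D.cc, commutatorElement_eq_one_iff_mul_comm]
    exact D.pc a b
  exact (hle (D.central_mem_commutator hna z hz)).2

theorem cam [Finite H] (D : AutData p H α q) (hna : ¬ ∀ a b : H, a * b = b * a)
    (x : H) (hx : ¬ ∀ g : H, x * g = g * x) (z : H) (hz : ∀ g : H, z * g = g * z) :
    ∃ g : H, ⁅x, g⁆ = z := by
  -- the subgroup `Z₁` of elements all of whose commutators lie in `I = range ⁅x, ·⁆`
  let I : Subgroup H := (commHom D.cc x).range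
  let Z₁ : Subgroup H :=
    { carrier := {g | ∀ h : H, ⁅g, h⁆ ∈ I}
      one_mem' := fun h => by rw [commutatorElement_one_left]; exact I.one_mem
      mul_mem' := by
        intro a b ha hb h
        rw [comm_mul_left D.cc]
        exact I.mul_mem (ha h) (hb h)
      inv_mem' := by
        intro a ha h
        have h1 : ⁅a⁻¹, h⁆ * ⁅a, h⁆ = 1 := by
          rw [← comm_mul_left D.cc, inv_mul_cancel, commutatorElement_one_left]
        rw [eq_inv_of_mul_eq_one_left h1]
        exact I.inv_mem (ha h) }
  have hxZ₁ : x ∈ Z₁ := fun h => ⟨h, rfl⟩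
  have hinv : ∀ k ∈ Z₁, α k ∈ Z₁ := by
    intro k hk h
    have h1 : ⁅α k, h⁆ = α ⁅k, α⁻¹ h⁆ := by
      rw [map_commutatorElement, MulAut.apply_inv_self]
    rw [h1, D.comm_fixed]
    exact hk _
  have htop : Z₁ = ⊤ := by
    by_contra hne
    have := D.inv Z₁ hne hinv x hxZ₁
    exact hx (D.fixed_central x this)
  have hle : commutator H ≤ I := by
    rw [commutator_eq_closure, Subgroup.closure_le]
    rintro c ⟨a, b, rfl⟩
    have : a ∈ Z₁ := by rw [htop]; trivial
    exact this b
  obtain ⟨g, hg⟩ := hle (D.central_mem_commutator hna z hz)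
  exact ⟨g, hg⟩

omit hp in
theorem central_of_mem_invariant [Finite H] [Fact p.Prime] (D : AutData p H α q) (K : Subgroup H)
    (hK : K ≠ ⊤) (hinv : ∀ k ∈ K, α k ∈ K) (x : H) (hx : x ∈ K) (g : H) : x * g = g * x :=
  D.fixed_central x (D.inv K hK hinv x hx) g

theorem card_center [Finite H] (D : AutData p H α q) (hna : ¬ ∀ a b : H, a * b = b * a)
    (hc : ∃ c : H, ∀ z : H, (∀ g : H, z * g = g * z) → ∃ k : ℕ, z = c ^ k) :
    Nat.card (Subgroup.center H) = p := by
  obtain ⟨c, hc⟩ := hc
  have hle : Subgroup.center H ≤ Subgroup.zpowers c := by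
    intro z hz
    obtain ⟨k, rfl⟩ := hc z (fun g => ((Subgroup.mem_center_iff.mp hz) g).symm)
    exact Subgroup.npow_mem_zpowers c k
  haveI : IsCyclic (Subgroup.center H) := Subgroup.isCyclic_of_le hle
  have h1 : Nat.card (Subgroup.center H) ∣ p := by
    rw [← IsCyclic.exponent_eq_card]
    apply Monoid.exponent_dvd_of_forall_pow_eq_one
    intro z
    apply Subtype.ext
    rw [Subgroup.coe_pow, Subgroup.coe_one]
    exact D.zp hna z (fun g => ((Subgroup.mem_center_iff.mp z.2) g).symm)
  haveI := D.nontrivial
  haveI := D.pgrp.center_nontrivial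
  rcases (Nat.dvd_prime hp.out).mp h1 with h | h
  · exact absurd h (Finite.one_lt_card (α := Subgroup.center H)).ne'
  · exact h

theorem range_commHom [Finite H] (D : AutData p H α q) (hna : ¬ ∀ a b : H, a * b = b * a)
    (x : H) (hx : ¬ ∀ g : H, x * g = g * x) : (commHom D.cc x).range = Subgroup.center H := by
  ext z
  constructor
  · rintro ⟨g, rfl⟩
    rw [Subgroup.mem_center_iff]
    intro h
    exact (D.cc x g h).symm
  · intro hz
    obtain ⟨g, hg⟩ := D.cam hna x hx z (fun g => ((Subgroup.mem_center_iff.mp hz) g).symm)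
    exact ⟨g, hg⟩

theorem index_ker_commHom [Finite H] (D : AutData p H α q) (hna : ¬ ∀ a b : H, a * b = b * a)
    (hc : ∃ c : H, ∀ z : H, (∀ g : H, z * g = g * z) → ∃ k : ℕ, z = c ^ k)
    (x : H) (hx : ¬ ∀ g : H, x * g = g * x) : (commHom D.cc x).ker.index = p := by
  rw [Subgroup.index_ker, D.range_commHom hna x hx, D.card_center hna hc]

omit hp in
theorem sup_eq_top_of_index_prime {A K : Subgroup H} (hp' : p.Prime) (hA : A.index = p)
    (hK : ¬ K ≤ A) : A ⊔ K = ⊤ := by
  have h1 : (A ⊔ K).index ∣ p := hA ▸ Subgroup.index_dvd_of_le le_sup_left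
  rcases (Nat.dvd_prime hp').mp h1 with h | h
  · exact Subgroup.index_eq_one.mp h
  · exfalso
    apply hK
    have h2 := Subgroup.relIndex_mul_index (le_sup_left : A ≤ A ⊔ K)
    rw [h, hA] at h2
    have h3 : A.relIndex (A ⊔ K) = 1 := by
      have hp0 := hp'.pos
      nlinarith
    exact le_sup_right.trans (Subgroup.relIndex_eq_one.mp h3)

theorem card_modEq [Finite H] (D : AutData p H α q) (hna : ¬ ∀ a b : H, a * b = b * a) :
    Nat.card H ≡ Nat.card (Subgroup.center H) [MOD q] := by
  haveI : Fact q.Prime := ⟨D.qprime⟩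
  have hord : orderOf α = q := orderOf_eq_prime D.pow_q D.ne_one
  have hzp : IsPGroup q (Subgroup.zpowers α) := by
    apply IsPGroup.of_card (n := 1)
    rw [Nat.card_zpowers, hord, pow_one]
  have h1 := hzp.card_modEq_card_fixedPoints H
  have heq : MulAction.fixedPoints (Subgroup.zpowers α) H = ((Subgroup.center H : Subgroup H) : Set H) := by
    ext h
    rw [MulAction.mem_fixedPoints, SetLike.mem_coe, Subgroup.mem_center_iff]
    constructor
    · intro hfix g
      have := hfix ⟨α, Subgroup.mem_zpowers α⟩
      rw [Subgroup.smul_def, MulAut.smul_def] at this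
      exact (D.fixed_central h this g).symm
    · intro hcen m
      have hα : α ∈ MulAction.stabilizer (MulAut H) h := by
        rw [MulAction.mem_stabilizer_iff, MulAut.smul_def]
        exact D.central_fixed hna h (fun g => (hcen g).symm)
      have := (Subgroup.zpowers_le.mpr hα) m.2
      rw [MulAction.mem_stabilizer_iff] at this
      rw [Subgroup.smul_def]
      exact this
  have h2 : Nat.card (MulAction.fixedPoints (Subgroup.zpowers α) H) = Nat.card (Subgroup.center H) :=
    Nat.card_congr (Equiv.setCongr heq)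
  rw [h2] at h1
  exact h1

omit hp in
theorem comm_of_comm_mul_central (k m c : H) (hc : ∀ g : H, c * g = g * c)
    (h : k * (m * c) = (m * c) * k) : k * m = m * k := by
  have h1 : k * m * c = m * k * c := by
    calc k * m * c = k * (m * c) := by rw [mul_assoc]
      _ = m * c * k := h
      _ = m * (c * k) := by rw [mul_assoc]
      _ = m * (k * c) := by rw [hc k]
      _ = m * k * c := by rw [mul_assoc]
  exact mul_right_cancel h1

theorem central_of_centralizer_imp [Finite H] (D : AutData p H α q) (x : H)
    (h : ∀ k : H, k * α x = α x * k → k * x = x * k) : ∀ g : H, x * g = g * x := by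
  by_contra hx
  have hK : Subgroup.centralizer {x} ≠ ⊤ := by
    intro htop
    apply hx
    intro g
    have : g ∈ Subgroup.centralizer {x} := by rw [htop]; trivial
    rw [Subgroup.mem_centralizer_singleton_iff] at this
    exact this.symm
  apply hx
  apply D.central_of_mem_invariant (Subgroup.centralizer {x}) hK
  · intro k hk
    rw [Subgroup.mem_centralizer_singleton_iff] at hk ⊢
    apply h
    rw [← map_mul, hk, map_mul]
  · rw [Subgroup.mem_centralizer_singleton_iff]

/-- An automorphism of order two cannot occur in the nonabelian case. -/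
theorem false_of_sq [Finite H] (D : AutData p H α q) (hna : ¬ ∀ a b : H, a * b = b * a)
    (h2 : α ^ 2 = 1) : False := by
  apply hna
  intro g
  have hαα : ∀ x : H, α (α x) = x := by
    intro x
    have := congrArg (fun f : MulAut H => f x) h2
    simpa [pow_two, MulAut.mul_apply] using this
  -- `m = g * α g` is central
  have hm : ∀ k : H, (g * α g) * k = k * (g * α g) := by
    apply D.central_of_centralizer_imp
    intro k hk
    have e : α (g * α g) = (g * α g) * ⁅(g * α g)⁻¹, g⁻¹⁆ := by
      rw [map_mul, hαα, commutatorElement_def]; group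
    rw [e] at hk
    exact comm_of_comm_mul_central k _ _ (fun t => D.cc _ _ t) hk
  apply D.central_of_centralizer_imp
  intro k hk
  have e : α g = g⁻¹ * (g * α g) := by group
  rw [e] at hk
  have h1 := comm_of_comm_mul_central k _ _ hm hk
  calc k * g = g * (g⁻¹ * k) * g := by group
    _ = g * (k * g⁻¹) * g := by rw [h1]
    _ = g * k := by group

/-- For `p = 2` and an automorphism of order three, every involution is central. -/
theorem central_of_cube [Finite H] (D : AutData p H α q) (hna : ¬ ∀ a b : H, a * b = b * a)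
    (hp2 : p = 2) (h3 : α ^ 3 = 1) (w : H) (hwp : w ^ p = 1) : ∀ g : H, w * g = g * w := by
  by_contra hw
  have h3' : ∀ x : H, α (α (α x)) = x := by
    intro x
    have := congrArg (fun f : MulAut H => f x) h3
    simpa [pow_succ, MulAut.mul_apply] using this
  have hsq : ∀ x : H, x ^ p = 1 → x * x = 1 := by
    intro x hx
    rw [hp2, pow_two] at hx
    exact hx
  have hww : w * w = 1 := hsq w hwp
  have hw1 : α w * α w = 1 := hsq _ (by rw [← map_pow, hwp, map_one])
  have hw2 : α (α w) * α (α w) = 1 := hsq _ (by rw [← map_pow, ← map_pow, hwp, map_one, map_one])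
  -- `m = w w₁ w₂` is central
  have hm : ∀ k : H, (w * α w * α (α w)) * k = k * (w * α w * α (α w)) := by
    apply D.central_of_centralizer_imp
    intro k hk
    have e : α (w * α w * α (α w)) =
        (w * α w * α (α w)) * ⁅(w * α w * α (α w))⁻¹, w⁻¹⁆ := by
      rw [map_mul, map_mul, h3', commutatorElement_def]; group
    rw [e] at hk
    exact comm_of_comm_mul_central k _ _ (fun t => D.cc _ _ t) hk
  have hmm : (w * α w * α (α w)) * (w * α w * α (α w)) = 1 :=
    hsq _ (D.zp hna _ hm)
  have e1 : α (α w) = α w * w * (w * α w * α (α w)) := by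
    calc α (α w) = (α w * α w) * α (α w) := by rw [hw1, one_mul]
      _ = α w * (w * w) * α w * α (α w) := by rw [hww, mul_one]
      _ = α w * w * (w * α w * α (α w)) := by group
  have e2 : α w * w * (α w * w) = 1 := by
    have h := hw2
    rw [e1] at h
    set m := w * α w * α (α w) with hmdef
    have : α w * w * m * (α w * w * m) = α w * w * (α w * w) * (m * m) := by
      calc α w * w * m * (α w * w * m) = α w * w * (m * (α w * w)) * m := by group
        _ = α w * w * ((α w * w) * m) * m := by rw [hm (α w * w)]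
        _ = α w * w * (α w * w) * (m * m) := by group
    rw [this, hmm, mul_one] at h
    exact h
  have hcomm : w * α w = α w * w := by
    calc w * α w = w * α w * (α w * w * (α w * w)) := by rw [e2, mul_one]
      _ = w * (α w * α w) * w * (α w * w) := by group
      _ = (w * w) * (α w * w) := by rw [hw1, mul_one]
      _ = α w * w := by rw [hww, one_mul]
  have hcomm2 : w * α (α w) = α (α w) * w := by
    rw [e1]
    set m := w * α w * α (α w) with hmdef
    calc w * (α w * w * m) = (w * α w) * w * m := by group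
      _ = (α w * w) * w * m := by rw [hcomm]
      _ = α w * w * (w * m) := by group
      _ = α w * w * (m * w) := by rw [hm w]
      _ = α w * w * m * w := by group
  have hK : Subgroup.centralizer {w, α w, α (α w)} ≠ ⊤ := by
    intro htop
    apply hw
    intro g
    have : g ∈ Subgroup.centralizer {w, α w, α (α w)} := by rw [htop]; trivial
    rw [Subgroup.mem_centralizer_iff] at this
    exact this w (by simp)
  apply hw
  apply D.central_of_mem_invariant _ hK
  · intro k hk
    rw [Subgroup.mem_centralizer_iff] at hk ⊢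
    intro h hh
    simp only [Set.mem_insert_iff, Set.mem_singleton_iff] at hh
    rcases hh with hh | hh | hh
    · have := hk (α (α w)) (by simp)
      have h4 := congrArg α this
      rw [map_mul, map_mul, h3'] at h4
      rw [hh]
      exact h4
    · have := hk w (by simp)
      have h4 := congrArg α this
      rw [map_mul, map_mul] at h4
      rw [hh]
      exact h4
    · have := hk (α w) (by simp)
      have h4 := congrArg α this
      rw [map_mul, map_mul] at h4
      rw [hh]
      exact h4
  · rw [Subgroup.mem_centralizer_iff]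
    intro h hh
    simp only [Set.mem_insert_iff, Set.mem_singleton_iff] at hh
    rcases hh with hh | hh | hh
    · rw [hh]
    · rw [hh]; exact hcomm.symm
    · rw [hh]; exact hcomm2.symm

theorem card_eq_cube [Finite H] (D : AutData p H α q) (hna : ¬ ∀ a b : H, a * b = b * a)
    (hc : ∃ c : H, ∀ z : H, (∀ g : H, z * g = g * z) → ∃ k : ℕ, z = c ^ k)
    (w : H) (hw : ¬ ∀ g : H, w * g = g * w)
    (hab : ∀ a b : H, a * w = w * a → b * w = w * b → a * b = b * a) : Nat.card H = p ^ 3 := by
  have hpp : p.Prime := hp.out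
  have hw₁ : ¬ ∀ g : H, α w * g = g * α w := by
    intro h
    apply hw
    intro g
    have := h (α g)
    rw [← map_mul, ← map_mul] at this
    exact α.injective this
  have hA : (commHom D.cc w).ker.index = p := D.index_ker_commHom hna hc w hw
  have hA₁ : (commHom D.cc (α w)).ker.index = p := D.index_ker_commHom hna hc (α w) hw₁
  have hmap : ∀ g ∈ (commHom D.cc w).ker, α g ∈ (commHom D.cc (α w)).ker := by
    intro g hg
    rw [mem_ker_commHom] at hg ⊢
    rw [← map_mul, hg, map_mul]
  have hmap' : ∀ g ∈ (commHom D.cc (α w)).ker, α⁻¹ g ∈ (commHom D.cc w).ker := by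
    intro g hg
    rw [mem_ker_commHom] at hg ⊢
    have := congrArg (fun x => (α⁻¹ : MulAut H) x) hg
    simp only [map_mul, MulAut.inv_apply_self] at this
    exact this
  have hAtop : (commHom D.cc w).ker ≠ ⊤ := by
    intro h
    rw [h, Subgroup.index_top] at hA
    exact hpp.one_lt.ne hA
  have hwA : w ∈ (commHom D.cc w).ker := by rw [mem_ker_commHom]
  have hne : (commHom D.cc (α w)).ker ≠ (commHom D.cc w).ker := by
    intro h
    apply hw
    apply D.central_of_mem_invariant _ hAtop _ w hwA
    intro k hk
    rw [← h]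
    exact hmap k hk
  have hnle : ¬ (commHom D.cc (α w)).ker ≤ (commHom D.cc w).ker := by
    intro hle
    apply hne
    apply le_antisymm hle
    have h2 := Subgroup.relIndex_mul_index hle
    rw [hA, hA₁] at h2
    have h3 : (commHom D.cc (α w)).ker.relIndex (commHom D.cc w).ker = 1 := by
      have hp0 := hpp.pos
      nlinarith
    exact Subgroup.relIndex_eq_one.mp h3
  have hsup := sup_eq_top_of_index_prime hpp hA hnle
  have hAab : ∀ a ∈ (commHom D.cc w).ker, ∀ b ∈ (commHom D.cc w).ker, a * b = b * a := by
    intro a ha b hb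
    rw [mem_ker_commHom] at ha hb
    exact hab a b ha.symm hb.symm
  have hA₁ab : ∀ a ∈ (commHom D.cc (α w)).ker, ∀ b ∈ (commHom D.cc (α w)).ker,
      a * b = b * a := by
    intro a ha b hb
    have := hAab _ (hmap' a ha) _ (hmap' b hb)
    rw [← map_mul, ← map_mul] at this
    exact (α⁻¹).injective this
  have hinf : (commHom D.cc w).ker ⊓ (commHom D.cc (α w)).ker ≤ Subgroup.center H := by
    intro t ht
    have hle : (commHom D.cc w).ker ⊔ (commHom D.cc (α w)).ker ≤ Subgroup.centralizer {t} := by
      apply sup_le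
      · intro a ha
        rw [Subgroup.mem_centralizer_singleton_iff]
        exact hAab a ha t ht.1
      · intro a ha
        rw [Subgroup.mem_centralizer_singleton_iff]
        exact hA₁ab a ha t ht.2
    rw [hsup] at hle
    rw [Subgroup.mem_center_iff]
    intro g
    have := hle (Subgroup.mem_top g)
    rw [Subgroup.mem_centralizer_singleton_iff] at this
    exact this
  have hcz := D.card_center hna hc
  -- upper bound
  have hub : Nat.card H ≤ p ^ 3 := by
    rw [← Subgroup.card_mul_index ((commHom D.cc w).ker ⊓ (commHom D.cc (α w)).ker)]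
    have h1 : Nat.card ↥((commHom D.cc w).ker ⊓ (commHom D.cc (α w)).ker) ≤ p :=
      le_trans (Subgroup.card_le_of_le hinf) hcz.le
    have h2 : ((commHom D.cc w).ker ⊓ (commHom D.cc (α w)).ker).index ≤ p * p := by
      have := Subgroup.index_inf_le (H := (commHom D.cc w).ker) (K := (commHom D.cc (α w)).ker)
      rwa [hA, hA₁] at this
    calc _ ≤ p * (p * p) := Nat.mul_le_mul h1 h2
      _ = p ^ 3 := by ring
  -- lower bound
  have hZA : Subgroup.center H ≤ (commHom D.cc w).ker := by
    intro z hz
    rw [mem_ker_commHom]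
    exact (Subgroup.mem_center_iff.mp hz) w
  have hZne : Subgroup.center H ≠ (commHom D.cc w).ker := by
    intro h
    apply hw
    intro g
    rw [← h] at hwA
    exact ((Subgroup.mem_center_iff.mp hwA) g).symm
  have hlt : p < Nat.card (commHom D.cc w).ker := by
    by_contra hle
    push Not at hle
    apply hZne
    apply Subgroup.eq_of_le_of_card_ge hZA
    rw [hcz]
    exact hle
  obtain ⟨n, hn⟩ := (IsPGroup.iff_card.mp D.pgrp)
  have hdvd : Nat.card (commHom D.cc w).ker ∣ p ^ n := hn ▸ Subgroup.card_subgroup_dvd_card _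
  obtain ⟨j, -, hj⟩ := (Nat.dvd_prime_pow hpp).mp hdvd
  have hcard : Nat.card H = p ^ (j + 1) := by
    rw [← Subgroup.card_mul_index (commHom D.cc w).ker, hA, hj, pow_succ]
  have hj2 : 2 ≤ j := by
    by_contra hlt2
    push Not at hlt2
    rw [hj] at hlt
    have : p ^ j ≤ p ^ 1 := Nat.pow_le_pow_right hpp.pos (by omega)
    rw [pow_one] at this
    omega
  have hj3 : j + 1 ≤ 3 := by
    rw [hcard] at hub
    exact (Nat.pow_le_pow_iff_right hpp.one_lt).mp hub
  have : j = 2 := by omega
  rw [hcard, this]

theorem ex [Finite H] (D : AutData p H α q) (hna : ¬ ∀ a b : H, a * b = b * a)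
    (hp23 : p = 2 ∨ p = 3)
    (hc : ∃ c : H, ∀ z : H, (∀ g : H, z * g = g * z) → ∃ k : ℕ, z = c ^ k)
    (w : H) (hw : ¬ ∀ g : H, w * g = g * w) (hwp : w ^ p = 1) :
    ∃ a b : H, a * w = w * a ∧ b * w = w * b ∧ a * b ≠ b * a := by
  by_contra hcon
  push Not at hcon
  have hcard := D.card_eq_cube hna hc w hw hcon
  have hmod := D.card_modEq hna
  rw [hcard, D.card_center hna hc] at hmod
  have hqp := D.qprime
  have hqne := D.qne
  rcases hp23 with h2 | h3
  · -- `p = 2`, so `q = 3`
    have hq3 : q = 3 := by
      rw [h2] at hmod hqne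
      have h1 : q ∣ 2 ^ 3 - 2 := (Nat.modEq_iff_dvd' (by norm_num)).mp hmod.symm
      have h6 : q ∣ 6 := by simpa using h1
      have hle : q ≤ 6 := Nat.le_of_dvd (by norm_num) h6
      have hq2 := hqp.two_le
      interval_cases q
      · exact absurd rfl hqne
      · rfl
      · norm_num at h6
      · norm_num at h6
      · norm_num at hqp
    have h3' : α ^ 3 = 1 := hq3 ▸ D.pow_q
    exact hw (D.central_of_cube hna h2 h3' w hwp)
  · -- `p = 3`, so `q = 2`
    have hq2 : q = 2 := by
      rw [h3] at hmod hqne
      have h1 : q ∣ 3 ^ 3 - 3 := (Nat.modEq_iff_dvd' (by norm_num)).mp hmod.symm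
      have h24 : q ∣ 24 := by simpa using h1
      have h24' : q ∣ 2 ^ 3 * 3 := by simpa using h24
      rcases (Nat.Prime.dvd_mul hqp).mp h24' with h | h
      · exact (Nat.prime_dvd_prime_iff_eq hqp Nat.prime_two).mp (hqp.dvd_of_dvd_pow h)
      · exact absurd ((Nat.prime_dvd_prime_iff_eq hqp Nat.prime_three).mp h) hqne
    have h2' : α ^ 2 = 1 := hq2 ▸ D.pow_q
    exact D.false_of_sq hna h2'

/-- **Main abstract lemma.** Under `AutData`, the group is abelian or a Schmidt kernel. -/
theorem abelian_or_sk [Finite H] (D : AutData p H α q) :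
    (∀ a b : H, a * b = b * a) ∨ SK p H := by
  by_cases hna : ∀ a b : H, a * b = b * a
  · exact Or.inl hna
  · right
    exact ⟨D.cc, D.pc, D.zp hna, D.cam hna, D.ex hna⟩

end AutData

end Cfsg.Agent.Lib.Helper1.SchmidtKernel
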