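import Mathlib
import Cfsg.Prelude.Def_SolvableStructure
import Cfsg.Agent.Lib.Helper96.Schmidt
import Cfsg.Agent.Lib.Helper1.Fitting
import Cfsg.Agent.Lib.Helper1.SchmidtKernel

/-!
# The normal Sylow subgroup of a minimal non-nilpotent group

It carries an automorphism of prime order `q ≠ p` (conjugation by a generator of the cyclic
Sylow `q`-subgroup) fixing pointwise each proper invariant subgroup: `AutData`.
-/

set_option autoImplicit false
set_option linter.unusedSectionVars false
set_option linter.style.haveILetI false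

namespace Cfsg.Agent.Lib.Helper1.SchmidtKernel

open scoped Pointwise

theorem exists_autData {X : Type*} [Group X] [Finite X] {p : ℕ} [hp : Fact p.Prime]
    (hX : Cfsg.IsMinimalNonNilpotent X) (P : Sylow p X) (hPn : (P : Subgroup X).Normal)
    (hP1 : (P : Subgroup X) ≠ ⊥) :
    ∃ (α : MulAut ↥(P : Subgroup X)) (q : ℕ), AutData p ↥(P : Subgroup X) α q := by
  classical
  obtain ⟨q, p₀, hq, hp₀, hqp₀, P', Q₀, hPcyc, hQ₀n, hPQ, hP'n⟩ :=
    Cfsg.Agent.Lib.Helper96.minimalNonNilpotent_structure hX.1 hX.2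
  haveI hqF : Fact q.Prime := ⟨hq⟩
  haveI hp₀F : Fact p₀.Prime := ⟨hp₀⟩
  have hpp : p.Prime := hp.out
  have hcard : Nat.card X ∣ Nat.card (Q₀ : Subgroup X) * Nat.card (P' : Subgroup X) := by
    have h1 := Cfsg.Agent.Lib.Helper1.card_sup_dvd_mul_of_normal_left (Q₀ : Subgroup X)
      (P' : Subgroup X)
    rwa [sup_comm, hPQ, Subgroup.card_top] at h1
  obtain ⟨a, ha⟩ := P'.isPGroup'.exists_card_eq
  have hpX : p ∣ Nat.card X := by
    have h1 : p ∣ Nat.card (P : Subgroup X) := by
      obtain ⟨b, hb⟩ := P.isPGroup'.exists_card_eq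
      rw [hb]
      rcases Nat.eq_zero_or_pos b with rfl | hb0
      · exfalso
        rw [pow_zero] at hb
        exact hP1 (Subgroup.card_eq_one.mp hb)
      · exact dvd_pow_self p hb0.ne'
    exact h1.trans (Subgroup.card_subgroup_dvd_card _)
  have hpp₀ : p₀ = p := by
    obtain ⟨b, hb⟩ := Q₀.isPGroup'.exists_card_eq
    have h1 := hpX.trans hcard
    rw [ha, hb] at h1
    rcases (Nat.Prime.dvd_mul hpp).mp h1 with h2 | h2
    · exact ((Nat.prime_dvd_prime_iff_eq hpp hp₀).mp (hpp.dvd_of_dvd_pow h2)).symm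
    · exfalso
      have hpq : p = q := (Nat.prime_dvd_prime_iff_eq hpp hq).mp (hpp.dvd_of_dvd_pow h2)
      subst hpq
      apply hP'n
      have := Sylow.unique_of_normal P hPn
      rw [Subsingleton.elim P' P]
      exact hPn
  subst hpp₀
  have hQP : Q₀ = P := by
    have := Sylow.unique_of_normal P hPn
    exact Subsingleton.elim _ _
  subst hQP
  have hqp : q ≠ p₀ := hqp₀
  -- the generator
  obtain ⟨g, hg⟩ := IsCyclic.exists_generator (α := ↥(P' : Subgroup X))
  have hP'eq : (P' : Subgroup X) = Subgroup.zpowers (g : X) := by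
    apply le_antisymm
    · intro x hx
      have := hg ⟨x, hx⟩
      rw [Subgroup.mem_zpowers_iff] at this ⊢
      obtain ⟨k, hk⟩ := this
      exact ⟨k, by simpa using congrArg Subtype.val hk⟩
    · rw [Subgroup.zpowers_le]
      exact g.2
  set y : X := (g : X) with hy
  have hyP' : y ∈ (P' : Subgroup X) := g.2
  have hzq : IsPGroup q (Subgroup.zpowers y) := hP'eq ▸ P'.isPGroup'
  have hint : ∀ x : X, x ∈ (Q₀ : Subgroup X) → x ∈ (P' : Subgroup X) → x = 1 := fun x h1 h2 =>
    Cfsg.Agent.Lib.Helper96.eq_one_of_mem_isPGroup_of_mem_isPGroup hqp.symm Q₀.isPGroup'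
      P'.isPGroup' h1 h2
  refine ⟨MulAut.conjNormal y, q, ⟨Q₀.isPGroup', hq, hqp, ?_, ?_, ?_⟩⟩
  · -- invariant proper subgroups are centralized
    intro K hK hinv k hk
    set K₀ : Subgroup X := K.map (Q₀ : Subgroup X).subtype with hK₀
    have hK₀le : K₀ ≤ (Q₀ : Subgroup X) := Subgroup.map_subtype_le K
    have hynorm : y ∈ Subgroup.normalizer (K₀ : Set X) := by
      apply Subgroup.mem_normalizer_fintype
      rintro n ⟨k', hk', rfl⟩
      exact ⟨MulAut.conjNormal y k', hinv k' hk', by simp [MulAut.conjNormal_apply]⟩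
    have hzle : Subgroup.zpowers y ≤ Subgroup.normalizer (K₀ : Set X) :=
      Subgroup.zpowers_le.mpr hynorm
    have hLne : K₀ ⊔ Subgroup.zpowers y ≠ ⊤ := by
      intro htop
      apply hK
      rw [eq_top_iff]
      intro x _
      have hx : (x : X) ∈ Subgroup.zpowers y ⊔ K₀ := by rw [sup_comm, htop]; trivial
      rw [← SetLike.mem_coe, Subgroup.coe_mul_of_left_le_normalizer_right _ _ hzle,
        Set.mem_mul] at hx
      obtain ⟨a', ha', b', hb', hab'⟩ := hx
      have ha1 : a' = 1 := by
        apply hint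
        · have : a' = (x : X) * b'⁻¹ := by rw [← hab']; group
          rw [this]
          exact (Q₀ : Subgroup X).mul_mem x.2 ((Q₀ : Subgroup X).inv_mem (hK₀le hb'))
        · rw [hP'eq]; exact ha'
      rw [ha1, one_mul] at hab'
      obtain ⟨k', hk', hk'e⟩ := hb'
      have : k' = x := Subtype.ext (by rw [← hab']; exact hk'e)
      rw [← this]
      exact hk'
    have hnil := hX.2 _ hLne
    have hcomm := Cfsg.Agent.Lib.Helper96.commute_of_isNilpotent_sup hqp.symm
      (Q₀.isPGroup'.to_le hK₀le) hzq hnil (x := (k : X)) (y := y) ⟨k, hk, rfl⟩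
      (Subgroup.mem_zpowers y)
    apply Subtype.ext
    rw [MulAut.conjNormal_apply, ← hcomm, mul_inv_cancel_right]
  · -- the action is nontrivial
    intro h1
    apply hP'n
    rw [← Subgroup.normalizer_eq_top_iff, eq_top_iff, ← hPQ]
    apply sup_le Subgroup.le_normalizer
    intro x hx
    have hcen : ∀ t ∈ Subgroup.zpowers y, x * t = t * x := by
      have hle : Subgroup.zpowers y ≤ Subgroup.centralizer {x} := by
        rw [Subgroup.zpowers_le, Subgroup.mem_centralizer_singleton_iff]
        have := congrArg (fun f : MulAut ↥(Q₀ : Subgroup X) => ((f ⟨x, hx⟩ : ↥(Q₀ : Subgroup X)) : X)) h1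
        simp only [MulAut.conjNormal_apply, MulAut.one_apply] at this
        calc y * x = y * x * y⁻¹ * y := by group
          _ = x * y := by rw [this]
      intro t ht
      have := hle ht
      rw [Subgroup.mem_centralizer_singleton_iff] at this
      exact this.symm
    rw [hP'eq, Subgroup.mem_normalizer_iff]
    intro t
    constructor
    · intro ht
      rw [hcen t ht, mul_inv_cancel_right]
      exact ht
    · intro ht
      have h2 := hcen _ ht
      have h3 : x * t * x⁻¹ = t := by
        have : x * (x * t * x⁻¹) * x⁻¹ = x * t * x⁻¹ := by rw [h2, mul_inv_cancel_right]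
        calc x * t * x⁻¹ = x⁻¹ * (x * (x * t * x⁻¹) * x⁻¹) * x := by group
          _ = x⁻¹ * (x * t * x⁻¹) * x := by rw [this]
          _ = t := by group
      rw [← h3]
      exact ht
  · -- `y ^ q` centralizes
    have hyne : (P' : Subgroup X) ≠ ⊥ := by
      intro h
      apply hP'n
      rw [h]
      infer_instance
    have ha0 : a ≠ 0 := by
      rintro rfl
      rw [pow_zero] at ha
      exact hyne (Subgroup.card_eq_one.mp ha)
    have hord : orderOf y = q ^ a := by
      rw [← Nat.card_zpowers, ← hP'eq, ha]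
    have hqdvd : q ∣ orderOf y := by rw [hord]; exact dvd_pow_self q ha0
    have hLne : (Q₀ : Subgroup X) ⊔ Subgroup.zpowers (y ^ q) ≠ ⊤ := by
      intro htop
      have h1 := Cfsg.Agent.Lib.Helper1.card_sup_dvd_mul_of_normal_left (Q₀ : Subgroup X)
        (Subgroup.zpowers (y ^ q))
      rw [htop, Subgroup.card_top, Nat.card_zpowers] at h1
      have hcop : Nat.Coprime (Nat.card (Q₀ : Subgroup X)) (Nat.card (P' : Subgroup X)) := by
        obtain ⟨b, hb⟩ := Q₀.isPGroup'.exists_card_eq
        rw [ha, hb]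
        exact Nat.Coprime.pow _ _ ((Nat.coprime_primes hp₀ hq).mpr hqp.symm)
      have h2 : Nat.card (Q₀ : Subgroup X) * Nat.card (P' : Subgroup X) ∣ Nat.card X :=
        hcop.mul_dvd_of_dvd_of_dvd (Subgroup.card_subgroup_dvd_card _)
          (Subgroup.card_subgroup_dvd_card _)
      have h3 := Nat.dvd_of_mul_dvd_mul_left Nat.card_pos (h2.trans h1)
      rw [hP'eq, Nat.card_zpowers, orderOf_pow' y hq.ne_zero, Nat.gcd_eq_right hqdvd] at h3
      have h4 := Nat.le_of_dvd (Nat.div_pos (Nat.le_of_dvd (orderOf_pos y) hqdvd) hq.pos) h3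
      have h5 := Nat.div_lt_self (orderOf_pos y) hq.one_lt
      omega
    have hnil := hX.2 _ hLne
    have hzq' : IsPGroup q (Subgroup.zpowers (y ^ q)) :=
      hzq.to_le (Subgroup.zpowers_le.mpr (Subgroup.pow_mem _ (Subgroup.mem_zpowers y) q))
    ext x
    rw [← map_pow, MulAut.conjNormal_apply, MulAut.one_apply]
    have hcomm := Cfsg.Agent.Lib.Helper96.commute_of_isNilpotent_sup hqp.symm
      Q₀.isPGroup' hzq' hnil (x := (x : X)) (y := y ^ q) x.2 (Subgroup.mem_zpowers _)
    rw [← hcomm, mul_inv_cancel_right]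

end Cfsg.Agent.Lib.Helper1.SchmidtKernel
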