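import Mathlib
import Cfsg.Prelude.Def_Local
import Cfsg.Agent.Lib.Helper1.PCore
import Cfsg.Agent.Lib.Helper1.SchmidtKernel
import Cfsg.Agent.Lib.Helper1.GaschutzYen
import Cfsg.Agent.Lib.Helper76.PCore
import Cfsg.Agent.Lib.Helper32.HHQStable
import Cfsg.Agent.S0058

/-!
# Sylow subgroups that are Schmidt kernels, `p ∈ {2, 3}`

If `Γ` is `p`-soluble with `O_{p'}(Γ) = 1` and a Sylow `p`-subgroup `S` of `Γ` satisfies `SK p`,
`p ∈ {2, 3}`, then `S` is normal in `Γ`.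
-/

set_option autoImplicit false
set_option linter.unusedSectionVars false
set_option linter.unusedVariables false
set_option linter.style.haveILetI false

namespace Cfsg.Agent.Lib.Helper1.SchmidtKernel

open Cfsg
open scoped commutatorElement Pointwise

universe u

section Basics

variable {Γ : Type u} [Group Γ]

/-- The center of a subgroup, as a subgroup of the ambient group. -/
def zOf (S : Subgroup Γ) : Subgroup Γ := (Subgroup.center ↥S).map S.subtype

theorem mem_zOf {S : Subgroup Γ} {z : Γ} : z ∈ zOf S ↔ z ∈ S ∧ ∀ s ∈ S, z * s = s * z := by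
  constructor
  · rintro ⟨z', hz', rfl⟩
    refine ⟨z'.2, fun s hs => ?_⟩
    have := (Subgroup.mem_center_iff.mp hz') ⟨s, hs⟩
    exact (congrArg Subtype.val this).symm
  · rintro ⟨hzS, hz⟩
    refine ⟨⟨z, hzS⟩, ?_, rfl⟩
    rw [SetLike.mem_coe, Subgroup.mem_center_iff]
    intro s
    apply Subtype.ext
    exact (hz s.1 s.2).symm

theorem zOf_le (S : Subgroup Γ) : zOf S ≤ S := fun _ hz => (mem_zOf.mp hz).1

variable {p : ℕ}

theorem SK.comm_mem_zOf {S : Subgroup Γ} (h : SK p ↥S) {x y : Γ} (hx : x ∈ S) (hy : y ∈ S) :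
    ⁅x, y⁆ ∈ zOf S := by
  rw [mem_zOf]
  refine ⟨?_, fun s hs => ?_⟩
  · rw [commutatorElement_def]
    exact S.mul_mem (S.mul_mem (S.mul_mem hx hy) (S.inv_mem hx)) (S.inv_mem hy)
  · have := h.cc ⟨x, hx⟩ ⟨y, hy⟩ ⟨s, hs⟩
    exact congrArg Subtype.val this

theorem SK.pow_mem_zOf {S : Subgroup Γ} (h : SK p ↥S) {x : Γ} (hx : x ∈ S) : x ^ p ∈ zOf S := by
  rw [mem_zOf]
  refine ⟨S.pow_mem hx p, fun s hs => ?_⟩
  have := h.pc ⟨x, hx⟩ ⟨s, hs⟩
  exact congrArg Subtype.val this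

theorem SK.pow_eq_one_of_mem_zOf {S : Subgroup Γ} (h : SK p ↥S) {z : Γ} (hz : z ∈ zOf S) :
    z ^ p = 1 := by
  rw [mem_zOf] at hz
  have := h.zp ⟨z, hz.1⟩ (fun g => Subtype.ext (hz.2 g.1 g.2))
  exact congrArg Subtype.val this

theorem SK.exists_comm_eq {S : Subgroup Γ} (h : SK p ↥S) {x : Γ} (hx : x ∈ S) (hxz : x ∉ zOf S)
    {z : Γ} (hz : z ∈ zOf S) : ∃ g ∈ S, ⁅x, g⁆ = z := by
  have hz' := mem_zOf.mp hz
  obtain ⟨g, hg⟩ := h.cam ⟨x, hx⟩ (fun hc => hxz (mem_zOf.mpr ⟨hx, fun s hs =>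
    congrArg Subtype.val (hc ⟨s, hs⟩)⟩)) ⟨z, hz'.1⟩ (fun g => Subtype.ext (hz'.2 g.1 g.2))
  exact ⟨g.1, g.2, congrArg Subtype.val hg⟩

end Basics

section Core

variable {Γ : Type u} [Group Γ] [Finite Γ] {p : ℕ} [hp : Fact p.Prime]

/-- The stability argument: if `Z ≤ Z(S)` is normal in `Γ`, contains `[S, S]` and has exponent `p`,
then `S ≤ O_p(Γ)`. -/
theorem le_pCore_of_stab (hsol : IsPSolvable p Γ)
    (hcore : ∀ N : Subgroup Γ, N.Normal → (Nat.card N).Coprime p → N = ⊥)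
    (S : Sylow p Γ) (Z : Subgroup Γ) (hZn : Z.Normal)
    (hZc : ∀ z ∈ Z, ∀ s ∈ (S : Subgroup Γ), z * s = s * z)
    (hcomm : ∀ x ∈ (S : Subgroup Γ), ∀ y ∈ (S : Subgroup Γ), ⁅x, y⁆ ∈ Z)
    (hexp : ∀ z ∈ Z, z ^ p = 1) : (S : Subgroup Γ) ≤ pCore p Γ := by
  have hRn : (pCore p Γ).Normal := inferInstance
  have hRp : IsPGroup p (pCore p Γ) := Cfsg.Agent.Lib.Helper1.pCore_isPGroup p
  have hRS : pCore p Γ ≤ (S : Subgroup Γ) := Cfsg.Agent.Lib.Helper1.pCore_le_sylow p S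
  have hcent : Subgroup.centralizer (pCore p Γ : Set Γ) ≤ pCore p Γ :=
    Cfsg.Agent.Lib.Helper76.centralizer_pCore_le p hsol hcore
  let A : Subgroup Γ :=
    { carrier := {a | (∀ z ∈ Z, a * z = z * a) ∧ ∀ r ∈ pCore p Γ, ⁅a, r⁆ ∈ Z}
      one_mem' := ⟨fun z _ => by simp, fun r _ => by
        rw [commutatorElement_one_left]; exact Z.one_mem⟩
      mul_mem' := by
        rintro a b ⟨ha1, ha2⟩ ⟨hb1, hb2⟩
        refine ⟨fun z hz => by rw [mul_assoc, hb1 z hz, ← mul_assoc, ha1 z hz, mul_assoc],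
          fun r hr => ?_⟩
        have e : ⁅a * b, r⁆ = a * ⁅b, r⁆ * a⁻¹ * ⁅a, r⁆ := by
          simp only [commutatorElement_def]; group
        rw [e, ha1 _ (hb2 r hr), mul_inv_cancel_right]
        exact Z.mul_mem (hb2 r hr) (ha2 r hr)
      inv_mem' := by
        rintro a ⟨ha1, ha2⟩
        have hinv : ∀ z ∈ Z, a⁻¹ * z = z * a⁻¹ := by
          intro z hz
          have := ha1 z hz
          calc a⁻¹ * z = a⁻¹ * (z * a) * a⁻¹ := by group
            _ = a⁻¹ * (a * z) * a⁻¹ := by rw [this]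
            _ = z * a⁻¹ := by group
        refine ⟨hinv, fun r hr => ?_⟩
        have e : ⁅a⁻¹, r⁆ = a⁻¹ * ⁅a, r⁆⁻¹ * a := by
          simp only [commutatorElement_def]; group
        rw [e, hinv _ (Z.inv_mem (ha2 r hr)), inv_mul_cancel_right]
        exact Z.inv_mem (ha2 r hr) }
  have hAmem : ∀ a : Γ, a ∈ A ↔ (∀ z ∈ Z, a * z = z * a) ∧ ∀ r ∈ pCore p Γ, ⁅a, r⁆ ∈ Z :=
    fun a => Iff.rfl
  have hAn : A.Normal := by
    constructor
    intro a ha g
    rw [hAmem] at ha ⊢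
    obtain ⟨ha1, ha2⟩ := ha
    constructor
    · intro z hz
      have hz' : g⁻¹ * z * g ∈ Z := by
        have := hZn.conj_mem z hz g⁻¹
        rwa [inv_inv] at this
      have := ha1 _ hz'
      calc g * a * g⁻¹ * z = g * (a * (g⁻¹ * z * g)) * g⁻¹ := by group
        _ = g * ((g⁻¹ * z * g) * a) * g⁻¹ := by rw [this]
        _ = z * (g * a * g⁻¹) := by group
    · intro r hr
      have hr' : g⁻¹ * r * g ∈ pCore p Γ := by
        have := hRn.conj_mem r hr g⁻¹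
        rwa [inv_inv] at this
      have e : ⁅g * a * g⁻¹, r⁆ = g * ⁅a, g⁻¹ * r * g⁆ * g⁻¹ := by
        simp only [commutatorElement_def]; group
      rw [e]
      exact hZn.conj_mem _ (ha2 _ hr') g
  have hAp : IsPGroup p A := by
    intro a
    obtain ⟨ha1, ha2⟩ := (hAmem a.1).mp a.2
    -- `a ^ p` centralizes `O_p`
    have hpow : ∀ r ∈ pCore p Γ, ∀ k : ℕ, (a.1 ^ k) * r * (a.1 ^ k)⁻¹ = ⁅a.1, r⁆ ^ k * r := by
      intro r hr k
      induction k with
      | zero => simp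
      | succ k ih =>
        have e : a.1 ^ (k + 1) * r * (a.1 ^ (k + 1))⁻¹ =
            a.1 * (a.1 ^ k * r * (a.1 ^ k)⁻¹) * a.1⁻¹ := by
          rw [pow_succ']; group
        have hzk : ⁅a.1, r⁆ ^ k ∈ Z := Z.pow_mem (ha2 r hr) k
        rw [e, ih]
        calc a.1 * (⁅a.1, r⁆ ^ k * r) * a.1⁻¹ = (a.1 * ⁅a.1, r⁆ ^ k) * (r * a.1⁻¹) := by group
          _ = (⁅a.1, r⁆ ^ k * a.1) * (r * a.1⁻¹) := by rw [ha1 _ hzk]
          _ = ⁅a.1, r⁆ ^ k * (a.1 * r * a.1⁻¹ * r⁻¹) * r := by group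
          _ = ⁅a.1, r⁆ ^ (k + 1) * r := by rw [← commutatorElement_def, ← pow_succ]
    have hcen : a.1 ^ p ∈ Subgroup.centralizer (pCore p Γ : Set Γ) := by
      rw [Subgroup.mem_centralizer_iff]
      intro r hr
      have := hpow r hr p
      rw [hexp _ (ha2 r hr), one_mul] at this
      calc r * a.1 ^ p = (a.1 ^ p * r * (a.1 ^ p)⁻¹) * a.1 ^ p := by rw [this]
        _ = a.1 ^ p * r := by group
    obtain ⟨m, hm⟩ := hRp ⟨a.1 ^ p, hcent hcen⟩
    refine ⟨m + 1, ?_⟩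
    apply Subtype.ext
    have := congrArg Subtype.val hm
    simp only [Subgroup.coe_pow, Subgroup.coe_one] at this ⊢
    rw [pow_succ', pow_mul]
    exact this
  have hAR : A ≤ pCore p Γ := Cfsg.Agent.Lib.Helper1.le_pCore hAn hAp
  intro s hs
  apply hAR
  rw [hAmem]
  exact ⟨fun z hz => (hZc z hz s hs).symm, fun r hr => hcomm s hs r (hRS hr)⟩

omit [Finite Γ] hp in
theorem eq_one_of_pow_pow_of_coprime (hpp : p.Prime) {x : Γ} {m n : ℕ}
    (h1 : x ^ (p ^ m) = 1) (h2 : x ^ n = 1) (hn : n.Coprime p) : x = 1 := by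
  have d1 := orderOf_dvd_of_pow_eq_one h1
  have d2 := orderOf_dvd_of_pow_eq_one h2
  have : orderOf x = 1 := Nat.eq_one_of_dvd_coprimes (Nat.Coprime.pow_right m hn) d2 d1
  exact orderOf_eq_one_iff.mp this

/-- Step 1: in the minimal situation, `S` is normal in every proper subgroup containing it. -/
theorem step1
    (ih : ∀ (Δ : Type u) [Group Δ] [Finite Δ], Nat.card Δ < Nat.card Γ → IsPSolvable p Δ →
      (∀ N : Subgroup Δ, N.Normal → (Nat.card N).Coprime p → N = ⊥) →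
      ∀ T : Sylow p Δ, SK p ↥(T : Subgroup Δ) → (T : Subgroup Δ).Normal)
    (hsol : IsPSolvable p Γ)
    (hcore : ∀ N : Subgroup Γ, N.Normal → (Nat.card N).Coprime p → N = ⊥)
    (S : Sylow p Γ) (hS : SK p ↥(S : Subgroup Γ))
    (Γ₁ : Subgroup Γ) (hle : (S : Subgroup Γ) ≤ Γ₁) (hne : Γ₁ ≠ ⊤) :
    Γ₁ ≤ Subgroup.normalizer ((S : Subgroup Γ) : Set Γ) := by
  have hRn : (pCore p Γ).Normal := inferInstance
  have hRp : IsPGroup p (pCore p Γ) := Cfsg.Agent.Lib.Helper1.pCore_isPGroup p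
  have hRS : pCore p Γ ≤ (S : Subgroup Γ) := Cfsg.Agent.Lib.Helper1.pCore_le_sylow p S
  have hcent : Subgroup.centralizer (pCore p Γ : Set Γ) ≤ pCore p Γ :=
    Cfsg.Agent.Lib.Helper76.centralizer_pCore_le p hsol hcore
  have hcard : Nat.card ↥Γ₁ < Nat.card Γ := by
    apply lt_of_le_of_ne (Subgroup.card_le_card_group Γ₁)
    intro h
    exact hne ((Subgroup.card_eq_iff_eq_top Γ₁).mp h)
  have hsol₁ := Cfsg.Agent.Lib.Helper32.isPSolvable_subgroup p hsol Γ₁
  have hcore₁ : ∀ N : Subgroup ↥Γ₁, N.Normal → (Nat.card N).Coprime p → N = ⊥ := by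
    intro N hN hNc
    have hRle : pCore p Γ ≤ Γ₁ := hRS.trans hle
    rw [eq_bot_iff]
    intro n hn
    have hcomm1 : ∀ r ∈ pCore p Γ, ⁅n.1, r⁆ = 1 := by
      intro r hr
      have hcR : ⁅n.1, r⁆ ∈ pCore p Γ := by
        rw [commutatorElement_def]
        exact (pCore p Γ).mul_mem (hRn.conj_mem r hr n.1) ((pCore p Γ).inv_mem hr)
      have hcN : ⁅n, (⟨r, hRle hr⟩ : ↥Γ₁)⁆ ∈ N := by
        have e : ⁅n, (⟨r, hRle hr⟩ : ↥Γ₁)⁆ =
            n * ((⟨r, hRle hr⟩ : ↥Γ₁) * n⁻¹ * (⟨r, hRle hr⟩ : ↥Γ₁)⁻¹) := by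
          rw [commutatorElement_def]; group
        rw [e]
        exact N.mul_mem hn (hN.conj_mem _ (N.inv_mem hn) _)
      obtain ⟨m, hm⟩ := hRp ⟨_, hcR⟩
      have h1 : ⁅n.1, r⁆ ^ (p ^ m) = 1 := by simpa using congrArg Subtype.val hm
      have h2 : ⁅n.1, r⁆ ^ (Nat.card N) = 1 := by
        have h := pow_card_eq_one' (G := ↥N) (x := ⟨_, hcN⟩)
        have h' := congrArg (fun x : ↥N => ((x : ↥Γ₁) : Γ)) h
        simp only [Subgroup.coe_pow, Subgroup.coe_one] at h'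
        exact h'
      exact eq_one_of_pow_pow_of_coprime hp.out h1 h2 hNc
    have hcen : n.1 ∈ Subgroup.centralizer (pCore p Γ : Set Γ) := by
      rw [Subgroup.mem_centralizer_iff]
      intro r hr
      exact ((commutatorElement_eq_one_iff_mul_comm.mp (hcomm1 r hr))).symm
    have hnR := hcent hcen
    obtain ⟨m, hm⟩ := hRp ⟨_, hnR⟩
    have h1 : n.1 ^ (p ^ m) = 1 := by simpa using congrArg Subtype.val hm
    have h2 : n.1 ^ (Nat.card N) = 1 := by
      have h := pow_card_eq_one' (G := ↥N) (x := ⟨n, hn⟩)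
      have h' := congrArg (fun x : ↥N => ((x : ↥Γ₁) : Γ)) h
      simp only [Subgroup.coe_pow, Subgroup.coe_one] at h'
      exact h'
    rw [Subgroup.mem_bot]
    apply Subtype.ext
    exact eq_one_of_pow_pow_of_coprime hp.out h1 h2 hNc
  have hT : SK p ↥((S.subtype hle : Sylow p ↥Γ₁) : Subgroup ↥Γ₁) := by
    show SK p ↥((S : Subgroup Γ).subgroupOf Γ₁)
    exact hS.of_equiv (Subgroup.subgroupOfEquivOfLe hle).symm
  have hn := ih ↥Γ₁ hcard hsol₁ hcore₁ (S.subtype hle) hT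
  rw [Sylow.coe_subtype] at hn
  exact (Subgroup.normal_subgroupOf_iff_le_normalizer hle).mp hn

/-- If `u ∈ Z(T) ∖ Z(S)` lies in `S` and `T` is normal in each proper overgroup, then
`C_S(u) ≤ T`. -/
theorem half (S T : Sylow p Γ)
    (step : ∀ Γ₁ : Subgroup Γ, (T : Subgroup Γ) ≤ Γ₁ → Γ₁ ≠ ⊤ →
      Γ₁ ≤ Subgroup.normalizer ((T : Subgroup Γ) : Set Γ))
    {u : Γ} (huT : u ∈ zOf (T : Subgroup Γ)) (huS : u ∈ (S : Subgroup Γ))
    (hun : u ∉ zOf (S : Subgroup Γ)) :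
    ∀ s ∈ (S : Subgroup Γ), s * u = u * s → s ∈ (T : Subgroup Γ) := by
  have hTC : (T : Subgroup Γ) ≤ Subgroup.centralizer {u} := by
    intro t ht
    rw [Subgroup.mem_centralizer_singleton_iff]
    exact ((mem_zOf.mp huT).2 t ht).symm
  have hCne : Subgroup.centralizer {u} ≠ ⊤ := by
    intro htop
    apply hun
    rw [mem_zOf]
    refine ⟨huS, fun s _ => ?_⟩
    have : s ∈ Subgroup.centralizer {u} := by rw [htop]; trivial
    rw [Subgroup.mem_centralizer_singleton_iff] at this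
    exact this.symm
  have hCN := step _ hTC hCne
  intro s hs hsu
  have hsC : s ∈ Subgroup.centralizer {u} := by
    rw [Subgroup.mem_centralizer_singleton_iff]
    exact hsu
  have hP : IsPGroup p ↥((S : Subgroup Γ) ⊓ Subgroup.centralizer {u}) :=
    S.isPGroup'.to_le inf_le_left
  have h1 : ((S : Subgroup Γ) ⊓ Subgroup.centralizer {u}) ⊓
      Subgroup.normalizer ((T : Subgroup Γ) : Set Γ) =
      ((S : Subgroup Γ) ⊓ Subgroup.centralizer {u}) ⊓ (T : Subgroup Γ) :=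
    hP.inf_normalizer_sylow T
  have h2 : s ∈ ((S : Subgroup Γ) ⊓ Subgroup.centralizer {u}) ⊓
      Subgroup.normalizer ((T : Subgroup Γ) : Set Γ) := ⟨⟨hs, hsC⟩, hCN hsC⟩
  rw [h1] at h2
  exact h2.2

theorem zOf_sylow_le_pCore (hsol : IsPSolvable p Γ)
    (hcore : ∀ N : Subgroup Γ, N.Normal → (Nat.card N).Coprime p → N = ⊥) (S : Sylow p Γ) :
    zOf (S : Subgroup Γ) ≤ pCore p Γ := by
  have hRS : pCore p Γ ≤ (S : Subgroup Γ) := Cfsg.Agent.Lib.Helper1.pCore_le_sylow p S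
  have hcent : Subgroup.centralizer (pCore p Γ : Set Γ) ≤ pCore p Γ :=
    Cfsg.Agent.Lib.Helper76.centralizer_pCore_le p hsol hcore
  intro z hz
  apply hcent
  rw [Subgroup.mem_centralizer_iff]
  intro r hr
  exact ((mem_zOf.mp hz).2 r (hRS hr)).symm

/-- The quotient `S / O_p(Γ)` has order `p` in the minimal situation. -/
theorem relIndex_pCore_eq (hsol : IsPSolvable p Γ) (S : Sylow p Γ)
    (step : ∀ Γ₁ : Subgroup Γ, (S : Subgroup Γ) ≤ Γ₁ → Γ₁ ≠ ⊤ →
      Γ₁ ≤ Subgroup.normalizer ((S : Subgroup Γ) : Set Γ))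
    (hSR : ¬ (S : Subgroup Γ) ≤ pCore p Γ)
    (hab : ∀ x ∈ (S : Subgroup Γ), ∀ y ∈ (S : Subgroup Γ), ⁅x, y⁆ ∈ pCore p Γ)
    (hpow : ∀ x ∈ (S : Subgroup Γ), x ^ p ∈ pCore p Γ) :
    (pCore p Γ).relIndex (S : Subgroup Γ) = p := by
  have hRn : (pCore p Γ).Normal := inferInstance
  set π := QuotientGroup.mk' (pCore p Γ) with hπ
  have hπs : Function.Surjective π := QuotientGroup.mk'_surjective _
  set Sb : Subgroup (Γ ⧸ pCore p Γ) := (S : Subgroup Γ).map π with hSb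
  have hcardSb : Nat.card Sb = (pCore p Γ).relIndex (S : Subgroup Γ) := by
    rw [← Subgroup.relIndex_ker (S : Subgroup Γ) π, QuotientGroup.ker_mk']
  have hSbp : IsPGroup p Sb := S.isPGroup'.map π
  have hSbcomm : ∀ a ∈ Sb, ∀ b ∈ Sb, a * b = b * a := by
    rintro _ ⟨x, hx, rfl⟩ _ ⟨y, hy, rfl⟩
    rw [← map_mul, ← map_mul]
    apply (QuotientGroup.eq).mpr
    have e : (x * y)⁻¹ * (y * x) = ⁅y⁻¹, x⁻¹⁆ := by rw [commutatorElement_def]; group
    rw [e]
    exact hab _ (inv_mem hy) _ (inv_mem hx)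
  haveI : IsMulCommutative ↥Sb := ⟨⟨fun a b => Subtype.ext (hSbcomm a.1 a.2 b.1 b.2)⟩⟩
  have hSbexp : ∀ a : ↥Sb, a ^ p = 1 := by
    rintro ⟨_, x, hx, rfl⟩
    apply Subtype.ext
    rw [Subgroup.coe_pow, Subgroup.coe_one]
    show (π x) ^ p = 1
    rw [← map_pow]
    exact (QuotientGroup.eq_one_iff _).mpr (hpow x hx)
  have hSbne : Sb ≠ ⊥ := by
    intro h
    apply hSR
    intro s hs
    have : π s ∈ Sb := ⟨s, hs, rfl⟩
    rw [h, Subgroup.mem_bot] at this
    exact (QuotientGroup.eq_one_iff s).mp this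
  by_cases hcyc : IsCyclic ↥Sb
  · have h1 : Nat.card Sb ∣ p := by
      rw [← IsCyclic.exponent_eq_card]
      exact Monoid.exponent_dvd_of_forall_pow_eq_one hSbexp
    rw [← hcardSb]
    rcases (Nat.dvd_prime hp.out).mp h1 with h | h
    · exact absurd (Subgroup.card_eq_one.mp h) hSbne
    · exact h
  · exfalso
    set Kb : Subgroup (Γ ⧸ pCore p Γ) := pPrimeCore p (Γ ⧸ pCore p Γ) with hKb
    have hKn : Kb.Normal := inferInstance
    have hKcop : (Nat.card Kb).Coprime p := Cfsg.Agent.Lib.Helper76.pPrimeCore_coprime p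
    have hsolq : IsPSolvable p (Γ ⧸ pCore p Γ) :=
      Cfsg.Agent.Lib.Helper76.IsPSolvable_of_surjective p π hπs hsol
    have hOp : ∀ N : Subgroup (Γ ⧸ pCore p Γ), N.Normal → IsPGroup p N → N = ⊥ := by
      intro N hN hNp
      have := Cfsg.Agent.Lib.Helper1.le_pCore hN hNp
      rw [Cfsg.Agent.Lib.Helper1.GaschutzYen.pCore_quotient_pCore] at this
      exact le_bot_iff.mp this
    have hCK : Subgroup.centralizer (Kb : Set (Γ ⧸ pCore p Γ)) ≤ Kb :=
      Cfsg.Agent.Lib.Helper32.centralizer_pPrimeCore_le p hsolq hOp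
    have hKS : ∀ x : Γ ⧸ pCore p Γ, x ∈ Kb → x ∈ Sb → x = 1 := by
      intro x hxK hxS
      obtain ⟨m, hm⟩ := hSbp ⟨x, hxS⟩
      have h1 : x ^ (p ^ m) = 1 := by simpa using congrArg Subtype.val hm
      have h2 : x ^ Nat.card Kb = 1 := by
        have h := pow_card_eq_one' (G := ↥Kb) (x := ⟨x, hxK⟩)
        have h' := congrArg Subtype.val h
        simp only [Subgroup.coe_pow, Subgroup.coe_one] at h'
        exact h'
      exact eq_one_of_pow_pow_of_coprime hp.out h1 h2 hKcop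
    have hcop : (Nat.card Sb).Coprime (Nat.card Kb) := by
      obtain ⟨k, hk⟩ := hSbp.exists_card_eq
      rw [hk]
      exact Nat.Coprime.pow_left k hKcop.symm
    have hgen := Cfsg.Agent.S0058.result Sb Kb hcyc
      (by rw [Subgroup.normalizer_eq_top_iff.mpr hKn]; exact le_top) hcop
    have hpiece : ∀ a ∈ {a : Γ ⧸ pCore p Γ | a ∈ Sb ∧ a ≠ 1},
        Kb ⊓ Subgroup.centralizer {a} ≤ Subgroup.centralizer (Sb : Set (Γ ⧸ pCore p Γ)) := by
      rintro a ⟨haS, ha1⟩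
      set Tb := Kb ⊓ Subgroup.centralizer {a} with hTb
      have hSnT : Sb ≤ Subgroup.normalizer (Tb : Set (Γ ⧸ pCore p Γ)) := by
        intro s hs
        apply Subgroup.mem_normalizer_fintype
        intro t ht
        rw [SetLike.mem_coe, hTb, Subgroup.mem_inf] at ht ⊢
        obtain ⟨htK, htc⟩ := ht
        refine ⟨hKn.conj_mem t htK s, ?_⟩
        rw [Subgroup.mem_centralizer_singleton_iff] at htc ⊢
        have hsa : s * a = a * s := hSbcomm s hs a haS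
        have hsa' : s⁻¹ * a = a * s⁻¹ := hSbcomm _ (Sb.inv_mem hs) a haS
        calc s * t * s⁻¹ * a = s * t * (s⁻¹ * a) := by group
          _ = s * t * (a * s⁻¹) := by rw [hsa']
          _ = s * (t * a) * s⁻¹ := by group
          _ = s * (a * t) * s⁻¹ := by rw [htc]
          _ = (s * a) * t * s⁻¹ := by group
          _ = (a * s) * t * s⁻¹ := by rw [hsa]
          _ = a * (s * t * s⁻¹) := by group
      have hmul : ((Tb ⊔ Sb : Subgroup (Γ ⧸ pCore p Γ)) : Set (Γ ⧸ pCore p Γ)) =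
          (Tb : Set (Γ ⧸ pCore p Γ)) * (Sb : Set (Γ ⧸ pCore p Γ)) :=
        Subgroup.coe_mul_of_right_le_normalizer_left Tb Sb hSnT
      have hne : (Tb ⊔ Sb).comap π ≠ ⊤ := by
        intro htop
        apply ha1
        have hKT : Kb ≤ Tb := by
          intro k hk
          obtain ⟨g, rfl⟩ := hπs k
          have hg : π g ∈ Tb ⊔ Sb := by
            have : g ∈ (Tb ⊔ Sb).comap π := by rw [htop]; trivial
            exact this
          rw [← SetLike.mem_coe, hmul, Set.mem_mul] at hg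
          obtain ⟨t, ht, s, hs, hts⟩ := hg
          have hs1 : s = 1 := by
            apply hKS s _ hs
            have : s = t⁻¹ * π g := by rw [← hts]; group
            rw [this]
            exact Kb.mul_mem (Kb.inv_mem ht.1) hk
          rw [hs1, mul_one] at hts
          rw [← hts]
          exact ht
        have haC : a ∈ Subgroup.centralizer (Kb : Set (Γ ⧸ pCore p Γ)) := by
          rw [Subgroup.mem_centralizer_iff]
          intro k hk
          have h3 := hKT hk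
          rw [hTb, Subgroup.mem_inf] at h3
          have := h3.2
          rw [Subgroup.mem_centralizer_singleton_iff] at this
          exact this
        exact hKS a (hCK haC) haS
      have hSle : (S : Subgroup Γ) ≤ (Tb ⊔ Sb).comap π :=
        fun s hs => Subgroup.mem_sup_right ⟨s, hs, rfl⟩
      have hN := step _ hSle hne
      have hTnS : ∀ t ∈ Tb, ∀ s ∈ Sb, t * s * t⁻¹ ∈ Sb := by
        intro t ht s hs
        obtain ⟨g, rfl⟩ := hπs t
        obtain ⟨x, hx, rfl⟩ := hs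
        have hg : g ∈ (Tb ⊔ Sb).comap π := Subgroup.mem_sup_left ht
        have := (Subgroup.mem_normalizer_iff.mp (hN hg) x).mp hx
        exact ⟨g * x * g⁻¹, this, by simp⟩
      intro t ht
      rw [Subgroup.mem_centralizer_iff]
      intro s hs
      have hc1 : ⁅t, s⁆ ∈ Sb := by
        rw [commutatorElement_def]
        exact Sb.mul_mem (hTnS t ht s hs) (Sb.inv_mem hs)
      have hc2 : ⁅t, s⁆ ∈ Kb := by
        have e : ⁅t, s⁆ = t * (s * t⁻¹ * s⁻¹) := by rw [commutatorElement_def]; group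
        rw [e]
        have := (Subgroup.mem_normalizer_iff.mp (hSnT hs) t⁻¹).mp (Tb.inv_mem ht)
        exact Kb.mul_mem ht.1 this.1
      have := hKS _ hc2 hc1
      exact (commutatorElement_eq_one_iff_mul_comm.mp this).symm
    have hKc : Kb ≤ Subgroup.centralizer (Sb : Set (Γ ⧸ pCore p Γ)) := by
      rw [← hgen]
      exact iSup₂_le hpiece
    have hSK : Sb ≤ Kb := (Subgroup.le_centralizer_iff.mp hKc).trans hCK
    apply hSbne
    rw [eq_bot_iff]
    intro x hx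
    rw [Subgroup.mem_bot]
    exact hKS x (hSK hx) hx

/-- The inductive step of the main theorem. -/
theorem core_step (hp23 : p = 2 ∨ p = 3)
    (ih : ∀ (Δ : Type u) [Group Δ] [Finite Δ], Nat.card Δ < Nat.card Γ → IsPSolvable p Δ →
      (∀ N : Subgroup Δ, N.Normal → (Nat.card N).Coprime p → N = ⊥) →
      ∀ T : Sylow p Δ, SK p ↥(T : Subgroup Δ) → (T : Subgroup Δ).Normal)
    (hsol : IsPSolvable p Γ)
    (hcore : ∀ N : Subgroup Γ, N.Normal → (Nat.card N).Coprime p → N = ⊥)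
    (S : Sylow p Γ) (hS : SK p ↥(S : Subgroup Γ)) : (S : Subgroup Γ).Normal := by
  by_contra hSn
  have hRn : (pCore p Γ).Normal := inferInstance
  have hRp : IsPGroup p (pCore p Γ) := Cfsg.Agent.Lib.Helper1.pCore_isPGroup p
  have hRS : pCore p Γ ≤ (S : Subgroup Γ) := Cfsg.Agent.Lib.Helper1.pCore_le_sylow p S
  have hZR : zOf (S : Subgroup Γ) ≤ pCore p Γ := zOf_sylow_le_pCore hsol hcore S
  have hSR : ¬ (S : Subgroup Γ) ≤ pCore p Γ := by
    intro hle
    apply hSn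
    have : (S : Subgroup Γ) = pCore p Γ := le_antisymm hle hRS
    rw [this]
    exact hRn
  -- `Z(S)` is not normal
  have hZnn : ¬ (zOf (S : Subgroup Γ)).Normal := by
    intro hZn
    exact hSR (le_pCore_of_stab hsol hcore S _ hZn (fun z hz s hs => (mem_zOf.mp hz).2 s hs)
      (fun x hx y hy => hS.comm_mem_zOf hx hy) (fun z hz => hS.pow_eq_one_of_mem_zOf hz))
  have hex : ∃ g : Γ, ∃ z ∈ zOf (S : Subgroup Γ), g * z * g⁻¹ ∉ zOf (S : Subgroup Γ) := by
    by_contra hcon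
    push Not at hcon
    exact hZnn ⟨fun z hz g => hcon g z hz⟩
  obtain ⟨g, z₀, hz₀, hgz₀⟩ := hex
  have hex' : ∃ z₁ ∈ zOf (S : Subgroup Γ), g⁻¹ * z₁ * g ∉ zOf (S : Subgroup Γ) := by
    by_contra hcon
    push Not at hcon
    have hgn : g⁻¹ ∈ Subgroup.normalizer ((zOf (S : Subgroup Γ) : Subgroup Γ) : Set Γ) :=
      Subgroup.mem_normalizer_fintype (fun n hn => by
        rw [inv_inv]
        exact hcon n hn)
    have hg := (Subgroup.normalizer ((zOf (S : Subgroup Γ) : Subgroup Γ) : Set Γ)).inv_mem hgn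
    rw [inv_inv] at hg
    exact hgz₀ ((Subgroup.mem_normalizer_iff.mp hg z₀).mp hz₀)
  obtain ⟨z₁, hz₁, hgz₁⟩ := hex'
  -- the conjugate Sylow subgroup
  obtain ⟨T, hTdef⟩ : ∃ T : Sylow p Γ, T = g • S := ⟨_, rfl⟩
  have hTmem : ∀ x : Γ, x ∈ (T : Subgroup Γ) ↔ g⁻¹ * x * g ∈ (S : Subgroup Γ) := by
    intro x
    rw [hTdef, Sylow.coe_subgroup_smul, Subgroup.mem_pointwise_smul_iff_inv_smul_mem,
      MulAut.smul_def, ← map_inv, MulAut.conj_apply, inv_inv]
  have hT : SK p ↥(T : Subgroup Γ) := by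
    rw [hTdef]
    exact hS.of_equiv (S.equivSMul g)
  have hZT : ∀ x : Γ, x ∈ zOf (T : Subgroup Γ) ↔ g⁻¹ * x * g ∈ zOf (S : Subgroup Γ) := by
    intro x
    rw [mem_zOf, mem_zOf, hTmem]
    constructor
    · rintro ⟨h1, h2⟩
      refine ⟨h1, fun s hs => ?_⟩
      have hs' : g * s * g⁻¹ ∈ (T : Subgroup Γ) := by
        rw [hTmem]
        have : g⁻¹ * (g * s * g⁻¹) * g = s := by group
        rw [this]
        exact hs
      have := h2 _ hs'
      calc g⁻¹ * x * g * s = g⁻¹ * (x * (g * s * g⁻¹)) * g := by group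
        _ = g⁻¹ * ((g * s * g⁻¹) * x) * g := by rw [this]
        _ = s * (g⁻¹ * x * g) := by group
    · rintro ⟨h1, h2⟩
      refine ⟨h1, fun t ht => ?_⟩
      have := h2 _ ((hTmem t).mp ht)
      calc x * t = g * ((g⁻¹ * x * g) * (g⁻¹ * t * g)) * g⁻¹ := by group
        _ = g * ((g⁻¹ * t * g) * (g⁻¹ * x * g)) * g⁻¹ := by rw [this]
        _ = t * x := by group
  have hRT : pCore p Γ ≤ (T : Subgroup Γ) := Cfsg.Agent.Lib.Helper1.pCore_le_sylow p T
  have hZTR : zOf (T : Subgroup Γ) ≤ pCore p Γ := zOf_sylow_le_pCore hsol hcore T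
  -- the elements `u` and `u'`
  have huT : g * z₀ * g⁻¹ ∈ zOf (T : Subgroup Γ) := by
    rw [hZT]
    have : g⁻¹ * (g * z₀ * g⁻¹) * g = z₀ := by group
    rw [this]
    exact hz₀
  have hu'T : z₁ ∉ zOf (T : Subgroup Γ) := by
    rw [hZT]
    exact hgz₁
  have stepS := step1 ih hsol hcore S hS
  have stepT := step1 ih hsol hcore T hT
  have hCS := half S T stepT huT (hRS (hZTR huT)) hgz₀
  have hCT := half T S stepS hz₁ (hRT (hZR hz₁)) hu'T
  -- `⟨S, T⟩ = Γ`
  have hST : (S : Subgroup Γ) ⊔ (T : Subgroup Γ) = ⊤ := by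
    by_contra hne
    have h1 := stepS _ le_sup_left hne
    have hTS : (T : Subgroup Γ) ≤ (S : Subgroup Γ) := by
      have h2 : (T : Subgroup Γ) ≤ Subgroup.normalizer ((S : Subgroup Γ) : Set Γ) :=
        le_sup_right.trans h1
      have h3 : (T : Subgroup Γ) ⊓ Subgroup.normalizer ((S : Subgroup Γ) : Set Γ) =
          (T : Subgroup Γ) ⊓ (S : Subgroup Γ) := T.isPGroup'.inf_normalizer_sylow S
      rw [inf_eq_left.mpr h2] at h3
      rw [h3]
      exact inf_le_right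
    have hTS' : g • S = S := by
      rw [← hTdef]
      exact Sylow.ext (T.is_maximal' S.isPGroup' hTS).symm
    have hgN : g ∈ Subgroup.normalizer ((S : Subgroup Γ) : Set Γ) :=
      Sylow.smul_eq_iff_mem_normalizer.mp hTS'
    apply hgz₀
    have hz := mem_zOf.mp hz₀
    rw [mem_zOf]
    refine ⟨(Subgroup.mem_normalizer_iff.mp hgN z₀).mp hz.1, fun s hs => ?_⟩
    have hs' : g⁻¹ * s * g ∈ (S : Subgroup Γ) := (Subgroup.mem_normalizer_iff''.mp hgN s).mp hs
    have := hz.2 _ hs'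
    calc g * z₀ * g⁻¹ * s = g * (z₀ * (g⁻¹ * s * g)) * g⁻¹ := by group
      _ = g * ((g⁻¹ * s * g) * z₀) * g⁻¹ := by rw [this]
      _ = s * (g * z₀ * g⁻¹) := by group
  -- `D = S ⊓ T` is normal
  have hRD : pCore p Γ ≤ (S : Subgroup Γ) ⊓ (T : Subgroup Γ) := le_inf hRS hRT
  have hnorm : ∀ (U : Sylow p Γ), SK p ↥(U : Subgroup Γ) → zOf (U : Subgroup Γ) ≤ pCore p Γ →
      (S : Subgroup Γ) ⊓ (T : Subgroup Γ) ≤ (U : Subgroup Γ) → (U : Subgroup Γ) ≤
      Subgroup.normalizer (((S : Subgroup Γ) ⊓ (T : Subgroup Γ) : Subgroup Γ) : Set Γ) := by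
    intro U hU hUZ hDU s hs
    apply Subgroup.mem_normalizer_fintype
    intro d hd
    have e : s * d * s⁻¹ = ⁅s, d⁆ * d := by rw [commutatorElement_def]; group
    rw [e]
    exact Subgroup.mul_mem _ (hRD (hUZ (hU.comm_mem_zOf hs (hDU hd)))) hd
  have hDn : ((S : Subgroup Γ) ⊓ (T : Subgroup Γ)).Normal := by
    rw [← Subgroup.normalizer_eq_top_iff, eq_top_iff, ← hST]
    exact sup_le (hnorm S hS hZR inf_le_left) (hnorm T hT hZTR inf_le_right)
  have hDR : (S : Subgroup Γ) ⊓ (T : Subgroup Γ) ≤ pCore p Γ :=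
    Cfsg.Agent.Lib.Helper1.le_pCore hDn (S.isPGroup'.to_le inf_le_left)
  -- `C_S(u) = R`
  have huS : g * z₀ * g⁻¹ ∈ (S : Subgroup Γ) := hRS (hZTR huT)
  have hCu : ∀ s ∈ (S : Subgroup Γ), (s * (g * z₀ * g⁻¹) = (g * z₀ * g⁻¹) * s ↔ s ∈ pCore p Γ) :=
    fun s hs => ⟨fun h => hDR ⟨hs, hCS s hs h⟩, fun h => ((mem_zOf.mp huT).2 s (hRT h)).symm⟩
  -- the index of `R` in `S`
  have hw : ¬ ∀ s : ↥(S : Subgroup Γ), (⟨_, huS⟩ : ↥(S : Subgroup Γ)) * s = s * ⟨_, huS⟩ := by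
    intro hc
    apply hgz₀
    rw [mem_zOf]
    exact ⟨huS, fun s hs => congrArg Subtype.val (hc ⟨s, hs⟩)⟩
  have hker : (commHom hS.cc (⟨_, huS⟩ : ↥(S : Subgroup Γ))).ker =
      (pCore p Γ).subgroupOf (S : Subgroup Γ) := by
    ext s
    rw [mem_ker_commHom, Subgroup.mem_subgroupOf, ← hCu s.1 s.2]
    constructor
    · intro h
      exact (congrArg Subtype.val h).symm
    · intro h
      exact Subtype.ext h.symm
  have hrange : (commHom hS.cc (⟨_, huS⟩ : ↥(S : Subgroup Γ))).range =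
      Subgroup.center ↥(S : Subgroup Γ) := by
    ext z
    constructor
    · rintro ⟨s, rfl⟩
      rw [Subgroup.mem_center_iff]
      intro h
      exact (hS.cc _ s h).symm
    · intro hz
      obtain ⟨s, hs⟩ := hS.cam _ hw z (fun s => ((Subgroup.mem_center_iff.mp hz) s).symm)
      exact ⟨s, hs⟩
  have hidx : (pCore p Γ).relIndex (S : Subgroup Γ) = Nat.card (Subgroup.center ↥(S : Subgroup Γ)) := by
    rw [Subgroup.relIndex, ← hker, Subgroup.index_ker, hrange]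
  have hrel := relIndex_pCore_eq hsol S stepS hSR
    (fun x hx y hy => hZR (hS.comm_mem_zOf hx hy)) (fun x hx => hZR (hS.pow_mem_zOf hx))
  have hcz : Nat.card (Subgroup.center ↥(S : Subgroup Γ)) = p := by rw [← hidx, hrel]
  -- the center is cyclic
  have hpow_of_central : ∀ c : ↥(S : Subgroup Γ), c ∈ Subgroup.center ↥(S : Subgroup Γ) → c ≠ 1 →
      ∀ z : ↥(S : Subgroup Γ), (∀ s, z * s = s * z) → ∃ k : ℕ, z = c ^ k := by
    intro c hc hc1 z hz
    have hzc : z ∈ Subgroup.center ↥(S : Subgroup Γ) := by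
      rw [Subgroup.mem_center_iff]
      intro s
      exact (hz s).symm
    have hmem := mem_zpowers_of_prime_card (G := ↥(Subgroup.center ↥(S : Subgroup Γ))) hcz
      (g := ⟨c, hc⟩) (g' := ⟨z, hzc⟩) (fun h => hc1 (congrArg Subtype.val h))
    rw [← mem_powers_iff_mem_zpowers, Submonoid.mem_powers_iff] at hmem
    obtain ⟨k, hk⟩ := hmem
    refine ⟨k, ?_⟩
    have := congrArg Subtype.val hk
    simp only [Subgroup.coe_pow] at this
    exact this.symm
  have hcnt : ∃ c : ↥(S : Subgroup Γ), c ∈ Subgroup.center ↥(S : Subgroup Γ) ∧ c ≠ 1 := by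
    haveI : Nontrivial ↥(Subgroup.center ↥(S : Subgroup Γ)) := by
      rw [← Finite.one_lt_card_iff_nontrivial, hcz]
      exact hp.out.one_lt
    obtain ⟨c, hc⟩ := exists_ne (1 : ↥(Subgroup.center ↥(S : Subgroup Γ)))
    exact ⟨c.1, c.2, fun h => hc (Subtype.ext h)⟩
  obtain ⟨c, hcc, hc1⟩ := hcnt
  have hwp : (⟨_, huS⟩ : ↥(S : Subgroup Γ)) ^ p = 1 := by
    apply Subtype.ext
    rw [Subgroup.coe_pow, Subgroup.coe_one]
    exact hT.pow_eq_one_of_mem_zOf huT
  obtain ⟨a, b, ha, hb, hab⟩ := hS.ex hp23 ⟨c, hpow_of_central c hcc hc1⟩ _ hw hwp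
  have haR : a.1 ∈ pCore p Γ := (hCu a.1 a.2).mp (congrArg Subtype.val ha)
  have hbR : b.1 ∈ pCore p Γ := (hCu b.1 b.2).mp (congrArg Subtype.val hb)
  have hc₀1 : ⁅a, b⁆ ≠ 1 := fun h => hab (commutatorElement_eq_one_iff_mul_comm.mp h)
  have hc₀c : ⁅a, b⁆ ∈ Subgroup.center ↥(S : Subgroup Γ) := by
    rw [Subgroup.mem_center_iff]
    intro s
    exact (hS.cc a b s).symm
  -- `Z(S)` is normal: contradiction
  apply hZnn
  constructor
  intro z hz γ
  have hz' := mem_zOf.mp hz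
  obtain ⟨k, hk⟩ := hpow_of_central _ hc₀c hc₀1 ⟨z, hz'.1⟩ (fun s => Subtype.ext (hz'.2 s.1 s.2))
  have hzk : z = ⁅a.1, b.1⁆ ^ k := by
    have := congrArg Subtype.val hk
    simp only [Subgroup.coe_pow] at this
    exact this
  have e : γ * z * γ⁻¹ = ⁅γ * a.1 * γ⁻¹, γ * b.1 * γ⁻¹⁆ ^ k := by
    rw [hzk]
    have h1 : γ * ⁅a.1, b.1⁆ ^ k * γ⁻¹ = (MulAut.conj γ) (⁅a.1, b.1⁆ ^ k) := by
      rw [MulAut.conj_apply]
    rw [h1, map_pow, map_commutatorElement, MulAut.conj_apply, MulAut.conj_apply]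
  rw [e]
  exact Subgroup.pow_mem _ (hS.comm_mem_zOf (hRS (hRn.conj_mem _ haR γ))
    (hRS (hRn.conj_mem _ hbR γ))) k

/-- **Main theorem for `p ∈ {2, 3}`**: a Sylow `p`-subgroup which is a Schmidt kernel is normal, in
a `p`-soluble group with trivial `p'`-core. -/
theorem sylow_normal_of_sk_aux (hp23 : p = 2 ∨ p = 3) : ∀ (n : ℕ) (Δ : Type u) [Group Δ] [Finite Δ],
    Nat.card Δ = n → IsPSolvable p Δ →
    (∀ N : Subgroup Δ, N.Normal → (Nat.card N).Coprime p → N = ⊥) →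
    ∀ T : Sylow p Δ, SK p ↥(T : Subgroup Δ) → (T : Subgroup Δ).Normal := by
  intro n
  induction n using Nat.strong_induction_on with
  | _ n ih =>
  intro Δ _ _ hcard hsol hcore T hT
  apply core_step hp23 _ hsol hcore T hT
  intro Δ' _ _ hlt hsol' hcore' T' hT'
  exact ih (Nat.card Δ') (hcard ▸ hlt) Δ' rfl hsol' hcore' T' hT'

theorem sylow_normal_of_sk (hp23 : p = 2 ∨ p = 3) (hsol : IsPSolvable p Γ)
    (hcore : ∀ N : Subgroup Γ, N.Normal → (Nat.card N).Coprime p → N = ⊥)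
    (S : Sylow p Γ) (hS : SK p ↥(S : Subgroup Γ)) : (S : Subgroup Γ).Normal :=
  sylow_normal_of_sk_aux hp23 _ Γ rfl hsol hcore S hS

end Core

end Cfsg.Agent.Lib.Helper1.SchmidtKernel
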