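import Mathlib
import Cfsg.Agent.Lib.Helper22.SibCDefs
import Cfsg.Agent.Lib.Helper25.CohCentral
import Cfsg.Agent.Lib.Helper75.GaloisPow
import Cfsg.Agent.Lib.Helper74.SibleySetup

/-!
# SIBC-[II-GAL] (helper1): `τ₁ ζ₁` is constant on `W₂ ∖ 1` (Galois conjugation)

* `indFun_galois` : a ring endomorphism of `ℂ` commutes with induction of functions.
* `galois_mem_inducedIrrAbove` : `inducedIrrAbove K A` is stable under field automorphisms of `ℂ`.
* `exists_coprime_pow` : two nonidentity elements of a subgroup of prime order are powers of each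
  other with an exponent prime to `|G|`.
* `galois_tau` : `σ ∘ τ₁ ζ = τ₁ (σ ∘ ζ)` for `ζ ∈ A`.
* `galois_const` : the module statement.
-/

set_option autoImplicit false

namespace Cfsg.Agent.Lib.Helper1.SibCGal

open Cfsg Cfsg.Agent.Lib.Helper22.SibC Cfsg.Agent.Lib.Helper78

universe u

section Gen

variable {Λ : Type u} [Group Λ] [Fintype Λ]

theorem extendByZero_galois (K : Subgroup Λ) (σ : ℂ →+* ℂ) (θ : ↥K → ℂ) (y : Λ) :
    extendByZero K (fun k => σ (θ k)) y = σ (extendByZero K θ y) := by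
  by_cases hy : y ∈ K
  · rw [Cfsg.Agent.Lib.Helper75.extendByZero_of_mem K _ hy,
      Cfsg.Agent.Lib.Helper75.extendByZero_of_mem K _ hy]
  · rw [Cfsg.Agent.Lib.Helper75.extendByZero_of_not_mem K _ hy,
      Cfsg.Agent.Lib.Helper75.extendByZero_of_not_mem K _ hy, map_zero]

/-- A ring endomorphism of `ℂ` commutes with induction. -/
theorem indFun_galois (K : Subgroup Λ) (σ : ℂ →+* ℂ) (θ : ↥K → ℂ) :
    indFun K (fun k => σ (θ k)) = fun g => σ (indFun K θ g) := by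
  funext g
  unfold indFun
  rw [map_mul, map_inv₀, map_natCast, map_sum]
  congr 1
  apply Finset.sum_congr rfl
  intro x _
  exact extendByZero_galois K σ θ _

/-- `inducedIrrAbove K A` is stable under field automorphisms of `ℂ`. -/
theorem galois_mem_inducedIrrAbove {K A : Subgroup Λ} (σ : ℂ ≃+* ℂ) {ζ : Λ → ℂ}
    (h : ζ ∈ inducedIrrAbove K A) : (fun g => σ (ζ g)) ∈ inducedIrrAbove K A := by
  obtain ⟨θ, hθ, hne, htriv, rfl⟩ := h
  refine ⟨fun k => σ (θ k), Cfsg.Agent.Lib.Helper81.isIrrCharacter_galois hθ σ, ?_, ?_, ?_⟩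
  · intro hc
    apply hne
    funext k
    have h0 : σ (θ k) = 1 := congrFun hc k
    have h1 : σ (θ k) = σ 1 := by rw [h0, map_one]
    exact σ.injective h1
  · intro a ha
    show σ (θ a) = σ (θ 1)
    rw [htriv a ha]
  · exact (indFun_galois K (σ : ℂ →+* ℂ) θ).symm

/-- Irreducible characters `a ≠ b`, `c`, `d` with `a - b = c - d` satisfy `a = c`. -/
theorem irr_eq_of_sub_eq {a b c d : Λ → ℂ} (ha : IsIrrCharacter Λ a) (hb : IsIrrCharacter Λ b)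
    (hc : IsIrrCharacter Λ c) (hd : IsIrrCharacter Λ d) (hab : a ≠ b) (h : a - b = c - d) :
    a = c := by
  by_contra hne
  have h1 : classInner (a - b) a = 1 := by
    rw [sub_eq_add_neg, ← neg_one_smul ℂ b, classInner_add_left, classInner_smul_left,
      classInner_irr_self ha, classInner_irr_ne hb ha (Ne.symm hab)]
    ring
  have h2 : classInner (c - d) a = - (if d = a then 1 else 0) := by
    rw [sub_eq_add_neg, ← neg_one_smul ℂ d, classInner_add_left, classInner_smul_left,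
      classInner_irr_ne hc ha (Ne.symm hne), classInner_irr hd ha]
    ring
  rw [h, h2] at h1
  split_ifs at h1 <;> norm_num at h1

end Gen

section Pow

/-- Two nonidentity elements of a subgroup of prime order are powers of each other, with an
exponent prime to the group order. -/
theorem exists_coprime_pow {G : Type*} [Group G] [Finite G] {W : Subgroup G} {p : ℕ}
    (hp : p.Prime) (hW : Nat.card W = p) {z z' : G} (hz : z ∈ W) (hz' : z' ∈ W) (hz1 : z ≠ 1)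
    (hz'1 : z' ≠ 1) : ∃ k : ℕ, k.Coprime (Nat.card G) ∧ z ^ k = z' := by
  have ho : orderOf z = p := by
    have h1 : orderOf z ∣ p := hW ▸ Subgroup.orderOf_dvd_natCard W hz
    rcases (Nat.dvd_prime hp).mp h1 with h2 | h2
    · exact absurd (orderOf_eq_one_iff.mp h2) hz1
    · exact h2
  have hzp : Subgroup.zpowers z = W := by
    apply Subgroup.eq_of_le_of_card_ge ((Subgroup.zpowers_le).mpr hz)
    rw [Nat.card_zpowers, ho, hW]
  have hmem : z' ∈ Submonoid.powers z := by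
    rw [mem_powers_iff_mem_zpowers, hzp]
    exact hz'
  obtain ⟨j, hj⟩ := (Submonoid.mem_powers_iff _ _).mp hmem
  have hjp : Nat.Coprime j p := by
    rw [Nat.coprime_comm, Nat.Prime.coprime_iff_not_dvd hp]
    intro hd
    apply hz'1
    rw [← hj]
    rw [← ho] at hd
    exact orderOf_dvd_iff_pow_eq_one.mp hd
  have hpN : p ∣ Nat.card G := ho ▸ orderOf_dvd_natCard z
  have hN0 : NeZero (Nat.card G) := ⟨Nat.card_pos.ne'⟩
  obtain ⟨u, hu⟩ := ZMod.unitsMap_surjective hpN (ZMod.unitOfCoprime j hjp)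
  refine ⟨(u : ZMod (Nat.card G)).val, ZMod.val_coe_unit_coprime u, ?_⟩
  rw [← hj, pow_eq_pow_iff_modEq, ho, ← ZMod.natCast_eq_natCast_iff]
  have h3 := congrArg (fun v : (ZMod p)ˣ => (v : ZMod p)) hu
  simp only [ZMod.unitsMap, Units.coe_map, MonoidHom.coe_coe, ZMod.castHom_apply,
    ZMod.coe_unitOfCoprime] at h3
  rw [← h3, ZMod.natCast_val]

end Pow

section Main

variable {G : Type u} [Group G] [Fintype G] (H L W₁ W₂ : Subgroup G) [Fintype L]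

theorem AA_subset_SS : AA H L ⊆ SS H L := by
  rintro φ ⟨θ, h1, h2, -, h4⟩
  refine ⟨θ, h1, h2, ?_, h4⟩
  intro a ha
  rw [Subgroup.mem_bot] at ha
  have : a = 1 := Subtype.ext ha
  rw [this]

theorem AA_conj_mem {ζ : ↥L → ℂ} (h : ζ ∈ AA H L) : conjFun ζ ∈ AA H L :=
  galois_mem_inducedIrrAbove (starRingAut : ℂ ≃+* ℂ) h

theorem sub_mem_zspanOn {ζ ζ' : ↥L → ℂ} (h : ζ ∈ AA H L) (h' : ζ' ∈ AA H L)
    (h1 : ζ 1 = ζ' 1) : ζ - ζ' ∈ zspanOn (AA H L) ({1}ᶜ : Set ↥L) := by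
  refine ⟨Submodule.sub_mem _ (Submodule.subset_span h) (Submodule.subset_span h'), ?_⟩
  intro y hy
  have hy1 : y = 1 := by simpa using hy
  rw [hy1, Pi.sub_apply, h1, sub_self]

theorem tau_sub {τ₁ : (↥L → ℂ) → (G → ℂ)} {ε : ℤ} (x : AExt H L τ₁ ε) {ζ ζ' : ↥L → ℂ}
    (h : ζ ∈ AA H L) (h' : ζ' ∈ AA H L) (h1 : ζ 1 = ζ' 1) :
    τ₁ ζ - τ₁ ζ' = indFun L (ζ - ζ') := by
  have hz : ζ ∈ zspan (AA H L) := Submodule.subset_span h
  have hz' : ζ' ∈ zspan (AA H L) := Submodule.subset_span h'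
  have hn : (-1 : ℤ) • ζ' ∈ zspan (AA H L) :=
    Submodule.smul_mem (Submodule.span ℤ (AA H L)) (-1 : ℤ) hz'
  rw [← x.ext _ (sub_mem_zspanOn H L h h' h1)]
  have e1 : ζ - ζ' = ζ + (-1 : ℤ) • ζ' := by rw [neg_smul, one_smul, sub_eq_add_neg]
  rw [e1, x.iso.1 ζ hz _ hn, x.iso.2.1 ζ' hz', neg_smul, one_smul, sub_eq_add_neg]

theorem zsmul_fun_eq {X : Type*} (n : ℤ) (f : X → ℂ) : n • f = (n : ℂ) • f := by
  funext y
  simp

theorem zsmul_fun_apply {X : Type*} (n : ℤ) (f : X → ℂ) (y : X) : (n • f) y = (n : ℂ) * f y := by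
  simp

theorem psi_ne {R : (↥L → ℂ) → Finset (G → ℂ)} (sf : SFacts H L R)
    {τ₁ : (↥L → ℂ) → (G → ℂ)} {ε : ℤ} (x : AExt H L τ₁ ε) {ζ ζ' : ↥L → ℂ}
    (h : ζ ∈ AA H L) (h' : ζ' ∈ AA H L) (hne : ζ ≠ ζ') : ε • τ₁ ζ ≠ ε • τ₁ ζ' := by
  intro heq
  have hz : ζ ∈ zspan (AA H L) := Submodule.subset_span h
  have hz' : ζ' ∈ zspan (AA H L) := Submodule.subset_span h'
  have h1 : classInner (ε • τ₁ ζ) (ε • τ₁ ζ') = 1 := by
    rw [← heq]
    exact classInner_irr_self (x.irr ζ h)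
  rw [zsmul_fun_eq, zsmul_fun_eq, classInner_smul_left, classInner_smul_right,
    x.iso.2.2.1 ζ hz ζ' hz',
    sf.cs.orthogonal ζ (AA_subset_SS H L h) ζ' (AA_subset_SS H L h') hne] at h1
  simp at h1

/-- `σ ∘ τ₁ ζ = τ₁ (σ ∘ ζ)` for `ζ ∈ A`. -/
theorem galois_tau {R : (↥L → ℂ) → Finset (G → ℂ)} (sf : SFacts H L R)
    {τ₁ : (↥L → ℂ) → (G → ℂ)} {ε : ℤ} (x : AExt H L τ₁ ε) (σ : ℂ ≃+* ℂ) {ζ : ↥L → ℂ}
    (h : ζ ∈ AA H L) : (fun g => σ (τ₁ ζ g)) = τ₁ (fun y => σ (ζ y)) := by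
  have h' : conjFun ζ ∈ AA H L := AA_conj_mem H L h
  have hne : ζ ≠ conjFun ζ := fun e => sf.cs.conj_ne ζ (AA_subset_SS H L h) e.symm
  have hchar : IsCharacter ↥L ζ := sf.cs.isCharacter ζ (AA_subset_SS H L h)
  have h1 : ζ 1 = conjFun ζ 1 := by
    show ζ 1 = (starRingEnd ℂ) (ζ 1)
    rw [IsCharacter.apply_one_eq_charDegree hchar, map_natCast]
  have hσ : (fun y => σ (ζ y)) ∈ AA H L := galois_mem_inducedIrrAbove σ h
  have hσ' : (fun y => σ (conjFun ζ y)) ∈ AA H L := galois_mem_inducedIrrAbove σ h'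
  have hσ1 : (fun y => σ (ζ y)) 1 = (fun y => σ (conjFun ζ y)) 1 := by
    show σ (ζ 1) = σ (conjFun ζ 1)
    rw [← h1]
  have e1 := tau_sub H L x h h' h1
  have e2 := tau_sub H L x hσ hσ' hσ1
  have e4 : ((fun y => σ (ζ y)) - fun y => σ (conjFun ζ y)) =
      fun y => (σ : ℂ →+* ℂ) ((ζ - conjFun ζ) y) := by
    funext y
    simp
  rw [e4, indFun_galois L (σ : ℂ →+* ℂ) (ζ - conjFun ζ), ← e1] at e2
  have e3 : ∀ g, σ (τ₁ ζ g) - σ (τ₁ (conjFun ζ) g) =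
      τ₁ (fun y => σ (ζ y)) g - τ₁ (fun y => σ (conjFun ζ y)) g := by
    intro g
    have := congrFun e2 g
    simp only [Pi.sub_apply, map_sub, RingEquiv.coe_toRingHom] at this
    exact this.symm
  have hε0 : (ε : ℂ) ≠ 0 := by
    rcases x.eps with rfl | rfl <;> norm_num
  have key := irr_eq_of_sub_eq
    (a := fun g => σ ((ε • τ₁ ζ) g)) (b := fun g => σ ((ε • τ₁ (conjFun ζ)) g))
    (c := ε • τ₁ (fun y => σ (ζ y))) (d := ε • τ₁ (fun y => σ (conjFun ζ y)))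
    (Cfsg.Agent.Lib.Helper81.isIrrCharacter_galois (x.irr ζ h) σ)
    (Cfsg.Agent.Lib.Helper81.isIrrCharacter_galois (x.irr _ h') σ)
    (x.irr _ hσ) (x.irr _ hσ') ?_ ?_
  · funext g
    have := congrFun key g
    simp only [zsmul_fun_apply, map_mul, map_intCast] at this
    exact mul_left_cancel₀ hε0 this
  · intro hab
    apply psi_ne H L sf x h h' hne
    funext g
    exact σ.injective (congrFun hab g)
  · funext g
    simp only [Pi.sub_apply, zsmul_fun_apply, map_mul, map_intCast]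
    rw [← mul_sub, ← mul_sub, e3 g]

/-- MODULE [SIBC-II-GAL]: `τ₁ ζ₁` is constant on `W₂ ∖ 1` (Galois conjugation). -/
theorem galois_const {p : ℕ} (c : Ctx H L W₁ W₂ p)
    {R : (↥L → ℂ) → Finset (G → ℂ)}
    (sf : SFacts H L R) {τ₁ : (↥L → ℂ) → (G → ℂ)} {ε : ℤ} (x : AExt H L τ₁ ε)
    {ζ₁ : ↥L → ℂ} (hζ₁ : ζ₁ ∈ AA H L)
    (hF2 : ∀ ζ ∈ AA H L, ∀ y : ↥L, τ₁ ζ (y : G) = ζ y + Dl L τ₁ ζ₁ y) :
    ∀ z ∈ W₂, ∀ z' ∈ W₂, z ≠ 1 → z' ≠ 1 → τ₁ ζ₁ z = τ₁ ζ₁ z' := by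
  intro z hz z' hz' hz1 hz'1
  obtain ⟨k, hk, hzk⟩ := exists_coprime_pow c.hp c.hW₂card hz hz' hz1 hz'1
  obtain ⟨σ, -, hσ⟩ := Cfsg.Agent.Lib.Helper75.exists_ringEquiv_character_pow (G := G) k hk
  have hcomm := galois_tau H L sf x σ hζ₁
  have hσmem : (fun y => σ (ζ₁ y)) ∈ AA H L := galois_mem_inducedIrrAbove σ hζ₁
  have hzD : z ∈ ⁅H, H⁆ := c.hW₂der hz
  -- `z` as an element of `K'`
  have hmap : (⁅H.subgroupOf L, H.subgroupOf L⁆).map L.subtype = ⁅H, H⁆ := by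
    rw [Subgroup.map_commutator, Subgroup.map_subgroupOf_eq_of_le c.hHL]
  rw [← hmap] at hzD
  obtain ⟨y, hyK, hyz⟩ := hzD
  have hyz' : (y : G) = z := hyz
  -- `ζ₁ y = ζ₁ 1`
  have hKn : (H.subgroupOf L).Normal := Cfsg.Agent.Lib.Helper74.subgroupOf_normal_of_conj H L c.hHn
  have hy : ζ₁ y = ζ₁ 1 := by
    obtain ⟨θ, -, -, htriv, rfl⟩ := hζ₁
    exact Cfsg.Agent.Lib.Helper75.indFun_eq_of_forall_eq (H.subgroupOf L)
      ⁅H.subgroupOf L, H.subgroupOf L⁆ (Subgroup.commutator_le_right _ _) θ htriv y hyK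
  have hchar : IsCharacter ↥L ζ₁ := sf.cs.isCharacter ζ₁ (AA_subset_SS H L hζ₁)
  have e3 : σ (ζ₁ y) = ζ₁ y := by
    rw [hy, IsCharacter.apply_one_eq_charDegree hchar, map_natCast]
  have e1 : τ₁ (fun y => σ (ζ₁ y)) (y : G) = σ (ζ₁ y) + Dl L τ₁ ζ₁ y := hF2 _ hσmem y
  have e2 : τ₁ ζ₁ (y : G) = ζ₁ y + Dl L τ₁ ζ₁ y := hF2 ζ₁ hζ₁ y
  have e4 : σ (τ₁ ζ₁ z) = τ₁ ζ₁ z := by
    have := congrFun hcomm z
    rw [this, ← hyz', e1, e3, ← e2]
  have hψ : IsCharacter G (ε • τ₁ ζ₁) := IsIrrCharacter.isCharacter (x.irr ζ₁ hζ₁)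
  have e5 := hσ _ hψ z
  rw [hzk] at e5
  simp only [zsmul_fun_apply, map_mul, map_intCast] at e5
  rw [e4] at e5
  have hε0 : (ε : ℂ) ≠ 0 := by
    rcases x.eps with rfl | rfl <;> norm_num
  exact mul_left_cancel₀ hε0 e5

end Main

end Cfsg.Agent.Lib.Helper1.SibCGal
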