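import Mathlib
import Cfsg.Agent.Lib.Helper72.Simple5040D

/-!
# No simple group of order 5040, MODULE [B2-Z4] (helper72 #4289)

`|N(P₅)| = 40`, `|C(P₅)| = 20` and an element of order `4` in `C(P₅)` is impossible.
-/

set_option autoImplicit false
set_option linter.unusedSectionVars false
set_option linter.unusedVariables false

namespace Cfsg.Agent.Lib.Helper1.Simple5040

open MulAction Subgroup Cfsg.Agent.Lib.Helper17 Cfsg.Agent.Lib.Helper72.Simple5040

/-- conjugation preserves the order -/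
theorem orderOf_conj_eq {G : Type*} [Group G] (s v : G) : orderOf (s * v * s⁻¹) = orderOf v := by
  have := orderOf_injective (MulAut.conj s).toMonoidHom (MulAut.conj s).injective v
  simpa [MulAut.conj_apply] using this

/-- the unique involution of a cyclic group of order `4` -/
theorem eq_sq_of_mem_zpowers_of_orderOf_eq_two {G : Type*} [Group G] (c : G) (hc4 : orderOf c = 4)
    (y : G) (hy : y ∈ zpowers c) (hy2 : orderOf y = 2) : y = c ^ 2 := by
  obtain ⟨k, rfl⟩ := mem_zpowers_iff.mp hy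
  have hmod : c ^ k = c ^ (k % 4) := by
    have := zpow_mod_orderOf c k
    rw [hc4] at this
    exact this.symm
  have hnonneg : 0 ≤ k % 4 := Int.emod_nonneg _ (by norm_num)
  have hlt : k % 4 < 4 := Int.emod_lt_of_pos _ (by norm_num)
  obtain ⟨m, hm⟩ := Int.eq_ofNat_of_zero_le hnonneg
  have hm4 : m < 4 := by omega
  rw [hmod, hm, zpow_natCast] at hy2 ⊢
  interval_cases m
  · rw [pow_zero, orderOf_one] at hy2
    omega
  · rw [pow_one, hc4] at hy2
    omega
  · rfl
  · rw [orderOf_pow' c (by norm_num : (3 : ℕ) ≠ 0), hc4] at hy2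
    norm_num at hy2

variable {G : Type*} [Group G] [Finite G] [IsSimpleGroup G]

attribute [local instance] fact7 fact5 fact3 fact2

/-- MODULE [B2-Z4] -/
theorem false_of_card_centralizer_eq_20_of_orderOf_eq_four (h : Nat.card G = 5040) (P : Sylow 5 G)
    (hN : Nat.card (normalizer ((P : Subgroup G) : Set G)) = 40)
    (hC : Nat.card (centralizer ((P : Subgroup G) : Set G)) = 20)
    (c : G) (hc : c ∈ centralizer ((P : Subgroup G) : Set G)) (hc4 : orderOf c = 4) : False := by
  have hG := not_comm h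
  have hP5 := card_sylow5 h P
  have hCN : centralizer ((P : Subgroup G) : Set G) ≤ normalizer ((P : Subgroup G) : Set G) :=
    Subgroup.centralizer_le_normalizer _
  -- the involution `v = c²`
  have hv2 : orderOf (c ^ 2) = 2 := by
    rw [orderOf_pow_of_dvd (by norm_num) (by rw [hc4]; norm_num), hc4]
  have hcard_zc : Nat.card (zpowers c) = 4 := by rw [Nat.card_zpowers, hc4]
  have hpc : IsPGroup 2 (zpowers c) := IsPGroup.of_card (n := 2) (by rw [hcard_zc]; norm_num)
  have hzcN : zpowers c ≤ normalizer ((P : Subgroup G) : Set G) := by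
    rw [zpowers_le]
    exact hCN hc
  obtain ⟨S0, hS0⟩ := exists_sylow_sub_ge (normalizer ((P : Subgroup G) : Set G)) (zpowers c)
    hzcN hpc
  set T := (S0 : Subgroup (normalizer ((P : Subgroup G) : Set G))).map
    (normalizer ((P : Subgroup G) : Set G)).subtype with hTdef
  have hT8 : Nat.card T = 8 := by
    rw [hTdef, card_map_subtype]
    have hcard : Nat.card (normalizer ((P : Subgroup G) : Set G)) = 2 ^ 3 * 5 := by
      rw [hN]
      norm_num
    rw [sylow_card_of_card_eq S0 hcard (by norm_num)]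
    norm_num
  have hTN : T ≤ normalizer ((P : Subgroup G) : Set G) := by
    rw [hTdef]
    exact Subgroup.map_subtype_le _
  have hcT : c ∈ T := hS0 (mem_zpowers c)
  -- `K = T ⊓ C5 = ⟨c⟩`
  have hzcK : zpowers c ≤ T ⊓ centralizer ((P : Subgroup G) : Set G) :=
    le_inf hS0 (by rw [zpowers_le]; exact hc)
  have hKcard : Nat.card (T ⊓ centralizer ((P : Subgroup G) : Set G) : Subgroup G) = 4 := by
    have h1 : Nat.card (T ⊓ centralizer ((P : Subgroup G) : Set G) : Subgroup G) ∣ 8 :=
      hT8 ▸ Subgroup.card_dvd_of_le inf_le_left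
    have h2 : Nat.card (T ⊓ centralizer ((P : Subgroup G) : Set G) : Subgroup G) ∣ 20 :=
      hC ▸ Subgroup.card_dvd_of_le inf_le_right
    have h3 : 4 ∣ Nat.card (T ⊓ centralizer ((P : Subgroup G) : Set G) : Subgroup G) :=
      hcard_zc ▸ Subgroup.card_dvd_of_le hzcK
    have h4 : Nat.card (T ⊓ centralizer ((P : Subgroup G) : Set G) : Subgroup G) ∣ 4 := by
      have := Nat.dvd_gcd h1 h2
      simpa using this
    exact Nat.dvd_antisymm h4 h3
  have hKeq : T ⊓ centralizer ((P : Subgroup G) : Set G) = zpowers c :=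
    (Subgroup.eq_of_le_of_card_ge hzcK (by rw [hKcard, hcard_zc])).symm
  have hTK : Nat.card T = 2 * Nat.card (T ⊓ centralizer ((P : Subgroup G) : Set G) : Subgroup G) := by
    rw [hT8, hKcard]
  -- `T ≤ C(v)`
  have hTv : T ≤ centralizer ({c ^ 2} : Set G) := by
    intro τ hτ
    rw [mem_centralizer_singleton_iff]
    have h1 : τ * c * τ⁻¹ ∈ zpowers c := by
      rw [← hKeq]
      exact ⟨T.mul_mem (T.mul_mem hτ hcT) (T.inv_mem hτ),
        Cfsg.Agent.Lib.Helper9.Simple1080.conj_mem_centralizer_of_mem_normalizer _ (hTN hτ) hc⟩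
    have h2 : τ * c ^ 2 * τ⁻¹ = (τ * c * τ⁻¹) ^ 2 := by
      rw [conj_pow]
    have h3 : τ * c ^ 2 * τ⁻¹ = c ^ 2 := by
      apply eq_sq_of_mem_zpowers_of_orderOf_eq_two c hc4
      · rw [h2]
        exact (zpowers c).pow_mem h1 2
      · rw [orderOf_conj_eq, hv2]
    calc τ * c ^ 2 = (τ * c ^ 2 * τ⁻¹) * τ := by group
      _ = c ^ 2 * τ := by rw [h3]
  have hvC5 : c ^ 2 ∈ centralizer ((P : Subgroup G) : Set G) :=
    (centralizer ((P : Subgroup G) : Set G)).pow_mem hc 2
  have hPv : (P : Subgroup G) ≤ centralizer ({c ^ 2} : Set G) := by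
    intro y hy
    rw [mem_centralizer_singleton_iff]
    rw [Subgroup.mem_centralizer_iff] at hvC5
    exact hvC5 y hy
  have hNv : normalizer ((P : Subgroup G) : Set G) ≤ centralizer ({c ^ 2} : Set G) := by
    apply le_of_coprime_card_dvd (centralizer ({c ^ 2} : Set G))
      (normalizer ((P : Subgroup G) : Set G)) (P : Subgroup G) T hPv Subgroup.le_normalizer hTv hTN
    · rw [hP5, hT8]
      norm_num
    · rw [hN, hP5, hT8]
  have hCv := centralizer_eq_normalizer_of_le h P hN (c ^ 2) hv2 hNv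
  obtain ⟨S, s, hST, hsS, hsN, hsT⟩ :=
    exists_sylow_two_growth h (normalizer ((P : Subgroup G) : Set G)) hN T hTN hT8
  have hτT : s * c * s⁻¹ ∈ T := (Subgroup.mem_normalizer_iff.mp hsT c).mp hcT
  have hτ2 : (s * c * s⁻¹) ^ 2 ∈ T ⊓ centralizer ((P : Subgroup G) : Set G) :=
    sq_mem_of_card_eq_two_mul inf_le_left hTK _ hτT
  rw [hKeq] at hτ2
  have h4 : (s * c * s⁻¹) ^ 2 = c ^ 2 := by
    apply eq_sq_of_mem_zpowers_of_orderOf_eq_two c hc4 _ hτ2
    rw [conj_pow, orderOf_conj_eq, hv2]
  apply hsN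
  rw [← hCv, mem_centralizer_singleton_iff]
  rw [conj_pow] at h4
  calc s * c ^ 2 = (s * c ^ 2 * s⁻¹) * s := by group
    _ = c ^ 2 * s := by rw [h4]

end Cfsg.Agent.Lib.Helper1.Simple5040
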