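import Mathlib
import Cfsg.Agent.Lib.Helper72.Simple5040D
import Cfsg.Agent.Lib.Helper17.OrbitCount

/-!
# No simple group of order 5040, MODULE [N21A] (helper72 #4288)

`n₅ = 21`: `|C(P₅)| = 60`, and an involution of `C(P₅)` fixes exactly one coset of `N(P₅)`.
-/

set_option autoImplicit false
set_option linter.unusedSectionVars false
set_option linter.unusedVariables false

namespace Cfsg.Agent.Lib.Helper1.Simple5040

open MulAction Subgroup Cfsg.Agent.Lib.Helper17 Cfsg.Agent.Lib.Helper72.Simple5040

variable {G : Type*} [Group G] [Finite G] [IsSimpleGroup G]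

attribute [local instance] fact7 fact5 fact3 fact2

/-- MODULE [N21A] -/
theorem card_centralizer_eq_60_of_card_sylow5_eq_21 (h : Nat.card G = 5040)
    (hn : Nat.card (Sylow 5 G) = 21) (P : Sylow 5 G) :
    Nat.card (centralizer ((P : Subgroup G) : Set G)) = 60 ∧
      ∀ v ∈ centralizer ((P : Subgroup G) : Set G), orderOf v = 2 →
        ∀ g : G, g⁻¹ * v * g ∈ normalizer ((P : Subgroup G) : Set G) →
          g ∈ normalizer ((P : Subgroup G) : Set G) := by
  have hG := not_comm h
  have hP5 := card_sylow5 h P
  have hCN : centralizer ((P : Subgroup G) : Set G) ≤ normalizer ((P : Subgroup G) : Set G) :=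
    Subgroup.centralizer_le_normalizer _
  have hNcard : Nat.card (normalizer ((P : Subgroup G) : Set G)) = 240 := by
    have := card_sylow_mul_card_normalizer P
    rw [hn, h] at this
    omega
  have hidx : (normalizer ((P : Subgroup G) : Set G)).index = 21 := by
    have h1 := P.card_eq_index_normalizer
    rw [hn] at h1
    exact h1.symm
  have hNtop : normalizer ((P : Subgroup G) : Set G) ≠ ⊤ := by
    intro ht
    rw [ht, index_top] at hidx
    omega
  obtain ⟨x, hx, hx5⟩ := exists_mem_orderOf_eq_of_dvd_card (P : Subgroup G) 5 (by rw [hP5])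
  have hx1 : x ≠ 1 := by
    rintro rfl
    rw [orderOf_one] at hx5
    omega
  -- (a)
  have hA : ∀ v ∈ centralizer ((P : Subgroup G) : Set G), orderOf v = 2 →
      ∀ g : G, g⁻¹ * v * g ∈ normalizer ((P : Subgroup G) : Set G) →
        g ∈ normalizer ((P : Subgroup G) : Set G) := by
    intro v hv hv2 g hg
    have hv1 : v ≠ 1 := by
      rintro rfl
      rw [orderOf_one] at hv2
      omega
    have hvsq : v ^ 2 = 1 := by
      rw [← hv2]
      exact pow_orderOf_eq_one v
    have hcomm : Commute x v := (Subgroup.mem_centralizer_iff.mp hv) x hx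
    have h5 := card_fixedBy_modEq_one_of_normalizer_le P hP5
      (normalizer ((P : Subgroup G) : Set G)) le_rfl x hx hx1 v (hCN hv) hcomm
    have h4 := four_dvd_index_sub_card_fixedBy_of_simple hG
      (normalizer ((P : Subgroup G) : Set G)) v hvsq
    have hle := card_fixedBy_le_index (normalizer ((P : Subgroup G) : Set G)) v
    have hne := card_fixedBy_ne_index (normalizer ((P : Subgroup G) : Set G)) hNtop v hv1
    rw [hidx] at h4 hle hne
    have hfix1 : Nat.card (fixedBy (G ⧸ normalizer ((P : Subgroup G) : Set G)) v) = 1 := by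
      unfold Nat.ModEq at h5
      generalize Nat.card (fixedBy (G ⧸ normalizer ((P : Subgroup G) : Set G)) v) = f at *
      omega
    have hsub : Subsingleton (fixedBy (G ⧸ normalizer ((P : Subgroup G) : Set G)) v) :=
      (Nat.card_eq_one_iff_unique.mp hfix1).1
    have h1mem : ((1 : G) : G ⧸ normalizer ((P : Subgroup G) : Set G)) ∈
        fixedBy (G ⧸ normalizer ((P : Subgroup G) : Set G)) v := by
      rw [mk_mem_fixedBy_iff]
      simpa using hCN hv
    have hgmem : ((g : G) : G ⧸ normalizer ((P : Subgroup G) : Set G)) ∈
        fixedBy (G ⧸ normalizer ((P : Subgroup G) : Set G)) v := by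
      rw [mk_mem_fixedBy_iff]
      exact hg
    have heq := congrArg Subtype.val (hsub.elim ⟨_, hgmem⟩ ⟨_, h1mem⟩)
    simp only at heq
    rw [QuotientGroup.eq] at heq
    have := (normalizer ((P : Subgroup G) : Set G)).inv_mem heq
    simpa using this
  refine ⟨?_, hA⟩
  obtain ⟨r, hr, hrmul⟩ := card_centralizer_sylow5 h P
  rw [hNcard] at hrmul
  rcases hr with rfl | rfl
  · -- `|C5| = 120` is impossible
    exfalso
    have hC120 : Nat.card (centralizer ((P : Subgroup G) : Set G)) = 120 := by omega
    have R0 : Sylow 2 (centralizer ((P : Subgroup G) : Set G)) := default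
    set R := (R0 : Subgroup (centralizer ((P : Subgroup G) : Set G))).map
      (centralizer ((P : Subgroup G) : Set G)).subtype with hRdef
    have hR8 : Nat.card R = 8 := by
      rw [hRdef, card_map_subtype]
      have hcard : Nat.card (centralizer ((P : Subgroup G) : Set G)) = 2 ^ 3 * 15 := by
        rw [hC120]
        norm_num
      rw [sylow_card_of_card_eq R0 hcard (by norm_num)]
      norm_num
    have hRC : R ≤ centralizer ((P : Subgroup G) : Set G) := by
      rw [hRdef]
      exact Subgroup.map_subtype_le _
    have hkey : ∀ v ∈ centralizer ((P : Subgroup G) : Set G), orderOf v = 2 →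
        ∀ q : G ⧸ normalizer ((P : Subgroup G) : Set G), v • q = q →
          q = ((1 : G) : G ⧸ normalizer ((P : Subgroup G) : Set G)) := by
      intro v hv hv2 q hq
      induction q using QuotientGroup.induction_on with
      | H g =>
        have hmem : ((g : G) : G ⧸ normalizer ((P : Subgroup G) : Set G)) ∈
            fixedBy (G ⧸ normalizer ((P : Subgroup G) : Set G)) v := hq
        rw [mk_mem_fixedBy_iff] at hmem
        have hgN := hA v hv hv2 g hmem
        rw [QuotientGroup.eq]
        simpa using (normalizer ((P : Subgroup G) : Set G)).inv_mem hgN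
    have hstab : ∀ q : G ⧸ normalizer ((P : Subgroup G) : Set G),
        q ≠ ((1 : G) : G ⧸ normalizer ((P : Subgroup G) : Set G)) →
          Nat.card (stabilizer R q) = 1 := by
      intro q hq
      by_contra hne
      have hdvd : Nat.card (stabilizer R q) ∣ 8 := hR8 ▸ Subgroup.card_subgroup_dvd_card _
      have h2 : 2 ∣ Nat.card (stabilizer R q) := by
        have hle : Nat.card (stabilizer R q) ≤ 8 := Nat.le_of_dvd (by norm_num) hdvd
        have hpos : 0 < Nat.card (stabilizer R q) := Nat.card_pos
        generalize Nat.card (stabilizer R q) = c at *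
        interval_cases c <;> omega
      obtain ⟨v', hv'⟩ := exists_prime_orderOf_dvd_card' 2 h2
      apply hq
      apply hkey (((v' : R) : G)) (hRC (v' : R).2)
        (by rw [Subgroup.orderOf_coe, Subgroup.orderOf_coe]; exact hv')
      exact v'.2
    have hfp : fixedPoints R (G ⧸ normalizer ((P : Subgroup G) : Set G)) =
        {((1 : G) : G ⧸ normalizer ((P : Subgroup G) : Set G))} := by
      ext q
      constructor
      · intro hq
        obtain ⟨v0, hv0R, hv02⟩ := exists_mem_orderOf_eq_of_dvd_card R 2 (by rw [hR8]; norm_num)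
        exact hkey v0 (hRC hv0R) hv02 q (hq ⟨v0, hv0R⟩)
      · intro hq
        rw [Set.mem_singleton_iff] at hq
        subst hq
        intro r
        show ((r : G)) • ((1 : G) : G ⧸ normalizer ((P : Subgroup G) : Set G)) = _
        rw [MulAction.Quotient.smul_coe, QuotientGroup.eq]
        simpa using (normalizer ((P : Subgroup G) : Set G)).inv_mem (hCN (hRC r.2))
    have hmod := card_modEq_card_fixedPoints_of_dvd (H := R)
      (X := G ⧸ normalizer ((P : Subgroup G) : Set G)) 8 (by
        intro q hq
        have hq1 : q ≠ ((1 : G) : G ⧸ normalizer ((P : Subgroup G) : Set G)) := by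
          rintro rfl
          apply hq
          rw [hfp]
          rfl
        have h1 := (stabilizer R q).index_mul_card
        rw [hstab q hq1, mul_one, hR8, MulAction.index_stabilizer] at h1
        rw [Nat.card_coe_set_eq, h1])
    rw [hfp] at hmod
    have hX : Nat.card (G ⧸ normalizer ((P : Subgroup G) : Set G)) = 21 := hidx
    rw [hX] at hmod
    simp [Nat.ModEq] at hmod
  · omega

end Cfsg.Agent.Lib.Helper1.Simple5040
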