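import Mathlib
import Cfsg.Agent.Lib.Helper32.SLMD.Defs2

/-!
# SLMD-[N-ARITH] (helper1)
-/

set_option autoImplicit false
set_option linter.unusedSectionVars false
set_option linter.unusedVariables false

namespace Cfsg.Agent.Lib.Helper32.SLMD

open Matrix Cfsg.Agent.Lib.Helper41 Cfsg.Agent.Lib.Helper39 Module
open scoped LinearAlgebra.Projectivization

/-- [N-ARITH] -/
theorem arith (q k c h D : ℕ) (t : ℂ) (r : ℝ) (hq : 2 ≤ q) (hk : 1 ≤ k)
    (hD : D + 1 = c + q ^ (k + 1)) (hh : h + q ^ k = c + 1) (hr : (h : ℂ) - t = (r : ℂ))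
    (hr' : r = 0 ∨ ((q : ℝ) - 1) / (q : ℝ) ≤ r)
    (hS : (D : ℂ) * (((q : ℂ) - 1) * (c : ℂ) + ((q : ℂ) ^ (k + 2) - (q : ℂ)) * t) =
      ((q : ℂ) ^ (k + 2) - 1) * (c : ℂ) ^ 2) :
    (q ^ (k + 2) - q) / (q - 1) ≤ D := by
  -- notation
  set Q : ℕ := q ^ k with hQdef
  have hQq : q ≤ Q := by
    calc q = q ^ 1 := (pow_one q).symm
      _ ≤ q ^ k := Nat.pow_le_pow_right (by omega) hk
  have e1 : q ^ (k + 1) = q * Q := by rw [pow_succ, mul_comm]
  have e2 : q ^ (k + 2) = q * q * Q := by rw [pow_succ, pow_succ]; ring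
  rw [e1] at hD
  -- real versions
  have ht : t = ((h : ℝ) - r : ℝ) := by
    push_cast
    linear_combination -hr
  have hSR : (D : ℝ) * (((q : ℝ) - 1) * (c : ℝ) + ((q : ℝ) ^ (k + 2) - (q : ℝ)) * ((h : ℝ) - r)) =
      ((q : ℝ) ^ (k + 2) - 1) * (c : ℝ) ^ 2 := by
    apply Complex.ofReal_injective
    rw [ht] at hS
    push_cast at hS ⊢
    exact hS
  have hqR : (2 : ℝ) ≤ q := by exact_mod_cast hq
  have hQR : (q : ℝ) ≤ Q := by exact_mod_cast hQq
  have hDR : (D : ℝ) = c + q * Q - 1 := by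
    have : ((D + 1 : ℕ) : ℝ) = ((c + q * Q : ℕ) : ℝ) := by rw [hD]
    push_cast at this
    linarith
  have hhR : (h : ℝ) = c + 1 - Q := by
    have : ((h + Q : ℕ) : ℝ) = ((c + 1 : ℕ) : ℝ) := by rw [hh]
    push_cast at this
    linarith
  have e2R : (q : ℝ) ^ (k + 2) = q * q * Q := by exact_mod_cast e2
  rw [e2R, hDR, hhR] at hSR
  -- A = qQ - 1 > 0
  have hA : (0 : ℝ) < q * Q - 1 := by nlinarith
  -- key equation
  have key : (c : ℝ) * ((q : ℝ) - 1 + q * (q * Q - 1) - q * ((Q : ℝ) - 1 + r)) =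
      q * (q * Q - 1) * ((Q : ℝ) - 1 + r) := by
    have hA' : ((q : ℝ) * Q - 1) ≠ 0 := ne_of_gt hA
    apply mul_left_cancel₀ hA'
    linear_combination hSR
  -- the goal reduces to (q - 1) * c ≥ qQ - 1
  suffices hgoal : q * Q - 1 ≤ (q - 1) * c by
    apply Nat.div_le_of_le_mul
    rw [e2]
    have hq1 : 1 ≤ q * Q := by nlinarith
    obtain ⟨A, hAe⟩ : ∃ A, q * Q = A + 1 := ⟨q * Q - 1, by omega⟩
    obtain ⟨q', rfl⟩ : ∃ q', q = q' + 1 := ⟨q - 1, by omega⟩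
    have hDe : D = c + A := by omega
    rw [hAe] at hgoal
    simp only [Nat.add_sub_cancel] at hgoal ⊢
    have : (q' + 1) * (q' + 1) * Q = (q' + 1) * (A + 1) := by rw [← hAe]; ring
    rw [this, hDe]
    have h3 : (q' + 1) * (A + 1) - (q' + 1) = (q' + 1) * A := by
      have : (q' + 1) * (A + 1) = (q' + 1) * A + (q' + 1) := by ring
      omega
    rw [h3]
    nlinarith
  rcases hr' with hr0 | hrpos
  · -- r = 0 : contradiction
    exfalso
    rw [hr0, add_zero] at key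
    have keyZ : (c : ℤ) * ((q : ℤ) - 1) * (q * Q + 1) = q * (q * Q - 1) * ((Q : ℤ) - 1) := by
      have : ((c : ℤ) * ((q : ℤ) - 1) * (q * Q + 1) : ℝ) = ((q * (q * Q - 1) * ((Q : ℤ) - 1) : ℤ) : ℝ) := by
        push_cast
        linear_combination key
      exact_mod_cast this
    have hdvd : ((q : ℤ) * Q + 1) ∣ 2 * ((q : ℤ) + 1) := by
      have h1 : ((q : ℤ) * Q + 1) ∣ q * (q * Q - 1) * ((Q : ℤ) - 1) := ⟨(c : ℤ) * ((q : ℤ) - 1), by rw [← keyZ]; ring⟩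
      have h2 : (q : ℤ) * (q * Q - 1) * ((Q : ℤ) - 1) =
          ((q : ℤ) * Q + 1) * ((q : ℤ) * Q + 1 - 3 - q) + 2 * ((q : ℤ) + 1) := by ring
      rw [h2] at h1
      exact (Int.dvd_add_right (Dvd.intro _ rfl)).1 h1
    have hle := Int.le_of_dvd (by positivity) hdvd
    have hqZ : (2 : ℤ) ≤ q := by exact_mod_cast hq
    have hQZ : (q : ℤ) ≤ Q := by exact_mod_cast hQq
    have hq2 : (q : ℤ) = 2 := by nlinarith
    rw [hq2] at hdvd hle hQZ
    have hQ2 : (Q : ℤ) = 2 := by omega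
    rw [hQ2] at hdvd
    norm_num at hdvd
  · -- r ≥ (q-1)/q
    have hq0 : (0 : ℝ) < q := by linarith
    have hqr : (q : ℝ) - 1 ≤ q * r := by
      have := (div_le_iff₀ hq0).1 hrpos
      linarith
    have hc0 : (0 : ℝ) ≤ c := Nat.cast_nonneg c
    -- u = q s ≥ A
    have hu : (q : ℝ) * Q - 1 ≤ q * ((Q : ℝ) - 1 + r) := by nlinarith
    have hineq : ((q : ℝ) * Q - 1) ^ 2 ≤ c * ((q : ℝ) - 1) * (q * Q) := by
      have hAc : (0 : ℝ) ≤ (q * Q - 1) + c := by linarith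
      have := mul_le_mul_of_nonneg_right hu hAc
      nlinarith
    -- to ℕ
    by_contra hcon
    push Not at hcon
    have hq1 : 1 ≤ q * Q := by nlinarith
    have hcon' : (q - 1) * c + 2 ≤ q * Q := by omega
    have hconR : (((q : ℝ) - 1) * c + 2 : ℝ) ≤ q * Q := by
      have : (((q - 1) * c + 2 : ℕ) : ℝ) ≤ ((q * Q : ℕ) : ℝ) := by exact_mod_cast hcon'
      push_cast [Nat.cast_sub (by omega : 1 ≤ q)] at this
      linarith
    nlinarith

end Cfsg.Agent.Lib.Helper32.SLMD
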