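import Mathlib
import Cfsg.Agent.Lib.Helper32.SLMD.Defs2

/-!
# SLMD-[N-MGE2] (helper1)
-/

set_option autoImplicit false
set_option linter.unusedSectionVars false
set_option linter.unusedVariables false

namespace Cfsg.Agent.Lib.Helper32.SLMD

open Matrix Cfsg.Agent.Lib.Helper41 Cfsg.Agent.Lib.Helper39 Module
open scoped LinearAlgebra.Projectivization

/-- [N-MGE2] -/
theorem bound_of_two_le (q k c m D : ℕ) (hq : 2 ≤ q) (hm : 2 ≤ m)
    (hD : D + m = c + q ^ (k + 1) * m) : (q ^ (k + 2) - q) / (q - 1) ≤ D := by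
  have hQ : 1 ≤ q ^ (k + 1) := Nat.one_le_pow _ _ (by omega)
  obtain ⟨Q, hQe⟩ : ∃ Q, q ^ (k + 1) = Q + 1 := ⟨q ^ (k + 1) - 1, by omega⟩
  obtain ⟨q', rfl⟩ : ∃ q', q = q' + 2 := ⟨q - 2, by omega⟩
  obtain ⟨m', rfl⟩ : ∃ m', m = m' + 2 := ⟨m - 2, by omega⟩
  have e1 : (q' + 2) ^ (k + 2) = (q' + 2) * (Q + 1) := by rw [pow_succ', hQe]
  have e2 : q' + 2 - 1 = q' + 1 := by omega
  rw [e1, e2, hQe] at *
  apply Nat.div_le_of_le_mul
  have e3 : (q' + 2) * (Q + 1) - (q' + 2) = (q' + 2) * Q := by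
    have : (q' + 2) * (Q + 1) = (q' + 2) * Q + (q' + 2) := by ring
    omega
  rw [e3]
  have hD' : D = c + Q * (m' + 2) + m' + 2 - (m' + 2) := by
    have : (Q + 1) * (m' + 2) = Q * (m' + 2) + (m' + 2) := by ring
    omega
  have hD2 : 2 * Q ≤ D := by
    have : (Q + 1) * (m' + 2) = Q * m' + 2 * Q + (m' + 2) := by ring
    have h3 : D = c + Q * m' + 2 * Q := by omega
    omega
  calc (q' + 2) * Q ≤ (q' + 1) * (2 * Q) := by nlinarith
    _ ≤ (q' + 1) * D := Nat.mul_le_mul_left _ hD2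

end Cfsg.Agent.Lib.Helper32.SLMD
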