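import Mathlib
import Cfsg.Agent.S0440

/-!
# S2136 module [GEN] (helper1): four explicit elements generate `Sp₆(2)`

`sp6_gen_top`: a subgroup of `Sp₆(2)` containing the transvection `g0` and three explicit
elements `g1, g2, g3` (transitive on the 63 nonzero vectors) is everything.
-/

set_option autoImplicit false

namespace Cfsg.Agent.Lib.Helper1.Sp6Gen

open Matrix Cfsg.Agent.S0440

def sidx : Fin 3 ⊕ Fin 3 → ℕ | Sum.inl i => i.val | Sum.inr i => 3 + i.val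
def matOfList (l : List (List ℕ)) : Matrix (Fin 3 ⊕ Fin 3) (Fin 3 ⊕ Fin 3) (ZMod 2) := fun i j => (((l.getD (sidx i) []).getD (sidx j) 0 : ℕ) : ZMod 2)

/-- the vectors of `𝔽₂⁶` -/
abbrev V := Fin 3 ⊕ Fin 3 → ZMod 2

/-- explicit vectors -/
def vec (a b c d e f : ZMod 2) : V := Sum.elim ![a, b, c] ![d, e, f]

theorem vec_eta (w : V) :
    w = vec (w (Sum.inl 0)) (w (Sum.inl 1)) (w (Sum.inl 2)) (w (Sum.inr 0)) (w (Sum.inr 1))
      (w (Sum.inr 2)) := by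
  funext i
  rcases i with i | i <;> fin_cases i <;> rfl

def M0 := matOfList [[1,0,0,0,0,0],[0,1,0,0,0,0],[0,0,1,0,0,1],[0,0,0,1,0,0],[0,0,0,0,1,0],[0,0,0,0,0,1]]
def M1 := matOfList [[1,0,0,0,0,1],[0,1,0,0,0,0],[1,1,1,1,0,0],[0,0,0,1,0,1],[0,0,0,0,1,1],[0,0,0,0,0,1]]
def M2 := matOfList [[1,0,0,0,0,1],[0,1,0,0,0,1],[1,0,1,1,1,1],[0,0,0,1,0,1],[0,0,0,0,1,0],[0,0,0,0,0,1]]
def M3 := matOfList [[0,1,0,0,0,0],[1,1,1,1,0,0],[0,0,1,0,0,0],[1,0,1,0,1,0],[1,0,0,0,0,0],[1,1,0,0,0,1]]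

theorem T_a0 : T (vec 0 0 1 0 0 0) = M0 := by decide

/-- a set of vectors containing `e₃` and stable under `M1, M2, M3` contains all nonzero vectors -/
theorem orbit_all (O : Set V) (h_001000 : vec 0 0 1 0 0 0 ∈ O)
    (hcl1 : ∀ w ∈ O, M1 *ᵥ w ∈ O) (hcl2 : ∀ w ∈ O, M2 *ᵥ w ∈ O) (hcl3 : ∀ w ∈ O, M3 *ᵥ w ∈ O) :
    ∀ w : V, w ≠ 0 → w ∈ O := by
  have h_011100 : vec 0 1 1 1 0 0 ∈ O := by
    have := hcl3 _ h_001000
    rwa [show M3 *ᵥ vec 0 0 1 0 0 0 = vec 0 1 1 1 0 0 from by decide] at this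
  have h_010100 : vec 0 1 0 1 0 0 ∈ O := by
    have := hcl2 _ h_011100
    rwa [show M2 *ᵥ vec 0 1 1 1 0 0 = vec 0 1 0 1 0 0 from by decide] at this
  have h_111101 : vec 1 1 1 1 0 1 ∈ O := by
    have := hcl3 _ h_011100
    rwa [show M3 *ᵥ vec 0 1 1 1 0 0 = vec 1 1 1 1 0 1 from by decide] at this
  have h_100001 : vec 1 0 0 0 0 1 ∈ O := by
    have := hcl3 _ h_010100
    rwa [show M3 *ᵥ vec 0 1 0 1 0 0 = vec 1 0 0 0 0 1 from by decide] at this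
  have h_010011 : vec 0 1 0 0 1 1 ∈ O := by
    have := hcl1 _ h_111101
    rwa [show M1 *ᵥ vec 1 1 1 1 0 1 = vec 0 1 0 0 1 1 from by decide] at this
  have h_000001 : vec 0 0 0 0 0 1 ∈ O := by
    have := hcl2 _ h_111101
    rwa [show M2 *ᵥ vec 1 1 1 1 0 1 = vec 0 0 0 0 0 1 from by decide] at this
  have h_101011 : vec 1 0 1 0 1 1 ∈ O := by
    have := hcl3 _ h_111101
    rwa [show M3 *ᵥ vec 1 1 1 1 0 1 = vec 1 0 1 0 1 1 from by decide] at this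
  have h_001111 : vec 0 0 1 1 1 1 ∈ O := by
    have := hcl1 _ h_100001
    rwa [show M1 *ᵥ vec 1 0 0 0 0 1 = vec 0 0 1 1 1 1 from by decide] at this
  have h_010101 : vec 0 1 0 1 0 1 ∈ O := by
    have := hcl2 _ h_100001
    rwa [show M2 *ᵥ vec 1 0 0 0 0 1 = vec 0 1 0 1 0 1 from by decide] at this
  have h_010110 : vec 0 1 0 1 1 0 ∈ O := by
    have := hcl3 _ h_100001
    rwa [show M3 *ᵥ vec 1 0 0 0 0 1 = vec 0 1 0 1 1 0 from by decide] at this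
  have h_100111 : vec 1 0 0 1 1 1 ∈ O := by
    have := hcl2 _ h_010011
    rwa [show M2 *ᵥ vec 0 1 0 0 1 1 = vec 1 0 0 1 1 1 from by decide] at this
  have h_110100 : vec 1 1 0 1 0 0 ∈ O := by
    have := hcl3 _ h_010011
    rwa [show M3 *ᵥ vec 0 1 0 0 1 1 = vec 1 1 0 1 0 0 from by decide] at this
  have h_000101 : vec 0 0 0 1 0 1 ∈ O := by
    have := hcl1 _ h_101011
    rwa [show M1 *ᵥ vec 1 0 1 0 1 1 = vec 0 0 0 1 0 1 from by decide] at this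
  have h_010111 : vec 0 1 0 1 1 1 ∈ O := by
    have := hcl2 _ h_101011
    rwa [show M2 *ᵥ vec 1 0 1 0 1 1 = vec 0 1 0 1 1 1 from by decide] at this
  have h_001110 : vec 0 0 1 1 1 0 ∈ O := by
    have := hcl3 _ h_101011
    rwa [show M3 *ᵥ vec 1 0 1 0 1 1 = vec 0 0 1 1 1 0 from by decide] at this
  have h_110011 : vec 1 1 0 0 1 1 ∈ O := by
    have := hcl2 _ h_001111
    rwa [show M2 *ᵥ vec 0 0 1 1 1 1 = vec 1 1 0 0 1 1 from by decide] at this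
  have h_001001 : vec 0 0 1 0 0 1 ∈ O := by
    have := hcl3 _ h_001111
    rwa [show M3 *ᵥ vec 0 0 1 1 1 1 = vec 0 0 1 0 0 1 from by decide] at this
  have h_100000 : vec 1 0 0 0 0 0 ∈ O := by
    have := hcl3 _ h_010101
    rwa [show M3 *ᵥ vec 0 1 0 1 0 1 = vec 1 0 0 0 0 0 from by decide] at this
  have h_100101 : vec 1 0 0 1 0 1 ∈ O := by
    have := hcl3 _ h_010110
    rwa [show M3 *ᵥ vec 0 1 0 1 1 0 = vec 1 0 0 1 0 1 from by decide] at this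
  have h_000010 : vec 0 0 0 0 1 0 ∈ O := by
    have := hcl3 _ h_100111
    rwa [show M3 *ᵥ vec 1 0 0 1 1 1 = vec 0 0 0 0 1 0 from by decide] at this
  have h_111100 : vec 1 1 1 1 0 0 ∈ O := by
    have := hcl1 _ h_110100
    rwa [show M1 *ᵥ vec 1 1 0 1 0 0 = vec 1 1 1 1 0 0 from by decide] at this
  have h_110110 : vec 1 1 0 1 1 0 ∈ O := by
    have := hcl3 _ h_110100
    rwa [show M3 *ᵥ vec 1 1 0 1 0 0 = vec 1 1 0 1 1 0 from by decide] at this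
  have h_110001 : vec 1 1 0 0 0 1 ∈ O := by
    have := hcl2 _ h_000101
    rwa [show M2 *ᵥ vec 0 0 0 1 0 1 = vec 1 1 0 0 0 1 from by decide] at this
  have h_010001 : vec 0 1 0 0 0 1 ∈ O := by
    have := hcl3 _ h_000101
    rwa [show M3 *ᵥ vec 0 0 0 1 0 1 = vec 0 1 0 0 0 1 from by decide] at this
  have h_100100 : vec 1 0 0 1 0 0 ∈ O := by
    have := hcl3 _ h_010111
    rwa [show M3 *ᵥ vec 0 1 0 1 1 1 = vec 1 0 0 1 0 0 from by decide] at this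
  have h_000110 : vec 0 0 0 1 1 0 ∈ O := by
    have := hcl1 _ h_001110
    rwa [show M1 *ᵥ vec 0 0 1 1 1 0 = vec 0 0 0 1 1 0 from by decide] at this
  have h_100011 : vec 1 0 0 0 1 1 ∈ O := by
    have := hcl3 _ h_110011
    rwa [show M3 *ᵥ vec 1 1 0 0 1 1 = vec 1 0 0 0 1 1 from by decide] at this
  have h_101111 : vec 1 0 1 1 1 1 ∈ O := by
    have := hcl1 _ h_001001
    rwa [show M1 *ᵥ vec 0 0 1 0 0 1 = vec 1 0 1 1 1 1 from by decide] at this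
  have h_110101 : vec 1 1 0 1 0 1 ∈ O := by
    have := hcl2 _ h_001001
    rwa [show M2 *ᵥ vec 0 0 1 0 0 1 = vec 1 1 0 1 0 1 from by decide] at this
  have h_011101 : vec 0 1 1 1 0 1 ∈ O := by
    have := hcl3 _ h_001001
    rwa [show M3 *ᵥ vec 0 0 1 0 0 1 = vec 0 1 1 1 0 1 from by decide] at this
  have h_101000 : vec 1 0 1 0 0 0 ∈ O := by
    have := hcl1 _ h_100000
    rwa [show M1 *ᵥ vec 1 0 0 0 0 0 = vec 1 0 1 0 0 0 from by decide] at this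
  have h_000011 : vec 0 0 0 0 1 1 ∈ O := by
    have := hcl1 _ h_100101
    rwa [show M1 *ᵥ vec 1 0 0 1 0 1 = vec 0 0 0 0 1 1 from by decide] at this
  have h_011001 : vec 0 1 1 0 0 1 ∈ O := by
    have := hcl2 _ h_100101
    rwa [show M2 *ᵥ vec 1 0 0 1 0 1 = vec 0 1 1 0 0 1 from by decide] at this
  have h_001010 : vec 0 0 1 0 1 0 ∈ O := by
    have := hcl2 _ h_000010
    rwa [show M2 *ᵥ vec 0 0 0 0 1 0 = vec 0 0 1 0 1 0 from by decide] at this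
  have h_000100 : vec 0 0 0 1 0 0 ∈ O := by
    have := hcl3 _ h_000010
    rwa [show M3 *ᵥ vec 0 0 0 0 1 0 = vec 0 0 0 1 0 0 from by decide] at this
  have h_101010 : vec 1 0 1 0 1 0 ∈ O := by
    have := hcl3 _ h_111100
    rwa [show M3 *ᵥ vec 1 1 1 1 0 0 = vec 1 0 1 0 1 0 from by decide] at this
  have h_111110 : vec 1 1 1 1 1 0 ∈ O := by
    have := hcl1 _ h_110110
    rwa [show M1 *ᵥ vec 1 1 0 1 1 0 = vec 1 1 1 1 1 0 from by decide] at this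
  have h_110010 : vec 1 1 0 0 1 0 ∈ O := by
    have := hcl3 _ h_110110
    rwa [show M3 *ᵥ vec 1 1 0 1 1 0 = vec 1 1 0 0 1 0 from by decide] at this
  have h_111111 : vec 1 1 1 1 1 1 ∈ O := by
    have := hcl1 _ h_010001
    rwa [show M1 *ᵥ vec 0 1 0 0 0 1 = vec 1 1 1 1 1 1 from by decide] at this
  have h_101101 : vec 1 0 1 1 0 1 ∈ O := by
    have := hcl2 _ h_010001
    rwa [show M2 *ᵥ vec 0 1 0 0 0 1 = vec 1 0 1 1 0 1 from by decide] at this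
  have h_110000 : vec 1 1 0 0 0 0 ∈ O := by
    have := hcl3 _ h_010001
    rwa [show M3 *ᵥ vec 0 1 0 0 0 1 = vec 1 1 0 0 0 0 from by decide] at this
  have h_000111 : vec 0 0 0 1 1 1 ∈ O := by
    have := hcl3 _ h_100100
    rwa [show M3 *ᵥ vec 1 0 0 1 0 0 = vec 0 0 0 1 1 1 from by decide] at this
  have h_001101 : vec 0 0 1 1 0 1 ∈ O := by
    have := hcl1 _ h_100011
    rwa [show M1 *ᵥ vec 1 0 0 0 1 1 = vec 0 0 1 1 0 1 from by decide] at this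
  have h_011111 : vec 0 1 1 1 1 1 ∈ O := by
    have := hcl2 _ h_100011
    rwa [show M2 *ᵥ vec 1 0 0 0 1 1 = vec 0 1 1 1 1 1 from by decide] at this
  have h_010010 : vec 0 1 0 0 1 0 ∈ O := by
    have := hcl3 _ h_100011
    rwa [show M3 *ᵥ vec 1 0 0 0 1 1 = vec 0 1 0 0 1 0 from by decide] at this
  have h_011011 : vec 0 1 1 0 1 1 ∈ O := by
    have := hcl2 _ h_101111
    rwa [show M2 *ᵥ vec 1 0 1 1 1 1 = vec 0 1 1 0 1 1 from by decide] at this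
  have h_011110 : vec 0 1 1 1 1 0 ∈ O := by
    have := hcl3 _ h_101111
    rwa [show M3 *ᵥ vec 1 0 1 1 1 1 = vec 0 1 1 1 1 0 from by decide] at this
  have h_110111 : vec 1 1 0 1 1 1 ∈ O := by
    have := hcl3 _ h_110101
    rwa [show M3 *ᵥ vec 1 1 0 1 0 1 = vec 1 1 0 1 1 1 from by decide] at this
  have h_111011 : vec 1 1 1 0 1 1 ∈ O := by
    have := hcl1 _ h_011101
    rwa [show M1 *ᵥ vec 0 1 1 1 0 1 = vec 1 1 1 0 1 1 from by decide] at this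
  have h_101001 : vec 1 0 1 0 0 1 ∈ O := by
    have := hcl2 _ h_011101
    rwa [show M2 *ᵥ vec 0 1 1 1 0 1 = vec 1 0 1 0 0 1 from by decide] at this
  have h_001011 : vec 0 0 1 0 1 1 ∈ O := by
    have := hcl3 _ h_101000
    rwa [show M3 *ᵥ vec 1 0 1 0 0 0 = vec 0 0 1 0 1 1 from by decide] at this
  have h_101100 : vec 1 0 1 1 0 0 ∈ O := by
    have := hcl3 _ h_011001
    rwa [show M3 *ᵥ vec 0 1 1 0 0 1 = vec 1 0 1 1 0 0 from by decide] at this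
  have h_011000 : vec 0 1 1 0 0 0 ∈ O := by
    have := hcl3 _ h_001010
    rwa [show M3 *ᵥ vec 0 0 1 0 1 0 = vec 0 1 1 0 0 0 from by decide] at this
  have h_001100 : vec 0 0 1 1 0 0 ∈ O := by
    have := hcl1 _ h_000100
    rwa [show M1 *ᵥ vec 0 0 0 1 0 0 = vec 0 0 1 1 0 0 from by decide] at this
  have h_010000 : vec 0 1 0 0 0 0 ∈ O := by
    have := hcl3 _ h_000100
    rwa [show M3 *ᵥ vec 0 0 0 1 0 0 = vec 0 1 0 0 0 0 from by decide] at this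
  have h_100010 : vec 1 0 0 0 1 0 ∈ O := by
    have := hcl1 _ h_101010
    rwa [show M1 *ᵥ vec 1 0 1 0 1 0 = vec 1 0 0 0 1 0 from by decide] at this
  have h_101110 : vec 1 0 1 1 1 0 ∈ O := by
    have := hcl3 _ h_111110
    rwa [show M3 *ᵥ vec 1 1 1 1 1 0 = vec 1 0 1 1 1 0 from by decide] at this
  have h_011010 : vec 0 1 1 0 1 0 ∈ O := by
    have := hcl3 _ h_101101
    rwa [show M3 *ᵥ vec 1 0 1 1 0 1 = vec 0 1 1 0 1 0 from by decide] at this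
  have h_111000 : vec 1 1 1 0 0 0 ∈ O := by
    have := hcl2 _ h_110000
    rwa [show M2 *ᵥ vec 1 1 0 0 0 0 = vec 1 1 1 0 0 0 from by decide] at this
  have h_100110 : vec 1 0 0 1 1 0 ∈ O := by
    have := hcl3 _ h_110000
    rwa [show M3 *ᵥ vec 1 1 0 0 0 0 = vec 1 0 0 1 1 0 from by decide] at this
  have h_111001 : vec 1 1 1 0 0 1 ∈ O := by
    have := hcl2 _ h_001101
    rwa [show M2 *ᵥ vec 0 0 1 1 0 1 = vec 1 1 1 0 0 1 from by decide] at this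
  have h_111010 : vec 1 1 1 0 1 0 ∈ O := by
    have := hcl3 _ h_111000
    rwa [show M3 *ᵥ vec 1 1 1 0 0 0 = vec 1 1 1 0 1 0 from by decide] at this
  have hall : ∀ a b c d e f : ZMod 2, vec a b c d e f ≠ 0 → vec a b c d e f ∈ O := by
    intro a b c d e f
    fin_cases a <;> fin_cases b <;> fin_cases c <;> fin_cases d <;> fin_cases e <;> fin_cases f <;>
      intro hne <;> first | assumption | exact absurd (by decide) hne
  intro w hw
  rw [vec_eta w] at hw ⊢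
  exact hall _ _ _ _ _ _ hw

/-- **Module [GEN]** for S2136. -/
theorem sp6_gen_top (H : Subgroup (Matrix.symplecticGroup (Fin 3) (ZMod 2))) (g0 g1 g2 g3 : Matrix.symplecticGroup (Fin 3) (ZMod 2)) (h0 : g0 ∈ H) (h1 : g1 ∈ H) (h2 : g2 ∈ H) (h3 : g3 ∈ H)
    (e0 : g0.1 = matOfList [[1,0,0,0,0,0],[0,1,0,0,0,0],[0,0,1,0,0,1],[0,0,0,1,0,0],[0,0,0,0,1,0],[0,0,0,0,0,1]])
    (e1 : g1.1 = matOfList [[1,0,0,0,0,1],[0,1,0,0,0,0],[1,1,1,1,0,0],[0,0,0,1,0,1],[0,0,0,0,1,1],[0,0,0,0,0,1]])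
    (e2 : g2.1 = matOfList [[1,0,0,0,0,1],[0,1,0,0,0,1],[1,0,1,1,1,1],[0,0,0,1,0,1],[0,0,0,0,1,0],[0,0,0,0,0,1]])
    (e3 : g3.1 = matOfList [[0,1,0,0,0,0],[1,1,1,1,0,0],[0,0,1,0,0,0],[1,0,1,0,1,0],[1,0,0,0,0,0],[1,1,0,0,0,1]]) : H = ⊤ := by
  set a0 : V := vec 0 0 1 0 0 0 with ha0
  let O : Set V := {w | ∃ h ∈ H, (h : Matrix (Fin 3 ⊕ Fin 3) (Fin 3 ⊕ Fin 3) (ZMod 2)) *ᵥ a0 = w}
  have hcl : ∀ g ∈ H, ∀ w ∈ O, (g : Matrix (Fin 3 ⊕ Fin 3) (Fin 3 ⊕ Fin 3) (ZMod 2)) *ᵥ w ∈ O := by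
    rintro g hg w ⟨h, hh, rfl⟩
    refine ⟨g * h, H.mul_mem hg hh, ?_⟩
    rw [Matrix.mulVec_mulVec]
    rfl
  have hO : ∀ w : V, w ≠ 0 → w ∈ O := by
    apply orbit_all O
    · exact ⟨1, H.one_mem, Matrix.one_mulVec a0⟩
    · intro w hw
      have := hcl g1 h1 w hw
      rwa [e1] at this
    · intro w hw
      have := hcl g2 h2 w hw
      rwa [e2] at this
    · intro w hw
      have := hcl g3 h3 w hw
      rwa [e3] at this
  have hg0 : g0 = Tg a0 := by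
    apply Subtype.ext
    rw [e0]
    exact T_a0.symm
  have hD : D 3 ⊆ (H : Set (Matrix.symplecticGroup (Fin 3) (ZMod 2))) := by
    intro d hd
    obtain ⟨w, hw, rfl⟩ := exists_Tg_of_mem_D d hd
    obtain ⟨h, hh, hhw⟩ := hO w hw
    rw [← hhw, ← conj_Tg, ← hg0]
    exact H.mul_mem (H.mul_mem hh h0) (H.inv_mem hh)
  rw [eq_top_iff, ← closure_D (n := 3), Subgroup.closure_le]
  exact hD

end Cfsg.Agent.Lib.Helper1.Sp6Gen
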