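import Mathlib
import Cfsg.Agent.Lib.Helper94.SPMD.Defs

/-!
# SPMD-[C-TRANSL] (helper1): `q^(2n-4)` forms of the orbit share a given standard pair
-/

set_option autoImplicit false
set_option linter.unusedSectionVars false

namespace Cfsg.Agent.Lib.Helper94.SPMD

open Matrix Module

namespace CTransl

variable {F : Type*} [Field F] {n : ℕ}

/-- the matrix of `z ↦ z + (l·z) x₀ + (m·z) y₀` -/
def tauM (x₀ y₀ l m : Fin n → F) : Matrix (Fin n) (Fin n) F :=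
  1 + vecMulVec x₀ l + vecMulVec y₀ m

theorem tauM_mulVec (x₀ y₀ l m z : Fin n → F) :
    tauM x₀ y₀ l m *ᵥ z = z + (l ⬝ᵥ z) • x₀ + (m ⬝ᵥ z) • y₀ := by
  unfold tauM
  rw [Matrix.add_mulVec, Matrix.add_mulVec, Matrix.one_mulVec, vecMulVec_mulVec, vecMulVec_mulVec]
  funext i
  simp only [Pi.add_apply, Pi.smul_apply, MulOpposite.smul_eq_mul_unop, MulOpposite.unop_op,
    smul_eq_mul, mul_comm]

theorem dot_tauM (x₀ y₀ l m k z : Fin n → F) (hx : k ⬝ᵥ x₀ = 0) (hy : k ⬝ᵥ y₀ = 0) :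
    k ⬝ᵥ (tauM x₀ y₀ l m *ᵥ z) = k ⬝ᵥ z := by
  rw [tauM_mulVec, dotProduct_add, dotProduct_add, dotProduct_smul, dotProduct_smul, hx, hy]
  simp

theorem tauM_sq (h2 : (2 : F) = 0) (x₀ y₀ l m : Fin n → F)
    (hlx : l ⬝ᵥ x₀ = 0) (hly : l ⬝ᵥ y₀ = 0) (hmx : m ⬝ᵥ x₀ = 0) (hmy : m ⬝ᵥ y₀ = 0) :
    tauM x₀ y₀ l m * tauM x₀ y₀ l m = 1 := by
  apply Matrix.mulVec_injective
  funext z
  rw [← Matrix.mulVec_mulVec, Matrix.one_mulVec]
  rw [tauM_mulVec x₀ y₀ l m (tauM x₀ y₀ l m *ᵥ z), dot_tauM x₀ y₀ l m l z hlx hly,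
    dot_tauM x₀ y₀ l m m z hmx hmy, tauM_mulVec]
  have e : ∀ (c : F) (v : Fin n → F), c • v + c • v = 0 := by
    intro c v
    rw [← two_smul F (c • v), h2, zero_smul]
  calc z + (l ⬝ᵥ z) • x₀ + (m ⬝ᵥ z) • y₀ + (l ⬝ᵥ z) • x₀ + (m ⬝ᵥ z) • y₀
      = z + ((l ⬝ᵥ z) • x₀ + (l ⬝ᵥ z) • x₀) + ((m ⬝ᵥ z) • y₀ + (m ⬝ᵥ z) • y₀) := by abel
    _ = z := by rw [e, e, add_zero, add_zero]

/-- the translation as an element of `GL` (an involution) -/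
def tauGL (h2 : (2 : F) = 0) (x₀ y₀ l m : Fin n → F)
    (hlx : l ⬝ᵥ x₀ = 0) (hly : l ⬝ᵥ y₀ = 0) (hmx : m ⬝ᵥ x₀ = 0) (hmy : m ⬝ᵥ y₀ = 0) :
    GL (Fin n) F :=
  ⟨tauM x₀ y₀ l m, tauM x₀ y₀ l m, tauM_sq h2 x₀ y₀ l m hlx hly hmx hmy,
    tauM_sq h2 x₀ y₀ l m hlx hly hmx hmy⟩

theorem actQ_tauGL (h2 : (2 : F) = 0) (x₀ y₀ l m : Fin n → F)
    (hlx : l ⬝ᵥ x₀ = 0) (hly : l ⬝ᵥ y₀ = 0) (hmx : m ⬝ᵥ x₀ = 0) (hmy : m ⬝ᵥ y₀ = 0)
    (Q : QuadraticForm F (Fin n → F)) (z : Fin n → F) :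
    actQ (tauGL h2 x₀ y₀ l m hlx hly hmx hmy) Q z = Q (tauM x₀ y₀ l m *ᵥ z) := by
  rw [actQ_apply]
  rfl

theorem polar_actQ_tauGL (h2 : (2 : F) = 0) (x₀ y₀ l m : Fin n → F)
    (hlx : l ⬝ᵥ x₀ = 0) (hly : l ⬝ᵥ y₀ = 0) (hmx : m ⬝ᵥ x₀ = 0) (hmy : m ⬝ᵥ y₀ = 0)
    (Q : QuadraticForm F (Fin n → F)) (z w : Fin n → F) :
    QuadraticMap.polar (actQ (tauGL h2 x₀ y₀ l m hlx hly hmx hmy) Q) z w =
      QuadraticMap.polar Q (tauM x₀ y₀ l m *ᵥ z) (tauM x₀ y₀ l m *ᵥ w) := by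
  unfold QuadraticMap.polar
  rw [actQ_tauGL, actQ_tauGL, actQ_tauGL, Matrix.mulVec_add]

theorem tauM_fix (x₀ y₀ l m v : Fin n → F) (hl : l ⬝ᵥ v = 0) (hm : m ⬝ᵥ v = 0) :
    tauM x₀ y₀ l m *ᵥ v = v := by
  rw [tauM_mulVec, hl, hm, zero_smul, zero_smul, add_zero, add_zero]

/-- the space of parameters: vectors orthogonal to `x₀` and `y₀` -/
def lam (x₀ y₀ : Fin n → F) : Submodule F (Fin n → F) :=
  LinearMap.ker (Matrix.of ![x₀, y₀]).mulVecLin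

theorem mem_lam (x₀ y₀ l : Fin n → F) : l ∈ lam x₀ y₀ ↔ l ⬝ᵥ x₀ = 0 ∧ l ⬝ᵥ y₀ = 0 := by
  unfold lam
  rw [LinearMap.mem_ker, Matrix.mulVecLin_apply]
  constructor
  · intro h
    have h0 := congrFun h 0
    have h1 := congrFun h 1
    simp only [Matrix.mulVec, Matrix.of_apply, Matrix.cons_val_zero, Matrix.cons_val_one,
      Pi.zero_apply] at h0 h1
    exact ⟨by rw [dotProduct_comm]; exact h0, by rw [dotProduct_comm]; exact h1⟩
  · rintro ⟨h0, h1⟩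
    funext i
    fin_cases i
    · simp only [Matrix.mulVec, Matrix.of_apply, Pi.zero_apply]
      rw [dotProduct_comm]; exact h0
    · simp only [Matrix.mulVec, Matrix.of_apply, Pi.zero_apply]
      rw [dotProduct_comm]; exact h1

theorem finrank_lam_ge (x₀ y₀ : Fin n → F) : n - 2 ≤ finrank F (lam x₀ y₀) := by
  have h := LinearMap.finrank_range_add_finrank_ker (Matrix.of ![x₀, y₀]).mulVecLin
  have h2 : finrank F (LinearMap.range (Matrix.of ![x₀, y₀]).mulVecLin) ≤ 2 := by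
    have := Submodule.finrank_le (LinearMap.range (Matrix.of ![x₀, y₀]).mulVecLin)
    simpa using this
  rw [finrank_fintype_fun_eq_card, Fintype.card_fin] at h
  unfold lam
  omega

end CTransl

section C
variable {F : Type*} [Field F] [Fintype F] {n : ℕ}

/-- **[C-TRANSL]** `q^(2n-4)` forms of the orbit have `(x₀, y₀)` as a standard pair with the same values -/
theorem card_translates_ge {q : ℕ} (hq : Fintype.card F = q) (h2 : (2 : F) = 0) (hn : 2 ≤ n)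
    (Q : QuadraticForm F (Fin n → F)) (x₀ y₀ : Fin n → F) (h1 : QuadraticMap.polar Q x₀ y₀ = 1) :
    q ^ (2 * (n - 2)) ≤ Nat.card {Q' : QuadraticForm F (Fin n → F) //
      Q' ∈ orbQ Q ∧ (x₀, y₀) ∈ stdPairs Q' (Q x₀) (Q y₀)} := by
  classical
  have hfinQ : Finite (QuadraticForm F (Fin n → F)) :=
    Finite.of_injective (fun Q' : QuadraticForm F (Fin n → F) => (Q' : (Fin n → F) → F))
      DFunLike.coe_injective
  -- the map
  let Φ : (CTransl.lam x₀ y₀) × (CTransl.lam x₀ y₀) →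
      {Q' : QuadraticForm F (Fin n → F) // Q' ∈ orbQ Q ∧ (x₀, y₀) ∈ stdPairs Q' (Q x₀) (Q y₀)} :=
    fun p =>
      ⟨actQ (CTransl.tauGL h2 x₀ y₀ p.1 p.2
          ((CTransl.mem_lam x₀ y₀ p.1).1 p.1.2).1 ((CTransl.mem_lam x₀ y₀ p.1).1 p.1.2).2
          ((CTransl.mem_lam x₀ y₀ p.2).1 p.2.2).1 ((CTransl.mem_lam x₀ y₀ p.2).1 p.2.2).2) Q, by
        have hl := (CTransl.mem_lam x₀ y₀ p.1).1 p.1.2
        have hm := (CTransl.mem_lam x₀ y₀ p.2).1 p.2.2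
        refine ⟨⟨_, rfl⟩, ?_⟩
        rw [mem_stdPairs]
        refine ⟨?_, ?_, ?_⟩
        · show QuadraticMap.polar (actQ _ Q) x₀ y₀ = 1
          rw [CTransl.polar_actQ_tauGL, CTransl.tauM_fix _ _ _ _ x₀ hl.1 hm.1,
            CTransl.tauM_fix _ _ _ _ y₀ hl.2 hm.2, h1]
        · show actQ _ Q x₀ = Q x₀
          rw [CTransl.actQ_tauGL, CTransl.tauM_fix _ _ _ _ x₀ hl.1 hm.1]
        · show actQ _ Q y₀ = Q y₀
          rw [CTransl.actQ_tauGL, CTransl.tauM_fix _ _ _ _ y₀ hl.2 hm.2]⟩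
  have hxx : QuadraticMap.polar Q x₀ x₀ = 0 := by
    rw [QuadraticMap.polar_self, two_smul, ← two_mul, h2, zero_mul]
  have hyy : QuadraticMap.polar Q y₀ y₀ = 0 := by
    rw [QuadraticMap.polar_self, two_smul, ← two_mul, h2, zero_mul]
  have hyx : QuadraticMap.polar Q y₀ x₀ = 1 := by rw [QuadraticMap.polar_comm]; exact h1
  have hΦ : Function.Injective Φ := by
    rintro ⟨l, m⟩ ⟨l', m'⟩ hp
    have hl := (CTransl.mem_lam x₀ y₀ l).1 l.2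
    have hm := (CTransl.mem_lam x₀ y₀ m).1 m.2
    have hl' := (CTransl.mem_lam x₀ y₀ l').1 l'.2
    have hm' := (CTransl.mem_lam x₀ y₀ m').1 m'.2
    have hQ : actQ (CTransl.tauGL h2 x₀ y₀ l m hl.1 hl.2 hm.1 hm.2) Q =
        actQ (CTransl.tauGL h2 x₀ y₀ l' m' hl'.1 hl'.2 hm'.1 hm'.2) Q := congrArg Subtype.val hp
    -- compare polar forms against x₀ and y₀
    have hpol : ∀ z w, QuadraticMap.polar Q (CTransl.tauM x₀ y₀ l m *ᵥ z) (CTransl.tauM x₀ y₀ l m *ᵥ w) =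
        QuadraticMap.polar Q (CTransl.tauM x₀ y₀ l' m' *ᵥ z) (CTransl.tauM x₀ y₀ l' m' *ᵥ w) := by
      intro z w
      rw [← CTransl.polar_actQ_tauGL h2 x₀ y₀ l m hl.1 hl.2 hm.1 hm.2,
        ← CTransl.polar_actQ_tauGL h2 x₀ y₀ l' m' hl'.1 hl'.2 hm'.1 hm'.2, hQ]
    have expand : ∀ (a b z w : Fin n → F),
        QuadraticMap.polar Q (CTransl.tauM x₀ y₀ a b *ᵥ z) w =
          QuadraticMap.polar Q z w + (a ⬝ᵥ z) * QuadraticMap.polar Q x₀ w +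
            (b ⬝ᵥ z) * QuadraticMap.polar Q y₀ w := by
      intro a b z w
      rw [CTransl.tauM_mulVec, QuadraticMap.polar_add_left, QuadraticMap.polar_add_left,
        QuadraticMap.polar_smul_left, QuadraticMap.polar_smul_left, smul_eq_mul, smul_eq_mul]
    have hmz : ∀ z, (m : Fin n → F) ⬝ᵥ z = (m' : Fin n → F) ⬝ᵥ z := by
      intro z
      have := hpol z x₀
      rw [CTransl.tauM_fix _ _ _ _ x₀ hl.1 hm.1, CTransl.tauM_fix _ _ _ _ x₀ hl'.1 hm'.1,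
        expand, expand, hxx, hyx] at this
      simpa using this
    have hlz : ∀ z, (l : Fin n → F) ⬝ᵥ z = (l' : Fin n → F) ⬝ᵥ z := by
      intro z
      have := hpol z y₀
      rw [CTransl.tauM_fix _ _ _ _ y₀ hl.2 hm.2, CTransl.tauM_fix _ _ _ _ y₀ hl'.2 hm'.2,
        expand, expand, hyy, h1] at this
      simpa using this
    have ext_dot : ∀ a b : Fin n → F, (∀ z, a ⬝ᵥ z = b ⬝ᵥ z) → a = b := by
      intro a b hab
      funext i
      have := hab (Pi.single i 1)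
      simpa using this
    have e1 : l = l' := Subtype.ext (ext_dot _ _ hlz)
    have e2 : m = m' := Subtype.ext (ext_dot _ _ hmz)
    rw [e1, e2]
  have hcardF : Nat.card F = q := by rw [Nat.card_eq_fintype_card, hq]
  have hq1 : 1 ≤ q := by rw [← hq]; exact Fintype.card_pos
  have hlam : q ^ (n - 2) ≤ Nat.card (CTransl.lam x₀ y₀) := by
    rw [Module.natCard_eq_pow_finrank (K := F), hcardF]
    exact Nat.pow_le_pow_right hq1 (CTransl.finrank_lam_ge x₀ y₀)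
  calc q ^ (2 * (n - 2)) = q ^ (n - 2) * q ^ (n - 2) := by rw [two_mul, pow_add]
    _ ≤ Nat.card (CTransl.lam x₀ y₀) * Nat.card (CTransl.lam x₀ y₀) := Nat.mul_le_mul hlam hlam
    _ = Nat.card ((CTransl.lam x₀ y₀) × (CTransl.lam x₀ y₀)) := (Nat.card_prod _ _).symm
    _ ≤ _ := Nat.card_le_card_of_injective Φ hΦ

end C

end Cfsg.Agent.Lib.Helper94.SPMD
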