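import Mathlib
import Cfsg.Agent.Lib.Helper94.SPMD.Defs

/-!
# SPMD-[R-EX] (helper1): a non-trivially acting subgroup has a non-trivial weight
-/

set_option autoImplicit false
set_option linter.unusedSectionVars false

namespace Cfsg.Agent.Lib.Helper94.SPMD

open Matrix Module

namespace REx

variable {G : Type*} [Group G] {V : Type*} [AddCommGroup V] [Module ℂ V]
variable {A : Type*} [AddCommGroup A] [Fintype A]

/-- the operator of `a` -/
def opT (ρ : Representation ℂ G V) (u : Multiplicative A →* G) (a : A) : Module.End ℂ V :=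
  ρ (u (Multiplicative.ofAdd a))

theorem opT_add (ρ : Representation ℂ G V) (u : Multiplicative A →* G) (a b : A) :
    opT ρ u (a + b) = opT ρ u a * opT ρ u b := by
  unfold opT
  rw [ofAdd_add, map_mul, map_mul]

theorem opT_zero (ρ : Representation ℂ G V) (u : Multiplicative A →* G) :
    opT ρ u (0 : A) = 1 := by
  unfold opT
  rw [ofAdd_zero, map_one, map_one]

/-- the (unnormalised) projection onto the `θ`-weight space -/
def proj (ρ : Representation ℂ G V) (u : Multiplicative A →* G) (θ : AddChar A ℂ) : Module.End ℂ V :=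
  ∑ a : A, θ (-a) • opT ρ u a

theorem opT_mul_proj (ρ : Representation ℂ G V) (u : Multiplicative A →* G) (θ : AddChar A ℂ) (b : A) :
    opT ρ u b * proj ρ u θ = θ b • proj ρ u θ := by
  unfold proj
  rw [Finset.mul_sum, Finset.smul_sum]
  refine Fintype.sum_equiv (Equiv.addRight b) _ _ (fun a => ?_)
  simp only [Equiv.coe_addRight]
  rw [mul_smul_comm, smul_smul, ← AddChar.map_add_eq_mul, add_comm a b, opT_add]
  congr 2
  abel

theorem proj_mem_wt (ρ : Representation ℂ G V) (u : Multiplicative A →* G) (θ : AddChar A ℂ) (x : V) :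
    proj ρ u θ x ∈ wt ρ u θ := by
  rw [mem_wt]
  intro b
  have := LinearMap.congr_fun (opT_mul_proj ρ u θ b) x
  simpa [opT] using this

theorem sum_proj [DecidableEq A] (ρ : Representation ℂ G V) (u : Multiplicative A →* G) :
    ∑ θ : AddChar A ℂ, proj ρ u θ = (Fintype.card A : ℂ) • (1 : Module.End ℂ V) := by
  unfold proj
  rw [Finset.sum_comm]
  simp_rw [← Finset.sum_smul, AddChar.sum_apply_eq_ite]
  rw [Finset.sum_eq_single (0 : A)]
  · simp [opT_zero]
  · intro b _ hb
    simp [hb]
  · intro h
    exact absurd (Finset.mem_univ _) h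

end REx

section R
variable {G : Type*} [Group G] {V : Type*} [AddCommGroup V] [Module ℂ V] [FiniteDimensional ℂ V]
variable {A : Type*} [AddCommGroup A] [Finite A]

/-- **[R-EX]** if some element of the subgroup `A₀` acts non-trivially, some weight is non-trivial on `A₀` -/
theorem exists_wt_ne_bot (ρ : Representation ℂ G V) (u : Multiplicative A →* G) (A₀ : AddSubgroup A)
    (h : ∃ a ∈ A₀, ρ (u (Multiplicative.ofAdd a)) ≠ 1) :
    ∃ θ : AddChar A ℂ, wt ρ u θ ≠ ⊥ ∧ ∃ a ∈ A₀, θ a ≠ 1 := by
  classical
  cases nonempty_fintype A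
  by_contra hcon
  push Not at hcon
  obtain ⟨a₀, ha₀, hne⟩ := h
  apply hne
  have hcard : (Fintype.card A : ℂ) ≠ 0 := by exact_mod_cast Fintype.card_ne_zero
  apply LinearMap.ext
  intro x
  have key : ∀ θ : AddChar A ℂ, REx.opT ρ u a₀ (REx.proj ρ u θ x) = REx.proj ρ u θ x := by
    intro θ
    by_cases hx : REx.proj ρ u θ x = 0
    · rw [hx, map_zero]
    · have hw : wt ρ u θ ≠ ⊥ := by
        intro hbot
        have := REx.proj_mem_wt ρ u θ x
        rw [hbot, Submodule.mem_bot] at this
        exact hx this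
      have h1 := hcon θ hw a₀ ha₀
      have := (mem_wt ρ u θ _).1 (REx.proj_mem_wt ρ u θ x) a₀
      rw [h1, one_smul] at this
      exact this
  have hsum := LinearMap.congr_fun (REx.sum_proj ρ u) x
  rw [LinearMap.sum_apply, LinearMap.smul_apply, Module.End.one_apply] at hsum
  have h2 : REx.opT ρ u a₀ ((Fintype.card A : ℂ) • x) = (Fintype.card A : ℂ) • x := by
    rw [← hsum, map_sum]
    exact Finset.sum_congr rfl (fun θ _ => key θ)
  rw [map_smul] at h2
  have h3 := smul_right_injective V hcard h2
  rw [Module.End.one_apply]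
  exact h3

end R

end Cfsg.Agent.Lib.Helper94.SPMD
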