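import Mathlib
import Cfsg.Agent.Lib.Helper43.SPMD.TWt
import Cfsg.Agent.Lib.Helper88.SpmdFUniv
import Cfsg.Agent.Lib.Helper88.SpmdFPsi

/-!
# SPMD-[T-ALPHA] (helper1): if the weights of `Z_v` lie in one square class, `Z_{v'}` acts non-trivially
on `C_X(Z_v)` — `_of` form (hypotheses: the instances of [P-Q] `exists_heis_fix`, [P-A2] `A2s_char`,
[R-EIG] `exists_wt_not_fixed` that are used)
-/

set_option autoImplicit false

namespace Cfsg.Agent.Lib.Helper43.SPMD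

open Matrix Module Cfsg.Agent.Lib.Helper13 Cfsg.Agent.Lib.Helper43.SUMD

namespace TAlpha

variable {n : ℕ} {F : Type*} [Field F]
variable {X : Type*} [AddCommGroup X] [Module ℂ X]

/-- `C_X(Z_{gv}) = ρ g (C_X(Z_v))` -/
theorem fixedSp_Zs_map (ρ : Representation ℂ (SpG n F) X) (g : SpG n F) (v : Vec n F) :
    (fixedSp ρ (Zs v)).map (ρ g) = fixedSp ρ (Zs (sm g *ᵥ v)) := by
  rw [← wtv_zero ρ (1 : AddChar F ℂ), ← wtv_zero ρ (1 : AddChar F ℂ), map_wtv]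

/-- `Z_{av} = Z_v` -/
theorem Zs_smul (a : F) (ha : a ≠ 0) (v : Vec n F) : Zs (a • v) = Zs v := by
  ext g
  rw [mem_Zs, mem_Zs]
  constructor
  · rintro ⟨c, rfl⟩
    exact ⟨a ^ 2 * c, tvElt_smul a v c⟩
  · rintro ⟨c, rfl⟩
    refine ⟨c / a ^ 2, ?_⟩
    rw [tvElt_smul]
    congr 1
    field_simp

theorem tvElt_zero_left (c : F) : tvElt (0 : Vec n F) c = 1 := by
  apply sm_injective
  rw [Matrix.ext_iff_mulVec]
  intro x
  rw [sm_tvElt_mulVec, smul_zero, add_zero, sm_one, one_mulVec]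

theorem Zs_le_A2s (v v' : Vec n F) : Zs v ≤ A2s v v' := by
  rintro _ ⟨c, rfl⟩
  apply Subgroup.subset_closure
  exact ⟨1, 0, c, by rw [one_smul, zero_smul, add_zero]⟩

theorem tvElt_mem_A2s (v v' : Vec n F) (a b c : F) : tvElt (a • v + b • v') c ∈ A2s v v' :=
  Subgroup.subset_closure ⟨a, b, c, rfl⟩

end TAlpha

open TAlpha in
/-- **[T-ALPHA]** in `_of` form -/
theorem alpha_of {n : ℕ} {F : Type*} [Field F] [Fintype F]
    {X : Type*} [AddCommGroup X] [Module ℂ X] [FiniteDimensional ℂ X]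
    (hodd : Odd (Fintype.card F)) (ψ : AddChar F ℂ) {v w v' : Vec n F}
    (h : Cfsg.sympForm n F v w = 1) (hv'0 : v' ≠ 0)
    (hv'w : Cfsg.sympForm n F v' w = 0) (ρ : Representation ℂ (SpG n F) X)
    (hnt : fixedSp ρ (Zs v) ≠ ⊤)
    (hclass : ∀ s s' : F, s ≠ 0 → s' ≠ 0 → wtv ρ ψ v s ≠ ⊥ → wtv ρ ψ v s' ≠ ⊥ → IsSquare (s' / s))
    (hheis : ∀ b : F, ∃ g : SpG n F, sm g *ᵥ v' = v' ∧ sm g *ᵥ v = v + b • v')
    (hA2char : ∀ χ : ↥(A2s v v') →* ℂˣ, ∃ s₁ s₂ t : F,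
      ∀ (a b c : F) (hmem : tvElt (a • v + b • v') c ∈ A2s v v'),
        ((χ ⟨_, hmem⟩ : ℂˣ) : ℂ) = ψ ((s₁ * a ^ 2 + s₂ * b ^ 2 + t * a * b) * c))
    (heig : fixedSp ρ (A2s v v') ≠ ⊤ → ∃ (χ : ↥(A2s v v') →* ℂˣ) (x : X),
      x ≠ 0 ∧ x ∈ wtSp ρ (A2s v v') χ ∧ x ∉ fixedSp ρ (A2s v v')) :
    ¬ fixedSp ρ (Zs v) ≤ fixedSp ρ (Zs v') := by
  intro hle
  have hv0 : v ≠ 0 := by
    rintro rfl
    rw [sympForm_zero_left] at h
    exact zero_ne_one h
  -- `C(Z_{v'}) = C(Z_v)`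
  have hUv' : fixedSp ρ (Zs v') = fixedSp ρ (Zs v) := by
    obtain ⟨g, hg⟩ := exists_map_eq hv0 hv'0
    symm
    apply Submodule.eq_of_le_of_finrank_eq hle
    rw [← hg, ← fixedSp_Zs_map]
    exact LinearEquiv.finrank_eq
      (Submodule.equivMapOfInjective (ρ g) (TWt.rho_injective ρ g) (fixedSp ρ (Zs v)))
  -- `C(Z_{v + b v'}) = C(Z_v)`
  have hUb : ∀ b : F, fixedSp ρ (Zs (v + b • v')) = fixedSp ρ (Zs v) := by
    intro b
    obtain ⟨g, hg1, hg2⟩ := hheis b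
    rw [← hg2, ← fixedSp_Zs_map]
    conv_lhs => rw [← hUv', fixedSp_Zs_map, hg1, hUv']
  -- `C(Z_z) = C(Z_v)` for all `0 ≠ z ∈ ⟨v, v'⟩`
  have hUz : ∀ a b : F, (a ≠ 0 ∨ b ≠ 0) →
      fixedSp ρ (Zs (a • v + b • v')) = fixedSp ρ (Zs v) := by
    intro a b hab
    by_cases ha : a = 0
    · subst ha
      have hb : b ≠ 0 := by tauto
      rw [zero_smul, zero_add, Zs_smul b hb, hUv']
    · have : a • v + b • v' = a • (v + (b / a) • v') := by
        rw [smul_add, smul_smul, mul_div_cancel₀ _ ha]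
      rw [this, Zs_smul a ha, hUb]
  -- `C(A₂) = C(Z_v)`
  have hUA : fixedSp ρ (A2s v v') = fixedSp ρ (Zs v) := by
    apply le_antisymm
    · exact fixedSp_mono ρ (Zs_le_A2s v v')
    · intro x hx
      unfold A2s
      rw [mem_fixedSp_closure]
      rintro _ ⟨a, b, c, rfl⟩
      by_cases hab : a ≠ 0 ∨ b ≠ 0
      · have hx' : x ∈ fixedSp ρ (Zs (a • v + b • v')) := by rw [hUz a b hab]; exact hx
        exact hx' _ (tvElt_mem_Zs _ c)
      · push Not at hab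
        obtain ⟨rfl, rfl⟩ := hab
        rw [zero_smul, zero_smul, add_zero, tvElt_zero_left, map_one]
        rfl
  have hntA : fixedSp ρ (A2s v v') ≠ ⊤ := by rw [hUA]; exact hnt
  obtain ⟨χ, x, hx0, hxw, hxU⟩ := heig hntA
  obtain ⟨s₁, s₂, t, hχ⟩ := hA2char χ
  -- `x` is a weight vector of `Z_z` for the weight `Q(a,b)`
  have hxwt : ∀ a b : F,
      x ∈ wtv ρ ψ (a • v + b • v') (s₁ * a ^ 2 + s₂ * b ^ 2 + t * a * b) := by
    intro a b c
    have := hxw ⟨_, tvElt_mem_A2s v v' a b c⟩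
    rw [hχ a b c (tvElt_mem_A2s v v' a b c)] at this
    exact this
  -- `Q` is anisotropic
  have hani : ∀ a b : F, s₁ * a ^ 2 + s₂ * b ^ 2 + t * a * b = 0 → a = 0 ∧ b = 0 := by
    intro a b hQ
    by_contra hab
    have hab' : a ≠ 0 ∨ b ≠ 0 := by tauto
    apply hxU
    rw [hUA, ← hUz a b hab', ← wtv_zero ρ ψ, ← hQ]
    exact hxwt a b
  -- the values of `Q` are weights of `Z_v`
  have hwne : ∀ a b : F, (a ≠ 0 ∨ b ≠ 0) →
      wtv ρ ψ v (s₁ * a ^ 2 + s₂ * b ^ 2 + t * a * b) ≠ ⊥ := by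
    intro a b hab
    have hz : a • v + b • v' ≠ 0 := by
      intro hz
      have h1 : Cfsg.sympForm n F (a • v + b • v') w = a := by
        rw [sympForm_add_left, sympForm_smul_left, sympForm_smul_left, h, hv'w, mul_one, mul_zero,
          add_zero]
      rw [hz, sympForm_zero_left] at h1
      have ha : a = 0 := h1.symm
      subst ha
      rw [zero_smul, zero_add] at hz
      rcases smul_eq_zero.mp hz with hb | hv
      · tauto
      · exact hv'0 hv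
    obtain ⟨g, hg⟩ := exists_map_eq hv0 hz
    have hx1 := hxwt a b
    rw [← hg, ← map_wtv] at hx1
    obtain ⟨y, hy, hyx⟩ := hx1
    intro hbot
    rw [hbot] at hy
    have hy0 : y = 0 := (Submodule.mem_bot ℂ).mp hy
    rw [hy0, map_zero] at hyx
    exact hx0 hyx.symm
  -- a non-square
  have h2 : (2 : F) ≠ 0 := two_ne_zero_of_odd_card hodd
  have hchar : ringChar F ≠ 2 := by
    intro hc
    apply h2
    have := (ringChar.spec F 2).mpr (by rw [hc])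
    exact_mod_cast this
  obtain ⟨ε, hε⟩ := FiniteField.exists_nonsquare (F := F) hchar
  have hs₁ : s₁ ≠ 0 := by
    intro hs
    have := hani 1 0 (by rw [hs]; ring)
    exact one_ne_zero this.1
  have hεne : ε ≠ 0 := by
    rintro rfl
    exact hε ⟨0, by ring⟩
  obtain ⟨a, b, hab⟩ := binary_form_universal hodd s₁ s₂ t hani (ε * s₁)
  have hab0 : a ≠ 0 ∨ b ≠ 0 := by
    by_contra hcon
    push Not at hcon
    obtain ⟨rfl, rfl⟩ := hcon
    have : ε * s₁ = 0 := by rw [← hab]; ring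
    exact mul_ne_zero hεne hs₁ this
  have hw1 := hwne 1 0 (Or.inl one_ne_zero)
  have hQ10 : s₁ * (1 : F) ^ 2 + s₂ * (0 : F) ^ 2 + t * 1 * 0 = s₁ := by ring
  rw [hQ10] at hw1
  have hw2 := hwne a b hab0
  rw [hab] at hw2
  have hsq := hclass s₁ (ε * s₁) hs₁ (mul_ne_zero hεne hs₁) hw1 hw2
  rw [mul_div_assoc, div_self hs₁, mul_one] at hsq
  exact hε hsq

end Cfsg.Agent.Lib.Helper43.SPMD
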