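import Mathlib
import Cfsg.Agent.Lib.Helper43.SPMD.Defs

/-!
# SPMD-[W-NORM] (helper1): normalisation of the intertwiners => a genuine Weil representation

`exists_weil_of` : from (W-INT) existence of invertible intertwiners, (W-PAR) they commute with the parity,
(W-SCHUR) Schur, and `finrank (Fn) = 2 * finrank oddSp + 1`, the normalised intertwiners
`Wl g = r(M)⁻¹ M`, `r(M) = det M / det (M | oddSp)^2`, form a representation.
-/

set_option autoImplicit false

namespace Cfsg.Agent.Lib.Helper43.SPMD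

open Matrix Module Cfsg.Agent.Lib.Helper13 Cfsg.Agent.Lib.Helper43.SUMD

namespace WNorm

variable {n : ℕ} {F : Type*} [Field F]

theorem mem_oddSp_iff_parity (f : Fn n F) : f ∈ oddSp n F ↔ parity n F f = -f := by
  rw [mem_oddSp]
  constructor
  · intro h
    funext x
    rw [parity_apply, h x]
    rfl
  · intro h x
    have := congrFun h x
    rw [parity_apply] at this
    exact this

theorem map_oddSp (M : Module.End ℂ (Fn n F)) (hM : M * parity n F = parity n F * M) :
    ∀ f ∈ oddSp n F, M f ∈ oddSp n F := by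
  intro f hf
  rw [mem_oddSp_iff_parity] at hf ⊢
  have := congrArg (fun T : Module.End ℂ (Fn n F) => T f) hM
  simp only [Module.End.mul_apply] at this
  rw [← this, hf, map_neg]

/-- the restriction to the odd functions -/
noncomputable def res (M : Module.End ℂ (Fn n F)) (hM : M * parity n F = parity n F * M) :
    Module.End ℂ (oddSp n F) := M.restrict (map_oddSp M hM)

theorem res_apply (M : Module.End ℂ (Fn n F)) (hM : M * parity n F = parity n F * M)
    (f : oddSp n F) : ((res M hM f : oddSp n F) : Fn n F) = M (f : Fn n F) := rfl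

theorem comm_mul {M M' : Module.End ℂ (Fn n F)} (hM : M * parity n F = parity n F * M)
    (hM' : M' * parity n F = parity n F * M') : (M * M') * parity n F = parity n F * (M * M') := by
  rw [mul_assoc, hM', ← mul_assoc, hM, mul_assoc]

theorem comm_smul {M : Module.End ℂ (Fn n F)} (hM : M * parity n F = parity n F * M) (k : ℂ) :
    (k • M) * parity n F = parity n F * (k • M) := by
  rw [smul_mul_assoc, mul_smul_comm, hM]

theorem comm_one : (1 : Module.End ℂ (Fn n F)) * parity n F = parity n F * 1 := by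
  rw [one_mul, mul_one]

theorem res_mul {M M' : Module.End ℂ (Fn n F)} (hM : M * parity n F = parity n F * M)
    (hM' : M' * parity n F = parity n F * M') :
    res (M * M') (comm_mul hM hM') = res M hM * res M' hM' := by
  apply LinearMap.ext
  intro f
  apply Subtype.ext
  rfl

theorem res_smul {M : Module.End ℂ (Fn n F)} (hM : M * parity n F = parity n F * M) (k : ℂ) :
    res (k • M) (comm_smul hM k) = k • res M hM := by
  apply LinearMap.ext
  intro f
  apply Subtype.ext
  rfl

theorem res_one : res (1 : Module.End ℂ (Fn n F)) comm_one = 1 := by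
  apply LinearMap.ext
  intro f
  apply Subtype.ext
  rfl

open Classical in
/-- the normalising scalar `r(M) = det M / det (M | oddSp)^2` -/
noncomputable def rn (M : Module.End ℂ (Fn n F)) : ℂ :=
  if h : M * parity n F = parity n F * M then
    LinearMap.det M / (LinearMap.det (res M h)) ^ 2 else 0

theorem rn_eq {M : Module.End ℂ (Fn n F)} (h : M * parity n F = parity n F * M) :
    rn M = LinearMap.det M / (LinearMap.det (res M h)) ^ 2 := by
  unfold rn
  rw [dif_pos h]

theorem rn_mul {M M' : Module.End ℂ (Fn n F)} (hM : M * parity n F = parity n F * M)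
    (hM' : M' * parity n F = parity n F * M') : rn (M * M') = rn M * rn M' := by
  rw [rn_eq (comm_mul hM hM'), rn_eq hM, rn_eq hM', res_mul hM hM', map_mul, map_mul, mul_pow,
    div_mul_div_comm]

theorem rn_one : rn (1 : Module.End ℂ (Fn n F)) = 1 := by
  rw [rn_eq comm_one, res_one, map_one, map_one, one_pow, div_one]

theorem rn_smul [Fintype F] {M : Module.End ℂ (Fn n F)} (hM : M * parity n F = parity n F * M)
    (hfin : finrank ℂ (Fn n F) = 2 * finrank ℂ (oddSp n F) + 1) (k : ℂ) :
    rn (k • M) = k * rn M := by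
  rw [rn_eq (comm_smul hM k), rn_eq hM, res_smul hM, LinearMap.det_smul, LinearMap.det_smul, hfin]
  by_cases hk : k = 0
  · subst hk
    simp
  · rw [mul_pow, ← pow_mul, pow_succ, mul_comm (finrank ℂ (oddSp n F)) 2]
    field_simp

theorem unit_comm_inv {M : (Module.End ℂ (Fn n F))ˣ}
    (hM : (M : Module.End ℂ (Fn n F)) * parity n F = parity n F * M) :
    ((M⁻¹ : (Module.End ℂ (Fn n F))ˣ) : Module.End ℂ (Fn n F)) * parity n F =
      parity n F * ((M⁻¹ : (Module.End ℂ (Fn n F))ˣ) : Module.End ℂ (Fn n F)) := by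
  have h1 : ((M⁻¹ : (Module.End ℂ (Fn n F))ˣ) : Module.End ℂ (Fn n F)) *
      ((M : Module.End ℂ (Fn n F)) * parity n F) * ((M⁻¹ : (Module.End ℂ (Fn n F))ˣ) :
        Module.End ℂ (Fn n F)) = ((M⁻¹ : (Module.End ℂ (Fn n F))ˣ) : Module.End ℂ (Fn n F)) *
      (parity n F * (M : Module.End ℂ (Fn n F))) * ((M⁻¹ : (Module.End ℂ (Fn n F))ˣ) :
        Module.End ℂ (Fn n F)) := by rw [hM]
  rw [← mul_assoc, Units.inv_mul, one_mul, mul_assoc, mul_assoc, Units.mul_inv, mul_one] at h1
  exact h1.symm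

theorem rn_ne_zero {M : (Module.End ℂ (Fn n F))ˣ}
    (hM : (M : Module.End ℂ (Fn n F)) * parity n F = parity n F * M) :
    rn (M : Module.End ℂ (Fn n F)) ≠ 0 := by
  rw [rn_eq hM]
  have h1 : LinearMap.det (M : Module.End ℂ (Fn n F)) ≠ 0 :=
    (IsUnit.map LinearMap.det M.isUnit).ne_zero
  have h2 : LinearMap.det (res (M : Module.End ℂ (Fn n F)) hM) ≠ 0 := by
    have h3 : res (M : Module.End ℂ (Fn n F)) hM * res _ (unit_comm_inv hM) = 1 := by
      rw [← res_mul, ← res_one]
      congr 1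
      exact Units.mul_inv M
    have h4 := congrArg LinearMap.det h3
    rw [map_mul, map_one] at h4
    exact left_ne_zero_of_mul_eq_one h4
  exact div_ne_zero h1 (pow_ne_zero 2 h2)

theorem intertwines_smul {ψ : AddChar F ℂ} {g : SpG n F} {M : Module.End ℂ (Fn n F)}
    (hM : Intertwines ψ g M) (k : ℂ) : Intertwines ψ g (k • M) := by
  intro v
  rw [smul_mul_assoc, mul_smul_comm, hM v]

theorem intertwines_mul {ψ : AddChar F ℂ} {g h : SpG n F} {M M' : Module.End ℂ (Fn n F)}
    (hM : Intertwines ψ g M) (hM' : Intertwines ψ h M') : Intertwines ψ (g * h) (M * M') := by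
  intro v
  rw [mul_assoc, hM' v, ← mul_assoc, hM, mul_assoc, sm_mul, mulVec_mulVec]

theorem intertwines_one {ψ : AddChar F ℂ} : Intertwines ψ (1 : SpG n F) (1 : Module.End ℂ (Fn n F)) := by
  intro v
  rw [sm_one, one_mulVec, one_mul, mul_one]

/-- two invertible intertwiners of `g` differ by a scalar -/
theorem eq_smul_of_intertwines {ψ : AddChar F ℂ}
    (hschur : ∀ M : Module.End ℂ (Fn n F), (∀ v : Vec n F, M * weyl ψ v = weyl ψ v * M) →
      ∃ k : ℂ, M = k • 1)
    {g : SpG n F} (A B : (Module.End ℂ (Fn n F))ˣ)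
    (hA : Intertwines ψ g (A : Module.End ℂ (Fn n F)))
    (hB : Intertwines ψ g (B : Module.End ℂ (Fn n F))) :
    ∃ k : ℂ, (B : Module.End ℂ (Fn n F)) = k • (A : Module.End ℂ (Fn n F)) := by
  obtain ⟨k, hk⟩ := hschur (((A⁻¹ * B : (Module.End ℂ (Fn n F))ˣ)) : Module.End ℂ (Fn n F)) (by
    intro v
    -- A⁻¹ B W(v) = A⁻¹ W(gv) B = W(v) A⁻¹ B
    have h1 : ((A⁻¹ : (Module.End ℂ (Fn n F))ˣ) : Module.End ℂ (Fn n F)) * weyl ψ (sm g *ᵥ v) =
        weyl ψ v * ((A⁻¹ : (Module.End ℂ (Fn n F))ˣ) : Module.End ℂ (Fn n F)) := by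
      have := hA v
      calc ((A⁻¹ : (Module.End ℂ (Fn n F))ˣ) : Module.End ℂ (Fn n F)) * weyl ψ (sm g *ᵥ v)
          = ((A⁻¹ : (Module.End ℂ (Fn n F))ˣ) : Module.End ℂ (Fn n F)) * (weyl ψ (sm g *ᵥ v) *
              (A : Module.End ℂ (Fn n F))) * ((A⁻¹ : (Module.End ℂ (Fn n F))ˣ) :
                Module.End ℂ (Fn n F)) := by
            rw [mul_assoc, mul_assoc, Units.mul_inv, mul_one]
        _ = weyl ψ v * ((A⁻¹ : (Module.End ℂ (Fn n F))ˣ) : Module.End ℂ (Fn n F)) := by
            rw [← this, ← mul_assoc, Units.inv_mul, one_mul]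
    rw [Units.val_mul, mul_assoc, hB v, ← mul_assoc, h1, mul_assoc])
  refine ⟨k, ?_⟩
  have := congrArg (fun T => (A : Module.End ℂ (Fn n F)) * T) hk
  simp only [Units.val_mul, ← mul_assoc, Units.mul_inv, one_mul, mul_smul_comm, mul_one] at this
  exact this

/-- the normalised intertwiner exists and is unique -/
theorem existsUnique_normalised [Fintype F] {ψ : AddChar F ℂ}
    (hint : ∀ g : SpG n F, ∃ M : (Module.End ℂ (Fn n F))ˣ,
      Intertwines ψ g (M : Module.End ℂ (Fn n F)))
    (hcomm : ∀ (g : SpG n F) (M : (Module.End ℂ (Fn n F))ˣ),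
      Intertwines ψ g (M : Module.End ℂ (Fn n F)) →
      (M : Module.End ℂ (Fn n F)) * parity n F = parity n F * M)
    (hschur : ∀ M : Module.End ℂ (Fn n F), (∀ v : Vec n F, M * weyl ψ v = weyl ψ v * M) →
      ∃ k : ℂ, M = k • 1)
    (hfin : finrank ℂ (Fn n F) = 2 * finrank ℂ (oddSp n F) + 1) (g : SpG n F) :
    ∃! A : Module.End ℂ (Fn n F), IsUnit A ∧ Intertwines ψ g A ∧ rn A = 1 := by
  obtain ⟨M, hM⟩ := hint g
  have hc := hcomm g M hM
  have hr := rn_ne_zero hc
  refine ⟨(rn (M : Module.End ℂ (Fn n F)))⁻¹ • (M : Module.End ℂ (Fn n F)),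
    ⟨?_, intertwines_smul hM _, ?_⟩, ?_⟩
  · have h := (M.isUnit).smul (Units.mk0 _ (inv_ne_zero hr))
    rwa [Units.smul_def, Units.val_mk0] at h
  · rw [rn_smul hc hfin, inv_mul_cancel₀ hr]
  · rintro B ⟨hBu, hBi, hBr⟩
    obtain ⟨B', rfl⟩ := hBu
    obtain ⟨k, hk⟩ := eq_smul_of_intertwines hschur M B' hM hBi
    rw [hk, rn_smul hc hfin] at hBr
    have hk' : k = (rn (M : Module.End ℂ (Fn n F)))⁻¹ := eq_inv_of_mul_eq_one_left hBr
    rw [hk, hk']

/-- the dimension hypothesis of `exists_weil_of` from the statement of `finrank_oddSp` (W-PAR) -/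
theorem hfin_of [Fintype F] {q : ℕ} (hq : Fintype.card F = q) (hodd : Odd q)
    (h : finrank ℂ (oddSp n F) = (q ^ n - 1) / 2) :
    finrank ℂ (Fn n F) = 2 * finrank ℂ (oddSp n F) + 1 := by
  classical
  rw [h, Module.finrank_fintype_fun_eq_card, Fintype.card_fun, Fintype.card_fin, hq]
  obtain ⟨m, hm⟩ := hodd.pow (n := n)
  omega

/-- `2 ≠ 0` in a finite field of odd order -/
theorem two_ne_zero_of_odd [Fintype F] (hodd : Odd (Fintype.card F)) : (2 : F) ≠ 0 := by
  intro h2
  have hchar : ringChar F = 2 := by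
    have hdvd : ringChar F ∣ 2 := by
      have : ((2 : ℕ) : F) = 0 := by exact_mod_cast h2
      exact (ringChar.spec F 2).mp this
    have hp : (ringChar F).Prime := CharP.char_is_prime F (ringChar F)
    exact (Nat.prime_dvd_prime_iff_eq hp Nat.prime_two).mp hdvd
  have : ¬ Odd (Fintype.card F) := by
    rw [Nat.not_odd_iff_even, Nat.even_iff]
    exact FiniteField.even_card_of_char_two hchar
  exact this hodd

end WNorm

open WNorm in
/-- **[W-NORM]** in `_of` form -/
theorem exists_weil_of {n : ℕ} {F : Type*} [Field F] [Fintype F] (ψ : AddChar F ℂ)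
    (hint : ∀ g : SpG n F, ∃ M : (Module.End ℂ (Fn n F))ˣ,
      Intertwines ψ g (M : Module.End ℂ (Fn n F)))
    (hcomm : ∀ (g : SpG n F) (M : (Module.End ℂ (Fn n F))ˣ),
      Intertwines ψ g (M : Module.End ℂ (Fn n F)) →
      (M : Module.End ℂ (Fn n F)) * parity n F = parity n F * M)
    (hschur : ∀ M : Module.End ℂ (Fn n F), (∀ v : Vec n F, M * weyl ψ v = weyl ψ v * M) →
      ∃ k : ℂ, M = k • 1)
    (hfin : finrank ℂ (Fn n F) = 2 * finrank ℂ (oddSp n F) + 1) :
    ∃ Wl : Representation ℂ (SpG n F) (Fn n F), ∀ g, Intertwines ψ g (Wl g) := by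
  classical
  have hEU := existsUnique_normalised hint hcomm hschur hfin
  choose Wl hWl huniq using fun g => (hEU g)
  have hWcomm : ∀ g, Wl g * parity n F = parity n F * Wl g := by
    intro g
    obtain ⟨A, hA⟩ := (hWl g).1
    have := hcomm g A (by rw [hA]; exact (hWl g).2.1)
    rw [hA] at this
    exact this
  have hone : Wl 1 = 1 := by
    symm
    exact huniq 1 1 ⟨isUnit_one, intertwines_one, rn_one⟩
  have hmul : ∀ g h, Wl (g * h) = Wl g * Wl h := by
    intro g h
    symm
    refine huniq (g * h) _ ⟨(hWl g).1.mul (hWl h).1, intertwines_mul (hWl g).2.1 (hWl h).2.1, ?_⟩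
    rw [rn_mul (hWcomm g) (hWcomm h), (hWl g).2.2, (hWl h).2.2, one_mul]
  exact ⟨{ toFun := Wl, map_one' := hone, map_mul' := hmul }, fun g => (hWl g).2.1⟩

end Cfsg.Agent.Lib.Helper43.SPMD
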