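import Mathlib
import Cfsg.Agent.Lib.Helper85.SqfDefs
import Cfsg.Agent.Lib.Helper1.PCore
import Cfsg.Agent.Lib.Helper1.Fitting

/-!
# SQF-[FDEC] (helper1, hedge): the Fitting subgroup acts on each `p`-core by inner automorphisms of the core
-/

set_option autoImplicit false

namespace Cfsg.Agent.Lib.Helper1.Sqf

open Cfsg

variable {G : Type*} [Group G]

/-- The elements acting on a normal subgroup `P` as conjugation by an element of `P`. -/
def innerOn (P : Subgroup G) [P.Normal] : Subgroup G where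
  carrier := {k | ∃ a ∈ P, ∀ v ∈ P, k * v * k⁻¹ = a * v * a⁻¹}
  one_mem' := ⟨1, P.one_mem, fun v _ => by simp⟩
  mul_mem' := by
    rintro k k' ⟨a, ha, hk⟩ ⟨a', ha', hk'⟩
    refine ⟨a * a', P.mul_mem ha ha', fun v hv => ?_⟩
    have h1 : a' * v * a'⁻¹ ∈ P := P.mul_mem (P.mul_mem ha' hv) (P.inv_mem ha')
    calc k * k' * v * (k * k')⁻¹ = k * (k' * v * k'⁻¹) * k⁻¹ := by group
      _ = k * (a' * v * a'⁻¹) * k⁻¹ := by rw [hk' v hv]
      _ = a * (a' * v * a'⁻¹) * a⁻¹ := hk _ h1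
      _ = a * a' * v * (a * a')⁻¹ := by group
  inv_mem' := by
    rintro k ⟨a, ha, hk⟩
    refine ⟨a⁻¹, P.inv_mem ha, fun v hv => ?_⟩
    have h1 : a⁻¹ * v * a ∈ P := P.mul_mem (P.mul_mem (P.inv_mem ha) hv) ha
    have h2 := hk _ h1
    have h3 : a * (a⁻¹ * v * a) * a⁻¹ = v := by group
    rw [h3] at h2
    calc k⁻¹ * v * k⁻¹⁻¹ = k⁻¹ * (k * (a⁻¹ * v * a) * k⁻¹) * k := by rw [h2, inv_inv]
      _ = a⁻¹ * v * a⁻¹⁻¹ := by group

theorem mem_innerOn (P : Subgroup G) [P.Normal] (k : G) :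
    k ∈ innerOn P ↔ ∃ a ∈ P, ∀ v ∈ P, k * v * k⁻¹ = a * v * a⁻¹ := Iff.rfl

/-- [FDEC] -/
theorem fitting_acts_inner [Finite G] (p : ℕ) [Fact p.Prime] (k : G)
    (hk : k ∈ fittingSubgroup G) :
    ∃ a ∈ pCore p G, ∀ v ∈ pCore p G, k * v * k⁻¹ = a * v * a⁻¹ := by
  have hle : fittingSubgroup G ≤ innerOn (pCore p G) := by
    rw [fittingSubgroup_eq_iSup_pCore]
    refine iSup_le fun r => ?_
    intro x hx
    have : Fact (r : ℕ).Prime := ⟨r.2⟩
    by_cases hrp : (r : ℕ) = p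
    · rw [hrp] at hx
      exact ⟨x, hx, fun v _ => rfl⟩
    · refine ⟨1, (pCore p G).one_mem, fun v hv => ?_⟩
      have hdisj : Disjoint (pCore (r : ℕ) G) (pCore p G) :=
        IsPGroup.disjoint_of_ne (r : ℕ) p hrp _ _ (pCore_isPGroup _) (pCore_isPGroup _)
      have h1 : x * v * x⁻¹ * v⁻¹ ∈ pCore (r : ℕ) G := by
        have hn : (pCore (r : ℕ) G).Normal := pCore_normal _
        have : v * x⁻¹ * v⁻¹ ∈ pCore (r : ℕ) G := hn.conj_mem _ ((pCore (r : ℕ) G).inv_mem hx) v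
        have h2 := (pCore (r : ℕ) G).mul_mem hx this
        have e : x * (v * x⁻¹ * v⁻¹) = x * v * x⁻¹ * v⁻¹ := by group
        rwa [e] at h2
      have h2 : x * v * x⁻¹ * v⁻¹ ∈ pCore p G := by
        have hn : (pCore p G).Normal := pCore_normal _
        exact (pCore p G).mul_mem (hn.conj_mem _ hv x) ((pCore p G).inv_mem hv)
      have h3 : x * v * x⁻¹ * v⁻¹ = 1 := by
        have := hdisj.le_bot ⟨h1, h2⟩
        simpa using this
      have h4 : x * v * x⁻¹ = v := by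
        have := congrArg (· * v) h3
        simpa using this
      rw [h4]
      group
  exact hle hk

end Cfsg.Agent.Lib.Helper1.Sqf
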