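import Mathlib
import Cfsg.Agent.Lib.Helper85.SqfDefs
import Cfsg.Agent.Lib.Helper1.PCore
import Cfsg.Agent.Lib.Helper1.Fitting

/-!
# SQF-[IDX-F] (helper1, hedge): a `q`-element centralising all `p`-cores, `p ≠ q`, lies in the Fitting subgroup
(when `G' ≤ F(G)`)
-/

set_option autoImplicit false

namespace Cfsg.Agent.Lib.Helper1.Sqf

open Cfsg

variable {G : Type*} [Group G]

/-- [IDX-F] -/
theorem mem_fitting_of_centralizes_pCores [Finite G]
    (hab : commutator G ≤ fittingSubgroup G) {q : ℕ} [Fact q.Prime] (x : G)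
    (hx : ∃ k : ℕ, orderOf x = q ^ k)
    (hc : ∀ p : ℕ, p.Prime → p ≠ q → ∀ v ∈ pCore p G, x * v = v * x) :
    x ∈ fittingSubgroup G := by
  classical
  -- the two commuting factors
  set A : Subgroup G := pCore q G ⊔ Subgroup.zpowers x with hA
  set B : Subgroup G := ⨆ p : {r : Nat.Primes // (r : ℕ) ≠ q}, pCore ((p : Nat.Primes) : ℕ) G with hB
  have hPq_normal : (pCore q G).Normal := pCore_normal q
  -- A is a q-group
  have hzx : IsPGroup q (Subgroup.zpowers x) := by
    obtain ⟨k, hk⟩ := hx
    intro y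
    obtain ⟨j, hj⟩ := Subgroup.mem_zpowers_iff.1 y.2
    refine ⟨k, Subtype.ext ?_⟩
    rw [Subgroup.coe_pow, Subgroup.coe_one, ← hj, ← zpow_natCast, ← zpow_mul, mul_comm, zpow_mul,
      zpow_natCast, ← hk, pow_orderOf_eq_one, one_zpow]
  have hAq : IsPGroup q A := IsPGroup.to_sup_of_normal_left (pCore_isPGroup q) hzx
  have hAnil : Group.IsNilpotent A := hAq.isNilpotent
  -- B is nilpotent (inside the Fitting subgroup)
  have hBF : B ≤ fittingSubgroup G := by
    rw [fittingSubgroup_eq_iSup_pCore]
    exact iSup_le fun p => le_iSup (fun r : Nat.Primes => pCore (r : ℕ) G) (p : Nat.Primes)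
  have hBnil : Group.IsNilpotent B := by
    have : Group.IsNilpotent (fittingSubgroup G) := fittingSubgroup_isNilpotent
    have h1 : Group.IsNilpotent (B.subgroupOf (fittingSubgroup G)) := inferInstance
    exact (Group.isNilpotent_congr (Subgroup.subgroupOfEquivOfLe hBF)).1 h1
  -- A and B commute
  have hBcent : B ≤ Subgroup.centralizer (A : Set G) := by
    refine iSup_le fun p => ?_
    have hpq : ((p : Nat.Primes) : ℕ) ≠ q := p.2
    have hpp : ((p : Nat.Primes) : ℕ).Prime := (p : Nat.Primes).2
    have : Fact ((p : Nat.Primes) : ℕ).Prime := ⟨hpp⟩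
    rw [Subgroup.le_centralizer_iff, hA]
    refine sup_le ?_ ?_
    · intro a ha
      rw [Subgroup.mem_centralizer_iff]
      intro v hv
      have hdisj : Disjoint (pCore q G) (pCore ((p : Nat.Primes) : ℕ) G) :=
        IsPGroup.disjoint_of_ne q _ (Ne.symm hpq) _ _ (pCore_isPGroup _) (pCore_isPGroup _)
      exact (Subgroup.commute_of_normal_of_disjoint _ _ (pCore_normal _) (pCore_normal _) hdisj
        a v ha hv).eq.symm
    · rw [Subgroup.zpowers_le, Subgroup.mem_centralizer_iff]
      intro v hv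
      exact (hc _ hpp hpq v hv).symm
  have hcomm : ∀ (a : A) (b : B), Commute (A.subtype a) (B.subtype b) := by
    intro a b
    have := (Subgroup.mem_centralizer_iff.1 (hBcent b.2)) a a.2
    exact this
  -- the product map and its range
  let φ : A × B →* G := MonoidHom.noncommCoprod A.subtype B.subtype hcomm
  have hrange : φ.range = A ⊔ B := by
    rw [MonoidHom.noncommCoprod_range, Subgroup.range_subtype, Subgroup.range_subtype]
  have hNnil : Group.IsNilpotent (A ⊔ B : Subgroup G) := by
    rw [← hrange]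
    exact Group.nilpotent_of_surjective φ.rangeRestrict φ.rangeRestrict_surjective
  -- F ≤ A ⊔ B
  have hFle : fittingSubgroup G ≤ A ⊔ B := by
    rw [fittingSubgroup_eq_iSup_pCore]
    refine iSup_le fun r => ?_
    by_cases hr : (r : ℕ) = q
    · rw [hr]
      exact le_trans le_sup_left le_sup_left
    · exact le_trans (le_iSup (fun p : {r : Nat.Primes // (r : ℕ) ≠ q} =>
        pCore ((p : Nat.Primes) : ℕ) G) ⟨r, hr⟩) le_sup_right
  -- A ⊔ B is normal
  have hNnormal : (A ⊔ B : Subgroup G).Normal := by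
    rw [← Subgroup.commutator_top_left_le_iff]
    calc ⁅(⊤ : Subgroup G), A ⊔ B⁆ ≤ ⁅(⊤ : Subgroup G), ⊤⁆ := Subgroup.commutator_mono le_rfl le_top
      _ = commutator G := (commutator_def G).symm
      _ ≤ fittingSubgroup G := hab
      _ ≤ A ⊔ B := hFle
  have hle := le_fittingSubgroup hNnormal hNnil
  apply hle
  exact le_sup_left (a := A) (b := B) (le_sup_right (a := pCore q G) (Subgroup.mem_zpowers x))

end Cfsg.Agent.Lib.Helper1.Sqf
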