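import Mathlib
import Cfsg.Agent.Lib.Helper6.SzCh.Asm
import Cfsg.Agent.Lib.Helper41.SzCov.Defs
import Cfsg.Agent.Lib.Helper64.ZassInd
import Cfsg.Agent.Lib.Helper80.CharBasic

/-!
# SZCOV-[NC-VALUES] (helper1): the values of the non-cuspidal characters `St`, `Ind λ` of a group
with Suzuki data.
-/

set_option autoImplicit false

namespace Cfsg.Agent.Lib.Helper1.SzCov

open Cfsg Cfsg.Agent.Lib.Helper6.SzCh Cfsg.Agent.Lib.Helper78
open Cfsg.Agent.Lib.Helper65.SzCh Cfsg.Agent.Lib.Helper25.SzCh Cfsg.Agent.Lib.Helper41.SzCov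
open Cfsg.Agent.Lib.Helper45.SzCh Cfsg.Agent.Lib.Helper52.BL
open scoped ComplexConjugate Classical

universe u
variable {G : Type u} [Group G]

/-- `Ind λ` vanishes on `A_i ∖ 1` -/
theorem ncv_ind_A [Fintype G] (D : SzData G) (lam : ↥D.B → ℂ) {a : G}
    (ha : a ∈ D.A₁ ∨ a ∈ D.A₂) (ha1 : a ≠ 1) : indFun D.B lam a = 0 := by
  apply Cfsg.Agent.Lib.Helper64.indFun_eq_zero_of_forall_not_mem
  intro x hx
  have h1 : x * (x⁻¹ * a * x) * x⁻¹ = a := by group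
  have h2 : x⁻¹ * a * x = 1 := not_conj_B_A D hx x (by rw [h1]; exact ha)
  apply ha1
  rw [← h1, h2]; group

/-- a conjugate of `u ∈ Q ∖ 1` lies in `B` only if the conjugating element does -/
theorem ncv_conj_mem_B [Finite G] (D : SzData G) {u : G} (hu : u ∈ D.Q) (hu1 : u ≠ 1) {x : G}
    (hx : x⁻¹ * u * x ∈ D.B) : x ∈ D.B := by
  by_contra hxB
  have hxB' : x⁻¹ ∉ Subgroup.normalizer (D.Q : Set G) := fun h => hxB (by
    have := D.B.inv_mem (show x⁻¹ ∈ D.B from h)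
    simpa using this)
  by_cases hQ : x⁻¹ * u * x ∈ D.Q
  · apply hu1
    apply D.Q_TI x⁻¹ hxB' u hu
    simpa using hQ
  · obtain ⟨v, hv, hK, hne⟩ := exists_Q_conj_K D hx hQ
    apply hne
    apply not_conj_K_Q D hK (x * v⁻¹)
    have : x * v⁻¹ * (v * (x⁻¹ * u * x) * v⁻¹) * (x * v⁻¹)⁻¹ = u := by group
    rw [this]; exact hu

/-- `Ind λ` is `1` on `Q ∖ 1` -/
theorem ncv_ind_Q [Fintype G] (D : SzData G) [Fintype ↥D.B] {lam : ↥D.B → ℂ} (hl : IsLinQ D lam)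
    {u : G} (hu : u ∈ D.Q) (hu1 : u ≠ 1) : indFun D.B lam u = 1 := by
  unfold indFun
  have hterm : ∀ x : G, extendByZero D.B lam (x⁻¹ * u * x) = if x ∈ D.B then 1 else 0 := by
    intro x
    by_cases hx : x ∈ D.B
    · rw [if_pos hx]
      have hQ : x⁻¹ * u * x ∈ D.Q := by
        have := conj_mem_Q D (D.B.inv_mem hx) hu
        simpa using this
      rw [Cfsg.Agent.Lib.Helper25.extendByZero_mem D.B lam (Q_le_B D hQ)]
      exact hl.2 _ hQ
    · rw [if_neg hx]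
      apply Cfsg.Agent.Lib.Helper25.extendByZero_not_mem
      intro h
      exact hx (ncv_conj_mem_B D hu hu1 h)
  rw [Finset.sum_congr rfl (fun x _ => hterm x), Finset.sum_boole]
  have hcard : (Finset.univ.filter (fun x : G => x ∈ D.B)).card = Nat.card ↥D.B := by
    rw [← Fintype.card_subtype, Nat.card_eq_fintype_card]
  rw [hcard]
  have : (Nat.card ↥D.B : ℂ) ≠ 0 := by exact_mod_cast Nat.card_pos.ne'
  field_simp

/-- `St` is `1` on `K ∖ 1` -/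
theorem ncv_St_K [Fintype G] (D : SzData G) [Fintype ↥D.B] {St : IrrCharacter G}
    (hSt : St ≠ ncOne G) (hind : indFun D.B (fun _ => 1) = (ncOne G).1 + St.1)
    {k : G} (hk : k ∈ D.K) (hk1 : k ≠ 1) : St.1 k = 1 := by
  obtain ⟨T⟩ := Cfsg.Agent.Lib.Helper73.SzCh.exists_bTable D
  have hkB : k ∈ D.B := D.K_le hk
  have hkQ : k ∉ D.Q := fun hQ => hk1 (not_conj_K_Q D hk 1 (by simpa using hQ))
  have hres : IsCharacter ↥D.B (resB D St.1) :=
    Cfsg.Agent.Lib.Helper80.isCharacter_restrict D.B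
      (Cfsg.Agent.Lib.Helper80.isCharacter_of_isIrr St.2)
  have hsum := IsCharacter.eq_sum_irr hres
  have hx : St.1 k = ∑ ψ : IrrCharacter ↥D.B,
      classInner (resB D St.1) (ψ : ↥D.B → ℂ) * (ψ : ↥D.B → ℂ) ⟨k, hkB⟩ := by
    have := congrFun hsum ⟨k, hkB⟩
    rw [Finset.sum_apply] at this
    simpa [resB] using this
  obtain ⟨one, hone⟩ : ∃ one : IrrCharacter ↥D.B, one = ⟨fun _ => 1, (isLinQ_one D).1⟩ := ⟨_, rfl⟩
  have honev : (one : ↥D.B → ℂ) = fun _ => 1 := by rw [hone]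
  rw [hx, Finset.sum_eq_single one]
  · have h1 : classInner (resB D St.1) (fun _ => 1) = 1 := by
      have := Cfsg.Agent.Lib.Helper75.frobenius_reciprocity' D.B (fun _ : ↥D.B => (1 : ℂ)) (isClassFunction_irr St)
      unfold resB
      rw [← this, hind, classInner_add_right,
        classInner_irr_ne St.2 (ncOne G).2 (fun h => hSt (Subtype.ext h)),
        classInner_irr_self St.2, zero_add]
    rw [honev, h1, one_mul]
  · intro ψ _ hψ
    rcases T.complete ψ.1 ψ.2 with h | h | h | h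
    · have hne : ψ.1 ≠ fun _ => 1 := fun h' => hψ (Subtype.ext (by rw [honev]; exact h'))
      obtain ⟨χ, hχ, hm⟩ := nc_ind_irr D h hne
      have h0 : classInner (resB D St.1) ψ.1 = 0 := by
        unfold resB
        rw [nc_res_inner D h.1 St, hm St, if_neg]
        · simp
        · intro hSχ
          have d1 := nc_degree_St D hind
          have d2 := nc_degree_F D h hχ.symm
          rw [← hSχ, d1] at d2
          omega
      rw [h0, zero_mul]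
    · rw [h, T.φ_off ⟨k, hkB⟩ hkQ, mul_zero]
    · rw [h, T.ψ₁_off ⟨k, hkB⟩ hkQ, mul_zero]
    · rw [h, T.ψ₂_off ⟨k, hkB⟩ hkQ, mul_zero]
  · intro h; exact absurd (Finset.mem_univ _) h

/-- SZCOV-[NC-VALUES]: the values of the non-cuspidal characters `St`, `Ind λ`. -/
theorem nc_table [Fintype G] (D : SzData G) [Fintype ↥D.B] :
    ∃ (St : IrrCharacter G) (L : Finset (IrrCharacter G)),
      L.card * 2 + 2 = D.q ∧
      (∀ χ : IrrCharacter G, ¬ IsCusp D χ.1 ↔ χ = trivIrr G ∨ χ = St ∨ χ ∈ L) ∧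
      St ≠ trivIrr G ∧ trivIrr G ∉ L ∧ St ∉ L ∧
      (St : G → ℂ) 1 = (D.q : ℂ) ^ 2 ∧
      (∀ u ∈ D.Q, u ≠ 1 → (St : G → ℂ) u = 0) ∧
      (∀ k ∈ D.K, k ≠ 1 → (St : G → ℂ) k = 1) ∧
      (∀ a ∈ D.A₁, a ≠ 1 → (St : G → ℂ) a = -1) ∧
      (∀ a ∈ D.A₂, a ≠ 1 → (St : G → ℂ) a = -1) ∧
      (∀ χ ∈ L, (χ : G → ℂ) 1 = (D.q : ℂ) ^ 2 + 1) ∧
      (∀ χ ∈ L, ∀ u ∈ D.Q, u ≠ 1 → (χ : G → ℂ) u = 1) ∧
      (∀ χ ∈ L, ∀ a ∈ D.A₁, a ≠ 1 → (χ : G → ℂ) a = 0) ∧
      (∀ χ ∈ L, ∀ a ∈ D.A₂, a ≠ 1 → (χ : G → ℂ) a = 0) := by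
  obtain ⟨St, F, hSt, hind, hF, hcl⟩ := nc_classify D
  have hfinL : Fintype (NcLam D) := Fintype.ofFinite _
  have htriv : trivIrr G = ncOne G := rfl
  have hq := nc_eight_le_q D
  have hcardL := nc_card_image D F hF
  -- values of `St` from `Ind 1 = 1 + St`
  have hStval : ∀ g : G, St.1 g = indFun D.B (fun _ => 1) g - 1 := by
    intro g
    rw [hind]
    show St.1 g = ((ncOne G).1 g + St.1 g) - 1
    show St.1 g = ((1 : ℂ) + St.1 g) - 1
    ring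
  have hdegSt := nc_degree_St D hind
  have hmemL : ∀ χ : IrrCharacter G, χ ∈ Finset.univ.image F ↔ ∃ x, χ = F x := by
    intro χ
    rw [Finset.mem_image]
    constructor
    · rintro ⟨x, -, hx⟩; exact ⟨x, hx.symm⟩
    · rintro ⟨x, hx⟩; exact ⟨x, Finset.mem_univ _, hx.symm⟩
  refine ⟨St, Finset.univ.image F, by omega, ?_, ?_, ?_, ?_, ?_, ?_, ?_, ?_, ?_, ?_, ?_, ?_, ?_⟩
  · intro χ
    rw [hcl χ, htriv, hmemL χ]
  · rw [htriv]; exact hSt
  · rw [hmemL, htriv]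
    rintro ⟨x, hx⟩
    have d := nc_degree_F D x.2.1 (hF x)
    rw [← hx, nc_charDegree_one] at d
    nlinarith
  · rw [hmemL]
    rintro ⟨x, hx⟩
    have d := nc_degree_F D x.2.1 (hF x)
    rw [← hx, hdegSt] at d
    omega
  · rw [IsCharacter.apply_one_eq_charDegree (IsIrrCharacter.isCharacter St.2), hdegSt]
    push_cast; ring
  · intro u hu hu1
    rw [hStval u, ncv_ind_Q D (isLinQ_one D) hu hu1]; ring
  · intro k hk hk1
    exact ncv_St_K D hSt hind hk hk1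
  · intro a ha ha1
    rw [hStval a, ncv_ind_A D _ (Or.inl ha) ha1]; ring
  · intro a ha ha1
    rw [hStval a, ncv_ind_A D _ (Or.inr ha) ha1]; ring
  · intro χ hχ
    obtain ⟨x, rfl⟩ := (hmemL χ).mp hχ
    rw [hF x, nc_ind_apply_one D x.2.1]
  · intro χ hχ u hu hu1
    obtain ⟨x, rfl⟩ := (hmemL χ).mp hχ
    rw [hF x, ncv_ind_Q D x.2.1 hu hu1]
  · intro χ hχ a ha ha1
    obtain ⟨x, rfl⟩ := (hmemL χ).mp hχ
    rw [hF x, ncv_ind_A D _ (Or.inl ha) ha1]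
  · intro χ hχ a ha ha1
    obtain ⟨x, rfl⟩ := (hmemL χ).mp hχ
    rw [hF x, ncv_ind_A D _ (Or.inr ha) ha1]

end Cfsg.Agent.Lib.Helper1.SzCov
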