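import Mathlib
import Cfsg.Agent.Lib.Helper6.SzCh.Asm
import Cfsg.Agent.Lib.Helper41.SzCov.Defs
import Cfsg.Agent.Lib.Helper73.SzChExcTI
import Cfsg.Agent.Lib.Helper80.CharBasic

/-!
# SZCOV-[TORUS-VAL] (helper1): characters outside the exceptional family of a T.I. torus
are constant small integers on it.
-/

set_option autoImplicit false

namespace Cfsg.Agent.Lib.Helper1.SzCov

open Cfsg Cfsg.Agent.Lib.Helper6.SzCh Cfsg.Agent.Lib.Helper78
open scoped ComplexConjugate Classical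

universe u
variable {G : Type u} [Group G]

theorem torus_val [Fintype G] (A : Subgroup G)
    (hcent : ∀ a ∈ A, a ≠ 1 → Subgroup.centralizer ({a} : Set G) = A)
    (hnorm : Nat.card ↥(Subgroup.normalizer (A : Set G)) = 4 * Nat.card A)
    (hbig : 5 < Nat.card A) :
    ∃ E : Finset (IrrCharacter G), E.card * 4 + 1 = Nat.card A ∧
      ∀ χ : IrrCharacter G, χ ∉ E → ∃ v : ℤ, (∀ y ∈ A, y ≠ 1 → (χ : G → ℂ) y = (v : ℂ)) ∧
        |v| ≤ 2 ∧ (Nat.card A : ℤ) ∣ (charDegree (χ : G → ℂ) : ℤ) - v := by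
  obtain ⟨δ, d, Y, v, hδ, hcard, hne1, hconst, -, hsum, -⟩ :=
    Cfsg.Agent.Lib.Helper73.SzCh.exc_TI A 4 hcent hnorm (by omega)
  refine ⟨Y, hcard, ?_⟩
  intro χ hχ
  refine ⟨v χ, hconst χ hχ, ?_, ?_⟩
  · -- the bound
    -- a non-identity element of `A`
    obtain ⟨y, hyA, hy1⟩ : ∃ y ∈ A, y ≠ 1 := by
      by_contra hcon
      push Not at hcon
      have hbot : A = ⊥ := (Subgroup.eq_bot_iff_forall A).mpr hcon
      rw [hbot] at hbig
      simp at hbig
    set χ₀ : IrrCharacter G := ⟨fun _ => 1, isIrrCharacter_one⟩ with hχ₀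
    have h0Y : χ₀ ∉ Y := fun hin => hne1 χ₀ hin rfl
    have hv0 : v χ₀ = 1 := by
      have := hconst χ₀ h0Y y hyA hy1
      have h1 : ((1 : ℤ) : ℂ) = (v χ₀ : ℂ) := by
        rw [← this]; simp [hχ₀]
      exact (Int.cast_injective h1).symm
    by_cases hχ0 : χ = χ₀
    · rw [hχ0, hv0]; norm_num
    · -- both `χ` and `χ₀` occur in the sum
      have hYcard : (1 : ℤ) ≤ (Y.card : ℤ) := by
        have : 1 ≤ Y.card := by omega
        exact_mod_cast this
      have hsub : ({χ, χ₀} : Finset (IrrCharacter G)) ⊆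
          Finset.univ.filter (fun χ : IrrCharacter G => χ ∉ Y) := by
        intro ψ hψ
        rw [Finset.mem_insert, Finset.mem_singleton] at hψ
        rw [Finset.mem_filter]
        rcases hψ with rfl | rfl
        · exact ⟨Finset.mem_univ _, hχ⟩
        · exact ⟨Finset.mem_univ _, h0Y⟩
      have hle : ∑ ψ ∈ ({χ, χ₀} : Finset (IrrCharacter G)), v ψ ^ 2 ≤
          ∑ ψ ∈ Finset.univ.filter (fun χ : IrrCharacter G => χ ∉ Y), v ψ ^ 2 :=
        Finset.sum_le_sum_of_subset_of_nonneg hsub (fun _ _ _ => sq_nonneg _)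
      rw [Finset.sum_pair hχ0, hv0] at hle
      have h1 : 0 ≤ (d - δ) ^ 2 := sq_nonneg _
      have h2 : 0 ≤ ((Y.card : ℤ) - 1) * d ^ 2 := mul_nonneg (by linarith) (sq_nonneg _)
      have h3 : v χ ^ 2 ≤ 4 := by
        have : ((4 : ℕ) : ℤ) = 4 := by norm_num
        rw [this] at hsum
        linarith
      rw [abs_le]
      constructor <;> nlinarith
  · -- the divisibility
    have hfinA : Fintype ↥A := Fintype.ofFinite _
    have hχc : IsCharacter G (χ : G → ℂ) := IsIrrCharacter.isCharacter χ.2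
    have hres : IsCharacter ↥A (fun a : ↥A => (χ : G → ℂ) a) :=
      Cfsg.Agent.Lib.Helper80.isCharacter_restrict A hχc
    obtain ⟨n, hn⟩ := IsCharacter.exists_nat_classInner hres
      (⟨fun _ => 1, isIrrCharacter_one⟩ : IrrCharacter ↥A)
    have hcardA : (Nat.card ↥A : ℂ) ≠ 0 := by
      have : 0 < Nat.card ↥A := by omega
      exact_mod_cast this.ne'
    have hsumA : ∑ a : ↥A, (χ : G → ℂ) a = (Nat.card ↥A : ℂ) * n := by
      unfold classInner at hn
      simp only [map_one, mul_one] at hn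
      rw [← hn, ← mul_assoc, mul_inv_cancel₀ hcardA, one_mul]
    have hsplit : ∑ a : ↥A, ((χ : G → ℂ) a - (v χ : ℂ)) = (χ : G → ℂ) 1 - (v χ : ℂ) := by
      rw [Finset.sum_eq_single (1 : ↥A)]
      · simp
      · intro a _ ha
        have ha1 : (a : G) ≠ 1 := fun h => ha (Subtype.ext h)
        rw [hconst χ hχ a a.2 ha1, sub_self]
      · intro h; exact absurd (Finset.mem_univ _) h
    rw [Finset.sum_sub_distrib, hsumA, Finset.sum_const, Finset.card_univ, nsmul_eq_mul,
      ← Nat.card_eq_fintype_card, IsCharacter.apply_one_eq_charDegree hχc] at hsplit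
    refine ⟨(n : ℤ) - v χ, ?_⟩
    have : ((charDegree (χ : G → ℂ) : ℤ) - v χ : ℂ) =
        (((Nat.card ↥A : ℤ) * ((n : ℤ) - v χ) : ℤ) : ℂ) := by
      push_cast
      rw [← hsplit]; ring
    exact_mod_cast this

end Cfsg.Agent.Lib.Helper1.SzCov
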