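/-
helper1: TWOUT-[A-CROSS] (helper91's project): compatibility of the field automorphisms attached
to two rank one subgroups linked by a torus relation.
-/
import Mathlib
import Cfsg.Agent.Lib.Helper91.TwOut.Defs

set_option autoImplicit false

namespace Cfsg.Agent.Lib.Helper1.TwOut

open Cfsg Cfsg.Agent.Lib.Helper91.TwOut

variable {Γ : Type*} [Group Γ] {F : Type*} [Field F]

/-- [A-CROSS] -/
theorem cross_compat {F₂ : Type*} [Field F₂] (emb : F₂ →+* F)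
    (Φ₁ : Matrix.SpecialLinearGroup (Fin 2) F →* Γ) (Φ₂ : Matrix.SpecialLinearGroup (Fin 2) F₂ →* Γ)
    (hinj : Function.Injective fun t : F => Φ₁ (sx t))
    (hrel : ∀ (u : F₂ˣ) (s : F), Φ₂ (hd u) * Φ₁ (sx s) * (Φ₂ (hd u))⁻¹ = Φ₁ (sx ((emb (u : F₂))⁻¹ * s)))
    (θ : Γ ≃* Γ) (c₁ : Fˣ) (τ₁ : F ≃+* F) (h₁ : ∀ t, θ (Φ₁ (sx t)) = Φ₁ (sx ((c₁ : F) * τ₁ t)))
    (τ₂ : F₂ ≃+* F₂) (h₂ : ∀ t : F₂ˣ, θ (Φ₂ (hd t)) = Φ₂ (hd (Units.map (τ₂ : F₂ →* F₂) t))) :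
    ∀ u : F₂, emb (τ₂ u) = τ₁ (emb u) := by
  intro u
  by_cases hu : u = 0
  · simp [hu]
  · set v : F₂ˣ := Units.mk0 u hu with hv
    have hvu : (v : F₂) = u := rfl
    have e1 := congrArg θ (hrel v 1)
    rw [map_mul, map_mul, map_inv, h₂, h₁, h₁, hrel] at e1
    have e2 := hinj e1
    have hv' : ((Units.map (τ₂ : F₂ →* F₂) v : F₂ˣ) : F₂) = τ₂ u := rfl
    rw [hv', hvu, mul_one, map_one, mul_one, map_inv₀] at e2
    have hc : (c₁ : F) ≠ 0 := c₁.ne_zero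
    have e3 : (emb (τ₂ u))⁻¹ = (τ₁ (emb u))⁻¹ := by
      have := congrArg (fun x => x * (c₁ : F)⁻¹) e2
      beta_reduce at this
      rw [mul_assoc, mul_inv_cancel₀ hc, mul_one, mul_comm (c₁ : F), mul_assoc, mul_inv_cancel₀ hc,
        mul_one] at this
      exact this
    exact inv_injective e3

end Cfsg.Agent.Lib.Helper1.TwOut
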