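/-
helper1: TWOUT-[A-FIELD] (helper91's project): an additive injective map of a finite field with
`f (t² u) (f 1)² = (f t)² f u` is a scalar multiple of a field automorphism.
-/
import Mathlib
import Cfsg.Agent.Lib.Helper87.AutField

set_option autoImplicit false

namespace Cfsg.Agent.Lib.Helper1.TwOut

variable {F : Type*} [Field F]

/-- [A-FIELD] -/
theorem field_of_sq_rel [Finite F] (f : F → F) (hadd : ∀ a b, f (a + b) = f a + f b)
    (hinj : Function.Injective f)
    (hsq : ∀ t u : F, t ≠ 0 → f (t ^ 2 * u) * (f 1) ^ 2 = (f t) ^ 2 * f u) :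
    ∃ τ : F ≃+* F, ∀ t, f t = f 1 * τ t := by
  have h0 : f 0 = 0 := by
    have h := hadd 0 0
    rw [add_zero] at h
    exact left_eq_add.mp h
  set c : F := f 1 with hc
  have hc0 : c ≠ 0 := by
    intro h
    have : (1 : F) = 0 := hinj (by rw [← hc, h, h0])
    exact one_ne_zero this
  set g : F → F := fun t => f t / c with hg
  have gadd : ∀ a b, g (a + b) = g a + g b := by
    intro a b
    simp only [hg]
    rw [hadd, add_div]
  have g1 : g 1 = 1 := by
    simp only [hg]
    exact div_self hc0
  have g0 : g 0 = 0 := by
    simp only [hg]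
    rw [h0, zero_div]
  have gsq : ∀ t u : F, t ≠ 0 → g (t ^ 2 * u) = (g t) ^ 2 * g u := by
    intro t u ht
    simp only [hg]
    have h := hsq t u ht
    rw [div_pow, div_mul_div_comm, ← h, ← pow_succ]
    field_simp
  have gmul : ∀ a b, g (a * b) = g a * g b :=
    Cfsg.Agent.Lib.Helper87.Aut.mul_of_sq_rel g gadd g1 gsq
  have ginj : Function.Injective g := by
    intro a b hab
    simp only [hg] at hab
    apply hinj
    have := congrArg (fun x => x * c) hab
    simpa [div_mul_cancel₀ _ hc0] using this
  have gbij : Function.Bijective g := Finite.injective_iff_bijective.1 ginj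
  let φ : F →+* F :=
    { toFun := g
      map_one' := g1
      map_mul' := gmul
      map_zero' := g0
      map_add' := gadd }
  refine ⟨RingEquiv.ofBijective φ gbij, ?_⟩
  intro t
  show f t = c * g t
  simp only [hg]
  field_simp

end Cfsg.Agent.Lib.Helper1.TwOut
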