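/-
helper1: TWOUT-[A-SL2] (helper91's project): the standard relations between the elements
`sx`, `sy`, `hd`, `wn` of `SL₂`.
-/
import Mathlib
import Cfsg.Agent.Lib.Helper91.TwOut.Defs

set_option autoImplicit false

namespace Cfsg.Agent.Lib.Helper1.TwOut

open Cfsg Cfsg.Agent.Lib.Helper91.TwOut

variable {F : Type*} [Field F]

theorem sx_mul_sx (a b : F) : sx a * sx b = sx (a + b) := by
  apply Subtype.ext
  rw [Matrix.SpecialLinearGroup.coe_mul, coe_sx, coe_sx, coe_sx, Matrix.mul_fin_two]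
  simp [add_comm]

theorem sy_mul_sy (a b : F) : sy a * sy b = sy (a + b) := by
  apply Subtype.ext
  rw [Matrix.SpecialLinearGroup.coe_mul, coe_sy, coe_sy, coe_sy, Matrix.mul_fin_two]
  simp

theorem sx_sy_sx (t : Fˣ) : sx (t : F) * sy (-((t⁻¹ : Fˣ) : F)) * sx (t : F) = wn t := by
  apply Subtype.ext
  rw [Matrix.SpecialLinearGroup.coe_mul, Matrix.SpecialLinearGroup.coe_mul, coe_sx, coe_sy, coe_wn,
    Matrix.mul_fin_two, Matrix.mul_fin_two]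
  have ht : (t : F) ≠ 0 := t.ne_zero
  simp [ht]

theorem wn_eq_hd_mul_wn (t : Fˣ) : wn t = hd t * wn (1 : Fˣ) := by
  apply Subtype.ext
  rw [Matrix.SpecialLinearGroup.coe_mul, coe_wn, coe_hd, coe_wn, Matrix.mul_fin_two]
  simp

theorem hd_mul_sx (t : Fˣ) (u : F) : hd t * sx u = sx ((t : F) ^ 2 * u) * hd t := by
  apply Subtype.ext
  rw [Matrix.SpecialLinearGroup.coe_mul, Matrix.SpecialLinearGroup.coe_mul, coe_hd, coe_sx, coe_sx,
    Matrix.mul_fin_two, Matrix.mul_fin_two]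
  have ht : (t : F) ≠ 0 := t.ne_zero
  simp
  field_simp

theorem hd_mul_sy (t : Fˣ) (u : F) : hd t * sy u = sy (((t⁻¹ : Fˣ) : F) ^ 2 * u) * hd t := by
  apply Subtype.ext
  rw [Matrix.SpecialLinearGroup.coe_mul, Matrix.SpecialLinearGroup.coe_mul, coe_hd, coe_sy, coe_sy,
    Matrix.mul_fin_two, Matrix.mul_fin_two]
  have ht : (t : F) ≠ 0 := t.ne_zero
  simp
  field_simp

/-- [A-SL2] relations in `SL₂`. -/
theorem sl2_relations :
    (∀ a b : F, sx a * sx b = sx (a + b)) ∧ (∀ a b : F, sy a * sy b = sy (a + b)) ∧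
    (∀ t : Fˣ, sx (t : F) * sy (-((t⁻¹ : Fˣ) : F)) * sx (t : F) = wn t) ∧
    (∀ t : Fˣ, wn t * (wn (1 : Fˣ))⁻¹ = hd t) ∧
    (∀ (t : Fˣ) (u : F), hd t * sx u * (hd t)⁻¹ = sx ((t : F) ^ 2 * u)) ∧
    (∀ (t : Fˣ) (u : F), hd t * sy u * (hd t)⁻¹ = sy (((t⁻¹ : Fˣ) : F) ^ 2 * u)) := by
  refine ⟨sx_mul_sx, sy_mul_sy, sx_sy_sx, ?_, ?_, ?_⟩
  · intro t
    rw [mul_inv_eq_iff_eq_mul]
    exact wn_eq_hd_mul_wn t
  · intro t u
    rw [mul_inv_eq_iff_eq_mul]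
    exact hd_mul_sx t u
  · intro t u
    rw [mul_inv_eq_iff_eq_mul]
    exact hd_mul_sy t u

end Cfsg.Agent.Lib.Helper1.TwOut
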