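/-
helper1: TWOUT-[A-PSUB] + [A-SYL] (helper91's project): `U` is a Sylow `p`-subgroup, so the
`p`-subgroups of `B` lie in `U`, and every automorphism maps `U` to a conjugate of `U`.
-/
import Mathlib
import Cfsg.Agent.Lib.Helper91.TwOut.Defs

set_option autoImplicit false

namespace Cfsg.Agent.Lib.Helper1.TwOut

open Cfsg Cfsg.Agent.Lib.Helper91.TwOut

variable {Γ : Type*} [Group Γ] {ι : Type*} {p : ℕ}

/-- [A-PSUB] the `p`-subgroups of `B` lie in `U`. -/
theorem le_U_of_isPGroup [Finite Γ] [Fact p.Prime] (S : SplitBN Γ ι p) (R : Subgroup Γ)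
    (hR : IsPGroup p ↥R) (hRB : R ≤ S.P.B) : R ≤ S.U := by
  have hnorm : R ≤ Subgroup.normalizer (S.U : Set Γ) := by
    intro r hr
    rw [Subgroup.mem_normalizer_iff]
    intro u
    constructor
    · intro hu
      exact S.U_norm r (hRB hr) u hu
    · intro hu
      have h1 := S.U_norm r⁻¹ (S.P.B.inv_mem (hRB hr)) _ hu
      have h2 : r⁻¹ * (r * u * r⁻¹) * r⁻¹⁻¹ = u := by group
      rw [h2] at h1
      exact h1
  have hsup : IsPGroup p ↥(R ⊔ S.U) := IsPGroup.to_sup_of_normal_right' hR S.pU hnorm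
  have hmax := (S.pU.toSylow S.idxU).is_maximal' hsup (by
    show S.U ≤ R ⊔ S.U
    exact le_sup_right)
  have hmax' : R ⊔ S.U = S.U := hmax
  rw [← hmax']
  exact le_sup_left

/-- [A-SYL] -/
theorem exists_conj_U [Finite Γ] [Fact p.Prime] (S : SplitBN Γ ι p) (θ : Γ ≃* Γ) :
    ∃ g : Γ, S.U.map θ.toMonoidHom = S.U.map (MulAut.conj g).toMonoidHom := by
  set P : Sylow p Γ := S.pU.toSylow S.idxU with hP
  have hPU : (P : Subgroup Γ) = S.U := rfl
  have hpθ : IsPGroup p ↥(S.U.map θ.toMonoidHom) := S.pU.map θ.toMonoidHom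
  have hidx : (S.U.map θ.toMonoidHom).index = S.U.index :=
    Subgroup.index_map_equiv S.U θ
  have hidxθ : ¬ p ∣ (S.U.map θ.toMonoidHom).index := by
    rw [hidx]; exact S.idxU
  set Q : Sylow p Γ := hpθ.toSylow hidxθ with hQ
  have hQU : (Q : Subgroup Γ) = S.U.map θ.toMonoidHom := rfl
  obtain ⟨g, hg⟩ := MulAction.exists_smul_eq Γ P Q
  refine ⟨g, ?_⟩
  rw [← hQU, ← hg, Sylow.coe_subgroup_smul, hPU]
  rfl

end Cfsg.Agent.Lib.Helper1.TwOut
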