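import Mathlib

/-!
# Vaughan-Lee's breadth theorem (S3777), MODULE [VL-S] (helper35 #4359)

For a `G`-invariant homomorphism `χ ≠ 1` from `G'` to `ℤ/p`, the number of homomorphisms
`φ : G → ℤ/p` with `φ g = 1` such that `χ` kills `(ker φ)'` is divisible by `p`:
`φ ↦ φ · τ` with `τ = χ⁅g, ·⁆` is a fixed point free map of order `p` on this set.
-/

set_option autoImplicit false

namespace Cfsg.Agent.Lib.Helper1.VL

open Subgroup
open scoped commutatorElement

variable {G : Type*} [Group G] {p : ℕ} [Fact p.Prime]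

/-- the commutator `⁅x, y⁆` as an element of `commutator G` -/
def cm (x y : G) : ↥(commutator G) :=
  ⟨⁅x, y⁆, by
    rw [_root_.commutator_def]
    exact Subgroup.commutator_mem_commutator (Subgroup.mem_top x) (Subgroup.mem_top y)⟩

theorem cm_self (x : G) : cm x x = 1 := by
  apply Subtype.ext
  simp [cm]

theorem cm_swap (x y : G) : cm y x = (cm x y)⁻¹ := by
  apply Subtype.ext
  simp [cm]

theorem cm_mul_left (x x' y : G) :
    cm (x * x') y = ⟨x * (cm x' y : G) * x⁻¹,
      (inferInstance : (commutator G).Normal).conj_mem _ (cm x' y).2 x⟩ * cm x y := by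
  apply Subtype.ext
  simp only [cm, Subgroup.coe_mul, commutatorElement_def]
  group

theorem cm_mul_right (x y y' : G) :
    cm x (y * y') = cm x y * ⟨y * (cm x y' : G) * y⁻¹,
      (inferInstance : (commutator G).Normal).conj_mem _ (cm x y').2 y⟩ := by
  apply Subtype.ext
  simp only [cm, Subgroup.coe_mul, commutatorElement_def]
  group

section

variable (χ : ↥(commutator G) →* Multiplicative (ZMod p))
  (hinv : ∀ (x : G) (c : ↥(commutator G)),
    χ ⟨x * c * x⁻¹, (inferInstance : (commutator G).Normal).conj_mem c c.2 x⟩ = χ c)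

include hinv

theorem chi_cm_mul_left (x x' y : G) : χ (cm (x * x') y) = χ (cm x y) * χ (cm x' y) := by
  rw [cm_mul_left, map_mul, hinv, mul_comm]

theorem chi_cm_mul_right (x y y' : G) : χ (cm x (y * y')) = χ (cm x y) * χ (cm x y') := by
  rw [cm_mul_right, map_mul, hinv]

/-- `τ = χ⁅g, ·⁆` -/
def tau (g : G) : G →* Multiplicative (ZMod p) :=
  MonoidHom.mk' (fun y => χ (cm g y)) (fun y y' => chi_cm_mul_right χ hinv g y y')

theorem tau_apply (g y : G) : tau χ hinv g y = χ (cm g y) := rfl

end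

/-- `b(x,y) = χ⁅x,y⁆`, additively -/
def bform (χ : ↥(commutator G) →* Multiplicative (ZMod p)) (x y : G) : ZMod p :=
  Multiplicative.toAdd (χ (cm x y))

theorem bform_self (χ : ↥(commutator G) →* Multiplicative (ZMod p)) (x : G) :
    bform χ x x = 0 := by
  unfold bform
  rw [cm_self, map_one]
  rfl

theorem bform_swap (χ : ↥(commutator G) →* Multiplicative (ZMod p)) (x y : G) :
    bform χ y x = - bform χ x y := by
  unfold bform
  rw [cm_swap, map_inv]
  rfl

section

variable (χ : ↥(commutator G) →* Multiplicative (ZMod p))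
  (hinv : ∀ (x : G) (c : ↥(commutator G)),
    χ ⟨x * c * x⁻¹, (inferInstance : (commutator G).Normal).conj_mem c c.2 x⟩ = χ c)

include hinv

theorem bform_mul_left (x x' y : G) : bform χ (x * x') y = bform χ x y + bform χ x' y := by
  unfold bform
  rw [chi_cm_mul_left χ hinv]
  rfl

theorem bform_mul_right (x y y' : G) : bform χ x (y * y') = bform χ x y + bform χ x y' := by
  unfold bform
  rw [chi_cm_mul_right χ hinv]
  rfl

end

/-- additive functions and powers -/
theorem add_fn_pow (F : G → ZMod p) (hF : ∀ x x', F (x * x') = F x + F x') (x : G) (n : ℕ) :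
    F (x ^ n) = (n : ZMod p) * F x := by
  have h1 : F 1 = 0 := by
    have := hF 1 1
    rw [mul_one] at this
    exact left_eq_add.mp this
  induction n with
  | zero => simp [h1]
  | succ k ih =>
    rw [pow_succ, hF, ih]
    push_cast
    ring

theorem ofAdd_one_pow (n : ℕ) :
    (Multiplicative.ofAdd (1 : ZMod p)) ^ n = Multiplicative.ofAdd ((n : ZMod p)) := by
  rw [← ofAdd_nsmul]
  simp

/-- A bi-additive form vanishing on `ker φ × ker φ`, on `g × G` and on `G × g` vanishes, when
`φ g` generates. -/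
theorem bilin_zero (φ : G →* Multiplicative (ZMod p)) (g : G)
    (hg : φ g = Multiplicative.ofAdd 1) (D : G → G → ZMod p)
    (hl : ∀ x x' y, D (x * x') y = D x y + D x' y)
    (hr : ∀ x y y', D x (y * y') = D x y + D x y')
    (hg1 : ∀ y, D g y = 0) (hg2 : ∀ x, D x g = 0)
    (hK : ∀ k k', φ k = 1 → φ k' = 1 → D k k' = 0) : ∀ x y, D x y = 0 := by
  have dec : ∀ x : G, ∃ k : G, φ k = 1 ∧ ∃ n : ℕ, x = k * g ^ n := by
    intro x
    refine ⟨x * (g ^ (Multiplicative.toAdd (φ x)).val)⁻¹, ?_,
      (Multiplicative.toAdd (φ x)).val, by group⟩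
    rw [map_mul, map_inv, map_pow, hg, ofAdd_one_pow, ZMod.natCast_zmod_val]
    exact mul_inv_cancel (φ x)
  intro x y
  obtain ⟨k, hk, n, rfl⟩ := dec x
  obtain ⟨k', hk', m, rfl⟩ := dec y
  rw [hl, add_fn_pow (fun x => D x (k' * g ^ m)) (fun x x' => hl x x' _) g n, hg1, mul_zero,
    add_zero, hr, add_fn_pow (fun y => D k y) (fun y y' => hr k y y') g m, hg2, mul_zero,
    add_zero, hK k k' hk hk']

section

variable (χ : ↥(commutator G) →* Multiplicative (ZMod p))
  (hinv : ∀ (x : G) (c : ↥(commutator G)),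
    χ ⟨x * c * x⁻¹, (inferInstance : (commutator G).Normal).conj_mem c c.2 x⟩ = χ c)

/-- the bilinear identity characterizing the solutions -/
def IsSol (g : G) (φ : G →* Multiplicative (ZMod p)) : Prop :=
  ∀ x y : G, bform χ x y =
    Multiplicative.toAdd (φ x) * bform χ g y - Multiplicative.toAdd (φ y) * bform χ g x

include hinv

theorem isSol_of_kill (g : G) (φ : G →* Multiplicative (ZMod p))
    (hg : φ g = Multiplicative.ofAdd 1)
    (hkill : ∀ c : ↥(commutator G), (c : G) ∈ ⁅φ.ker, φ.ker⁆ → χ c = 1) : IsSol χ g φ := by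
  intro x y
  have key := bilin_zero φ g hg
    (fun x y => bform χ x y -
      (Multiplicative.toAdd (φ x) * bform χ g y - Multiplicative.toAdd (φ y) * bform χ g x))
    ?_ ?_ ?_ ?_ ?_ x y
  · exact sub_eq_zero.mp key
  · intro x x' y
    simp only [bform_mul_left χ hinv, bform_mul_right χ hinv, map_mul, toAdd_mul]
    ring
  · intro x y y'
    simp only [bform_mul_right χ hinv, map_mul, toAdd_mul]
    ring
  · intro y
    simp only [hg, toAdd_ofAdd, bform_self]
    ring
  · intro x
    simp only [hg, toAdd_ofAdd, bform_self, bform_swap χ g x]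
    ring
  · intro k k' hk hk'
    have h1 : χ (cm k k') = 1 := by
      apply hkill
      exact Subgroup.commutator_mem_commutator (MonoidHom.mem_ker.mpr hk)
        (MonoidHom.mem_ker.mpr hk')
    simp only [hk, hk', toAdd_one, zero_mul, sub_zero]
    unfold bform
    rw [h1]
    rfl

omit hinv in
theorem kill_of_isSol (g : G) (φ : G →* Multiplicative (ZMod p)) (hsol : IsSol χ g φ) :
    ∀ c : ↥(commutator G), (c : G) ∈ ⁅φ.ker, φ.ker⁆ → χ c = 1 := by
  have hle : ⁅φ.ker, φ.ker⁆ ≤ (χ.ker).map (commutator G).subtype := by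
    rw [Subgroup.commutator_le]
    intro k hk k' hk'
    refine ⟨cm k k', ?_, rfl⟩
    rw [SetLike.mem_coe, MonoidHom.mem_ker]
    have h1 := hsol k k'
    rw [MonoidHom.mem_ker.mp hk, MonoidHom.mem_ker.mp hk'] at h1
    simp only [toAdd_one, zero_mul, sub_zero] at h1
    unfold bform at h1
    exact toAdd_eq_zero.mp h1
  intro c hc
  obtain ⟨c', hc', hcc'⟩ := hle hc
  have : c' = c := Subtype.ext hcc'
  rw [← this]
  exact MonoidHom.mem_ker.mp hc'

omit hinv in
theorem eq_one_of_bform_zero (h0 : ∀ x y : G, bform χ x y = 0) : χ = 1 := by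
  have hle : commutator G ≤ (χ.ker).map (commutator G).subtype := by
    refine (_root_.commutator_def G).le.trans ?_
    rw [Subgroup.commutator_le]
    intro x _ y _
    refine ⟨cm x y, ?_, rfl⟩
    rw [SetLike.mem_coe, MonoidHom.mem_ker]
    have := h0 x y
    unfold bform at this
    exact toAdd_eq_zero.mp this
  ext c
  obtain ⟨c', hc', hcc'⟩ := hle c.2
  have : c' = c := Subtype.ext hcc'
  rw [← this, MonoidHom.mem_ker.mp hc']
  rfl

theorem isSol_mul_tau (g : G) (φ : G →* Multiplicative (ZMod p)) (hsol : IsSol χ g φ) :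
    IsSol χ g (φ * tau χ hinv g) := by
  intro x y
  rw [hsol x y]
  simp only [MonoidHom.mul_apply, toAdd_mul, tau_apply]
  unfold bform
  ring

end

theorem hom_pow_p_eq_one (ψ : G →* Multiplicative (ZMod p)) : ψ ^ p = 1 := by
  ext x
  rw [MonoidHom.pow_apply, MonoidHom.one_apply]
  have : (ψ x) ^ p = Multiplicative.ofAdd (p • Multiplicative.toAdd (ψ x)) := by
    rw [ofAdd_nsmul]
    rfl
  rw [this]
  simp

/-- MODULE [VL-S] -/
theorem dvd_card_homs_kill {G : Type*} [Group G] [Finite G] {p : ℕ} [Fact p.Prime]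
    (χ : ↥(commutator G) →* Multiplicative (ZMod p))
    (hinv : ∀ (x : G) (c : ↥(commutator G)),
      χ ⟨x * c * x⁻¹, (inferInstance : (commutator G).Normal).conj_mem c c.2 x⟩ = χ c)
    (hχ : χ ≠ 1) (g : G) :
    p ∣ Nat.card {φ : G →* Multiplicative (ZMod p) // φ g = Multiplicative.ofAdd 1 ∧
      ∀ c : ↥(commutator G), (c : G) ∈ ⁅φ.ker, φ.ker⁆ → χ c = 1} := by
  classical
  have hfin : Finite (G →* Multiplicative (ZMod p)) :=
    Finite.of_injective (fun φ : G →* Multiplicative (ZMod p) => (φ : G → Multiplicative (ZMod p)))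
      DFunLike.coe_injective
  have : Fintype {φ : G →* Multiplicative (ZMod p) // φ g = Multiplicative.ofAdd 1 ∧
      ∀ c : ↥(commutator G), (c : G) ∈ ⁅φ.ker, φ.ker⁆ → χ c = 1} := Fintype.ofFinite _
  rw [Nat.card_eq_fintype_card]
  -- the map `φ ↦ φ τ`
  let T : Function.End {φ : G →* Multiplicative (ZMod p) // φ g = Multiplicative.ofAdd 1 ∧
      ∀ c : ↥(commutator G), (c : G) ∈ ⁅φ.ker, φ.ker⁆ → χ c = 1} :=
    fun φ => ⟨φ.1 * tau χ hinv g, by
      rw [MonoidHom.mul_apply, φ.2.1, tau_apply, cm_self, map_one χ, mul_one],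
      kill_of_isSol χ g _ (isSol_mul_tau χ hinv g φ.1 (isSol_of_kill χ hinv g φ.1 φ.2.1 φ.2.2))⟩
  have hTn : ∀ (n : ℕ) (φ : {φ : G →* Multiplicative (ZMod p) // φ g = Multiplicative.ofAdd 1 ∧
      ∀ c : ↥(commutator G), (c : G) ∈ ⁅φ.ker, φ.ker⁆ → χ c = 1}),
      ((T ^ n) φ).1 = φ.1 * (tau χ hinv g) ^ n := by
    intro n
    induction n with
    | zero =>
      intro φ
      simp [Function.End.one_def]
    | succ k ih =>
      intro φ
      have e : (T ^ (k + 1)) φ = (T ^ k) (T φ) := by
        rw [pow_succ]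
        rfl
      rw [e, ih (T φ), pow_succ']
      show φ.1 * tau χ hinv g * _ = _
      rw [mul_assoc]
  have hTp : T ^ p ^ 1 = 1 := by
    rw [pow_one]
    funext φ
    apply Subtype.ext
    rw [hTn, hom_pow_p_eq_one, mul_one]
    rfl
  have hmod := Equiv.Perm.card_fixedPoints_modEq hTp
  have hfix : IsEmpty (Function.fixedPoints T) := by
    constructor
    rintro ⟨φ, hφ⟩
    have h1 : (T φ).1 = φ.1 := congrArg Subtype.val hφ
    have h2 : tau χ hinv g = 1 := by
      have : φ.1 * tau χ hinv g = φ.1 * 1 := by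
        rw [mul_one]
        exact h1
      exact mul_left_cancel this
    have hsol := isSol_of_kill χ hinv g φ.1 φ.2.1 φ.2.2
    apply hχ
    apply eq_one_of_bform_zero χ
    intro x y
    have ht : ∀ z : G, bform χ g z = 0 := by
      intro z
      have := congrArg (fun ψ : G →* Multiplicative (ZMod p) => ψ z) h2
      simp only [tau_apply, MonoidHom.one_apply] at this
      unfold bform
      rw [this]
      rfl
    rw [hsol x y, ht, ht]
    ring
  have h0 : Fintype.card (Function.fixedPoints T) = 0 := Fintype.card_eq_zero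
  rw [h0] at hmod
  exact (Nat.modEq_zero_iff_dvd.mp hmod)

end Cfsg.Agent.Lib.Helper1.VL
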